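/-
Elements of PSU(4,3) normalising an elementary abelian subgroup of order 81, from base images.

* `Xm`, `Ym` : the matrices
* `exists_elems` : the elements
-/
import Cfsg.Agent.Lib.MultiplierUFourThree.Base
import Cfsg.Agent.Lib.Leech.PSU43.Iso

set_option autoImplicit false
set_option maxRecDepth 100000
set_option Elab.async false

namespace Cfsg.Agent.LargeFischer

open Cfsg.Agent.StabCert Cfsg.Agent.Leech Cfsg.Agent.MultiplierUFourThree

/-- The conjugation matrix of the first element. -/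
def Xm : Fin 4 → Fin 4 → ZMod 3 := ![![2, 0, 1, 2], ![1, 0, 1, 1], ![1, 1, 2, 1], ![2, 0, 1, 1]]

/-- The conjugation matrix of the second element. -/
def Ym : Fin 4 → Fin 4 → ZMod 3 := ![![2, 0, 1, 2], ![0, 1, 1, 0], ![1, 1, 2, 1], ![2, 0, 1, 0]]

/-- The product of powers with exponents from `u`. -/
def aprod {H : Type*} [Monoid H] (a : Fin 4 → H) (u : Fin 4 → ZMod 3) : H :=
  a 0 ^ (u 0).val * a 1 ^ (u 1).val * a 2 ^ (u 2).val * a 3 ^ (u 3).val

/-- The words of the four elements of order 3. -/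
def aw : Fin 4 → List ℕ :=
  ![[2, 3, 3, 3], [1, 1, 3, 1, 3, 1], [1, 2, 1, 2, 1, 2], [2, 1, 2, 3, 1, 2]]

/-- A power of a word. -/
def rep (k : ℕ) (l : List ℕ) : List ℕ := (List.replicate k l).flatten

/-- The word of a product of powers. -/
def uw (u : Fin 4 → ZMod 3) : List ℕ :=
  rep (u 0).val (aw 0) ++ rep (u 1).val (aw 1) ++ rep (u 2).val (aw 2) ++ rep (u 3).val (aw 3)

/-- Two words agree at the base. -/
def same (u w : List ℕ) : Bool :=
  u.all (fun k => Nat.blt k 4) && w.all (fun k => Nat.blt k 4) &&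
    base.all fun q => Nat.beq (ev 9 tab u q) (ev 9 tab w q)

theorem rels_ok : ((List.ofFn aw).all fun l => same (rep 3 l) []) = true ∧
    same (rep 5 [0, 2, 3]) [] = true ∧ same (rep 5 [0, 3, 2]) [] = true ∧
    same (rep 7 [3, 0]) [] = true ∧ same [3, 0] [] = false := by decide +kernel

theorem comm_ok : ∀ i j : Fin 4, same (aw i ++ aw j) (aw j ++ aw i) = true := by decide +kernel

theorem conj_ok : ∀ i : Fin 4, same ([0, 2, 3] ++ aw i) (uw (Xm i) ++ [0, 2, 3]) = true ∧
    same ([0, 3, 2] ++ aw i) (uw (Ym i) ++ [0, 3, 2]) = true := by decide +kernel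

theorem indep_ok : ∀ u : Fin 4 → ZMod 3, same (uw u) [] = true → u = 0 := by decide +kernel

theorem short_ok : ∀ u : Fin 4 → ZMod 3, ((uw u).all fun k => Nat.blt k 4) = true := by decide +kernel

theorem base_lt : ∀ q ∈ base, q < 280 := by decide

variable {F : Type} [Field F] [Fintype F]

theorem exists_elems (hF : Fintype.card F = 3 ^ 2) :
    ∃ (a : Fin 4 → PU F) (x y g : PU F), (∀ i, a i ^ 3 = 1) ∧ (∀ i j, Commute (a i) (a j)) ∧
      (∀ u, aprod a u = 1 → u = 0) ∧ x ^ 5 = 1 ∧ y ^ 5 = 1 ∧ g ^ 7 = 1 ∧ g ≠ 1 ∧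
      (∀ i, x * a i = aprod a (Xm i) * x) ∧ (∀ i, y * a i = aprod a (Ym i) * y) := by
  obtain ⟨φ, hφ⟩ := exists_hom_psu43 hF
  let W : List ℕ → PU F := wordEl (gen hF φ hφ)
  have happ : ∀ u w, W (u ++ w) = W u * W w := wordEl_append _
  have hrep : ∀ k l, W (rep k l) = W l ^ k := by
    intro k l
    induction k with
    | zero => rfl
    | succ n ih => rw [rep, List.replicate_succ, List.flatten_cons, happ, pow_succ']; exact congrArg _ ih
  have huw : ∀ u, W (uw u) = aprod (fun i => W (aw i)) u := fun u => by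
    simp only [uw, happ, hrep]; rfl
  have hev : ∀ l : List ℕ, (l.all fun k => Nat.blt k 4) = true → ∀ q ∈ base,
      ev 9 tab l q < 280 ∧ (W l : Equiv.Perm _) (pt φ hφ q) = pt φ hφ (ev 9 tab l q) := fun l hl q hq =>
    ev_spec (sound hF φ hφ) l (fun k hk => Nat.blt_eq ▸ (List.all_eq_true.1 hl) k hk) q (base_lt q hq)
  have hsame : ∀ u w, same u w = true → W u = W w := by
    intro u w h
    simp only [same, Bool.and_eq_true] at h
    obtain ⟨⟨hu, hw⟩, h⟩ := h
    refine inv_mul_eq_one.1 (eq_one_of_fix hF φ hφ fun q hq => ?_)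
    rw [Subgroup.coe_mul, Subgroup.coe_inv, Equiv.Perm.mul_apply, Equiv.Perm.inv_eq_iff_eq,
      (hev w hw q hq).2, (hev u hu q hq).2, Nat.eq_of_beq_eq_true (List.all_eq_true.1 h q hq)]
  have hne : ∀ u : List ℕ, (u.all fun k => Nat.blt k 4) = true → W u = 1 → same u [] = true := by
    intro u hu h
    simp only [same, Bool.and_eq_true, List.all_nil, and_true]
    refine ⟨hu, List.all_eq_true.2 fun q hq => by
      rw [Nat.beq_eq]
      obtain ⟨h1, h2⟩ := hev u hu q hq
      rw [h] at h2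
      exact pt_injOn φ hφ h1 (base_lt q hq) h2.symm⟩
  obtain ⟨r1, r2, r3, r4, r5⟩ := rels_ok
  have h0 : W [] = 1 := rfl
  refine ⟨fun i => W (aw i), W [0, 2, 3], W [0, 3, 2], W [3, 0], fun i => ?_, fun i j => ?_,
    fun u hu => ?_, ?_, ?_, ?_, fun h => ?_, fun i => ?_, fun i => ?_⟩
  · rw [← hrep, hsame _ _ (List.all_eq_true.1 r1 _ (List.mem_ofFn.2 ⟨i, rfl⟩)), h0]
  · show W (aw i) * W (aw j) = W (aw j) * W (aw i)
    rw [← happ, ← happ, hsame _ _ (comm_ok i j)]
  · exact indep_ok u (hne _ (short_ok u) ((huw u).trans hu))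
  · rw [← hrep, hsame _ _ r2, h0]
  · rw [← hrep, hsame _ _ r3, h0]
  · rw [← hrep, hsame _ _ r4, h0]
  · exact absurd (hne [3, 0] rfl h) (by rw [r5]; decide)
  · rw [← happ, hsame _ _ (conj_ok i).1, happ, huw]
  · rw [← happ, hsame _ _ (conj_ok i).2, happ, huw]

end Cfsg.Agent.LargeFischer
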