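/-
Finite facts about the two matrices, and the codes of vectors of six lines of F₄.

* `app` : the map of functionals
* `form_zero`, `orb_key`, `orb_many` : no invariant form, no small invariant set
* `Code`, `cls` : vectors by coordinates, classes of singular ones
-/
import Cfsg.Agent.Lib.LargeFischer.Cert

set_option autoImplicit false
set_option maxRecDepth 100000
set_option Elab.async false

namespace Cfsg.Agent.LargeFischer

/-- Functionals on the elementary abelian group of order 81. -/
abbrev Lam := Fin 4 → ZMod 3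

/-- The dual map of a matrix. -/
def app (A : Fin 4 → Fin 4 → ZMod 3) (l : Lam) : Lam := fun i =>
  A i 0 * l 0 + A i 1 * l 1 + A i 2 * l 2 + A i 3 * l 3

/-- The functional `X^k l`. -/
def xk : ℕ → Lam → Lam
  | 0, l => l
  | k + 1, l => app Xm (xk k l)

/-- The five images. -/
def orb (l : Lam) : List Lam := [xk 0 l, xk 1 l, xk 2 l, xk 3 l, xk 4 l]

theorem x_fix : ∀ l : Lam, app Xm l = l → l = 0 := by decide +kernel

theorem x_solve : ∀ c : Lam, ∃ f : Lam, app Xm f - f = c := by decide +kernel

theorem x_five : ∀ l : Lam, xk 5 l = l ∧ (orb l).sum = 0 ∧ (l ≠ 0 → (orb l).Nodup) := by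
  decide +kernel

theorem orb_key : ∀ l : Lam, l ≠ 0 → ∀ d : Lam, ∃ i : Fin 5,
    app Ym (xk i l) + d ∉ orb l := by decide +kernel

theorem orb_many : ∀ l : Lam, l ≠ 0 → ∃ i : Fin 5, 13 ≤
    (((orb l ++ orb (app Ym (xk i l))) ++ (orb l ++ orb (app Ym (xk i l))).map Neg.neg).toFinset).card := by
  decide +kernel

/-- The alternating matrix with the given upper entries. -/
def alt (b : Fin 6 → ZMod 3) : Fin 4 → Fin 4 → ZMod 3 :=
  ![![0, b 0, b 1, b 2], ![-b 0, 0, b 3, b 4], ![-b 1, -b 3, 0, b 5], ![-b 2, -b 4, -b 5, 0]]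

theorem form_zero : ∀ b : Fin 6 → ZMod 3,
    (∀ i j : Fin 4, ∑ k : Fin 4, Xm i k * app (alt b) (Xm j) k = alt b i j) →
    (∀ i j : Fin 4, ∑ k : Fin 4, Ym i k * app (alt b) (Ym j) k = alt b i j) → b = 0 := by
  decide +kernel

/-- Functionals on the group of order 243, and its elements. -/
abbrev Vec := Fin 5 → ZMod 3

/-- Value of a functional. -/
def dot (φ u : Vec) : ZMod 3 := φ 0 * u 0 + φ 1 * u 1 + φ 2 * u 2 + φ 3 * u 3 + φ 4 * u 4

/-- Leading coefficient one. -/
def Lead (φ : Vec) : Prop :=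
  φ 0 = 1 ∨ φ 0 = 0 ∧ (φ 1 = 1 ∨ φ 1 = 0 ∧ (φ 2 = 1 ∨ φ 2 = 0 ∧ (φ 3 = 1 ∨ φ 3 = 0 ∧ φ 4 = 1)))

instance : DecidablePred Lead := fun φ => by unfold Lead; infer_instance

theorem lead_odd : ∀ u : Vec, u ≠ 0 →
    (Finset.univ.filter fun φ : Vec => Lead φ ∧ dot φ u ≠ 0).card % 2 = 1 := by decide +kernel

/-- Vectors by their coordinates in the six lines. -/
abbrev Code := Fin 6 → Fin 4

/-- The number of non-zero coordinates. -/
def wt (a : Code) : ℕ := (Finset.univ.filter fun k => a k ≠ 0).card

/-- The sum of exponents. -/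
def tot (a : Code) : ℕ :=
  ((a 0).val + (a 1).val + (a 2).val + (a 3).val + (a 4).val + (a 5).val) % 3

/-- The five classes of singular vectors. -/
def cls (a : Code) : Option (Fin 5) :=
  if wt a = 2 then some 0 else if wt a = 4 then some 1
  else if wt a = 6 then (if tot a = 0 then some 2 else if tot a = 1 then some 3 else some 4) else none

theorem cls_card : ∀ i : Fin 5, (Finset.univ.filter fun a : Code => cls a = some i).card =
    [135, 1215, 243, 243, 243].getD i.val 0 := by decide +kernel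

end Cfsg.Agent.LargeFischer
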