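/-
Monomial maps on codes.

* `rot`, `mono` : translations of one line, monomial maps
* `sig0`, `tau1`, `tau2` : the permutations of the six lines
-/
import Cfsg.Agent.Lib.LargeFischer.Combin

set_option autoImplicit false
set_option maxRecDepth 100000
set_option Elab.async false

namespace Cfsg.Agent.LargeFischer

/-- Translation of the non-zero points of a line. -/
def rot (w : ZMod 3) (j : Fin 4) : Fin 4 :=
  if j = 0 then 0 else (![3, 1, 2] : ZMod 3 → Fin 4) (((j : ℕ) : ZMod 3) + w)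

theorem rot_spec : ∀ w j, (rot w j = 0 ↔ j = 0) ∧
    (j ≠ 0 → ((rot w j : ℕ) : ZMod 3) = ((j : ℕ) : ZMod 3) + w) := by decide

theorem rot_eq : ∀ (w : ZMod 3) (j i : Fin 4), i ≠ 0 → j ≠ 0 →
    ((i : ℕ) : ZMod 3) = ((j : ℕ) : ZMod 3) + w → rot w j = i := by decide

theorem rot_rot : ∀ (v w : ZMod 3) (j : Fin 4), rot v (rot w j) = rot (v + w) j := by decide

theorem rot_zero : ∀ j : Fin 4, rot 0 j = j := by decide

theorem rot_right_zero : ∀ w : ZMod 3, rot w 0 = 0 := by decide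

theorem rot_injective : ∀ (w : ZMod 3) (i j : Fin 4), rot w i = rot w j → i = j := by decide

theorem rot_fix : ∀ (w : ZMod 3) (j : Fin 4), j ≠ 0 → rot w j = j → w = 0 := by decide

/-- The sum of two points of a line. -/
def add4 (i j : Fin 4) : Fin 4 :=
  if i = 0 then j else if j = 0 then i else if i = j then 0 else ![0, 3, 2, 1] (i + j - 2)

theorem add4_unique : ∀ i j l : Fin 4, (i = 0 → l = j) → (j = 0 → l = i) → (i = j → l = 0) →
    (i ≠ 0 → j ≠ 0 → i ≠ j → l ≠ i ∧ l ≠ j ∧ l ≠ 0) → l = add4 i j := by decide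

/-- A monomial map. -/
def mono (c : Fin 6 → ZMod 3) (π : Equiv.Perm (Fin 6)) (a : Code) : Code := fun k => rot (c k) (a (π k))

theorem mono_mono (c c' : Fin 6 → ZMod 3) (π π' : Equiv.Perm (Fin 6)) (a : Code) :
    mono c' π' (mono c π a) = mono (fun k => c' k + c (π' k)) (π * π') a := funext fun _ => rot_rot _ _ _

theorem mono_zero (a : Code) : mono 0 1 a = a := funext fun _ => rot_zero _

theorem mono_eq_zero {c : Fin 6 → ZMod 3} {π : Equiv.Perm (Fin 6)} {a : Code} (k : Fin 6) :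
    mono c π a k = 0 ↔ a (π k) = 0 := (rot_spec _ _).1

/-- The permutation of the first element. -/
def sig0 : Equiv.Perm (Fin 6) :=
  ⟨![1, 2, 3, 4, 0, 5], ![4, 0, 1, 2, 3, 5], by decide, by decide⟩

/-- A permutation of the second element. -/
def tau1 : Equiv.Perm (Fin 6) :=
  ⟨![2, 1, 3, 4, 5, 0], ![5, 1, 0, 2, 3, 4], by decide, by decide⟩

/-- The other possibility. -/
def tau2 : Equiv.Perm (Fin 6) :=
  ⟨![1, 2, 4, 3, 5, 0], ![5, 0, 1, 3, 2, 4], by decide, by decide⟩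

theorem sig0_cycle : ∀ i j : Fin 6, i ≠ 5 → j ≠ 5 → ∃ k : Fin 5, (sig0 ^ (k : ℕ)) i = j := by decide

theorem rot_comm : ∀ i j : Fin 4, i ≠ 0 → j ≠ 0 →
    rot ((i : ℕ) : ZMod 3) j = rot ((j : ℕ) : ZMod 3) i := by decide

theorem orb_zero : ∀ d : Lam, d ≠ 0 → (0 : Lam) ∉ orb d := by decide +kernel

/-- The six functionals belonging to `d`. -/
def fun6 (d : Lam) : Fin 6 → Lam := ![d, xk 1 d, xk 2 d, xk 3 d, xk 4 d, 0]

set_option synthInstance.maxSize 1024 in
theorem tau_cases : ∀ d : Lam, d ≠ 0 → (∀ m ∈ orb d, app Ym m + d ∈ (0 : Lam) :: orb d) →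
    (∀ k, fun6 d (tau1 k) = app Ym (fun6 d k) + d) ∨ (∀ k, fun6 d (tau2 k) = app Ym (fun6 d k) + d) := by
  decide +kernel

end Cfsg.Agent.LargeFischer
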