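/-
An elementary abelian group of order 243 with two normalising elements on a quadratic space of order 4096.

* `Setup` : the hypotheses
* `Frame` : six orthogonal lines of order 4 permuted transitively
* `Setup.exists_frame`
-/
import Cfsg.Agent.Lib.LargeFischer.Mono

set_option autoImplicit false

namespace Cfsg.Agent.LargeFischer

theorem dot_add_right (φ u v : Vec) : dot φ (u + v) = dot φ u + dot φ v := by
  simp only [dot, Pi.add_apply]; ring

theorem dot_add_left (φ ψ u : Vec) : dot (φ + ψ) u = dot φ u + dot ψ u := by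
  simp only [dot, Pi.add_apply]; ring

theorem dot_smul_left (c : ZMod 3) (φ u : Vec) : dot (c • φ) u = c * dot φ u := by
  simp only [dot, Pi.smul_apply, smul_eq_mul]; ring

theorem dot_smul_right (c : ZMod 3) (φ u : Vec) : dot φ (c • u) = c * dot φ u := by
  simp only [dot, Pi.smul_apply, smul_eq_mul]; ring

/-- The unit vector. -/
def unit (i : Fin 5) : Vec := Pi.single i 1

theorem dot_unit : ∀ (φ : Vec) (i : Fin 5), dot φ (unit i) = φ i := by
  intro φ i; fin_cases i <;> simp [dot, unit]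

theorem dot_ext {u v : Vec} (h : ∀ φ, dot φ u = dot φ v) : u = v := by
  have e : ∀ w i, dot (unit i) w = w i := by intro w i; fin_cases i <;> simp [dot, unit]
  funext i
  rw [← e u i, ← e v i]; exact h _

theorem lead_ne_zero {φ : Vec} (h : Lead φ) : φ ≠ 0 := by
  rintro rfl; revert h; decide

theorem lead_neg : ∀ φ : Vec, φ ≠ 0 → (Lead φ ∨ Lead (-φ)) ∧ ¬ (Lead φ ∧ Lead (-φ)) := by decide +kernel

theorem three_vals : ∀ a : ZMod 3, a = 0 ∨ a = 1 ∨ a = -1 := by decide

theorem two_vals : ∀ c : ZMod 2, c = 0 ∨ c = 1 := by decide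

theorem exists_sep {φ ψ : Vec} (hφ : Lead φ) (hψ : Lead ψ) (hne : φ ≠ ψ) :
    ∃ t, dot φ t = 1 ∧ dot ψ t = 0 := by
  haveI := Fact.mk Nat.prime_three
  suffices ∃ t, dot φ t ≠ 0 ∧ dot ψ t = 0 by
    obtain ⟨t, h1, h2⟩ := this
    exact ⟨(dot φ t)⁻¹ • t, by rw [dot_smul_right, inv_mul_cancel₀ h1], by rw [dot_smul_right, h2, mul_zero]⟩
  by_contra! h
  obtain ⟨j, hj⟩ := Function.ne_iff.1 (lead_ne_zero hψ)
  rw [Pi.zero_apply] at hj
  set c := φ j / ψ j with hc
  have e : φ = c • ψ := by
    funext i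
    by_contra hne
    refine h (unit i + (-(ψ i / ψ j)) • unit j) ?_ ?_
    · rw [dot_add_right, dot_smul_right, dot_unit, dot_unit]
      intro h0
      apply hne
      rw [Pi.smul_apply, smul_eq_mul, hc]
      linear_combination h0
    · rw [dot_add_right, dot_smul_right, dot_unit, dot_unit]
      field_simp
      ring
  rcases three_vals c with h' | h' | h' <;> rw [h'] at e
  · exact lead_ne_zero hφ (by rw [e, zero_smul])
  · exact hne (by rw [e, one_smul])
  · rw [neg_one_smul] at e
    exact (lead_neg ψ (lead_ne_zero hψ)).2 ⟨hψ, e ▸ hφ⟩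

theorem card_zero_sum : Fintype.card {w : Fin 6 → ZMod 3 // ∑ k, w k = 0} = 243 := by
  decide +kernel

theorem y_inj : ∀ l : Lam, app Ym l = 0 → l = 0 := by decide +kernel

theorem app_sub (A : Fin 4 → Fin 4 → ZMod 3) (l m : Lam) : app A (l - m) = app A l - app A m := by
  funext i; simp only [app, Pi.sub_apply]; ring

/-- The functional with value `a` on the central element. -/
def cons (a : ZMod 3) (l : Lam) : Vec := Fin.cons a l

theorem cons_inj {a b : ZMod 3} {l m : Lam} : cons a l = cons b m ↔ a = b ∧ l = m := Fin.cons_inj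

theorem exists_cons (φ : Vec) : ∃ a l, φ = cons a l := ⟨φ 0, Fin.tail φ, (Fin.cons_self_tail φ).symm⟩

theorem neg_cons (a : ZMod 3) (l : Lam) : -cons a l = cons (-a) (-l) := by
  funext i; refine Fin.cases ?_ (fun j => ?_) i <;> simp [cons]

theorem cons_one_lead (l : Lam) : Lead (cons 1 l) := Or.inl rfl

variable {V : Type*} [AddCommGroup V] [Module (ZMod 2) V]

/-- The hypotheses. -/
structure Setup (q : QuadraticForm (ZMod 2) V) where
  /-- The elements of the group. -/
  T : Vec → (V ≃ₗ[ZMod 2] V)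
  T_add : ∀ u v, T (u + v) = T u * T v
  T_inj : Function.Injective T
  T_q : ∀ u v, q (T u v) = q v
  /-- The first normalising element. -/
  gx : V ≃ₗ[ZMod 2] V
  /-- Its action. -/
  Lx : Vec → Vec
  hx : ∀ u v, gx (T u v) = T (Lx u) (gx v)
  dot_Lx : ∀ a l u, dot (cons a l) (Lx u) = dot (cons a (app Xm l)) u
  /-- The second normalising element. -/
  gy : V ≃ₗ[ZMod 2] V
  /-- Its action. -/
  Ly : Vec → Vec
  /-- Its translation. -/
  d : Lam
  hy : ∀ u v, gy (T u v) = T (Ly u) (gy v)
  dot_Ly : ∀ a l u, dot (cons a l) (Ly u) = dot (cons a (app Ym l + a • d)) u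
  card : Nat.card V = 4096
  nondeg : ∀ v, (∀ w, QuadraticMap.polar q v w = 0) → v = 0

/-- Six orthogonal lines of order four. -/
structure Frame (q : QuadraticForm (ZMod 2) V) (Γ : Subgroup (V ≃ₗ[ZMod 2] V)) (n : V ≃ₗ[ZMod 2] V) where
  /-- Vectors by coordinates. -/
  psi : Code → V
  bij : Function.Bijective psi
  psi_zero : psi 0 = 0
  psi_add : ∀ a b, psi a + psi b = psi (fun k => add4 (a k) (b k))
  q_psi : ∀ a, q (psi a) = (wt a : ZMod 2)
  shift : ∀ w : Fin 6 → ZMod 3, ∑ k, w k = 0 → ∃ γ ∈ Γ, ∀ a, γ (psi a) = psi (mono w 1 a)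
  n_psi : ∀ a, n (psi a) = psi (mono 1 1 a)
  mono_σ : ∃ γ ∈ Γ, ∃ c, ∀ a, γ (psi a) = psi (mono c sig0 a)
  /-- The permutation of the second element. -/
  τ : Equiv.Perm (Fin 6)
  τ_cases : τ = tau1 ∨ τ = tau2
  mono_τ : ∃ γ ∈ Γ, ∃ c, ∀ a, γ (psi a) = psi (mono c τ a)
  n_fix : ∀ v, n v = v → v = 0

theorem map_sum_orth {ι : Type*} (q : QuadraticForm (ZMod 2) V) (f : ι → V)
    (h : ∀ i j, i ≠ j → QuadraticMap.polar q (f i) (f j) = 0) (s : Finset ι) :
    q (∑ i ∈ s, f i) = ∑ i ∈ s, q (f i) := by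
  classical
  induction s using Finset.induction_on with
  | empty => simp
  | insert a s ha ih =>
    rw [Finset.sum_insert ha, Finset.sum_insert ha, QuadraticMap.map_add (⇑q), ih]
    have e : QuadraticMap.polar q (f a) (∑ i ∈ s, f i) = 0 := by
      rw [← QuadraticMap.polarBilin_apply_apply, map_sum]
      exact Finset.sum_eq_zero fun i hi => h a i fun e => ha (e ▸ hi)
    rw [e, add_zero]

namespace Setup

variable {q : QuadraticForm (ZMod 2) V} (S : Setup q)
include S

theorem T_zero : S.T 0 = 1 := by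
  have h := S.T_add 0 0
  rwa [add_zero, left_eq_mul] at h

theorem T_comp (u v : Vec) (w : V) : S.T (u + v) w = S.T u (S.T v w) := by rw [S.T_add]; rfl

/-- Twice the projection on the line of a functional. -/
def P (φ : Vec) (v : V) : V := ∑ u ∈ Finset.univ.filter (fun u => dot φ u ≠ 0), S.T u v

/-- The sum over the group. -/
def Z (v : V) : V := ∑ u, S.T u v

theorem P_add (φ : Vec) (v w : V) : S.P φ (v + w) = S.P φ v + S.P φ w := by
  simp only [P, map_add, Finset.sum_add_distrib]

theorem P_zero_right (φ : Vec) : S.P φ 0 = 0 := by simp [P]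

theorem P_sum {ι : Type*} (φ : Vec) (s : Finset ι) (f : ι → V) :
    S.P φ (∑ i ∈ s, f i) = ∑ i ∈ s, S.P φ (f i) := by
  simp only [P, map_sum]; exact Finset.sum_comm

theorem P_T (φ : Vec) (t : Vec) (v : V) : S.P φ (S.T t v) = S.T t (S.P φ v) := by
  rw [P, P, map_sum]
  refine Finset.sum_congr rfl fun u _ => ?_
  rw [← S.T_comp, ← S.T_comp, add_comm]

theorem P_neg (φ : Vec) : S.P (-φ) = S.P φ := by
  funext v
  unfold P
  congr 1
  ext u
  have : dot (-φ) u = -dot φ u := by rw [← neg_one_smul (ZMod 3) φ, dot_smul_left, neg_one_mul]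
  simp [this]

theorem T_P_of_dot (φ t : Vec) (ht : dot φ t = 0) (v : V) : S.T t (S.P φ v) = S.P φ v := by
  rw [P, map_sum]
  refine Finset.sum_equiv (Equiv.addLeft t) (fun u => ?_) (fun u _ => by rw [← S.T_comp]; rfl)
  simp [dot_add_right, ht]

theorem T_Z (t : Vec) (v : V) : S.T t (S.Z v) = S.Z v := by
  rw [Z, map_sum]
  exact Fintype.sum_equiv (Equiv.addLeft t) _ _ fun u => by rw [← S.T_comp]; rfl

/-- A vector fixed by an element outside the hyperplane has projection zero. -/
theorem P_eq_zero_of_fix {φ t : Vec} (ht : dot φ t = 1) {w : V} (hw : S.T t w = w) : S.P φ w = 0 := by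
  have h2 : S.T (t + t) w = w := by rw [S.T_comp, hw, hw]
  have h3 : ∀ c : ZMod 3, c ≠ 0 → c = 1 ∨ c = 2 := by decide
  refine Finset.sum_involution (fun u _ => if dot φ u = 1 then u + t else u + (t + t)) ?_ ?_ ?_ ?_
  · intro u _
    have e : S.T u w = S.T (if dot φ u = 1 then u + t else u + (t + t)) w := by
      split_ifs <;> rw [S.T_comp] <;> simp only [hw, h2]
    rw [← e]
    exact ZModModule.add_self _
  · intro u _ _ h
    have ht0 : dot φ (0 : Vec) = 0 := by simp [dot]
    split_ifs at h with hu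
    · rw [add_eq_left.1 h, ht0] at ht; exact zero_ne_one ht
    · have h4 : dot φ (t + t) = 0 := by rw [add_eq_left.1 h, ht0]
      rw [dot_add_right, ht] at h4
      exact absurd h4 (by decide)
  · intro u hu
    simp only [Finset.mem_filter, Finset.mem_univ, true_and] at hu ⊢
    rcases h3 _ hu with h | h
    · rw [if_pos h, dot_add_right, ht, h]; decide
    · rw [if_neg (by rw [h]; decide), dot_add_right, dot_add_right, ht, h]; decide
  · intro u hu
    simp only [Finset.mem_filter, Finset.mem_univ, true_and] at hu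
    have h30 : t + (t + t) = 0 := by
      funext i
      simp only [Pi.add_apply, Pi.zero_apply]
      generalize t i = c
      revert c; decide
    rcases h3 _ hu with h | h
    · simp only [h, if_true, dot_add_right, ht]
      rw [if_neg (by decide), add_assoc, h30, add_zero]
    · simp only [h, show (2 : ZMod 3) ≠ 1 from by decide, if_false, dot_add_right, ht]
      rw [if_pos (by decide), add_assoc, show t + t + t = t + (t + t) from add_assoc _ _ _, h30,
        add_zero]

theorem decomp (v : V) : v = (∑ φ ∈ Finset.univ.filter Lead, S.P φ v) + S.Z v := by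
  have e : (∑ φ ∈ Finset.univ.filter Lead, S.P φ v) =
      ∑ u : Vec, (Finset.univ.filter fun φ : Vec => Lead φ ∧ dot φ u ≠ 0).card • S.T u v := by
    simp only [P]
    rw [Finset.sum_comm' (t' := Finset.univ)
      (s' := fun u => Finset.univ.filter fun φ : Vec => Lead φ ∧ dot φ u ≠ 0) (by simp)]
    exact Finset.sum_congr rfl fun u _ => Finset.sum_const _
  rw [e, Z, ← Finset.sum_add_distrib, Finset.sum_eq_single (0 : Vec)]
  · rw [S.T_zero, show (Finset.univ.filter fun φ : Vec => Lead φ ∧ dot φ 0 ≠ 0) = ∅ from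
      Finset.filter_eq_empty_iff.2 fun φ _ h => h.2 (by simp [dot]), Finset.card_empty, zero_smul, zero_add]
    rfl
  · intro u _ hu
    obtain ⟨k, hk⟩ : ∃ k, (Finset.univ.filter fun φ : Vec => Lead φ ∧ dot φ u ≠ 0).card = 2 * k + 1 :=
      ⟨(Finset.univ.filter fun φ : Vec => Lead φ ∧ dot φ u ≠ 0).card / 2, by have := lead_odd u hu; omega⟩
    rw [hk, succ_nsmul, mul_nsmul, two_nsmul, ZModModule.add_self, smul_zero, zero_add]
    exact ZModModule.add_self _
  · simp

theorem P_Z {φ : Vec} (hφ : φ ≠ 0) (v : V) : S.P φ (S.Z v) = 0 := by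
  haveI := Fact.mk Nat.prime_three
  obtain ⟨j, hj⟩ := Function.ne_iff.1 hφ
  exact S.P_eq_zero_of_fix (t := (φ j)⁻¹ • unit j)
    (by rw [dot_smul_right, dot_unit, inv_mul_cancel₀ hj]) (S.T_Z _ v)

theorem P_orth {φ ψ : Vec} (hφ : Lead φ) (hψ : Lead ψ) (hne : φ ≠ ψ) (v : V) : S.P φ (S.P ψ v) = 0 := by
  obtain ⟨t, h1, h2⟩ := exists_sep hφ hψ hne
  exact S.P_eq_zero_of_fix h1 (S.T_P_of_dot ψ t h2 v)

theorem P_idem {φ : Vec} (hφ : Lead φ) (v : V) : S.P φ (S.P φ v) = S.P φ v := by
  conv_rhs => rw [S.decomp v]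
  rw [S.P_add, S.P_Z (lead_ne_zero hφ), add_zero, S.P_sum, Finset.sum_eq_single φ]
  · exact fun ψ hψ hne => S.P_orth hφ (Finset.mem_filter.1 hψ).2 hne.symm v
  · exact fun h => absurd (Finset.mem_filter.2 ⟨Finset.mem_univ _, hφ⟩) h

/-- A line has no non-zero vector fixed outside its hyperplane. -/
theorem eq_zero_of_fix {φ t : Vec} (hφ : Lead φ) (ht : dot φ t = 1) {v : V} (hv : S.P φ v = v)
    (hfix : S.T t v = v) : v = 0 := by rw [← hv]; exact S.P_eq_zero_of_fix ht hfix

/-- The four vectors of a line. -/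
def pick (t : Vec) (v : V) (j : Fin 4) : V :=
  if j = 0 then 0 else S.T (((j : ℕ) : ZMod 3) • t) v

theorem pick_inj {φ t : Vec} (hφ : Lead φ) (ht : dot φ t = 1) {v : V} (hv : S.P φ v = v) (hv0 : v ≠ 0) :
    Function.Injective (S.pick t v) := by
  intro i j h
  unfold pick at h
  have hne : ∀ k : Fin 4, S.T (((k : ℕ) : ZMod 3) • t) v ≠ 0 := fun k e =>
    hv0 ((S.T _).injective (e.trans (map_zero _).symm))
  by_cases hi : i = 0 <;> by_cases hj : j = 0
  · rw [hi, hj]
  · rw [if_pos hi, if_neg hj] at h; exact absurd h.symm (hne j)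
  · rw [if_neg hi, if_pos hj] at h; exact absurd h (hne i)
  rw [if_neg hi, if_neg hj] at h
  set c := ((i : ℕ) : ZMod 3) with hc
  set c' := ((j : ℕ) : ZMod 3) with hc'
  by_contra hij
  have hcc : c ≠ c' := by
    have : ∀ i j : Fin 4, i ≠ 0 → j ≠ 0 → ((i : ℕ) : ZMod 3) = ((j : ℕ) : ZMod 3) → i = j := by decide
    exact fun e => hij (this i j hi hj e)
  have hfix : S.T ((c - c') • t) v = v := by
    apply (S.T (c' • t)).injective
    rw [← S.T_comp, ← add_smul, show c' + (c - c') = c by ring, h]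
  have h3 : ∀ c : ZMod 3, c ≠ 0 → c = 1 ∨ c + c = 1 := by decide
  rcases h3 _ (sub_ne_zero.2 hcc) with e | e
  · rw [e, one_smul] at hfix; exact hv0 (S.eq_zero_of_fix hφ ht hv hfix)
  · refine hv0 (S.eq_zero_of_fix hφ ht hv ?_)
    calc S.T t v = S.T ((c - c') • t) (S.T ((c - c') • t) v) := by rw [← S.T_comp, ← add_smul, e, one_smul]
      _ = v := by rw [hfix, hfix]

theorem P_pick (φ t : Vec) (v : V) (j : Fin 4) :
    S.P φ (S.pick t v j) = if j = 0 then 0 else S.T (((j : ℕ) : ZMod 3) • t) (S.P φ v) := by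
  unfold pick; split_ifs
  · exact S.P_zero_right φ
  · exact S.P_T φ _ v

/-- Functionals with non-zero projection. -/
def Live (φ : Vec) : Prop := ∃ v, S.P φ v ≠ 0

theorem live_ne_zero {φ : Vec} (h : S.Live φ) : φ ≠ 0 := by
  rintro rfl
  obtain ⟨v, hv⟩ := h
  exact hv (by simp [P, dot])

theorem live_neg {φ : Vec} (h : S.Live φ) : S.Live (-φ) := by
  obtain ⟨v, hv⟩ := h; exact ⟨v, by rwa [S.P_neg]⟩

/-- Independence of lines. -/
theorem lines_inj {ι : Type*} [Fintype ι] (f t : ι → Vec) (v : ι → V) (hf : Function.Injective f)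
    (hl : ∀ i, Lead (f i)) (ht : ∀ i, dot (f i) (t i) = 1) (hv : ∀ i, S.P (f i) (v i) = v i)
    (hv0 : ∀ i, v i ≠ 0) :
    Function.Injective (fun a : ι → Fin 4 => ∑ i, S.pick (t i) (v i) (a i)) ∧
      ∀ (a : ι → Fin 4) i, S.P (f i) (∑ j, S.pick (t j) (v j) (a j)) = S.pick (t i) (v i) (a i) := by
  have key : ∀ (a : ι → Fin 4) i, S.P (f i) (∑ j, S.pick (t j) (v j) (a j)) = S.pick (t i) (v i) (a i) := by
    intro a i
    rw [S.P_sum, Finset.sum_eq_single i]
    · rw [S.P_pick, hv]; rfl
    · intro j _ hj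
      rw [S.P_pick, ← hv j, S.P_orth (hl i) (hl j) (fun e => hj (hf e).symm)]
      simp
    · simp
  refine ⟨fun a b h => funext fun i => S.pick_inj (hl i) (ht i) (hv i) (hv0 i) ?_, key⟩
  rw [← key a i, ← key b i]
  exact congrArg (S.P (f i)) h

theorem card_live_lead (s : Finset Vec) (hs : ∀ φ ∈ s, Lead φ ∧ S.Live φ) : s.card ≤ 6 := by
  haveI := Fact.mk Nat.prime_three
  haveI : Finite V := Nat.finite_of_card_ne_zero (by rw [S.card]; norm_num)
  have hex : ∀ i : s, ∃ p : Vec × V, dot i.1 p.1 = 1 ∧ S.P i.1 p.2 = p.2 ∧ p.2 ≠ 0 := by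
    rintro ⟨φ, hφ⟩
    obtain ⟨hl, v, hv⟩ := hs φ hφ
    obtain ⟨j, hj⟩ := Function.ne_iff.1 (lead_ne_zero hl)
    exact ⟨((φ j)⁻¹ • unit j, S.P φ v), by rw [dot_smul_right, dot_unit, inv_mul_cancel₀ hj],
      S.P_idem hl v, hv⟩
  choose p h1 h2 h3 using hex
  have h := Nat.card_le_card_of_injective _ (S.lines_inj (fun i : s => i.1) (fun i => (p i).1)
    (fun i => (p i).2) Subtype.val_injective (fun i => (hs i.1 i.2).1) h1 h2 h3).1
  rw [S.card, Nat.card_eq_fintype_card, Fintype.card_fun, Fintype.card_fin, Fintype.card_coe] at h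
  by_contra hlt
  have := (Nat.pow_le_pow_right (by norm_num : 0 < 4) (not_le.1 hlt)).trans h
  norm_num at this

theorem Lx_injective : Function.Injective S.Lx := fun u v h =>
  S.T_inj (LinearEquiv.ext fun w => S.gx.injective (by rw [S.hx, S.hx, h]))

theorem Ly_injective : Function.Injective S.Ly := fun u v h =>
  S.T_inj (LinearEquiv.ext fun w => S.gy.injective (by rw [S.hy, S.hy, h]))

theorem transport (g : V ≃ₗ[ZMod 2] V) (L : Vec → Vec) (hL : Function.Injective L)
    (hg : ∀ u v, g (S.T u v) = S.T (L u) (g v)) {φ ψ : Vec} (hd : ∀ u, dot φ (L u) = dot ψ u) (v : V) :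
    g (S.P ψ v) = S.P φ (g v) := by
  rw [P, P, map_sum]
  exact Finset.sum_equiv (Equiv.ofBijective L (Finite.injective_iff_bijective.1 hL))
    (fun u => by simp [hd]) (fun u _ => hg u v)

theorem P_x (a : ZMod 3) (l : Lam) (v : V) : S.gx (S.P (cons a (app Xm l)) v) = S.P (cons a l) (S.gx v) :=
  S.transport S.gx S.Lx S.Lx_injective S.hx (S.dot_Lx a l) v

theorem P_y (a : ZMod 3) (l : Lam) (v : V) :
    S.gy (S.P (cons a (app Ym l + a • S.d)) v) = S.P (cons a l) (S.gy v) :=
  S.transport S.gy S.Ly S.Ly_injective S.hy (S.dot_Ly a l) v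

theorem live_x {a : ZMod 3} {l : Lam} (h : S.Live (cons a l)) : S.Live (cons a (app Xm l)) := by
  obtain ⟨v, hv⟩ := h
  refine ⟨S.gx.symm v, fun e => hv ?_⟩
  rw [← S.gx.apply_symm_apply v, ← S.P_x, e, map_zero]

theorem live_y {a : ZMod 3} {l : Lam} (h : S.Live (cons a l)) :
    S.Live (cons a (app Ym l + a • S.d)) := by
  obtain ⟨v, hv⟩ := h
  refine ⟨S.gy.symm v, fun e => hv ?_⟩
  rw [← S.gy.apply_symm_apply v, ← S.P_y, e, map_zero]

theorem live_orb {a : ZMod 3} {l : Lam} (h : S.Live (cons a l)) : ∀ m ∈ orb l, S.Live (cons a m) := by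
  have hk : ∀ k, S.Live (cons a (xk k l)) := fun k => by
    induction k with
    | zero => exact h
    | succ k ih => exact S.live_x ih
  intro m hm
  simp only [orb, List.mem_cons, List.not_mem_nil, or_false] at hm
  rcases hm with e | e | e | e | e
  · rw [e]; exact hk 0
  · rw [e]; exact hk 1
  · rw [e]; exact hk 2
  · rw [e]; exact hk 3
  · rw [e]; exact hk 4

/-- No live functional vanishes on the central element. -/
theorem live_head {φ : Vec} (h : S.Live φ) : φ 0 ≠ 0 := by
  classical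
  obtain ⟨a, l, rfl⟩ := exists_cons φ
  intro ha
  replace ha : a = 0 := ha
  subst ha
  have hl : l ≠ 0 := fun e => S.live_ne_zero h (by
    subst e; funext i; refine Fin.cases rfl (fun j => rfl) i)
  obtain ⟨i, hi⟩ := orb_many l hl
  have hy : S.Live (cons 0 (app Ym (xk i l))) := by
    have := S.live_y (a := 0) (l := xk i l) (S.live_orb h _ (by fin_cases i <;> simp [orb]))
    simpa using this
  let A : Finset Lam := Finset.univ.filter fun m => S.Live (cons 0 m)
  have hA : 13 ≤ A.card := by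
    refine le_trans hi (Finset.card_le_card fun m hm => Finset.mem_filter.2 ⟨Finset.mem_univ _, ?_⟩)
    simp only [List.mem_toFinset, List.mem_append, List.mem_map] at hm
    rcases hm with (hm | hm) | ⟨m', hm', rfl⟩
    · exact S.live_orb h m hm
    · exact S.live_orb hy m hm
    · have : S.Live (cons 0 m') := hm'.elim (S.live_orb h m') (S.live_orb hy m')
      have := S.live_neg this
      rwa [neg_cons, neg_zero] at this
  let B : Finset Vec := Finset.univ.filter fun φ => Lead φ ∧ S.Live φ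
  have hB : B.card ≤ 6 := S.card_live_lead B fun φ hφ => (Finset.mem_filter.1 hφ).2
  have hsub : A.image (cons 0) ⊆ B ∪ B.image Neg.neg := by
    intro φ hφ
    obtain ⟨m, hm, rfl⟩ := Finset.mem_image.1 hφ
    have hm' := (Finset.mem_filter.1 hm).2
    rcases (lead_neg _ (S.live_ne_zero hm')).1 with h' | h'
    · exact Finset.mem_union_left _ (Finset.mem_filter.2 ⟨Finset.mem_univ _, h', hm'⟩)
    · exact Finset.mem_union_right _ (Finset.mem_image.2
        ⟨_, Finset.mem_filter.2 ⟨Finset.mem_univ _, h', S.live_neg hm'⟩, neg_neg _⟩)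
  have h1 := Finset.card_le_card hsub
  rw [Finset.card_image_of_injective _ (fun a b e => (cons_inj.1 e).2)] at h1
  have h2 := (Finset.card_union_le B (B.image Neg.neg)).trans (Nat.add_le_add_left Finset.card_image_le _)
  omega

/-- The six live functionals. -/
theorem exists_six : ∃ l : Lam, l ≠ 0 ∧ S.d ≠ 0 ∧ S.d ∈ orb l ∧
    (∀ m ∈ orb l, S.Live (cons 1 m)) ∧ S.Live (cons 1 0) ∧
    ∀ m, S.Live (cons 1 m) → m = 0 ∨ m ∈ orb l := by
  classical
  let Λ : Finset Lam := Finset.univ.filter fun m => S.Live (cons 1 m)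
  have hΛ : ∀ m, m ∈ Λ ↔ S.Live (cons 1 m) := fun m => by simp [Λ]
  have hcard : Λ.card ≤ 6 := by
    have := S.card_live_lead (Λ.image (cons 1)) (fun φ hφ => by
      obtain ⟨m, hm, rfl⟩ := Finset.mem_image.1 hφ
      exact ⟨cons_one_lead m, (hΛ m).1 hm⟩)
    rwa [Finset.card_image_of_injective _ (fun a b e => (cons_inj.1 e).2)] at this
  obtain ⟨l, hl0, hl⟩ : ∃ l : Lam, l ≠ 0 ∧ l ∈ Λ := by
    by_contra! hno
    have hfix : ∀ v, S.T (unit 1) v = v := by
      intro v
      conv_rhs => rw [S.decomp v]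
      conv_lhs => rw [S.decomp v]
      rw [map_add, S.T_Z, map_sum]
      congr 1
      refine Finset.sum_congr rfl fun φ hφ => ?_
      by_cases hP : S.P φ v = 0
      · rw [hP, map_zero]
      obtain ⟨a, m, rfl⟩ := exists_cons φ
      have hlive : S.Live (cons a m) := ⟨v, hP⟩
      have hlead : Lead (cons a m) := (Finset.mem_filter.1 hφ).2
      have ha : a = 1 := by
        rcases hlead with h | ⟨h, -⟩
        · exact h
        · exact absurd h (S.live_head hlive)
      subst ha
      refine S.T_P_of_dot _ _ ?_ v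
      have hm : m = 0 := by_contra fun h => hno m h ((hΛ m).2 hlive)
      subst hm
      rw [dot_unit]; rfl
    have h1 : S.T (unit 1) = S.T 0 := by rw [S.T_zero]; exact LinearEquiv.ext hfix
    have := congrFun (S.T_inj h1) 1
    simp [unit] at this
  have horb : ∀ m ∈ orb l, m ∈ Λ := fun m hm => (hΛ m).2 (S.live_orb ((hΛ l).1 hl) m hm)
  have hcl : ((orb l).toFinset).card = 5 := List.toFinset_card_of_nodup ((x_five l).2.2 hl0)
  have hmem : ∀ i : Fin 5, xk i l ∈ orb l := fun i => by fin_cases i <;> simp [orb]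
  obtain ⟨i, hi⟩ := orb_key l hl0 S.d
  set μ := app Ym (xk i l) + S.d with hμ
  have hμΛ : μ ∈ Λ := (hΛ μ).2 (by simpa [hμ] using S.live_y ((hΛ _).1 (horb _ (hmem i))))
  have hsix : Λ = insert μ (orb l).toFinset := by
    refine (Finset.eq_of_subset_of_card_le ?_ ?_).symm
    · intro m hm
      rcases Finset.mem_insert.1 hm with rfl | hm
      · exact hμΛ
      · exact horb m (List.mem_toFinset.1 hm)
    · rw [Finset.card_insert_of_notMem (by rw [List.mem_toFinset]; exact hi), hcl]; exact hcard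
  have hcases : ∀ m ∈ Λ, m = μ ∨ m ∈ orb l := fun m hm => by
    rw [hsix, Finset.mem_insert, List.mem_toFinset] at hm; exact hm
  have hXorb : ∀ m ∈ orb l, app Xm m ∈ orb l := by
    simp only [orb, List.mem_cons, List.not_mem_nil, or_false]
    rintro m (rfl | rfl | rfl | rfl | rfl)
    · exact Or.inr (Or.inl rfl)
    · exact Or.inr (Or.inr (Or.inl rfl))
    · exact Or.inr (Or.inr (Or.inr (Or.inl rfl)))
    · exact Or.inr (Or.inr (Or.inr (Or.inr rfl)))
    · exact Or.inl (x_five l).1
  have hμ0 : μ = 0 := by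
    apply x_fix
    refine (hcases _ ((hΛ _).2 (S.live_x ((hΛ μ).1 hμΛ)))).resolve_right fun h => hi ?_
    have h4 := hXorb _ (hXorb _ (hXorb _ (hXorb _ h)))
    rwa [show app Xm (app Xm (app Xm (app Xm (app Xm μ)))) = μ from (x_five μ).1] at h4
  have h0 : S.Live (cons 1 0) := hμ0 ▸ (hΛ μ).1 hμΛ
  have hdΛ : S.d ∈ Λ := (hΛ _).2 (by
    have e0 : app Ym (0 : Lam) = 0 := by funext i; simp [app]
    simpa [e0] using S.live_y h0)
  have hd0 : S.d ≠ 0 := by
    intro h
    apply hl0
    have e := hμ0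
    rw [hμ, h, add_zero] at e
    have e2 := y_inj _ e
    have h5 := (x_five l).1
    have z1 : app Xm (0 : Lam) = 0 := by funext j; simp [app]
    have up : ∀ k, xk k l = 0 → xk (k + 1) l = 0 := fun k e => by
      show app Xm (xk k l) = 0
      rw [e, z1]
    fin_cases i
    · exact e2
    all_goals rw [← h5]
    · exact up _ (up _ (up _ (up _ e2)))
    · exact up _ (up _ (up _ e2))
    · exact up _ (up _ e2)
    · exact up _ e2
  refine ⟨l, hl0, hd0, ?_, fun m hm => (hΛ m).1 (horb m hm), h0, fun m hm => ?_⟩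
  · exact (hcases _ hdΛ).resolve_left (hμ0 ▸ hd0)
  · exact (hcases m ((hΛ m).2 hm)).imp_left (fun h => h.trans hμ0)

theorem six_d : S.d ≠ 0 ∧ (∀ m, S.Live (cons 1 m) ↔ (m = 0 ∨ m ∈ orb S.d)) := by
  classical
  obtain ⟨l, hl0, hd0, hd, horb, h0, hall⟩ := S.exists_six
  refine ⟨hd0, fun m => ⟨fun hm => ?_, ?_⟩⟩
  · let A : Finset Lam := Finset.univ.filter fun m => S.Live (cons 1 m)
    have hA : A.card ≤ 6 := by
      have := S.card_live_lead (A.image (cons 1)) (fun φ hφ => by
        obtain ⟨m, hm, rfl⟩ := Finset.mem_image.1 hφ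
        exact ⟨cons_one_lead m, (Finset.mem_filter.1 hm).2⟩)
      rwa [Finset.card_image_of_injective _ (fun a b e => (cons_inj.1 e).2)] at this
    have hne : (0 : Lam) ∉ orb S.d := fun h => orb_zero S.d hd0 h
    have e : insert 0 (orb S.d).toFinset = A := by
      refine Finset.eq_of_subset_of_card_le (fun x hx => Finset.mem_filter.2 ⟨Finset.mem_univ _, ?_⟩) ?_
      · rcases Finset.mem_insert.1 hx with h | h
        · rw [h]; exact h0
        · exact S.live_orb (horb _ hd) x (List.mem_toFinset.1 h)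
      · rw [Finset.card_insert_of_notMem (by rw [List.mem_toFinset]; exact hne),
          List.toFinset_card_of_nodup ((x_five _).2.2 hd0)]
        exact hA
    have hmA : m ∈ A := Finset.mem_filter.2 ⟨Finset.mem_univ m, hm⟩
    rw [← e, Finset.mem_insert, List.mem_toFinset] at hmA
    exact hmA
  · rintro (h | h)
    · rw [h]; exact h0
    · exact S.live_orb (horb _ hd) m h

theorem exists_frame [Finite V] (Γ : Subgroup (V ≃ₗ[ZMod 2] V)) (hT : ∀ u, S.T u ∈ Γ)
    (hgx : S.gx ∈ Γ) (hgy : S.gy ∈ Γ) : Nonempty (Frame q Γ (S.T (unit 0))) := by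
  classical
  obtain ⟨hd0, hsix⟩ := S.six_d
  have h0 : S.Live (cons 1 0) := (hsix 0).2 (Or.inl rfl)
  have horb : ∀ m ∈ orb S.d, S.Live (cons 1 m) := fun m hm => (hsix m).2 (Or.inr hm)
  have hall : ∀ m, S.Live (cons 1 m) → m = 0 ∨ m ∈ orb S.d := fun m => (hsix m).1
  let l := S.d
  have hl0 : l ≠ 0 := hd0
  let f : Fin 6 → Lam := fun6 l
  have hf : Function.Injective f := by
    refine List.nodup_ofFn.1 ?_
    rw [show List.ofFn f = orb l ++ [0] from rfl, List.nodup_append]
    exact ⟨(x_five l).2.2 hl0, List.nodup_singleton _, fun x hx y hy => by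
      rw [List.mem_singleton] at hy
      subst hy
      exact fun e => orb_zero l hl0 (e ▸ hx)⟩
  have hfl : ∀ k, S.Live (cons 1 (f k)) := by
    intro k
    have hmem : f k = 0 ∨ f k ∈ orb l := by
      have hk : f k ∈ List.ofFn f := List.mem_ofFn.2 ⟨k, rfl⟩
      rw [show List.ofFn f = orb l ++ [0] from rfl, List.mem_append, List.mem_singleton] at hk
      exact hk.symm
    rcases hmem with e | e
    · rw [e]; exact h0
    · exact horb _ e
  have hfall : ∀ m, S.Live (cons 1 m) → ∃ k, f k = m := by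
    intro m hm
    have hk : m ∈ List.ofFn f := by
      rw [show List.ofFn f = orb l ++ [0] from rfl, List.mem_append, List.mem_singleton]
      exact (hall m hm).symm
    exact List.mem_ofFn.1 hk
  have hpick : ∀ k, ∃ v, S.P (cons 1 (f k)) v = v ∧ v ≠ 0 := fun k => by
    obtain ⟨v, hv⟩ := hfl k
    exact ⟨_, S.P_idem (cons_one_lead _) v, hv⟩
  choose v hv hv0 using hpick
  have ht : ∀ k, dot (cons 1 (f k)) (unit 0) = 1 := fun k => by rw [dot_unit]; rfl
  have hinj6 : Function.Injective fun k => cons 1 (f k) := fun i j e => hf (cons_inj.1 e).2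
  obtain ⟨hinj, hproj⟩ := S.lines_inj (fun k => cons 1 (f k)) (fun _ => unit 0) v hinj6
    (fun _ => cons_one_lead _) ht hv hv0
  let psi : Code → V := fun a => ∑ k, S.pick (unit 0) (v k) (a k)
  have hbij : Function.Bijective psi := by
    refine (Nat.bijective_iff_injective_and_card psi).2 ⟨hinj, ?_⟩
    rw [S.card, Nat.card_eq_fintype_card, Fintype.card_fun, Fintype.card_fin, Fintype.card_fin]
    norm_num
  have hzero : ∀ a k, S.P (cons 1 (f k)) (psi a) = 0 ↔ a k = 0 := fun a k => by
    show S.P (cons 1 (f k)) (∑ j, S.pick (unit 0) (v j) (a j)) = 0 ↔ _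
    rw [hproj a k]
    constructor
    · intro h
      apply S.pick_inj (cons_one_lead _) (ht k) (hv k) (hv0 k)
      rw [h]; simp [pick]
    · intro h; simp [pick, h]
  have hadj : ∀ φ x y, QuadraticMap.polar q (S.P φ x) y = QuadraticMap.polar q x (S.P φ y) := by
    intro φ x y
    have hpol : ∀ u a b, QuadraticMap.polar q (S.T u a) (S.T u b) = QuadraticMap.polar q a b := fun u a b => by
      unfold QuadraticMap.polar; rw [← map_add, S.T_q, S.T_q, S.T_q]
    simp only [P]
    rw [← QuadraticMap.polarBilin_apply_apply, map_sum, LinearMap.sum_apply,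
      ← QuadraticMap.polarBilin_apply_apply, map_sum]
    refine Finset.sum_equiv (Equiv.neg Vec) (fun u => ?_) (fun u _ => ?_)
    · have : dot φ (-u) = -dot φ u := by rw [← neg_one_smul (ZMod 3) u, dot_smul_right, neg_one_mul]
      simp [this]
    · simp only [QuadraticMap.polarBilin_apply_apply, Equiv.neg_apply]
      rw [← hpol (-u), ← S.T_comp, neg_add_cancel, S.T_zero]; rfl
  have horth : ∀ i j, i ≠ j → ∀ a b : Fin 4,
      QuadraticMap.polar q (S.pick (unit 0) (v i) a) (S.pick (unit 0) (v j) b) = 0 := by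
    intro i j hij a b
    have e : ∀ k c, S.P (cons 1 (f k)) (S.pick (unit 0) (v k) c) = S.pick (unit 0) (v k) c := fun k c => by
      rw [S.P_pick, hv]; rfl
    rw [← e i a, hadj (cons 1 (f i)), ← e j b, S.P_orth (cons_one_lead _) (cons_one_lead _) (fun h => hij (hinj6 h))]
    exact QuadraticMap.polar_zero_right (Q := q) _
  have hqe : ∀ k (a : Fin 4), q (S.pick (unit 0) (v k) a) = if a = 0 then 0 else q (v k) := fun k a => by
    unfold pick; split_ifs
    · exact QuadraticMap.map_zero q
    · exact S.T_q _ _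
  have hqv : ∀ k, q (v k) = 1 := by
    intro k
    refine (two_vals (q (v k))).resolve_left fun h => hv0 k (S.nondeg _ fun w => ?_)
    obtain ⟨a, rfl⟩ := hbij.2 w
    have hself : S.pick (unit 0) (v k) 3 = v k := by
      have e3 : (((3 : Fin 4) : ℕ) : ZMod 3) = 0 := by decide
      unfold pick
      rw [if_neg (by decide), e3, zero_smul, S.T_zero]; rfl
    show QuadraticMap.polar q (v k) (∑ j, S.pick (unit 0) (v j) (a j)) = 0
    rw [← QuadraticMap.polarBilin_apply_apply, map_sum]
    refine Finset.sum_eq_zero fun j _ => ?_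
    rw [QuadraticMap.polarBilin_apply_apply]
    by_cases hjk : k = j
    · subst hjk
      obtain ⟨b, hb⟩ := hbij.2 (v k + S.pick (unit 0) (v k) (a k))
      have hb' : v k + S.pick (unit 0) (v k) (a k) = S.pick (unit 0) (v k) (b k) := by
        conv_rhs => rw [← hproj b k]
        show _ = S.P (cons 1 (f k)) (psi b)
        rw [hb, S.P_add, hv, S.P_pick, hv]; rfl
      have hq0 : ∀ c, q (S.pick (unit 0) (v k) c) = 0 := fun c => by rw [hqe, h]; split_ifs <;> rfl
      unfold QuadraticMap.polar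
      rw [hb', hq0, h, hq0]; simp
    · rw [← hself]; exact horth k j hjk 3 _
  have hrot : ∀ k (w : ZMod 3) (j : Fin 4),
      S.T (w • unit 0) (S.pick (unit 0) (v k) j) = S.pick (unit 0) (v k) (rot w j) := by
    intro k w j
    by_cases hj : j = 0
    · subst hj; simp [pick, rot_right_zero]
    · have hr : rot w j ≠ 0 := fun h => hj ((rot_spec w j).1.1 h)
      simp only [pick, if_neg hj, if_neg hr]
      rw [← S.T_comp, ← add_smul, (rot_spec w j).2 hj, add_comm]
  have hperm : ∀ (g : V ≃ₗ[ZMod 2] V) (π : Equiv.Perm (Fin 6)),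
      (∀ k x, g (S.P (cons 1 (f (π k))) x) = S.P (cons 1 (f k)) (g x)) →
      (∀ (c : ZMod 3) x, g (S.T (c • unit 0) x) = S.T (c • unit 0) (g x)) →
      ∃ c, ∀ a, g (psi a) = psi (mono c π a) := by
    intro g π hg hn
    have hline : ∀ k, ∃ j : Fin 4, j ≠ 0 ∧ g (v (π k)) = S.pick (unit 0) (v k) j := by
      intro k
      obtain ⟨b, hb⟩ := hbij.2 (g (v (π k)))
      have e : g (v (π k)) = S.pick (unit 0) (v k) (b k) := by
        rw [← hproj b k, show (∑ j, S.pick (unit 0) (v j) (b j)) = g (v (π k)) from hb, ← hg, hv]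
      refine ⟨b k, fun h => hv0 (π k) (g.injective ?_), e⟩
      rw [e, map_zero, h]; rfl
    choose j hj0 hj using hline
    refine ⟨fun k => ((j k : ℕ) : ZMod 3), fun a => ?_⟩
    show g (∑ i, S.pick (unit 0) (v i) (a i)) = ∑ k, S.pick (unit 0) (v k) _
    rw [map_sum]
    refine (Fintype.sum_equiv π _ _ fun k => ?_).symm
    show S.pick (unit 0) (v k) (rot _ (a (π k))) = g (S.pick (unit 0) (v (π k)) (a (π k)))
    generalize a (π k) = i
    by_cases hi : i = 0
    · subst hi; simp [pick, rot_right_zero]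
    · rw [show S.pick (unit 0) (v (π k)) i = S.T (((i : ℕ) : ZMod 3) • unit 0) (v (π k)) from if_neg hi,
        hn, hj, hrot]
      congr 1
      exact (rot_comm _ _ hi (hj0 k)).symm
  have hcentral : ∀ (g : V ≃ₗ[ZMod 2] V) (L : Vec → Vec), (∀ u x, g (S.T u x) = S.T (L u) (g x)) →
      (∀ φ c, dot φ (L (c • unit 0)) = c * φ 0) → ∀ (c : ZMod 3) x, g (S.T (c • unit 0) x) = S.T (c • unit 0) (g x) := by
    intro g L hgL hL c x
    rw [hgL]
    congr 2
    exact dot_ext fun φ => by rw [hL, dot_smul_right, dot_unit]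
  have hσ : ∀ k, f (sig0 k) = app Xm (f k) := by
    intro k
    fin_cases k
    · rfl
    · rfl
    · rfl
    · rfl
    · exact (x_five l).1.symm
    · funext j; simp [sig0, f, fun6, app]
  obtain ⟨τ, hτc, hτ⟩ : ∃ τ, (τ = tau1 ∨ τ = tau2) ∧ ∀ k, f (τ k) = app Ym (f k) + S.d := by
    have := tau_cases l hl0 (fun m hm => by
      have h := hall _ (by simpa using S.live_y (horb m hm))
      rcases h with h | h
      · exact List.mem_cons.2 (Or.inl h)
      · exact List.mem_cons.2 (Or.inr h))
    rcases this with h | h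
    · exact ⟨tau1, Or.inl rfl, h⟩
    · exact ⟨tau2, Or.inr rfl, h⟩
  obtain ⟨cσ, hcσ⟩ := hperm S.gx sig0 (fun k x => by rw [hσ]; exact S.P_x 1 (f k) x)
    (hcentral S.gx S.Lx S.hx fun φ c => by
      obtain ⟨a, m, rfl⟩ := exists_cons φ
      rw [S.dot_Lx, dot_smul_right, dot_unit]; rfl)
  obtain ⟨cτ, hcτ⟩ := hperm S.gy τ (fun k x => by rw [hτ, ← one_smul (ZMod 3) S.d]; exact S.P_y 1 (f k) x)
    (hcentral S.gy S.Ly S.hy fun φ c => by
      obtain ⟨a, m, rfl⟩ := exists_cons φ
      rw [S.dot_Ly, dot_smul_right, dot_unit]; rfl)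
  refine ⟨⟨psi, hbij, by simp [psi, pick], fun a b => ?_, fun a => ?_, fun w hw => ?_, fun a => ?_,
    ⟨S.gx, hgx, cσ, hcσ⟩, τ, hτc, ⟨S.gy, hgy, cτ, hcτ⟩, fun x hx => ?_⟩⟩
  · show (∑ k, S.pick (unit 0) (v k) (a k)) + (∑ k, S.pick (unit 0) (v k) (b k)) = ∑ k, _
    rw [← Finset.sum_add_distrib]
    refine Finset.sum_congr rfl fun k _ => ?_
    have hin : Function.Injective (S.pick (unit 0) (v k)) := S.pick_inj (cons_one_lead _) (ht k) (hv k) (hv0 k)
    obtain ⟨c, hc⟩ := hbij.2 (S.pick (unit 0) (v k) (a k) + S.pick (unit 0) (v k) (b k))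
    have hce : S.pick (unit 0) (v k) (a k) + S.pick (unit 0) (v k) (b k) = S.pick (unit 0) (v k) (c k) := by
      conv_rhs => rw [← hproj c k]
      show _ = S.P (cons 1 (f k)) (psi c)
      rw [hc, S.P_add, S.P_pick, S.P_pick, hv]; rfl
    rw [hce]
    have hz : S.pick (unit 0) (v k) 0 = 0 := by simp [pick]
    congr 1
    refine add4_unique _ _ _ (fun h => ?_) (fun h => ?_) (fun h => ?_) (fun h1 h2 h => ?_)
    · apply hin; rw [← hce, h, hz, zero_add]
    · apply hin; rw [← hce, h, hz, add_zero]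
    · apply hin; rw [← hce, h, hz]; exact ZModModule.add_self _
    · constructor
      · intro e
        refine h2 (hin ?_)
        rw [hz]
        have := hce
        rw [e] at this
        exact add_eq_left.1 this
      · constructor
        · intro e
          refine h1 (hin ?_)
          rw [hz]
          have := hce
          rw [e] at this
          exact add_eq_right.1 this
        · intro e
          refine h (hin ?_)
          rw [e, hz] at hce
          exact (eq_neg_of_add_eq_zero_left hce).trans (ZModModule.neg_eq_self _)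
  · show q (∑ k, S.pick (unit 0) (v k) (a k)) = _
    rw [map_sum_orth q _ (fun i j hij => horth i j hij (a i) (a j)) Finset.univ]
    simp [hqe, hqv, wt, Finset.sum_ite]
  · -- the shift by an element with prescribed values
    let ev : Vec → Fin 6 → ZMod 3 := fun u k => dot (cons 1 (f k)) u
    have hsum : ∀ u, ∑ k, ev u k = 0 := fun u => by
      have h5 := (x_five l).2.1
      have e : (∑ k, cons 1 (f k)) = 0 := by
        funext i
        refine Fin.cases ?_ (fun j => ?_) i
        · simp [Fin.sum_univ_six, cons]; decide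
        · have h5' := congrFun h5 j
          simp [orb, xk] at h5'
          simp [Fin.sum_univ_six, cons, f, fun6, xk]
          linear_combination h5'
      have e2 : ∑ k, ev u k = dot (∑ k, cons 1 (f k)) u := by
        simp only [ev, Fin.sum_univ_six, dot_add_left]
      rw [e2, e]; simp [dot]
    have hevinj : Function.Injective ev := by
      intro u u' h
      apply S.T_inj
      refine LinearEquiv.ext fun x => ?_
      obtain ⟨c, rfl⟩ := hbij.2 x
      simp only [psi, map_sum]
      refine Finset.sum_congr rfl fun k _ => ?_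
      have key : ∀ u : Vec, S.T u (S.pick (unit 0) (v k) (c k)) =
          S.T (ev u k • unit 0) (S.pick (unit 0) (v k) (c k)) := fun u => by
        have e1 : S.P (cons 1 (f k)) (S.pick (unit 0) (v k) (c k)) = S.pick (unit 0) (v k) (c k) := by
          rw [S.P_pick, hv]; rfl
        rw [show u = ev u k • unit 0 + (u - ev u k • unit 0) by abel, S.T_comp]
        rw [show ev u k • unit 0 + (u - ev u k • unit 0) = u by abel]
        congr 1
        rw [← e1]
        refine S.T_P_of_dot _ _ ?_ _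
        rw [sub_eq_add_neg, ← neg_smul, dot_add_right, dot_smul_right, ht k]
        simp [ev]
      rw [key u, key u', h]
    let Zsum := {w : Fin 6 → ZMod 3 // ∑ k, w k = 0}
    have hc : Fintype.card Zsum = 243 := card_zero_sum
    have hsurj : Function.Surjective (fun u => (⟨ev u, hsum u⟩ : Zsum)) :=
      ((Fintype.bijective_iff_injective_and_card _).2
        ⟨fun u u' h => hevinj (congrArg Subtype.val h), by rw [show Fintype.card Zsum = 243 from hc, Fintype.card_fun, Fintype.card_fin, ZMod.card]; norm_num⟩).2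
    obtain ⟨u, hu⟩ := hsurj ⟨w, hw⟩
    refine ⟨S.T u, hT u, fun a => ?_⟩
    simp only [psi, map_sum, mono, Equiv.Perm.coe_one, id]
    refine Finset.sum_congr rfl fun k _ => ?_
    rw [show u = w k • unit 0 + (u - w k • unit 0) by abel, S.T_comp, ← hrot k (w k) (a k)]
    congr 1
    rw [show S.pick (unit 0) (v k) (a k) = S.P (cons 1 (f k)) (S.pick (unit 0) (v k) (a k)) by
      rw [S.P_pick, hv]; rfl]
    refine S.T_P_of_dot _ _ ?_ _
    rw [sub_eq_add_neg, ← neg_smul, dot_add_right, dot_smul_right, ht k]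
    have := congrFun (congrArg Subtype.val hu) k
    simp only [ev] at this
    rw [this]; ring
  · simp only [psi, map_sum, mono, Equiv.Perm.coe_one, id, Pi.one_apply]
    refine Finset.sum_congr rfl fun k _ => ?_
    rw [← hrot k 1 (a k), one_smul]
  · obtain ⟨a, rfl⟩ := hbij.2 x
    suffices a = 0 by rw [this]; simp [psi, pick]
    funext k
    refine (hzero a k).1 (S.eq_zero_of_fix (cons_one_lead _) (ht k) (S.P_idem (cons_one_lead _) _) ?_)
    rw [← S.P_T, hx]

end Setup

end Cfsg.Agent.LargeFischer
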