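/-
Two orbits on non-zero singular vectors from six monomial lines and an element of order seven.

* `two_orbits`
-/
import Cfsg.Agent.Lib.LargeFischer.Monomial
import Cfsg.Agent.Lib.Forms.BinaryType
import Cfsg.Agent.Lib.Forms.Count

set_option autoImplicit false
set_option maxRecDepth 100000

namespace Cfsg.Agent.LargeFischer

theorem cls_iff : ∀ w : Fin 7, ((w.val : ZMod 2) = 0 ∧ w.val ≠ 0) ↔
    (w.val = 2 ∨ w.val = 4 ∨ w.val = 6) := by decide

theorem wt_le (a : Code) : wt a ≤ 6 := (Finset.card_filter_le _ _).trans (by simp)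

theorem wt_eq_zero {a : Code} : wt a = 0 ↔ a = 0 := by
  rw [wt, Finset.card_eq_zero, Finset.filter_eq_empty_iff]
  constructor
  · intro h; funext k; simpa using h (Finset.mem_univ k)
  · rintro rfl k -; simp

theorem cls_isSome (a : Code) : (cls a).isSome = true ↔ ((wt a : ZMod 2) = 0 ∧ a ≠ 0) := by
  rw [Ne, ← wt_eq_zero]
  refine Iff.trans ?_ (cls_iff ⟨wt a, Nat.lt_succ_of_le (wt_le a)⟩).symm
  unfold cls
  split_ifs <;> simp_all <;> omega

theorem tot_cast (a : Code) : (tot a : ZMod 3) = ∑ k, ((a k : ℕ) : ZMod 3) := by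
  rw [tot, ZMod.natCast_mod]; simp [Fin.sum_univ_six]

theorem four_cast : ∀ c : ZMod 3, ∀ i : Fin 4, i ≠ 0 → ((i : ℕ) : ZMod 3) = c + ((i : ℕ) : ZMod 3) → c = 0 := by
  decide

/-- The classes in the orbit of 378 vectors. -/
def side (r : Fin 3) : Option (Fin 5) → Bool
  | some i => decide (i.val = 0 ∨ i.val = r.val + 2)
  | none => false

theorem classes : ∀ b c : Fin 5 → Bool,
    (∑ i, if b i = true then [135, 1215, 243, 243, 243].getD i.val 0 else 0) % 7 = 0 →
    (∑ i, if c i = true then [135, 1215, 243, 243, 243].getD i.val 0 else 0) % 7 = 0 →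
    b 0 = true → (∀ i, ¬ (b i = true ∧ c i = true)) → (∃ i, c i = true) →
    ∃ r : Fin 3, ∀ i : Fin 5, (b i = true ↔ side r (some i) = true) ∧ (c i = true ↔ side r (some i) = false) := by
  decide +kernel

theorem side_sizes : ∀ r : Fin 3,
    (∑ i, if side r (some i) = true then [135, 1215, 243, 243, 243].getD i.val 0 else 0) = 378 ∧
    (∑ i, if side r (some i) = false then [135, 1215, 243, 243, 243].getD i.val 0 else 0) = 1701 ∧
    side r (some 0) = true ∧ side r (some 1) = false := by
  decide +kernel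

variable {V : Type*} [AddCommGroup V] [Module (ZMod 2) V] [Finite V] {q : QuadraticForm (ZMod 2) V}
  {Γ : Subgroup (V ≃ₗ[ZMod 2] V)} {n : V ≃ₗ[ZMod 2] V}

theorem card_modEq_fixed [DecidableEq V] {p : ℕ} [Fact p.Prime] (g : V ≃ₗ[ZMod 2] V) (hg : g ^ p = 1)
    (s : Finset V) (hs : ∀ x ∈ s, g x ∈ s) : s.card ≡ (s.filter fun x => g x = x).card [MOD p] := by
  let f : Function.End {x // x ∈ s} := fun x => ⟨g x.1, hs x.1 x.2⟩
  have hpow : ∀ k (x : {x // x ∈ s}), ((f ^ k) x).1 = (g ^ k) x.1 := by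
    intro k
    induction k with
    | zero => intro x; rfl
    | succ k ih =>
      intro x
      rw [pow_succ', pow_succ']
      show g ((f ^ k) x).1 = g ((g ^ k) x.1)
      rw [ih]
  have hf : f ^ p ^ 1 = 1 := funext fun x => Subtype.ext (by rw [pow_one, hpow, hg]; rfl)
  have h := Equiv.Perm.card_fixedPoints_modEq hf
  rw [Fintype.card_coe] at h
  refine h.trans (congrArg (· % _) ?_)
  rw [← Fintype.card_coe]
  exact Fintype.card_congr
    { toFun := fun x => ⟨x.1.1, Finset.mem_filter.2 ⟨x.1.2, congrArg Subtype.val x.2⟩⟩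
      invFun := fun x => ⟨⟨x.1, (Finset.mem_filter.1 x.2).1⟩, Subtype.ext (Finset.mem_filter.1 x.2).2⟩
      left_inv := fun _ => rfl
      right_inv := fun _ => rfl }

namespace Frame

variable (F : Frame q Γ n)
include F

/-- Codes in one orbit. -/
def Rel (a b : Code) : Prop := ∃ γ ∈ Γ, γ (F.psi a) = F.psi b

theorem rel_refl (a : Code) : F.Rel a a := ⟨1, one_mem _, rfl⟩

theorem rel_symm {a b : Code} (h : F.Rel a b) : F.Rel b a := by
  obtain ⟨γ, hγ, h⟩ := h
  exact ⟨γ⁻¹, inv_mem hγ, by rw [← h]; exact γ.symm_apply_apply _⟩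

theorem rel_trans {a b c : Code} (h : F.Rel a b) (h' : F.Rel b c) : F.Rel a c := by
  obtain ⟨γ, hγ, h⟩ := h; obtain ⟨δ, hδ, h'⟩ := h'
  exact ⟨δ * γ, mul_mem hδ hγ, by show δ (γ (F.psi a)) = _; rw [h, h']⟩

/-- Permutations of lines induced by the group. -/
def Real (π : Equiv.Perm (Fin 6)) : Prop :=
  ∀ a, ∃ b, F.Rel a b ∧ ∀ k, b k = 0 ↔ a (π k) = 0

theorem real_one : F.Real 1 := fun a => ⟨a, F.rel_refl a, fun _ => Iff.rfl⟩

theorem real_mul {π π' : Equiv.Perm (Fin 6)} (h : F.Real π) (h' : F.Real π') : F.Real (π * π') := by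
  intro a
  obtain ⟨b, hab, hb⟩ := h a
  obtain ⟨c, hbc, hc⟩ := h' b
  exact ⟨c, F.rel_trans hab hbc, fun k => (hc k).trans (hb (π' k))⟩

theorem real_pow {π : Equiv.Perm (Fin 6)} (h : F.Real π) : ∀ k : ℕ, F.Real (π ^ k)
  | 0 => F.real_one
  | k + 1 => by rw [pow_succ]; exact F.real_mul (real_pow h k) h

theorem real_σ : F.Real sig0 := fun a => by
  obtain ⟨γ, hγ, c, h⟩ := F.mono_σ
  exact ⟨_, ⟨γ, hγ, h a⟩, fun k => mono_eq_zero k⟩

theorem real_τ : F.Real F.τ := fun a => by
  obtain ⟨γ, hγ, c, h⟩ := F.mono_τ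
  exact ⟨_, ⟨γ, hγ, h a⟩, fun k => mono_eq_zero k⟩

theorem τ_five : F.τ 5 ≠ 5 := by rcases F.τ_cases with h | h <;> rw [h] <;> decide

theorem exists_real {i j : Fin 6} (hij : i ≠ j) : ∃ π, F.Real π ∧ π 5 = i ∧ π 0 = j := by
  obtain ⟨π, hπ, h5⟩ : ∃ π, F.Real π ∧ π 5 = i := by
    by_cases hi : i = 5
    · exact ⟨1, F.real_one, hi.symm⟩
    · obtain ⟨k, hk⟩ := sig0_cycle (F.τ 5) i F.τ_five hi
      exact ⟨sig0 ^ (k : ℕ) * F.τ, F.real_mul (F.real_pow F.real_σ k) F.real_τ, hk⟩
  have hne : π.symm j ≠ 5 := fun e => hij (by rw [← h5, ← e, π.apply_symm_apply])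
  obtain ⟨m, hm⟩ := sig0_cycle 0 (π.symm j) (by decide) hne
  have hfix : ∀ m : ℕ, (sig0 ^ m) 5 = 5 := by
    intro m; induction m with
    | zero => rfl
    | succ m ih => rw [pow_succ, Equiv.Perm.mul_apply, show sig0 5 = 5 from rfl, ih]
  exact ⟨π * sig0 ^ (m : ℕ), F.real_mul hπ (F.real_pow F.real_σ m),
    by rw [Equiv.Perm.mul_apply, hfix, h5], by rw [Equiv.Perm.mul_apply, hm, π.apply_symm_apply]⟩

/-- Codes with the same zeros, and a zero or the same total, are related. -/
theorem rel_same {a b : Code} (hz : ∀ k, a k = 0 ↔ b k = 0) (h : (∃ k, a k = 0) ∨ tot a = tot b) :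
    F.Rel a b := by
  classical
  let d : Fin 6 → ZMod 3 := fun k => ((b k : ℕ) : ZMod 3) - ((a k : ℕ) : ZMod 3)
  have key : ∀ w : Fin 6 → ZMod 3, ∑ k, w k = 0 → (∀ k, a k ≠ 0 → w k = d k) → F.Rel a b := by
    intro w hw he
    obtain ⟨γ, hγ, h⟩ := F.shift w hw
    refine ⟨γ, hγ, (h a).trans (congrArg F.psi (funext fun k => ?_))⟩
    show rot (w k) (a k) = b k
    by_cases hk : a k = 0
    · rw [hk, (hz k).1 hk, rot_right_zero]
    · exact rot_eq _ _ _ (fun e => hk ((hz k).2 e)) hk (by rw [he k hk]; simp [d])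
  rcases h with ⟨k0, hk0⟩ | ht
  · refine key (Function.update d k0 (-(∑ k ∈ Finset.univ.erase k0, d k))) ?_ fun k hk =>
      Function.update_of_ne (fun e => hk (by rw [e]; exact hk0)) _ _
    rw [Finset.sum_update_of_mem (Finset.mem_univ _), ← Finset.erase_eq]
    exact neg_add_cancel _
  · refine key d ?_ fun k _ => rfl
    simp only [d, Finset.sum_sub_distrib, ← tot_cast, ht, sub_self]

/-- Codes of weight two or four are related to the standard ones. -/
theorem rel_pattern {a : Code} {i j : Fin 6} (hij : i ≠ j) (P : Prop)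
    (ha : ∀ k, a k = 0 ↔ ((k = i ∨ k = j) ↔ P)) :
    ∃ b, F.Rel a b ∧ ∀ k, b k = 0 ↔ ((k = 5 ∨ k = 0) ↔ P) := by
  obtain ⟨π, hπ, h5, h0⟩ := F.exists_real hij
  obtain ⟨b, hab, hb⟩ := hπ a
  refine ⟨b, hab, fun k => ?_⟩
  rw [hb, ha, ← h5, ← h0, π.injective.eq_iff, π.injective.eq_iff]

theorem rel_of_cls {a b : Code} {c : Fin 5} (ha : cls a = some c) (hb : cls b = some c) : F.Rel a b := by
  classical
  have hw : ∀ a : Code, cls a = some c → (wt a = 2 ∧ c = 0) ∨ (wt a = 4 ∧ c = 1) ∨
      (wt a = 6 ∧ 2 ≤ c.val ∧ tot a + 2 = c.val) := by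
    intro a h
    have : tot a < 3 := Nat.mod_lt _ (by norm_num)
    unfold cls at h
    split_ifs at h <;> simp only [Option.some.injEq, reduceCtorEq] at h <;> subst h <;>
      simp [*] <;> omega
  have full : ∀ a : Code, wt a = 6 → ∀ k, a k ≠ 0 := by
    intro a h k
    have e := Finset.eq_univ_of_card (Finset.univ.filter fun k => a k ≠ 0) (h.trans (by simp))
    have hk := Finset.mem_univ k
    rw [← e] at hk
    exact (Finset.mem_filter.1 hk).2
  have two : ∀ a : Code, wt a = 2 → ∃ i j, i ≠ j ∧ ∀ k, a k = 0 ↔ ((k = i ∨ k = j) ↔ False) := by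
    intro a h
    obtain ⟨i, j, hij, e⟩ := Finset.card_eq_two.1 h
    refine ⟨i, j, hij, fun k => ?_⟩
    have := congrArg (fun s => k ∈ s) e
    simp only [Finset.mem_filter, Finset.mem_univ, true_and, Finset.mem_insert, Finset.mem_singleton,
      eq_iff_iff] at this
    rw [iff_false, ← this, not_not]
  have four : ∀ a : Code, wt a = 4 → ∃ i j, i ≠ j ∧ ∀ k, a k = 0 ↔ ((k = i ∨ k = j) ↔ True) := by
    intro a h
    have h2 : (Finset.univ.filter fun k => a k = 0).card = 2 := by
      have := Finset.card_filter_add_card_filter_not (s := Finset.univ) (fun k => a k = 0)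
      rw [show (Finset.univ.filter fun k => ¬ a k = 0).card = 4 from h] at this
      simp at this ⊢
      omega
    obtain ⟨i, j, hij, e⟩ := Finset.card_eq_two.1 h2
    refine ⟨i, j, hij, fun k => ?_⟩
    have := congrArg (fun s => k ∈ s) e
    simp only [Finset.mem_filter, Finset.mem_univ, true_and, Finset.mem_insert, Finset.mem_singleton,
      eq_iff_iff] at this
    rw [iff_true]; exact this
  rcases hw a ha with ⟨h1, e1⟩ | ⟨h1, e1⟩ | ⟨h1, e1, e1'⟩ <;>
    rcases hw b hb with ⟨h2, e2⟩ | ⟨h2, e2⟩ | ⟨h2, e2, e2'⟩ <;>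
    first
      | (exfalso; subst c; simp_all; done)
      | skip
  · obtain ⟨i, j, hij, p⟩ := two a h1
    obtain ⟨i', j', hij', p'⟩ := two b h2
    obtain ⟨a', ra, qa⟩ := F.rel_pattern hij False p
    obtain ⟨b', rb, qb⟩ := F.rel_pattern hij' False p'
    exact F.rel_trans ra (F.rel_trans (F.rel_same (fun k => (qa k).trans (qb k).symm)
      (Or.inl ⟨1, (qa 1).2 (by decide)⟩)) (F.rel_symm rb))
  · obtain ⟨i, j, hij, p⟩ := four a h1
    obtain ⟨i', j', hij', p'⟩ := four b h2
    obtain ⟨a', ra, qa⟩ := F.rel_pattern hij True p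
    obtain ⟨b', rb, qb⟩ := F.rel_pattern hij' True p'
    exact F.rel_trans ra (F.rel_trans (F.rel_same (fun k => (qa k).trans (qb k).symm)
      (Or.inl ⟨0, (qa 0).2 (by decide)⟩)) (F.rel_symm rb))
  · exact F.rel_same (fun k => iff_of_false (full a h1 k) (full b h2 k)) (Or.inr (by omega))

theorem singular_iff (a : Code) : (F.psi a ≠ 0 ∧ q (F.psi a) = 0) ↔ (cls a).isSome = true := by
  rw [cls_isSome, F.q_psi, Ne, ← F.psi_zero, F.bij.1.eq_iff, and_comm]

set_option maxHeartbeats 1000000 in
/-- The partition of the classes, and the orders of stabilisers. -/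
theorem orbit_structure (hnd : ∀ v, (∀ w, QuadraticMap.polar q v w = 0) → v = 0)
    (hΓ : ∀ γ ∈ Γ, ∀ v, q (γ v) = q v) (hcard : Nat.card Γ = 19595520) (hnΓ : n ∈ Γ) (hn : n ^ 3 = 1)
    {g : V ≃ₗ[ZMod 2] V} (hgΓ : g ∈ Γ) (hg7 : g ^ 7 = 1) (hg1 : g ≠ 1) (hgn : g * n = n * g) :
    ∃ r : Fin 3, (∀ a b : Code, (cls a).isSome = true → (cls b).isSome = true →
        (F.Rel a b ↔ side r (cls a) = side r (cls b))) ∧
      ∀ a : Code, (cls a).isSome = true →
        Nat.card (MulAction.stabilizer Γ (F.psi a)) = if side r (cls a) then 51840 else 11520 := by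
  classical
  haveI : Fintype V := Fintype.ofFinite V
  haveI : Fact (Nat.Prime 7) := ⟨by norm_num⟩
  haveI : Fact (Nat.Prime 3) := ⟨by norm_num⟩
  let e := Equiv.ofBijective F.psi F.bij
  let Cl : Fin 5 → Finset Code := fun i => Finset.univ.filter fun a => cls a = some i
  let size : Fin 5 → ℕ := fun i => [135, 1215, 243, 243, 243].getD i.val 0
  have hCl : ∀ i, (Cl i).card = size i := cls_card
  have hsum : ∀ b : Fin 5 → Bool, ((Finset.univ.filter fun i => b i = true).biUnion Cl).card =
      ∑ i, if b i = true then size i else 0 := by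
    intro b
    rw [Finset.card_biUnion, Finset.sum_filter]
    · simp only [hCl]
    · intro i _ j _ hij
      exact Finset.disjoint_left.2 fun a ha hb => hij (Option.some.inj
        ((Finset.mem_filter.1 ha).2.symm.trans (Finset.mem_filter.1 hb).2))
  -- non-zero singular vectors
  let S : Finset V := Finset.univ.filter fun v => v ≠ 0 ∧ q v = 0
  have hS : S.card = 2079 := by
    have : S = ((Finset.univ.filter fun i : Fin 5 => (fun _ => true) i = true).biUnion Cl).map e.toEmbedding := by
      ext v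
      obtain ⟨a, rfl⟩ := F.bij.2 v
      simp only [S, Finset.mem_filter, Finset.mem_univ, true_and, F.singular_iff, Finset.mem_map,
        Finset.mem_biUnion, Cl, Option.isSome_iff_exists]
      constructor
      · rintro ⟨i, hi⟩; exact ⟨a, ⟨i, hi⟩, rfl⟩
      · rintro ⟨b, ⟨i, hi⟩, hb⟩
        exact ⟨i, by rw [← F.bij.1 hb]; exact hi⟩
    rw [this, Finset.card_map, hsum]
    simp [size, Fin.sum_univ_five]
  have hSg : ∀ γ ∈ Γ, ∀ x ∈ S, γ x ∈ S := by
    intro γ hγ x hx
    simp only [S, Finset.mem_filter, Finset.mem_univ, true_and] at hx ⊢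
    exact ⟨fun h => hx.1 (γ.injective (h.trans (map_zero γ).symm)), (hΓ γ hγ x).trans hx.2⟩
  -- the fixed points of g
  let p : V → V := fun v => ∑ i ∈ Finset.range 7, (g ^ i) v
  have hgp : ∀ v, g (p v) = p v := by
    intro v
    simp only [p, map_sum, show ∀ i, g ((g ^ i) v) = (g ^ (i + 1)) v from fun i => by rw [pow_succ']; rfl]
    rw [Finset.sum_range_succ' (fun i => (g ^ i) v) 6, Finset.sum_range_succ, hg7, pow_zero]
  have hpadd : ∀ v w, p (v + w) = p v + p w := fun v w => by simp [p, Finset.sum_add_distrib]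
  have hpg : ∀ v, p (g v) = p v := fun v => by
    rw [← hgp v]
    simp only [p, map_sum]
    exact Finset.sum_congr rfl fun i _ => by
      show (g ^ i * g) v = (g * g ^ i) v
      rw [← pow_succ, ← pow_succ']
  have hpfix : ∀ w, g w = w → p w = w := by
    intro w hw
    have : ∀ i : ℕ, (g ^ i) w = w := by
      intro i; induction i with
      | zero => rfl
      | succ i ih => rw [pow_succ]; show (g ^ i) (g w) = w; rw [hw, ih]
    simp only [p, this, Finset.sum_const, Finset.card_range]
    rw [show (7 : ℕ) = 2 * 3 + 1 from rfl, succ_nsmul, mul_nsmul, two_nsmul, ZModModule.add_self,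
      smul_zero, zero_add]
  let W : Finset V := Finset.univ.filter fun v => g v = v
  let K : Finset V := Finset.univ.filter fun v => p v = 0
  have hWK : W.card * K.card = 4096 := by
    rw [← Finset.card_product, show (4096 : ℕ) = (Finset.univ : Finset V).card by
      rw [Finset.card_univ, ← Fintype.card_congr e]; simp]
    refine Finset.card_bij (fun x _ => x.1 + x.2) (fun _ _ => Finset.mem_univ _) ?_ ?_
    · intro x hx y hy h
      simp only [Finset.mem_product, W, K, Finset.mem_filter, Finset.mem_univ, true_and] at hx hy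
      have h1 := congrArg p h
      rw [hpadd, hpadd, hx.2, hy.2, add_zero, add_zero, hpfix _ hx.1, hpfix _ hy.1] at h1
      exact Prod.ext h1 (add_left_cancel (h1 ▸ h : y.1 + x.2 = y.1 + y.2))
    · intro v _
      refine ⟨(p v, p v + v), ?_, by simp [← add_assoc, ZModModule.add_self]⟩
      simp only [Finset.mem_product, W, K, Finset.mem_filter, Finset.mem_univ, true_and]
      exact ⟨hgp v, by rw [hpadd, hpfix _ (hgp v)]; exact ZModModule.add_self _⟩
  have hK7 : K.card ≡ 1 [MOD 7] := by
    refine (card_modEq_fixed g hg7 K fun x hx => ?_).trans (congrArg (· % _) ?_)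
    · simp only [K, Finset.mem_filter, Finset.mem_univ, true_and] at hx ⊢
      rw [hpg, hx]
    · rw [Finset.card_eq_one]
      refine ⟨0, ?_⟩
      ext x
      simp only [K, Finset.mem_filter, Finset.mem_univ, true_and, Finset.mem_singleton]
      exact ⟨fun h => by rw [← hpfix x h.2, h.1], fun h => by subst h; simp [p]⟩
  have hnW : ∀ x, g x = x → g (n x) = n x := fun x hx => by
    show (g * n) x = _
    rw [hgn]; show n (g x) = _
    rw [hx]
  have hW3 : W.card ≡ 1 [MOD 3] := by
    refine (card_modEq_fixed n hn W fun x hx => ?_).trans (congrArg (· % _) ?_)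
    · simp only [W, Finset.mem_filter, Finset.mem_univ, true_and] at hx ⊢; exact hnW x hx
    · rw [Finset.card_eq_one]
      refine ⟨0, ?_⟩
      ext x
      simp only [W, Finset.mem_filter, Finset.mem_univ, true_and, Finset.mem_singleton]
      exact ⟨fun h => F.n_fix x h.2, fun h => by subst h; simp⟩
  have hfree : ∀ v, g v = v → q v = 0 → v = 0 := by
    obtain ⟨a, ha, hWa⟩ := (Nat.dvd_prime_pow Nat.prime_two).1
      (Dvd.intro K.card (hWK.trans (by norm_num : (4096 : ℕ) = 2 ^ 12)))
    have hKa : K.card = 2 ^ (12 - a) := by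
      refine Nat.eq_of_mul_eq_mul_left (show 0 < 2 ^ a by positivity) ?_
      rw [← pow_add, Nat.add_sub_cancel' ha, ← hWa, hWK]; norm_num
    rw [hKa] at hK7; rw [hWa] at hW3
    have hcases : a = 0 ∨ a = 6 ∨ a = 12 := by
      have key : ∀ a : Fin 13, 2 ^ a.val % 3 = 1 → 2 ^ (12 - a.val) % 7 = 1 →
          a.val = 0 ∨ a.val = 6 ∨ a.val = 12 := by decide
      exact key ⟨a, by omega⟩ hW3 hK7
    rcases hcases with rfl | rfl | rfl
    · intro v hv _
      obtain ⟨w, hw⟩ := Finset.card_eq_one.1 hWa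
      have m : ∀ x, g x = x → x = w := fun x hx => Finset.mem_singleton.1 (hw ▸ (by simp [W, hx]))
      rw [m v hv, ← m 0 (map_zero g)]
    · -- dimension six
      exfalso
      let Z : Finset V := S.filter fun v => g v = v
      have h7 : Z.card % 7 = 0 := by
        have := card_modEq_fixed g hg7 S (hSg g hgΓ)
        rw [hS, Nat.ModEq] at this
        show (S.filter _).card % 7 = 0
        omega
      have h3 : Z.card % 3 = 0 := by
        have h := card_modEq_fixed n hn Z fun x hx => by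
          simp only [Z, Finset.mem_filter] at hx ⊢
          exact ⟨hSg n hnΓ x hx.1, hnW x hx.2⟩
        have hz : Z.filter (fun x => n x = x) = ∅ := by
          refine Finset.filter_eq_empty_iff.2 fun x hx e => ?_
          have hxS : x ∈ S := (Finset.mem_filter.1 hx).1
          exact (Finset.mem_filter.1 hxS).2.1 (F.n_fix x e)
        rw [hz, Finset.card_empty, Nat.ModEq] at h
        exact h.trans (Nat.zero_mod _)
      let U : Submodule (ZMod 2) V := LinearMap.ker (g.toLinearMap - LinearMap.id)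
      have hU : ∀ v, v ∈ U ↔ g v = v := fun v => by simp [U, sub_eq_zero]
      have hUcard : Nat.card U = 64 := by
        rw [Nat.card_eq_fintype_card, Fintype.card_of_subtype W (fun x => by simp [W, hU])]
        exact hWa.trans (by norm_num)
      have hrank : Module.finrank (ZMod 2) U = 2 * 3 := by
        have h := Module.natCard_eq_pow_finrank (K := ZMod 2) (V := U)
        rw [hUcard, Nat.card_zmod] at h
        exact Nat.pow_right_injective le_rfl (h.symm.trans (by norm_num))
      let qU : QuadraticForm (ZMod 2) U := q.comp U.subtype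
      have hpolar : ∀ x y : U, QuadraticMap.polar qU x y = QuadraticMap.polar q (x : V) y := fun x y => rfl
      have hself : ∀ v w, g w = w → QuadraticMap.polar q w (p v) = QuadraticMap.polar q w v := by
        intro v w hw
        have hi : ∀ i : ℕ, QuadraticMap.polar q w ((g ^ i) v) = QuadraticMap.polar q w v := by
          intro i
          induction i with
          | zero => rfl
          | succ i ih =>
            rw [pow_succ', show (g * g ^ i) v = g ((g ^ i) v) from rfl, ← ih]
            conv_lhs => rw [← hw]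
            unfold QuadraticMap.polar
            rw [← map_add, hΓ g hgΓ, hΓ g hgΓ, hΓ g hgΓ]
        simp only [p]
        rw [← QuadraticMap.polarBilin_apply_apply, map_sum]
        simp only [QuadraticMap.polarBilin_apply_apply, hi, Finset.sum_const, Finset.card_range]
        rw [show (7 : ℕ) = 2 * 3 + 1 from rfl, succ_nsmul, mul_nsmul, two_nsmul, ZModModule.add_self,
          smul_zero, zero_add]
      have hqU : (QuadraticMap.polarBilin qU).Nondegenerate := by
        rw [Forms.nondegenerate_polarBilin_iff]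
        intro x hx
        apply Subtype.ext
        refine hnd _ fun v => ?_
        rw [← hself v _ ((hU _).1 x.2)]
        exact hx ⟨p v, (hU _).2 (hgp v)⟩
      have hcnt : Nat.card {v : U // qU v = 0} = Z.card + 1 := by
        rw [← Forms.card_ne_zero_zeros qU, Nat.card_eq_fintype_card]
        congr 1
        rw [← Fintype.card_coe]
        exact Fintype.card_congr
          { toFun := fun v => ⟨v.1.1, by
              simp only [Z, S, Finset.mem_filter, Finset.mem_univ, true_and]
              exact ⟨⟨fun h => v.2.1 (Subtype.ext h), v.2.2⟩, (hU _).1 v.1.2⟩⟩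
            invFun := fun v => ⟨⟨v.1, (hU _).2 (Finset.mem_filter.1 v.2).2⟩, by
              have := (Finset.mem_filter.1 (Finset.mem_filter.1 v.2).1).2
              exact ⟨fun h => this.1 (congrArg Subtype.val h), this.2⟩⟩
            left_inv := fun _ => rfl
            right_inv := fun _ => rfl }
      rcases Forms.zeros_iff_plus qU hqU (m := 3) (by norm_num) hrank with ⟨-, h⟩ | ⟨-, h⟩ <;>
        rw [hcnt] at h <;> norm_num at h <;> omega
    · exfalso
      apply hg1
      refine LinearEquiv.ext fun v => ?_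
      have hWu : W = Finset.univ := by
        refine Finset.eq_univ_of_card _ ?_
        rw [hWa, ← Fintype.card_congr e]; simp
      exact (Finset.mem_filter.1 (hWu ▸ Finset.mem_univ v : v ∈ W)).2
  -- orbits
  let O : Code → Finset Code := fun a => Finset.univ.filter fun b => F.Rel a b
  have hO : ∀ {a b}, b ∈ O a ↔ F.Rel a b := fun {a b} => by simp [O]
  let bits : Code → Fin 5 → Bool := fun a i => decide (∃ b, F.Rel a b ∧ cls b = some i)
  have hbits : ∀ {a i}, bits a i = true ↔ ∃ b, F.Rel a b ∧ cls b = some i := fun {a i} => by simp [bits]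
  have horbit : ∀ a, (cls a).isSome = true →
      O a = (Finset.univ.filter fun i => bits a i = true).biUnion Cl := by
    intro a ha
    ext b
    simp only [hO, Finset.mem_biUnion, Finset.mem_filter, Finset.mem_univ, true_and, hbits, Cl]
    constructor
    · intro h
      have : (cls b).isSome = true := by
        rw [← F.singular_iff] at ha ⊢
        obtain ⟨γ, hγ, e⟩ := h
        rw [← e]
        exact ⟨fun h => ha.1 (γ.injective (h.trans (map_zero γ).symm)), (hΓ γ hγ _).trans ha.2⟩
      obtain ⟨i, hi⟩ := Option.isSome_iff_exists.1 this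
      exact ⟨i, ⟨b, h, hi⟩, hi⟩
    · rintro ⟨i, ⟨c, hc, hci⟩, hbi⟩
      exact F.rel_trans hc (F.rel_of_cls hci hbi)
  have hseven : ∀ a, (cls a).isSome = true → (∑ i, if bits a i = true then size i else 0) % 7 = 0 := by
    intro a ha
    rw [← hsum, ← horbit a ha, ← Finset.card_map e.toEmbedding]
    have hstab : ∀ x ∈ (O a).map e.toEmbedding, g x ∈ (O a).map e.toEmbedding := by
      intro x hx
      obtain ⟨b, hb, rfl⟩ := Finset.mem_map.1 hx
      obtain ⟨c, hc⟩ := F.bij.2 (g (F.psi b))
      exact Finset.mem_map.2 ⟨c, hO.2 (F.rel_trans (hO.1 hb) ⟨g, hgΓ, hc.symm⟩), hc⟩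
    have h := card_modEq_fixed g hg7 _ hstab
    rw [Finset.card_eq_zero.2 (Finset.filter_eq_empty_iff.2 fun x hx hgx => by
      obtain ⟨b, hb, rfl⟩ := Finset.mem_map.1 hx
      have hs : (cls b).isSome = true := by
        rw [horbit a ha] at hb
        obtain ⟨i, -, hi⟩ := Finset.mem_biUnion.1 hb
        simp [(Finset.mem_filter.1 hi).2]
      have := (F.singular_iff b).2 hs
      exact this.1 (hfree _ hgx this.2))] at h
    exact h
  have hrep : ∀ i, ∃ a, cls a = some i := fun i => by
    have h := hCl i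
    have : 0 < (Cl i).card := by rw [h]; fin_cases i <;> simp [size]
    obtain ⟨a, ha⟩ := Finset.card_pos.1 this
    exact ⟨a, (Finset.mem_filter.1 ha).2⟩
  have hindex : ∀ a, (MulAction.stabilizer Γ (F.psi a)).index = ((O a).map e.toEmbedding).card := by
    intro a
    have h := MulAction.index_stabilizer Γ (F.psi a)
    have he : MulAction.orbit Γ (F.psi a) = ↑((O a).map e.toEmbedding) := by
      ext x
      obtain ⟨b, rfl⟩ := F.bij.2 x
      simp only [MulAction.mem_orbit_iff, Finset.coe_map, Set.mem_image, Finset.mem_coe, hO]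
      constructor
      · rintro ⟨γ, hγ⟩; exact ⟨b, ⟨γ.1, γ.2, hγ⟩, rfl⟩
      · rintro ⟨c, ⟨γ, hγ, hc⟩, hcb⟩
        exact ⟨⟨γ, hγ⟩, hc.trans hcb⟩
    rwa [he, Set.ncard_coe_finset] at h
  obtain ⟨a, ha⟩ := hrep 0
  have has : (cls a).isSome = true := by simp [ha]
  obtain ⟨i, hi⟩ : ∃ i, bits a i ≠ true := by
    by_contra! hall
    have hc : ((O a).map e.toEmbedding).card = 2079 := by
      rw [Finset.card_map, horbit a has, hsum, Finset.sum_congr rfl fun i _ => if_pos (hall i)]
      simp [size, Fin.sum_univ_five]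
    have hd : ((O a).map e.toEmbedding).card ∣ Nat.card Γ := hindex a ▸ Subgroup.index_dvd_card _
    rw [hc, hcard] at hd
    norm_num at hd
  obtain ⟨a', ha'⟩ := hrep i
  have has' : (cls a').isSome = true := by simp [ha']
  have hne : ¬ F.Rel a a' := fun h => hi (hbits.2 ⟨a', h, ha'⟩)
  obtain ⟨r, hr⟩ := classes (bits a) (bits a') (hseven a has) (hseven a' has')
    (hbits.2 ⟨a, F.rel_refl a, ha⟩)
    (fun j ⟨h1, h2⟩ => by
      obtain ⟨b, hb, hbj⟩ := hbits.1 h1
      obtain ⟨c, hc, hcj⟩ := hbits.1 h2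
      exact hne (F.rel_trans hb (F.rel_trans (F.rel_of_cls hbj hcj) (F.rel_symm hc))))
    ⟨i, hbits.2 ⟨a', F.rel_refl a', ha'⟩⟩
  -- every code of a class lies in the orbit named by the side
  have hrel : ∀ x j, cls x = some j → (side r (some j) = true → F.Rel a x) ∧ (side r (some j) = false → F.Rel a' x) := by
    intro x j hx
    refine ⟨fun h => ?_, fun h => ?_⟩
    · obtain ⟨y, hy, hyj⟩ := hbits.1 ((hr j).1.2 h)
      exact F.rel_trans hy (F.rel_of_cls hyj hx)
    · obtain ⟨y, hy, hyj⟩ := hbits.1 ((hr j).2.2 h)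
      exact F.rel_trans hy (F.rel_of_cls hyj hx)
  refine ⟨r, fun x y hx hy => ?_, fun x hx => ?_⟩
  · obtain ⟨i, hi⟩ := Option.isSome_iff_exists.1 hx
    obtain ⟨j, hj⟩ := Option.isSome_iff_exists.1 hy
    rw [hi, hj]
    obtain ⟨x1, x2⟩ := hrel x i hi
    obtain ⟨y1, y2⟩ := hrel y j hj
    cases hsi : side r (some i) <;> cases hsj : side r (some j)
    · exact iff_of_true (F.rel_trans (F.rel_symm (x2 hsi)) (y2 hsj)) rfl
    · refine iff_of_false (fun h => hne ?_) (by simp)
      exact F.rel_trans (y1 hsj) (F.rel_trans (F.rel_symm h) (F.rel_symm (x2 hsi)))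
    · refine iff_of_false (fun h => hne ?_) (by simp)
      exact F.rel_trans (x1 hsi) (F.rel_trans h (F.rel_symm (y2 hsj)))
    · exact iff_of_true (F.rel_trans (F.rel_symm (x1 hsi)) (y1 hsj)) rfl
  · obtain ⟨i, hi⟩ := Option.isSome_iff_exists.1 hx
    have h := (MulAction.stabilizer Γ (F.psi x)).card_mul_index
    rw [hindex, Finset.card_map, horbit x hx, hsum, hcard] at h
    obtain ⟨x1, x2⟩ := hrel x i hi
    have hb : ∀ j, (bits x j = true ↔ side r (some j) = side r (cls x)) := by
      intro j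
      rw [hbits, hi]
      cases hs : side r (some i)
      · rw [← (hr j).2, hbits]
        exact ⟨fun ⟨y, hy, hyj⟩ => ⟨y, F.rel_trans (x2 hs) hy, hyj⟩,
          fun ⟨y, hy, hyj⟩ => ⟨y, F.rel_trans (F.rel_symm (x2 hs)) hy, hyj⟩⟩
      · rw [← (hr j).1, hbits]
        exact ⟨fun ⟨y, hy, hyj⟩ => ⟨y, F.rel_trans (x1 hs) hy, hyj⟩,
          fun ⟨y, hy, hyj⟩ => ⟨y, F.rel_trans (F.rel_symm (x1 hs)) hy, hyj⟩⟩
    rw [Finset.sum_congr rfl fun j _ => (if_congr (hb j) rfl rfl : (if bits x j = true then size j else 0) = _)] at h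
    obtain ⟨s1, s2, -, -⟩ := side_sizes r
    cases hs : side r (cls x) <;> rw [hs] at h
    · rw [show (∑ j, if side r (some j) = false then size j else 0) = 1701 from s2] at h
      simp only [Bool.false_eq_true, if_false]
      omega
    · rw [show (∑ j, if side r (some j) = true then size j else 0) = 378 from s1] at h
      simp only [if_true]
      omega

/-- The two orbits. -/
theorem two_orbits (hnd : ∀ v, (∀ w, QuadraticMap.polar q v w = 0) → v = 0)
    (hΓ : ∀ γ ∈ Γ, ∀ v, q (γ v) = q v) (hcard : Nat.card Γ = 19595520) (hnΓ : n ∈ Γ) (hn : n ^ 3 = 1)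
    {g : V ≃ₗ[ZMod 2] V} (hgΓ : g ∈ Γ) (hg7 : g ^ 7 = 1) (hg1 : g ≠ 1) (hgn : g * n = n * g) :
    ∃ u w : V, u ≠ 0 ∧ q u = 0 ∧ w ≠ 0 ∧ q w = 0 ∧ (¬ ∃ γ ∈ Γ, γ u = w) ∧
      ∀ x, x ≠ 0 → q x = 0 → (∃ γ ∈ Γ, γ u = x) ∨ ∃ γ ∈ Γ, γ w = x := by
  classical
  obtain ⟨r, hrel, -⟩ := F.orbit_structure hnd hΓ hcard hnΓ hn hgΓ hg7 hg1 hgn
  have hrep : ∀ i, ∃ a, cls a = some i := fun i => by
    obtain ⟨a, ha⟩ := Finset.card_pos.1 (show 0 < (Finset.univ.filter fun a : Code => cls a = some i).card by
      rw [cls_card]; fin_cases i <;> simp)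
    exact ⟨a, (Finset.mem_filter.1 ha).2⟩
  obtain ⟨a, ha⟩ := hrep 0
  obtain ⟨b, hb⟩ := hrep 1
  obtain ⟨-, -, s0, s1⟩ := side_sizes r
  have has : (cls a).isSome = true := by rw [ha]; rfl
  have hbs : (cls b).isSome = true := by rw [hb]; rfl
  obtain ⟨u1, u2⟩ := (F.singular_iff a).2 has
  obtain ⟨w1, w2⟩ := (F.singular_iff b).2 hbs
  refine ⟨F.psi a, F.psi b, u1, u2, w1, w2, fun h => ?_, fun x hx hqx => ?_⟩
  · have := (hrel a b has hbs).1 h
    rw [ha, hb, s0, s1] at this
    exact Bool.noConfusion this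
  · obtain ⟨c, rfl⟩ := F.bij.2 x
    have hcs := (F.singular_iff c).1 ⟨hx, hqx⟩
    cases hs : side r (cls c)
    · exact Or.inr ((hrel b c hbs hcs).2 (by rw [hb, s1, hs]))
    · exact Or.inl ((hrel a c has hcs).2 (by rw [ha, s0, hs]))

end Frame

end Cfsg.Agent.LargeFischer
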