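/-
Words in the two permutations for the 360 even permutations of six lines.
-/

set_option autoImplicit false

namespace Cfsg.Agent.LargeFischer

/-- The codes of the words for `tau1`. -/
def tau1Words : List Nat :=
  [2510, 431, 9, 166, 119, 88, 92, 489, 203, 292, 436, 1141, 58, 331, 692, 245, 100, 1486, 280, 571, 338, 1257, 214, 5, 17, 156, 861, 587, 102, 882, 335, 179, 237, 187, 56, 974, 1767, 152, 207, 115, 373, 60, 33, 1394, 315, 210, 154, 669, 123, 229, 745, 90, 164, 536, 284, 413, 307, 884, 629, 3, 3534, 303, 13, 230, 87, 120, 66, 361, 139, 420, 308, 1338, 184, 617, 406, 27, 5020, 18, 238, 332, 175, 279, 133, 723, 559, 267, 676, 662, 116, 1235, 37, 55, 2972, 10, 477, 428, 21, 358, 474, 312, 34, 535, 204, 1174, 233, 1948, 75, 111, 1768, 151, 6, 949, 43, 458, 1071, 180, 69, 467, 409, 826, 42, 459, 948, 181, 68, 1070, 408, 827, 466, 1769, 150, 7, 132, 722, 278, 19, 5021, 26, 174, 333, 239, 407, 185, 616, 476, 429, 11, 1234, 117, 663, 2973,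 54, 36, 677, 558, 266, 74, 110, 1949, 534, 35, 313, 232, 1175, 205, 475, 20, 359, 421, 309, 1339, 12, 3535, 302, 121, 231, 86, 138, 67, 360, 25, 220, 605, 843, 70, 626, 463, 243, 173, 135, 40, 718, 815, 371, 932, 557, 84, 1445, 53, 39, 2140, 14, 349, 300, 348, 301, 15, 1444, 85, 556, 2141, 38, 52, 933, 814, 370, 1117, 108, 72, 858, 952, 22, 23, 953, 859, 73, 109, 1116, 41, 134, 719, 627, 842, 71, 604, 24, 221, 172, 242, 462, 1255, 216, 143, 83, 269, 44, 46, 1209, 443, 146, 218, 925, 29, 486, 346, 440, 50, 743, 140, 1115, 169, 1436, 107, 79, 106, 78, 1437, 742, 51, 441, 168, 1114, 141, 347, 28, 487, 1629, 76, 104, 602, 696, 30, 31, 697, 603, 105, 77, 1628, 219, 147, 924, 45, 82, 268, 142, 1254, 217, 442, 1208, 47, 91, 165, 537, 122, 228, 744, 412, 285, 306, 628, 885, 2, 1256, 215, 4, 693, 59, 330, 1487, 244, 101, 339, 281, 570, 293, 437, 1140, 8, 2511, 430, 89, 167, 118, 202, 93, 488, 57, 186, 975, 883, 586, 103, 860, 16, 157, 236, 178, 334, 155,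 211, 668, 61, 114, 372, 206, 1766, 153, 314, 1395, 1]

/-- The codes of the words for `tau2`. -/
def tau2Words : List Nat :=
  [50, 237, 421, 228, 534, 428, 175, 627, 1209, 1117, 5, 244, 54, 924, 9, 628, 349, 168, 184, 154, 103, 859, 1071, 459, 677, 303, 372, 1436, 167, 243, 221, 33, 278, 58, 409, 104, 82, 120, 2141, 17, 1140, 111, 205, 371, 90, 339, 150, 697, 119, 211, 814, 86, 605, 312, 559, 441, 3, 146, 860, 333, 164, 239, 1629, 34, 883, 7, 173, 742, 180, 293, 300, 1394, 11, 1254, 489, 474, 100, 842, 843, 101, 475, 488, 1255, 10, 117, 308, 206, 745, 108, 18, 487, 1256, 335, 557, 443, 67, 442, 66, 556, 19, 109, 744, 334, 1257, 486, 207, 116, 309, 292, 1395, 301, 1628, 238, 165, 181, 172, 743, 6, 35, 882, 884, 132, 603, 38, 218, 1487, 668, 477, 331, 13, 232, 71, 346, 587, 360, 15, 69, 1767, 1766, 68, 14, 361, 586, 347, 1115, 202, 135, 413, 22, 617, 37, 948, 217, 20, 975, 2510, 974, 2511, 21, 616, 23, 412, 216, 949, 36, 134, 1114, 203, 12, 70,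 233, 602, 133, 885, 330, 669, 476, 1486, 39, 219, 1948, 157, 42, 933, 46, 281, 431, 231, 72, 268, 179, 406, 537, 359, 662, 85, 1768, 315, 436, 76, 93, 142, 26, 463, 285, 53, 28, 1174, 692, 719, 138, 30, 3534, 187, 722, 153, 74, 1445, 307, 57, 571, 107, 44, 826, 1234, 5020, 40, 61, 2972, 78, 123, 466, 24, 140, 215, 115, 266, 952, 89, 1338, 25, 141, 467, 114, 267, 214, 88, 1339, 953, 2973, 79, 122, 27, 462, 143, 314, 1769, 84, 92, 77, 437, 663, 536, 358, 723, 152, 186, 718, 693, 1175, 3535, 31, 139, 29, 284, 52, 41, 60, 5021, 106, 570, 56, 1235, 827, 45, 306, 75, 1444, 269, 178, 407, 43, 1949, 156, 280, 932, 47, 73, 430, 230, 118, 815, 210, 87, 313, 604, 147, 861, 332, 558, 440, 2, 1116, 245, 4, 420, 236, 51, 1208, 174, 626, 429, 229, 535, 858, 458, 1070, 8, 925, 55, 102, 185, 155, 169, 629, 348, 338, 151, 696, 2140, 83, 121, 110, 16, 1141, 91, 204, 370, 59, 408, 105, 373, 676, 302, 242, 1437, 166, 279, 220, 1]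

end Cfsg.Agent.LargeFischer
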