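/-
The two permutations of the six lines generate the alternating group.

* `closure_eq_alternating`
-/
import Cfsg.Agent.Lib.LargeFischer.Mono
import Cfsg.Agent.Lib.LargeFischer.SixWords

set_option autoImplicit false
set_option maxRecDepth 100000
set_option Elab.async false

namespace Cfsg.Agent.LargeFischer

/-- The word with the given code (leading digit first applied). -/
def wordPerm (τ : Equiv.Perm (Fin 6)) : ℕ → ℕ → Equiv.Perm (Fin 6)
  | 0, _ => 1
  | f + 1, c => if c ≤ 1 then 1 else (if c % 2 = 0 then sig0 else τ) * wordPerm τ f (c / 2)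

/-- The packed images. -/
def key6 (π : Equiv.Perm (Fin 6)) : ℕ :=
  (π 0).val + 6 * ((π 1).val + 6 * ((π 2).val + 6 * ((π 3).val + 6 * ((π 4).val + 6 * (π 5).val))))

/-- Strictly increasing. -/
def incr6 : List ℕ → Bool
  | a :: b :: l => Nat.blt a b && incr6 (b :: l)
  | _ => true

theorem incr6_nodup : ∀ l : List ℕ, incr6 l = true → l.Pairwise (· < ·)
  | [], _ => List.Pairwise.nil
  | [_], _ => by simp
  | a :: b :: l, h => by
    simp only [incr6, Bool.and_eq_true, Nat.blt_eq] at h
    have ih := incr6_nodup (b :: l) h.2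
    refine List.pairwise_cons.2 ⟨fun x hx => ?_, ih⟩
    rcases List.mem_cons.1 hx with e | hx
    · exact e ▸ h.1
    · exact h.1.trans ((List.pairwise_cons.1 ih).1 x hx)

theorem words_ok :
    (incr6 (tau1Words.map fun c => key6 (wordPerm tau1 30 c)) = true ∧ tau1Words.length = 360) ∧
    (incr6 (tau2Words.map fun c => key6 (wordPerm tau2 30 c)) = true ∧ tau2Words.length = 360) := by
  decide +kernel

theorem even_gens : Equiv.Perm.sign sig0 = 1 ∧ Equiv.Perm.sign tau1 = 1 ∧ Equiv.Perm.sign tau2 = 1 := by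
  decide +kernel

theorem wordPerm_mem (τ : Equiv.Perm (Fin 6)) : ∀ f c, wordPerm τ f c ∈ Subgroup.closure ({sig0, τ} : Set _)
  | 0, _ => one_mem _
  | f + 1, c => by
    rw [wordPerm]
    split_ifs
    · exact one_mem _
    · exact mul_mem (Subgroup.subset_closure (by simp)) (wordPerm_mem τ f _)
    · exact mul_mem (Subgroup.subset_closure (by simp)) (wordPerm_mem τ f _)

theorem closure_eq_alternating {τ : Equiv.Perm (Fin 6)} (h : τ = tau1 ∨ τ = tau2) :
    Subgroup.closure ({sig0, τ} : Set (Equiv.Perm (Fin 6))) = alternatingGroup (Fin 6) := by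
  obtain ⟨e1, e2, e3⟩ := even_gens
  obtain ⟨L, hL, hlen⟩ : ∃ L : List ℕ, incr6 (L.map fun c => key6 (wordPerm τ 30 c)) = true ∧ L.length = 360 := by
    rcases h with rfl | rfl
    exacts [⟨_, words_ok.1⟩, ⟨_, words_ok.2⟩]
  refine Subgroup.eq_of_le_of_card_ge ((Subgroup.closure_le _).2 ?_) ?_
  · rintro π (rfl | rfl) <;> rw [SetLike.mem_coe, Equiv.Perm.mem_alternatingGroup]
    · exact e1
    · rcases h with rfl | rfl
      exacts [e2, e3]
  · have hc : Nat.card (alternatingGroup (Fin 6)) = 360 := by
      rw [nat_card_alternatingGroup, Nat.card_eq_fintype_card, Fintype.card_fin]; rfl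
    rw [hc, ← hlen, ← Fintype.card_fin L.length, ← Nat.card_eq_fintype_card]
    refine Nat.card_le_card_of_injective
      (fun i : Fin L.length => (⟨wordPerm τ 30 L[i], wordPerm_mem τ 30 _⟩ : Subgroup.closure ({sig0, τ} : Set _))) ?_
    intro i j hij
    have hk := congrArg (fun π => key6 π) (congrArg Subtype.val hij)
    have hp := incr6_nodup _ hL
    have hnd : (L.map fun c => key6 (wordPerm τ 30 c)).Nodup := hp.imp (fun h => h.ne)
    apply Fin.ext
    refine (List.Nodup.getElem_inj_iff hnd (hi := by simp) (hj := by simp)).1 ?_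
    simpa using hk

end Cfsg.Agent.LargeFischer
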