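/-
The stabiliser of a singular vector contains the alternating group of degree six on the lines.

* `Frame.stab_data`
-/
import Cfsg.Agent.Lib.LargeFischer.Count
import Cfsg.Agent.Lib.LargeFischer.Six

set_option autoImplicit false

namespace Cfsg.Agent.LargeFischer

theorem side_shift : ∀ (r : Fin 3) (s : ZMod 3),
    (∀ t : ZMod 3, side r (some ⟨t.val + 2, by have := t.val_lt; omega⟩) =
      side r (some ⟨(t + s).val + 2, by have := (t + s).val_lt; omega⟩)) → s = 0 := by decide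

theorem side_full : ∀ (r : Fin 3) (i : Fin 5), ∃ t : ZMod 3,
    side r (some i) = side r (some ⟨t.val + 2, by have := t.val_lt; omega⟩) := by decide

theorem cls_full {a : Code} (h : ∀ k, a k ≠ 0) :
    cls a = some ⟨((tot a : ℕ) : ZMod 3).val + 2, by have := ((tot a : ℕ) : ZMod 3).val_lt; omega⟩ := by
  have hw : wt a = 6 := by
    rw [wt, Finset.filter_true_of_mem fun k _ => h k]; simp
  have ht : tot a < 3 := Nat.mod_lt _ (by norm_num)
  unfold cls
  rw [if_neg (by omega), if_neg (by omega), if_pos hw]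
  have hv : ((tot a : ℕ) : ZMod 3).val = tot a := by rw [ZMod.val_natCast, Nat.mod_eq_of_lt ht]
  split_ifs <;> simp only [Option.some.injEq, Fin.ext_iff, hv] <;> simp_all <;> omega

/-- The code with no zero and given total. -/
def fullCode (t : ZMod 3) : Code := Function.update (fun _ => 3) 0 (rot t 3)

theorem fullCode_spec : ∀ t : ZMod 3, (∀ k, fullCode t k ≠ 0) ∧ ((tot (fullCode t) : ℕ) : ZMod 3) = t := by decide

theorem tot_mono (c : Fin 6 → ZMod 3) (π : Equiv.Perm (Fin 6)) {a : Code} (h : ∀ k, a k ≠ 0) :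
    ((tot (mono c π a) : ℕ) : ZMod 3) = ((tot a : ℕ) : ZMod 3) + ∑ k, c k := by
  rw [tot_cast, tot_cast, ← Equiv.sum_comp π (fun k => ((a k : ℕ) : ZMod 3)), ← Finset.sum_add_distrib]
  exact Finset.sum_congr rfl fun k _ => (rot_spec _ _).2 (h _)

variable {V : Type*} [AddCommGroup V] [Module (ZMod 2) V] [Finite V] {q : QuadraticForm (ZMod 2) V}
  {Γ : Subgroup (V ≃ₗ[ZMod 2] V)} {n : V ≃ₗ[ZMod 2] V}

namespace Frame

variable (F : Frame q Γ n)
include F

/-- A monomial map is realised in the group. -/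
def IsMono (c : Fin 6 → ZMod 3) (π : Equiv.Perm (Fin 6)) : Prop :=
  ∃ γ ∈ Γ, ∀ a, γ (F.psi a) = F.psi (mono c π a)

theorem isMono_mul {c c' : Fin 6 → ZMod 3} {π π' : Equiv.Perm (Fin 6)} (h : F.IsMono c π) (h' : F.IsMono c' π') :
    F.IsMono (fun k => c' k + c (π' k)) (π * π') := by
  obtain ⟨γ, hγ, h⟩ := h; obtain ⟨δ, hδ, h'⟩ := h'
  refine ⟨δ * γ, mul_mem hδ hγ, fun a => ?_⟩
  show δ (γ (F.psi a)) = _
  rw [h, h', mono_mono]

theorem mono_sum {r : Fin 3}
    (hrel : ∀ a b : Code, (cls a).isSome = true → (cls b).isSome = true →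
        (F.Rel a b ↔ side r (cls a) = side r (cls b)))
    {c : Fin 6 → ZMod 3} {π : Equiv.Perm (Fin 6)} (h : F.IsMono c π) : ∑ k, c k = 0 := by
  refine side_shift r _ fun t => ?_
  obtain ⟨γ, hγ, h⟩ := h
  obtain ⟨h0, ht⟩ := fullCode_spec t
  have h0' : ∀ k, mono c π (fullCode t) k ≠ 0 := fun k e => h0 _ ((mono_eq_zero k).1 e)
  have e := (hrel _ _ (by rw [cls_full h0]; rfl) (by rw [cls_full h0']; rfl)).1 ⟨γ, hγ, h (fullCode t)⟩
  rw [cls_full h0, cls_full h0'] at e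
  simp only [tot_mono _ _ h0, ht] at e
  exact e

/-- Even permutations of the lines are realised with sum zero. -/
theorem exists_mono {r : Fin 3}
    (hrel : ∀ a b : Code, (cls a).isSome = true → (cls b).isSome = true →
        (F.Rel a b ↔ side r (cls a) = side r (cls b)))
    {π : Equiv.Perm (Fin 6)} (hπ : π ∈ alternatingGroup (Fin 6)) : ∃ c, F.IsMono c π ∧ ∑ k, c k = 0 := by
  suffices ∃ c, F.IsMono c π from this.imp fun c h => ⟨h, F.mono_sum hrel h⟩
  have hone : ∃ c, F.IsMono c 1 := ⟨0, 1, one_mem _, fun a => by rw [mono_zero]; rfl⟩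
  rw [← closure_eq_alternating F.τ_cases] at hπ
  induction hπ using Subgroup.closure_induction with
  | mem x hx =>
    rcases hx with e | e
    · subst e; obtain ⟨γ, hγ, c, h⟩ := F.mono_σ; exact ⟨c, γ, hγ, h⟩
    · rw [Set.mem_singleton_iff] at e; subst e; obtain ⟨γ, hγ, c, h⟩ := F.mono_τ; exact ⟨c, γ, hγ, h⟩
  | one => exact hone
  | mul x y _ _ hx hy =>
    obtain ⟨c, hc⟩ := hx; obtain ⟨c', hc'⟩ := hy
    exact ⟨_, F.isMono_mul hc hc'⟩
  | inv x _ hx =>
    obtain ⟨c, hc⟩ := hx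
    have hp : ∀ m : ℕ, ∃ c, F.IsMono c (x ^ m) := by
      intro m
      induction m with
      | zero => exact hone
      | succ m ih => obtain ⟨c', hc'⟩ := ih; rw [pow_succ]; exact ⟨_, F.isMono_mul hc' hc⟩
    have hpos := orderOf_pos x
    have hx1 : x⁻¹ = x ^ (orderOf x - 1) := by
      refine inv_eq_of_mul_eq_one_right ?_
      rw [← pow_succ', Nat.sub_add_cancel hpos, pow_orderOf_eq_one]
    rw [hx1]; exact hp _

/-- The alternating group inside the stabiliser of a vector with no zero coordinate. -/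
theorem alt_fix {r : Fin 3}
    (hrel : ∀ a b : Code, (cls a).isSome = true → (cls b).isSome = true →
        (F.Rel a b ↔ side r (cls a) = side r (cls b)))
    {a : Code} (ha : ∀ k, a k ≠ 0) :
    ∃ f : alternatingGroup (Fin 6) →* Γ, Function.Injective f ∧ ∀ π, (f π).1 (F.psi a) = F.psi a := by
  classical
  let ca : Equiv.Perm (Fin 6) → Fin 6 → ZMod 3 := fun π k => ((a k : ℕ) : ZMod 3) - ((a (π k) : ℕ) : ZMod 3)
  have hfix : ∀ π, mono (ca π) π a = a := fun π => funext fun k =>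
    rot_eq _ _ _ (ha k) (ha _) (by simp [ca])
  have hex : ∀ π : alternatingGroup (Fin 6), F.IsMono (ca (π : Equiv.Perm (Fin 6))⁻¹) (π : Equiv.Perm (Fin 6))⁻¹ := by
    intro π
    set p := (π : Equiv.Perm (Fin 6))⁻¹ with hp
    obtain ⟨c, hc, hs⟩ := F.exists_mono hrel (π := p) (inv_mem π.2)
    obtain ⟨δ, hδ, hd⟩ := F.shift (fun k => ca p k - c k) (by
      simp only [ca, Finset.sum_sub_distrib, hs, sub_zero]
      rw [Equiv.sum_comp p (fun k => ((a k : ℕ) : ZMod 3)), sub_self])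
    obtain ⟨γ, hγ, hg⟩ := hc
    refine ⟨δ * γ, mul_mem hδ hγ, fun b => ?_⟩
    show δ (γ (F.psi b)) = _
    rw [hg, hd, mono_mono]
    simp
  choose f hfΓ hf using hex
  have huniq : ∀ g g' : V ≃ₗ[ZMod 2] V, (∀ b, g (F.psi b) = g' (F.psi b)) → g = g' := fun g g' h =>
    LinearEquiv.ext fun v => by obtain ⟨b, rfl⟩ := F.bij.2 v; exact h b
  refine ⟨MonoidHom.mk' (fun π => ⟨f π, hfΓ π⟩) (fun π π' => Subtype.ext (huniq _ _ fun b => ?_)), ?_, fun π => ?_⟩
  · show f (π * π') (F.psi b) = f π (f π' (F.psi b))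
    rw [hf, hf, hf, mono_mono]
    congr 1
    rw [Subgroup.coe_mul, mul_inv_rev]
    congr 1
    funext k
    simp [ca]
  · intro π π' h
    have h' : f π = f π' := congrArg Subtype.val h
    apply Subtype.ext
    apply inv_injective
    refine Equiv.ext fun k => ?_
    let u : Code := Function.update (0 : Code) ((π : Equiv.Perm (Fin 6))⁻¹ k) 1
    have e := hf π u
    rw [h', hf π' u] at e
    have e' := congrFun (F.bij.1 e) k
    by_contra hne
    have z1 : u ((π' : Equiv.Perm (Fin 6))⁻¹ k) = 0 := Function.update_of_ne (Ne.symm hne) _ _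
    have z2 := (mono_eq_zero k).1 (e'.symm.trans ((mono_eq_zero k).2 z1))
    rw [show u ((π : Equiv.Perm (Fin 6))⁻¹ k) = 1 from Function.update_self _ _ _] at z2
    exact absurd z2 (by decide)
  · show f π (F.psi a) = F.psi a
    rw [hf, hfix]

/-- Stabilisers of singular vectors: the order determines the orbit, and they contain the alternating group. -/
theorem stab_data (hnd : ∀ v, (∀ w, QuadraticMap.polar q v w = 0) → v = 0)
    (hΓ : ∀ γ ∈ Γ, ∀ v, q (γ v) = q v) (hcard : Nat.card Γ = 19595520) (hnΓ : n ∈ Γ) (hn : n ^ 3 = 1)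
    {g : V ≃ₗ[ZMod 2] V} (hgΓ : g ∈ Γ) (hg7 : g ^ 7 = 1) (hg1 : g ≠ 1) (hgn : g * n = n * g) :
    (∀ v, v ≠ 0 → q v = 0 →
      (Nat.card (MulAction.stabilizer Γ v) = 51840 ∨ Nat.card (MulAction.stabilizer Γ v) = 11520) ∧
      ∃ f : alternatingGroup (Fin 6) →* Γ, Function.Injective f ∧ ∀ π, (f π).1 v = v) ∧
    ∀ v w, v ≠ 0 → q v = 0 → w ≠ 0 → q w = 0 →
      Nat.card (MulAction.stabilizer Γ v) = Nat.card (MulAction.stabilizer Γ w) → ∃ γ ∈ Γ, γ v = w := by
  classical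
  obtain ⟨r, hrel, hst⟩ := F.orbit_structure hnd hΓ hcard hnΓ hn hgΓ hg7 hg1 hgn
  refine ⟨fun v hv hqv => ?_, fun v w hv hqv hw hqw h => ?_⟩
  · obtain ⟨b, rfl⟩ := F.bij.2 v
    have hb := (F.singular_iff b).1 ⟨hv, hqv⟩
    refine ⟨by rw [hst b hb]; split_ifs <;> simp, ?_⟩
    obtain ⟨i, hi⟩ := Option.isSome_iff_exists.1 hb
    obtain ⟨t, ht⟩ := side_full r i
    obtain ⟨h0, htt⟩ := fullCode_spec t
    obtain ⟨γ, hγ, hγe⟩ : F.Rel b (fullCode t) := by
      refine (hrel _ _ hb (by rw [cls_full h0]; rfl)).2 ?_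
      rw [hi, ht, cls_full h0]
      simp only [htt]
    obtain ⟨f, hf, hfa⟩ := F.alt_fix hrel h0
    refine ⟨(MulAut.conj (⟨γ, hγ⟩ : Γ)⁻¹).toMonoidHom.comp f,
      (MulAut.conj (⟨γ, hγ⟩ : Γ)⁻¹).injective.comp hf, fun π => ?_⟩
    show ((⟨γ, hγ⟩ : Γ)⁻¹ * f π * (⟨γ, hγ⟩ : Γ)⁻¹⁻¹).1 (F.psi b) = F.psi b
    rw [inv_inv]
    show γ⁻¹ ((f π).1 (γ (F.psi b))) = F.psi b
    rw [hγe, hfa, ← hγe]
    exact γ.symm_apply_apply _
  · obtain ⟨a, rfl⟩ := F.bij.2 v
    obtain ⟨b, rfl⟩ := F.bij.2 w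
    have ha := (F.singular_iff a).1 ⟨hv, hqv⟩
    have hb := (F.singular_iff b).1 ⟨hw, hqw⟩
    refine (hrel a b ha hb).2 ?_
    rw [hst a ha, hst b hb] at h
    cases h1 : side r (cls a) <;> cases h2 : side r (cls b) <;> simp [h1, h2] at h ⊢

end Frame

end Cfsg.Agent.LargeFischer
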