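/-
Vectors of six lines of F₄ as numbers below 4096.

* `nmul`, `qn`, `bn`, `orthn`, `inSmall` : multiplication by the scalar, forms, the small orbit
* `Frame.toModel` : the coordinates
-/
import Cfsg.Agent.Lib.LargeFischer.Stab

set_option autoImplicit false
set_option maxRecDepth 100000
set_option Elab.async false

namespace Cfsg.Agent.LargeFischer

/-- The non-zero digits. -/
def nzm (x : ℕ) : ℕ := Nat.land (Nat.lor x (Nat.shiftRight x 1)) 0x555

/-- The parity of the six digit bits. -/
def par (x : ℕ) : ℕ :=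
  let a := Nat.xor x (Nat.shiftRight x 8)
  let b := Nat.xor a (Nat.shiftRight a 4)
  Nat.land (Nat.xor b (Nat.shiftRight b 2)) 1

/-- The form. -/
def qn (x : ℕ) : ℕ := par (nzm x)

/-- The polar form. -/
def bn (x y : ℕ) : ℕ := Nat.land (Nat.add (qn (Nat.xor x y)) (Nat.add (qn x) (qn y))) 1

/-- Multiplication by the scalar of order three. -/
def nmul (x : ℕ) : ℕ :=
  let h := Nat.land (Nat.shiftRight x 1) 0x555
  Nat.lor (Nat.shiftLeft (Nat.xor h (Nat.land x 0x555)) 1) h

/-- Orthogonality of points. -/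
def orthn (x y : ℕ) : Bool := Nat.beq (bn x y) 0 && Nat.beq (bn (nmul x) y) 0

/-- The same point. -/
def samePt (x y : ℕ) : Bool := Nat.beq x y || Nat.beq (nmul x) y || Nat.beq (nmul (nmul x)) y

/-- The digit. -/
def dgt (x k : ℕ) : ℕ := Nat.land (Nat.shiftRight x (2 * k)) 3

/-- The number of non-zero digits. -/
def wn (x : ℕ) : ℕ :=
  ((List.range 6).map fun k => if Nat.beq (dgt x k) 0 then 0 else 1).sum

/-- The orbit of 378 vectors. -/
def inSmall (r x : ℕ) : Bool :=
  let w := wn x
  Nat.beq w 2 || (Nat.beq w 6 && Nat.beq (((List.range 6).map (dgt x)).sum % 3) r)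

/-- The coordinates of a number. -/
def digits (x : Fin 4096) : Code := fun k => ⟨dgt x.val k.val, Nat.lt_succ_of_le Nat.and_le_right⟩

/-- The number of a code. -/
def pack (a : Code) : ℕ := ((List.ofFn a).map Fin.val).foldr (fun d r => d + 4 * r) 0

theorem digits_pack : ∀ x : Fin 4096, pack (digits x) = x.val := by decide +kernel

theorem digits_injective : Function.Injective digits := fun x y h =>
  Fin.ext (by rw [← digits_pack x, ← digits_pack y, h])

theorem digits_bijective : Function.Bijective digits :=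
  (Fintype.bijective_iff_injective_and_card _).2 ⟨digits_injective, by simp⟩

theorem add4_eq : ∀ i j : Fin 4, (add4 i j).val = i.val ^^^ j.val := by decide

theorem digits_qn : ∀ x : Fin 4096, wt (digits x) % 2 = qn x.val := by decide +kernel

theorem nmul_lt : ∀ x : Fin 4096, nmul x.val < 4096 := by decide +kernel

theorem digits_nmul : ∀ x : Fin 4096, pack (mono 1 1 (digits x)) = nmul x.val := by decide +kernel

theorem inSmall_side : ∀ x : Fin 4096, ∀ r : Fin 3, side r (cls (digits x)) = inSmall r.val x.val := by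
  decide +kernel

theorem digits_xor (x y : Fin 4096) (h : x.val ^^^ y.val < 4096) :
    digits ⟨x.val ^^^ y.val, h⟩ = fun k => add4 (digits x k) (digits y k) := by
  funext k
  apply Fin.ext
  rw [add4_eq]
  show Nat.land (Nat.shiftRight (x.val ^^^ y.val) _) 3 =
    Nat.land (Nat.shiftRight x.val _) 3 ^^^ Nat.land (Nat.shiftRight y.val _) 3
  show ((x.val ^^^ y.val) >>> _) &&& 3 = (x.val >>> _ &&& 3) ^^^ (y.val >>> _ &&& 3)
  rw [Nat.shiftRight_xor_distrib, Nat.and_xor_distrib_right]

theorem xor_lt_pow {x y : ℕ} (hx : x < 4096) (hy : y < 4096) : x ^^^ y < 4096 :=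
  Nat.xor_lt_two_pow (n := 12) hx hy

variable {V : Type*} [AddCommGroup V] [Module (ZMod 2) V]

/-- Coordinates by numbers. -/
structure Model (q : QuadraticForm (ZMod 2) V) (n : V ≃ₗ[ZMod 2] V) where
  /-- The vector of a number. -/
  e : ℕ → V
  inj : ∀ x < 4096, ∀ y < 4096, e x = e y → x = y
  surj : ∀ v, ∃ x < 4096, e x = v
  zero : e 0 = 0
  add : ∀ x < 4096, ∀ y < 4096, e (x ^^^ y) = e x + e y
  q_e : ∀ x < 4096, q (e x) = (qn x : ZMod 2)
  n_e : ∀ x < 4096, n (e x) = e (nmul x)

namespace Frame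

variable {q : QuadraticForm (ZMod 2) V} {Γ : Subgroup (V ≃ₗ[ZMod 2] V)} {n : V ≃ₗ[ZMod 2] V}
  (F : Frame q Γ n)
include F

/-- The model of a frame. -/
def toModel : Model q n where
  e x := if h : x < 4096 then F.psi (digits ⟨x, h⟩) else 0
  inj x hx y hy h := by
    rw [dif_pos hx, dif_pos hy] at h
    exact congrArg Fin.val (digits_injective (F.bij.1 h))
  surj v := by
    obtain ⟨a, rfl⟩ := F.bij.2 v
    obtain ⟨⟨x, hx⟩, rfl⟩ := digits_bijective.2 a
    exact ⟨x, hx, dif_pos hx⟩
  zero := by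
    rw [dif_pos (by norm_num : 0 < 4096), show digits ⟨0, by norm_num⟩ = 0 from by decide, F.psi_zero]
  add x hx y hy := by
    rw [dif_pos hx, dif_pos hy, dif_pos (xor_lt_pow hx hy), F.psi_add,
      digits_xor ⟨x, hx⟩ ⟨y, hy⟩ (xor_lt_pow hx hy)]
  q_e x hx := by
    rw [dif_pos hx, F.q_psi, ← digits_qn ⟨x, hx⟩, ZMod.natCast_mod]
  n_e x hx := by
    rw [dif_pos hx, dif_pos (nmul_lt ⟨x, hx⟩), F.n_psi]
    congr 1
    obtain ⟨y, hy⟩ := digits_bijective.2 (mono 1 1 (digits ⟨x, hx⟩))
    rw [← hy]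
    congr 1
    exact Fin.ext (by rw [← digits_pack y, hy, digits_nmul ⟨x, hx⟩])

theorem toModel_e (x : Fin 4096) : F.toModel.e x.val = F.psi (digits x) := dif_pos x.isLt

end Frame

end Cfsg.Agent.LargeFischer
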