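/-
Computations in the model: lines, kernel, the vectors of dimension six, transvections.

* `lineMem`, `tr`, `comb`
-/
import Cfsg.Agent.Lib.LargeFischer.ModelBits
import Cfsg.Agent.Lib.LargeFischer.ModelData

set_option autoImplicit false
set_option maxRecDepth 100000
set_option Elab.async false

namespace Cfsg.Agent.LargeFischer

/-- The points. -/
def ptsOf (r : ℕ) : List ℕ := ptsData.getD r []

/-- The lines. -/
def lineOf (r i : ℕ) : List ℕ := (linesData.getD r []).getD i []

/-- All vectors of the points. -/
def vecsOf (r : ℕ) : List ℕ := (ptsOf r).flatMap fun x => [x, nmul x, nmul (nmul x)]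

/-- A vector of the small orbit orthogonal to the point of 15. -/
def inP (r x : ℕ) : Bool := inSmall r x && orthn 15 x && !samePt 15 x

/-- The line through two points. -/
def lineMem (r a b x : ℕ) : Bool := inP r x && (orthn x a || samePt a x) && (orthn x b || samePt b x)

/-- The transvection at a vector. -/
def tr (a w : ℕ) : ℕ :=
  Nat.xor w (Nat.xor (if Nat.beq (bn a w) 1 then nmul a else 0) (if Nat.beq (bn (nmul a) w) 1 then a else 0))

/-- A combination given by the bits of a mask. -/
def comb : List ℕ → ℕ → ℕ
  | [], _ => 0
  | x :: l, m => Nat.xor (if Nat.beq (m % 2) 1 then x else 0) (comb l (m / 2))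

/-- A basis adapted to the points. -/
def bas12 : List ℕ := [15, 5, 240, 80, 960, 320, 3840, 1280, 112, 144, 3, 1]

/-- The first ten. -/
def bas10 : List ℕ := bas12.take 10

/-- Masks of the bits. -/
def bitMasks : List ℕ := [2048, 3072, 2050, 3075, 772, 264, 780, 260, 812, 308, 940, 500]

/-- The six singular coordinates. -/
def q6 (x : ℕ) : ℕ :=
  let b := fun i => Nat.land (Nat.shiftRight x i) 1
  Nat.land (b 0 * b 2 + b 1 * b 3 + b 4 + b 4 * b 5 + b 5) 1

/-- The polar form in dimension six. -/
def b6 (x y : ℕ) : ℕ := Nat.land (q6 (Nat.xor x y) + (q6 x + q6 y)) 1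

theorem bits_span : ((List.range 12).all fun i => Nat.beq (comb bas12 (bitMasks.getD i 0)) (2 ^ i)) = true ∧
    ((List.range 4096).all fun x => Nat.beq (comb ((List.range 12).map (2 ^ ·)) x) x) = true := by
  decide +kernel

theorem pts_ok : ((List.range 3).all fun r => (ptsOf r).length == 45 &&
    ((ptsOf r).all fun x => decide (x < 4096) && inP r x) &&
    ((List.range 4096).all fun x => !inP r x || (ptsOf r).any fun p => samePt p x)) = true := by decide +kernel

theorem same_invariant : ((List.range 3).all fun r => (ptsOf r).all fun p => (vecsOf r).all fun x =>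
    [nmul p, nmul (nmul p)].all fun a =>
      (orthn x a == orthn x p) && (samePt a x == samePt p x) && inP r a) = true := by decide +kernel

theorem line_pairs : ((List.range 3).all fun r => (ptsOf r).all fun a => (ptsOf r).all fun b =>
    !(orthn a b && !samePt a b) || (List.range 27).any fun i =>
      ((lineOf r i).all fun x => lineMem r a b x) &&
        ((vecsOf r).all fun x => !lineMem r a b x || (lineOf r i).contains x)) = true := by decide +kernel

theorem line_two : ((List.range 3).all fun r => (List.range 27).all fun i =>
    ((lineOf r i).all fun x => inP r x) &&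
    ((ptsOf r).any fun a => (ptsOf r).any fun b => orthn a b && !samePt a b &&
      (lineOf r i).contains a && (lineOf r i).contains b &&
      ((lineOf r i).all fun x => lineMem r a b x) &&
        ((vecsOf r).all fun x => !lineMem r a b x || (lineOf r i).contains x))) = true := by decide +kernel

theorem point_meet : ((List.range 3).all fun r => (ptsOf r).all fun p =>
    (List.range 27).any fun i => (lineOf r i).contains p && (List.range 27).any fun j =>
      (lineOf r j).contains p &&
        ((lineOf r i).all fun x => !(lineOf r j).contains x || samePt p x)) = true := by decide +kernel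

theorem vec_meet : ((List.range 3).all fun r => (List.range 27).all fun i => (List.range 27).all fun j =>
    Nat.beq (b6 (vecData.getD i 0) (vecData.getD j 0))
      (if i == j || (lineOf r i).any (fun x => (lineOf r j).contains x) then 0 else 1)) = true := by
  decide +kernel

theorem vec_ok : ((List.range 27).all fun i => decide (vecData.getD i 0 < 64) &&
      Nat.beq (q6 (vecData.getD i 0)) 0 && !Nat.beq (vecData.getD i 0) 0 &&
      (List.range i).all fun j => !Nat.beq (vecData.getD i 0) (vecData.getD j 0)) = true ∧
    ((List.range 64).all fun x => !Nat.beq (q6 x) 0 || Nat.beq x 0 || vecData.contains x) = true ∧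
    ((List.range 6).all fun j => decide (basisData.getD j 0 < 27) && decide (dualData.getD j 0 < 64) &&
      (List.range 6).all fun k => Nat.beq (b6 (vecData.getD (basisData.getD j 0) 0) (dualData.getD k 0))
        (if j == k then 1 else 0)) = true := by decide +kernel

/-- Powers of the scalar. -/
def npow : ℕ → ℕ → ℕ
  | 0, x => x
  | k + 1, x => nmul (npow k x)

/-- Images of the ten basis vectors for given exponents. -/
def img10 (s : ℕ) (a : List ℕ) : List ℕ :=
  [15, npow s 15] ++ (List.range 4).flatMap fun i =>
    let w := bas12.getD (2 + 2 * i) 0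
    let y := npow (a.getD i 0) w
    [y, npow s y]

theorem coord_ok : ((List.range 3).all fun r => (List.range 45).all fun p =>
    Nat.beq (comb bas10 ((coordData.getD r []).getD p 0)) ((ptsOf r).getD p 0)) = true := by decide +kernel

theorem survivors : ((List.range 3).all fun r => [1, 2].all fun s => (List.range 3).all fun a => (List.range 3).all fun b =>
    (List.range 3).all fun c => (List.range 3).all fun d =>
      !((List.range 45).all fun p => samePt ((ptsOf r).getD p 0) (comb (img10 s [a, b, c, d]) ((coordData.getD r []).getD p 0)))
        || (s == 1 && a == 0 && b == 0 && c == 0 && d == 0)) = true := by decide +kernel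

theorem outside_images : ((List.range 4096).all fun u =>
    !(Nat.beq (qn u) 1 && bas10.all (fun x => Nat.beq (bn u x) (bn 3 x))) || u == 3 || u == 12) = true ∧
    tr 15 3 = 12 ∧ tr 15 1 = nmul 12 ∧ (bas10.all fun x => Nat.beq (tr 15 x) x) = true := by decide +kernel

theorem tr_facts :
    ((List.range 4096).all fun w =>
      Nat.beq (tr 3840 (tr 3840 w)) w && Nat.beq (tr 1792 (tr 1792 w)) w &&
      Nat.beq (tr 15 (tr 15 w)) w && Nat.beq (tr 60 (tr 60 w)) w &&
      Nat.beq (tr 3840 (tr 1792 (tr 3840 (tr 1792 (tr 3840 (tr 1792 w)))))) w &&
      Nat.beq (tr 15 (tr 60 (tr 15 (tr 60 (tr 15 (tr 60 w)))))) w &&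
      Nat.beq (tr 3840 (tr 15 w)) (tr 15 (tr 3840 w)) && Nat.beq (tr 3840 (tr 60 w)) (tr 60 (tr 3840 w))) = true ∧
    ([3840, 1792, 15, 60].all fun a => Nat.beq (tr a 255) 255 &&
      (List.range 3).all fun r => inSmall r a) = true ∧
    tr 3840 (tr 1792 3) = 3 ∧ tr 3840 768 ≠ tr 1792 768 ∧ tr 15 3 ≠ tr 60 3 := by decide +kernel

theorem line_small : ((List.range 3).all fun r => (List.range 27).all fun i =>
    ((lineOf r i).all fun x => decide (x < 4096)) &&
      (List.range 27).all fun k => i == k || (lineOf r i).any fun x => !(lineOf r k).contains x) = true := by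
  decide +kernel

theorem nmul_facts : ((List.range 4096).all fun x => Nat.beq (nmul (nmul (nmul x))) x &&
    Nat.beq (nmul (nmul x)) (Nat.xor x (nmul x))) = true := by decide +kernel

end Cfsg.Agent.LargeFischer
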