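/-
Automorphisms of the model.

* `Auto`, `Auto.lines`, `Auto.kernel`, `Auto.map_tr`
-/
import Cfsg.Agent.Lib.LargeFischer.ModelFacts

set_option autoImplicit false
set_option maxRecDepth 100000

namespace Cfsg.Agent.LargeFischer

variable {V : Type*} [AddCommGroup V] [Module (ZMod 2) V] {q : QuadraticForm (ZMod 2) V}
  {n : V ≃ₗ[ZMod 2] V}

theorem land_one_lt (a : ℕ) : Nat.land a 1 < 2 := Nat.lt_succ_of_le Nat.and_le_right

theorem qn_lt (x : ℕ) : qn x < 2 := land_one_lt _

theorem bn_lt (x y : ℕ) : bn x y < 2 := land_one_lt _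

theorem cast_inj_two {a b : ℕ} (ha : a < 2) (hb : b < 2) (h : (a : ZMod 2) = b) : a = b := by
  rw [ZMod.natCast_eq_natCast_iff'] at h
  rwa [Nat.mod_eq_of_lt ha, Nat.mod_eq_of_lt hb] at h

theorem nmul_lt' {x : ℕ} (hx : x < 4096) : nmul x < 4096 := nmul_lt ⟨x, hx⟩

theorem nmul_three {x : ℕ} (hx : x < 4096) : nmul (nmul (nmul x)) = x ∧ nmul (nmul x) = x ^^^ nmul x := by
  have h := List.all_eq_true.1 nmul_facts x (List.mem_range.2 hx)
  simp only [Bool.and_eq_true, Nat.beq_eq] at h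
  exact h

theorem npow_lt {x : ℕ} (hx : x < 4096) : ∀ k, npow k x < 4096
  | 0 => hx
  | k + 1 => nmul_lt' (npow_lt hx k)

theorem samePt_iff {x y : ℕ} : samePt x y = true ↔ x = y ∨ nmul x = y ∨ nmul (nmul x) = y := by
  simp [samePt, or_assoc]

theorem samePt_symm {x y : ℕ} (hx : x < 4096) (h : samePt x y = true) : samePt y x = true := by
  have t3 := (nmul_three hx).1
  rw [samePt_iff] at h ⊢
  rcases h with rfl | rfl | rfl
  · exact Or.inl rfl
  · exact Or.inr (Or.inr t3)
  · exact Or.inr (Or.inl t3)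

theorem samePt_trans {x y z : ℕ} (hx : x < 4096) (h : samePt x y = true) (h' : samePt y z = true) :
    samePt x z = true := by
  have t3 := (nmul_three hx).1
  rw [samePt_iff] at h h' ⊢
  rcases h with rfl | rfl | rfl <;> rcases h' with rfl | rfl | rfl <;> simp [t3]

theorem samePt_lt {x y : ℕ} (hx : x < 4096) (h : samePt x y = true) : y < 4096 := by
  rcases samePt_iff.1 h with rfl | rfl | rfl
  exacts [hx, nmul_lt' hx, nmul_lt' (nmul_lt' hx)]

theorem samePt_congr {x y x' y' : ℕ} (hx : x < 4096) (hy : y < 4096) (h : samePt x x' = true)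
    (h' : samePt y y' = true) : samePt x' y' = samePt x y := by
  have hx' := samePt_lt hx h
  have hy' := samePt_lt hy h'
  refine Bool.eq_iff_iff.2 ⟨fun e => samePt_trans hx h (samePt_trans hx' e (samePt_symm hy h')), fun e => ?_⟩
  exact samePt_trans hx' (samePt_symm hx h) (samePt_trans hx e h')

namespace Model

variable (M : Model q n)
include M

theorem bn_polar {x y : ℕ} (hx : x < 4096) (hy : y < 4096) :
    (bn x y : ZMod 2) = QuadraticMap.polar q (M.e x) (M.e y) := by
  unfold QuadraticMap.polar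
  rw [← M.add x hx y hy, M.q_e _ (xor_lt_pow hx hy), M.q_e x hx, M.q_e y hy]
  show ((Nat.land (qn (x ^^^ y) + (qn x + qn y)) 1 : ℕ) : ZMod 2) = _
  rw [show Nat.land (qn (x ^^^ y) + (qn x + qn y)) 1 = (qn (x ^^^ y) + (qn x + qn y)) % 2 from Nat.and_one_is_mod _,
    ZMod.natCast_mod, Nat.cast_add, Nat.cast_add, sub_eq_add_neg, sub_eq_add_neg, ZModModule.neg_eq_self,
    ZModModule.neg_eq_self]
  abel

theorem bn_nn {x y : ℕ} (hx : x < 4096) (hy : y < 4096) :
    bn (nmul (nmul x)) y = (bn x y + bn (nmul x) y) % 2 := by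
  refine cast_inj_two (bn_lt _ _) (Nat.mod_lt _ (by norm_num)) ?_
  rw [ZMod.natCast_mod, Nat.cast_add, M.bn_polar (nmul_lt' (nmul_lt' hx)) hy, M.bn_polar hx hy,
    M.bn_polar (nmul_lt' hx) hy, (nmul_three hx).2, M.add x hx _ (nmul_lt' hx), QuadraticMap.polar_add_left]

theorem orthn_nmul {x y : ℕ} (hx : x < 4096) (hy : y < 4096) : orthn (nmul x) y = orthn x y := by
  unfold orthn
  rw [M.bn_nn hx hy]
  have := bn_lt x y
  have := bn_lt (nmul x) y
  interval_cases bn x y <;> interval_cases bn (nmul x) y <;> rfl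

theorem e_tr {a w : ℕ} (ha : a < 4096) (hw : w < 4096) : tr a w < 4096 ∧
    M.e (tr a w) = M.e w + ((bn a w : ZMod 2) • n (M.e a) + (bn (nmul a) w : ZMod 2) • M.e a) := by
  have hb1 := bn_lt a w
  have hb2 := bn_lt (nmul a) w
  have hna := nmul_lt' ha
  rw [M.n_e a ha]
  unfold tr
  obtain ⟨i, hi⟩ : ∃ i, bn a w = i := ⟨_, rfl⟩
  obtain ⟨j, hj⟩ : ∃ j, bn (nmul a) w = j := ⟨_, rfl⟩
  rw [hi] at hb1
  rw [hj] at hb2
  rw [hi, hj]
  interval_cases i <;> interval_cases j <;> simp only [Nat.beq, if_true, if_false, Bool.false_eq_true] <;>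
    refine ⟨xor_lt_pow hw (xor_lt_pow (by omega) (by omega)), ?_⟩ <;>
    show M.e (w ^^^ (_ ^^^ _)) = _ <;>
    rw [M.add w hw _ (xor_lt_pow (by omega) (by omega)), M.add _ (by omega) _ (by omega)] <;>
    simp [M.zero]

theorem tr_add {a x y : ℕ} (ha : a < 4096) (hx : x < 4096) (hy : y < 4096) :
    tr a (x ^^^ y) = tr a x ^^^ tr a y := by
  obtain ⟨l1, e1⟩ := M.e_tr ha hx
  obtain ⟨l2, e2⟩ := M.e_tr ha hy
  obtain ⟨l3, e3⟩ := M.e_tr ha (xor_lt_pow hx hy)
  refine M.inj _ l3 _ (xor_lt_pow l1 l2) ?_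
  rw [e3, M.add _ l1 _ l2, e1, e2, M.bn_polar ha (xor_lt_pow hx hy), M.bn_polar (nmul_lt' ha) (xor_lt_pow hx hy),
    M.bn_polar ha hx, M.bn_polar (nmul_lt' ha) hx, M.bn_polar ha hy, M.bn_polar (nmul_lt' ha) hy,
    M.add x hx y hy, QuadraticMap.polar_add_right, QuadraticMap.polar_add_right, add_smul, add_smul]
  abel

end Model

/-- Automorphisms of the model preserving the small orbit. -/
structure Auto (r : ℕ) where
  /-- The map. -/
  f : ℕ → ℕ
  lt : ∀ x < 4096, f x < 4096
  inj : ∀ x < 4096, ∀ y < 4096, f x = f y → x = y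
  add : ∀ x < 4096, ∀ y < 4096, f (x ^^^ y) = f x ^^^ f y
  qn_f : ∀ x < 4096, qn (f x) = qn x
  small : ∀ x < 4096, inSmall r (f x) = inSmall r x
  twist : ∃ s, (s = 1 ∨ s = 2) ∧ ∀ x < 4096, f (nmul x) = npow s (f x)

/-- Linear maps of numbers are determined by twelve values. -/
theorem ext_bits {f g : ℕ → ℕ} (hlt : ∀ x < 4096, f x < 4096)
    (hf : ∀ x < 4096, ∀ y < 4096, f (x ^^^ y) = f x ^^^ f y)
    (hg : ∀ x < 4096, ∀ y < 4096, g (x ^^^ y) = g x ^^^ g y) (hlt' : ∀ x < 4096, g x < 4096)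
    (h : ∀ x ∈ bas12, f x = g x) : ∀ x < 4096, f x = g x := by
  have z : ∀ k : ℕ → ℕ, (∀ x < 4096, ∀ y < 4096, k (x ^^^ y) = k x ^^^ k y) → k 0 = 0 := fun k hk => by
    have := hk 0 (by norm_num) 0 (by norm_num)
    rwa [Nat.xor_self, Nat.xor_self] at this
  have key : ∀ (l : List ℕ), (∀ x ∈ l, x < 4096 ∧ f x = g x) → ∀ m, comb l m < 4096 ∧ f (comb l m) = g (comb l m) := by
    intro l
    induction l with
    | nil => intro _ m; exact ⟨by show (0 : ℕ) < 4096; norm_num, by show f 0 = g 0; rw [z f hf, z g hg]⟩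
    | cons a l ih =>
      intro hl m
      obtain ⟨h1, h2⟩ := ih (fun x hx => hl x (List.mem_cons_of_mem _ hx)) (m / 2)
      obtain ⟨a1, a2⟩ := hl a List.mem_cons_self
      have hc : (if Nat.beq (m % 2) 1 then a else 0) < 4096 ∧
          f (if Nat.beq (m % 2) 1 then a else 0) = g (if Nat.beq (m % 2) 1 then a else 0) := by
        split_ifs
        · exact ⟨a1, a2⟩
        · exact ⟨by norm_num, by rw [z f hf, z g hg]⟩
      refine ⟨xor_lt_pow hc.1 h1, ?_⟩
      show f (_ ^^^ _) = g (_ ^^^ _)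
      rw [hf _ hc.1 _ h1, hg _ hc.1 _ h1, hc.2, h2]
  obtain ⟨hb, hs⟩ := bits_span
  have hbas : ∀ x ∈ bas12, x < 4096 ∧ f x = g x := fun x hx => ⟨by
    have : ∀ x ∈ bas12, x < 4096 := by decide
    exact this x hx, h x hx⟩
  have hbits : ∀ x ∈ (List.range 12).map (2 ^ ·), x < 4096 ∧ f x = g x := by
    intro x hx
    obtain ⟨i, hi, rfl⟩ := List.mem_map.1 hx
    have := key bas12 hbas (bitMasks.getD i 0)
    rwa [Nat.eq_of_beq_eq_true (List.all_eq_true.1 hb i hi)] at this
  intro x hx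
  have := (key _ hbits x).2
  rwa [Nat.eq_of_beq_eq_true (List.all_eq_true.1 hs x (List.mem_range.2 hx))] at this

namespace Auto

variable {r : ℕ} (A : Auto r)
include A

theorem map_bn {x y : ℕ} (hx : x < 4096) (hy : y < 4096) : bn (A.f x) (A.f y) = bn x y := by
  unfold bn
  show Nat.land (qn (A.f x ^^^ A.f y) + _) 1 = Nat.land (qn (x ^^^ y) + _) 1
  rw [← A.add x hx y hy, A.qn_f _ (xor_lt_pow hx hy), A.qn_f x hx, A.qn_f y hy]

theorem map_samePt {x y : ℕ} (hx : x < 4096) (hy : y < 4096) : samePt (A.f x) (A.f y) = samePt x y := by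
  obtain ⟨s, hs, hn⟩ := A.twist
  have key : samePt (A.f x) (A.f y) = true ↔ samePt x y = true := by
    have h1 := hn x hx
    have h2 := hn _ (nmul_lt' hx)
    rw [h1] at h2
    obtain ⟨e3, -⟩ := nmul_three (A.lt x hx)
    have i0 : A.f x = A.f y ↔ x = y := ⟨A.inj x hx y hy, fun e => e ▸ rfl⟩
    have i1 : A.f (nmul x) = A.f y ↔ nmul x = y := ⟨A.inj _ (nmul_lt' hx) y hy, fun e => e ▸ rfl⟩
    have i2 : A.f (nmul (nmul x)) = A.f y ↔ nmul (nmul x) = y :=
      ⟨A.inj _ (nmul_lt' (nmul_lt' hx)) y hy, fun e => e ▸ rfl⟩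
    rw [samePt_iff, samePt_iff, ← i0, ← i1, ← i2, h1, h2]
    rcases hs with rfl | rfl <;> simp only [npow, e3]
    tauto
  exact Bool.eq_iff_iff.2 key

variable (M : Model q n)
include M

theorem map_bn_nmul {x y : ℕ} (hx : x < 4096) (hy : y < 4096) :
    (∀ s, (∀ z < 4096, A.f (nmul z) = npow s (A.f z)) → s = 1 → bn (nmul (A.f x)) (A.f y) = bn (nmul x) y) ∧
    (∀ s, (∀ z < 4096, A.f (nmul z) = npow s (A.f z)) → s = 2 →
      bn (nmul (A.f x)) (A.f y) = (bn x y + bn (nmul x) y) % 2) := by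
  constructor <;> intro s hn hs <;> subst hs
  · rw [show nmul (A.f x) = A.f (nmul x) from (hn x hx).symm, A.map_bn (nmul_lt' hx) hy]
  · have h2 := hn _ (nmul_lt' hx)
    rw [hn x hx] at h2
    simp only [npow] at h2
    rw [(nmul_three (A.lt x hx)).1] at h2
    rw [← h2, A.map_bn (nmul_lt' (nmul_lt' hx)) hy, M.bn_nn hx hy]

theorem map_orthn {x y : ℕ} (hx : x < 4096) (hy : y < 4096) : orthn (A.f x) (A.f y) = orthn x y := by
  obtain ⟨s, hs, hn⟩ := A.twist
  obtain ⟨k1, k2⟩ := A.map_bn_nmul M hx hy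
  unfold orthn
  rw [A.map_bn hx hy]
  rcases hs with e | e
  · rw [k1 s hn e]
  · rw [k2 s hn e]
    have := bn_lt x y
    have := bn_lt (nmul x) y
    interval_cases bn x y <;> interval_cases bn (nmul x) y <;> rfl

theorem map_tr {a w : ℕ} (ha : a < 4096) (hw : w < 4096) : A.f (tr a w) = tr (A.f a) (A.f w) := by
  obtain ⟨s, hs, hn⟩ := A.twist
  obtain ⟨k1, k2⟩ := A.map_bn_nmul M ha hw
  have hf0 : A.f 0 = 0 := by
    have := A.add 0 (by norm_num) 0 (by norm_num)
    rwa [Nat.xor_self, Nat.xor_self] at this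
  have hna := nmul_lt' ha
  have e1 := (nmul_three (A.lt a ha)).2
  unfold tr
  rw [A.map_bn ha hw]
  show A.f (w ^^^ (_ ^^^ _)) = A.f w ^^^ (_ ^^^ _)
  have := bn_lt a w
  have := bn_lt (nmul a) w
  rcases hs with e | e
  · rw [k1 s hn e]
    subst e
    have hfn : A.f (nmul a) = nmul (A.f a) := hn a ha
    interval_cases bn a w <;> interval_cases bn (nmul a) w <;>
      simp only [Nat.beq, if_true, if_false, Bool.false_eq_true] <;>
      rw [A.add w hw _ (xor_lt_pow (by omega) (by omega)), A.add _ (by omega) _ (by omega)] <;>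
      simp [hf0, hfn]
  · rw [k2 s hn e]
    subst e
    have hfn : A.f (nmul a) = A.f a ^^^ nmul (A.f a) := (hn a ha).trans e1
    have hc : ∀ p c : ℕ, (p ^^^ c) ^^^ p = c := fun p c => by
      rw [Nat.xor_comm p c, Nat.xor_assoc, Nat.xor_self, Nat.xor_zero]
    interval_cases bn a w <;> interval_cases bn (nmul a) w <;>
      simp only [Nat.beq, if_true, if_false, Bool.false_eq_true, Nat.reduceAdd, Nat.reduceMod] <;>
      rw [A.add w hw _ (xor_lt_pow (by omega) (by omega)), A.add _ (by omega) _ (by omega)] <;>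
      simp [hf0, hfn, hc, Nat.xor_comm]

/-- A fixed point 15 gives invariance of the 45 points. -/
theorem map_inP (h15 : A.f 15 = 15) {x : ℕ} (hx : x < 4096) : inP r (A.f x) = inP r x := by
  unfold inP
  rw [A.small x hx]
  conv_lhs => rw [← h15]
  rw [A.map_orthn M (by norm_num) hx, A.map_samePt (by norm_num) hx]

theorem map_lineMem (h15 : A.f 15 = 15) {a b x : ℕ} (ha : a < 4096) (hb : b < 4096) (hx : x < 4096) :
    lineMem r (A.f a) (A.f b) (A.f x) = lineMem r a b x := by
  unfold lineMem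
  rw [A.map_inP M h15 hx, A.map_orthn M hx ha, A.map_orthn M hx hb, A.map_samePt ha hx, A.map_samePt hb hx]

theorem lines (hr : r < 3) (h15 : A.f 15 = 15) : ∀ i < 27, ∃ j < 27, ∀ x < 4096,
    A.f x ∈ lineOf r j ↔ x ∈ lineOf r i := by
  intro i hi
  have h2 := List.all_eq_true.1 (List.all_eq_true.1 line_two r (List.mem_range.2 hr)) i (List.mem_range.2 hi)
  simp only [Bool.and_eq_true, List.any_eq_true, List.all_eq_true, Bool.or_eq_true, Bool.not_eq_true',
    List.contains_iff_mem] at h2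
  obtain ⟨hin, a, ha, b, hb, ⟨⟨⟨⟨hab, hne⟩, -⟩, -⟩, hsub⟩, hsup⟩ := h2
  obtain ⟨-, hp⟩ := Bool.and_eq_true_iff.1 (List.all_eq_true.1 pts_ok r (List.mem_range.2 hr))
  have hp' := (Bool.and_eq_true_iff.1 (List.all_eq_true.1 pts_ok r (List.mem_range.2 hr))).1
  obtain ⟨-, hpin⟩ := Bool.and_eq_true_iff.1 hp'
  have hpt : ∀ x ∈ ptsOf r, x < 4096 ∧ inP r x = true := fun x hx => by
    have := List.all_eq_true.1 hpin x hx
    simpa using this
  have hvec : ∀ x < 4096, inP r x = true → x ∈ vecsOf r := by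
    intro x hx h
    have := List.all_eq_true.1 hp x (List.mem_range.2 hx)
    rw [h] at this
    simp only [Bool.not_true, Bool.false_or, List.any_eq_true] at this
    obtain ⟨p, hp, hs⟩ := this
    rw [vecsOf, List.mem_flatMap]
    refine ⟨p, hp, ?_⟩
    rcases samePt_iff.1 hs with e | e | e <;> simp [← e]
  obtain ⟨ha4, haP⟩ := hpt a ha
  obtain ⟨hb4, hbP⟩ := hpt b hb
  have rep : ∀ a, a < 4096 → inP r a = true → ∃ p ∈ ptsOf r, samePt p a = true ∧ ∀ x ∈ vecsOf r,
      orthn x a = orthn x p ∧ samePt a x = samePt p x := by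
    intro a ha hP
    have := List.all_eq_true.1 hp a (List.mem_range.2 ha)
    rw [hP] at this
    simp only [Bool.not_true, Bool.false_or, List.any_eq_true] at this
    obtain ⟨p, hp, hs⟩ := this
    refine ⟨p, hp, hs, fun x hx => ?_⟩
    have h := List.all_eq_true.1 (List.all_eq_true.1 (List.all_eq_true.1 same_invariant r (List.mem_range.2 hr)) p hp) x hx
    simp only [List.all_cons, List.all_nil, Bool.and_true, Bool.and_eq_true, beq_iff_eq] at h
    rcases samePt_iff.1 hs with e | e | e <;> rw [← e]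
    · exact ⟨rfl, rfl⟩
    · exact ⟨h.1.1.1, h.1.1.2⟩
    · exact ⟨h.2.1.1, h.2.1.2⟩
  obtain ⟨p, hp1, hp2, hpx⟩ := rep _ (A.lt a ha4) ((A.map_inP M h15 ha4).trans haP)
  obtain ⟨p', hp1', hp2', hpx'⟩ := rep _ (A.lt b hb4) ((A.map_inP M h15 hb4).trans hbP)
  have hpv : p ∈ vecsOf r := hvec p (hpt p hp1).1 (hpt p hp1).2
  have hoab : orthn p p' = true ∧ samePt p p' = false := by
    have hfa : A.f a ∈ vecsOf r := hvec _ (A.lt a ha4) ((A.map_inP M h15 ha4).trans haP)
    have e1 : orthn (A.f a) (A.f b) = orthn p p' := by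
      rw [(hpx' _ hfa).1]
      obtain ⟨hp4, -⟩ := hpt p' hp1'
      rcases samePt_iff.1 hp2 with e | e | e <;> rw [← e]
      · exact M.orthn_nmul (hpt p hp1).1 hp4
      · rw [M.orthn_nmul (nmul_lt' (hpt p hp1).1) hp4, M.orthn_nmul (hpt p hp1).1 hp4]
    have e2 : samePt (A.f a) (A.f b) = samePt p p' := by
      exact samePt_congr (hpt p hp1).1 (hpt p' hp1').1 hp2 hp2'
    rw [← e1, ← e2, A.map_orthn M ha4 hb4, A.map_samePt ha4 hb4]
    exact ⟨hab, hne⟩
  have hl := List.all_eq_true.1 (List.all_eq_true.1 (List.all_eq_true.1 line_pairs r (List.mem_range.2 hr)) p hp1) p' hp1'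
  rw [hoab.1, hoab.2] at hl
  simp only [Bool.not_true, Bool.not_false, Bool.and_self, Bool.false_or, List.any_eq_true, List.mem_range,
    Bool.and_eq_true, List.all_eq_true, Bool.or_eq_true, Bool.not_eq_true', List.contains_iff_mem] at hl
  obtain ⟨j, hj, hjsub, hjsup⟩ := hl
  refine ⟨j, hj, fun x hx => ?_⟩
  have hline : ∀ y, inP r y = true → y < 4096 → lineMem r (A.f a) (A.f b) y = lineMem r p p' y := fun y hy hy4 => by
    obtain ⟨o1, s1⟩ := hpx y (hvec y hy4 hy)
    obtain ⟨o2, s2⟩ := hpx' y (hvec y hy4 hy)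
    unfold lineMem
    rw [o1, o2, s1, s2]
  have inP_of_line : ∀ {c d y}, lineMem r c d y = true → inP r y = true := fun {c d y} h => by
    simp only [lineMem, Bool.and_eq_true] at h
    exact h.1.1
  constructor
  · intro h
    have h1 := hjsub _ h
    rw [← hline _ (inP_of_line h1) (A.lt x hx), A.map_lineMem M h15 ha4 hb4 hx] at h1
    rcases hsup x (hvec x hx (inP_of_line h1)) with e | e
    · rw [h1] at e; exact Bool.noConfusion e
    · exact e
  · intro h
    have h1 := hsub x h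
    rw [← A.map_lineMem M h15 ha4 hb4 hx] at h1
    rw [hline _ (inP_of_line h1) (A.lt x hx)] at h1
    rcases hjsup _ (hvec _ (A.lt x hx) (inP_of_line h1)) with e | e
    · rw [h1] at e; exact Bool.noConfusion e
    · exact e

/-- Fixing every line, only the identity and the transvection remain. -/
theorem kernel (hr : r < 3) (h15 : A.f 15 = 15)
    (hline : ∀ i < 27, ∀ x < 4096, A.f x ∈ lineOf r i ↔ x ∈ lineOf r i) :
    (∀ x < 4096, A.f x = x) ∨ ∀ x < 4096, A.f x = tr 15 x := by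
  have hp' := (Bool.and_eq_true_iff.1 (List.all_eq_true.1 pts_ok r (List.mem_range.2 hr))).1
  obtain ⟨hlen, hpin⟩ := Bool.and_eq_true_iff.1 hp'
  have hpt : ∀ x ∈ ptsOf r, x < 4096 := fun x hx => by
    have := List.all_eq_true.1 hpin x hx
    simp at this; exact this.1
  have hfix : ∀ p ∈ ptsOf r, samePt p (A.f p) = true := by
    intro p hp
    have h := List.all_eq_true.1 (List.all_eq_true.1 point_meet r (List.mem_range.2 hr)) p hp
    simp only [List.any_eq_true, List.mem_range, Bool.and_eq_true, List.contains_iff_mem, List.all_eq_true,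
      Bool.or_eq_true, Bool.not_eq_true', List.contains_eq_mem, decide_eq_false_iff_not] at h
    obtain ⟨i, hi, hpi, j, hj, hpj, h⟩ := h
    refine (h (A.f p) ((hline i hi p (hpt p hp)).2 ?_)).resolve_left ?_
    · simpa using hpi
    · intro e; exact e ((hline j hj p (hpt p hp)).2 (by simpa using hpj))
  -- powers on the basis of the span
  obtain ⟨s, hs, hn⟩ := A.twist
  have hbp : ∀ w ∈ [240, 960, 3840, 112], w < 4096 ∧ ∃ a < 3, A.f w = npow a w := by
    intro w hw
    have hw4 : w < 4096 := by revert w; decide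
    have hwP : ∀ r < 3, ∀ w ∈ [240, 960, 3840, 112], (ptsOf r).any (fun p => samePt p w) = true := by
      decide +kernel
    obtain ⟨p, hp, hpw⟩ := List.any_eq_true.1 (hwP r hr w hw)
    refine ⟨hw4, ?_⟩
    have h1 : samePt (A.f p) (A.f w) = true := (A.map_samePt (hpt p hp) hw4).trans hpw
    have h2 := hfix p hp
    have h3 : samePt w (A.f w) = true :=
      samePt_trans hw4 (samePt_symm (hpt p hp) hpw) (samePt_trans (hpt p hp) h2 h1)
    rcases samePt_iff.1 h3 with e | e | e
    exacts [⟨0, by norm_num, e.symm⟩, ⟨1, by norm_num, e.symm⟩, ⟨2, by norm_num, e.symm⟩]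
  obtain ⟨w0, a, ha, ea⟩ := hbp 240 (by simp)
  obtain ⟨w1, b, hb, eb⟩ := hbp 960 (by simp)
  obtain ⟨w2, c, hc, ec⟩ := hbp 3840 (by simp)
  obtain ⟨w3, d, hd, ed⟩ := hbp 112 (by simp)
  have himg : bas10.map A.f = img10 s [a, b, c, d] := by
    show [A.f 15, A.f 5, A.f 240, A.f 80, A.f 960, A.f 320, A.f 3840, A.f 1280, A.f 112, A.f 144] =
      [15, npow s 15, npow a 240, npow s (npow a 240), npow b 960, npow s (npow b 960),
        npow c 3840, npow s (npow c 3840), npow d 112, npow s (npow d 112)]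
    rw [show A.f 5 = A.f (nmul 15) from rfl, show A.f 80 = A.f (nmul 240) from rfl,
      show A.f 320 = A.f (nmul 960) from rfl, show A.f 1280 = A.f (nmul 3840) from rfl,
      show A.f 144 = A.f (nmul 112) from rfl, hn 15 (by norm_num), hn 240 w0, hn 960 w1, hn 3840 w2,
      hn 112 w3, h15, ea, eb, ec, ed]
  have hf0 : A.f 0 = 0 := by
    have := A.add 0 (by norm_num) 0 (by norm_num)
    rwa [Nat.xor_self, Nat.xor_self] at this
  have hcomb : ∀ (l : List ℕ), (∀ x ∈ l, x < 4096) → ∀ m, comb l m < 4096 ∧ A.f (comb l m) = comb (l.map A.f) m := by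
    intro l
    induction l with
    | nil => intro _ m; exact ⟨by show (0 : ℕ) < 4096; norm_num, hf0⟩
    | cons x l ih =>
      intro hl m
      obtain ⟨h1, h2⟩ := ih (fun y hy => hl y (List.mem_cons_of_mem _ hy)) (m / 2)
      have hx4 := hl x List.mem_cons_self
      have hc : (if Nat.beq (m % 2) 1 then x else 0) < 4096 := by split_ifs; exacts [hx4, by norm_num]
      refine ⟨xor_lt_pow hc h1, ?_⟩
      show A.f (_ ^^^ _) = _ ^^^ comb (l.map A.f) (m / 2)
      rw [A.add _ hc _ h1, h2]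
      split_ifs
      · rfl
      · rw [hf0]
  have hsv := List.all_eq_true.1 (List.all_eq_true.1 (List.all_eq_true.1 (List.all_eq_true.1 (List.all_eq_true.1
    (List.all_eq_true.1 survivors r (List.mem_range.2 hr)) s (by rcases hs with rfl | rfl <;> simp))
    a (List.mem_range.2 ha)) b (List.mem_range.2 hb)) c (List.mem_range.2 hc)) d (List.mem_range.2 hd)
  have hall : ((List.range 45).all fun p => samePt ((ptsOf r).getD p 0)
      (comb (img10 s [a, b, c, d]) ((coordData.getD r []).getD p 0))) = true := by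
    refine List.all_eq_true.2 fun p hp => ?_
    have hco := Nat.eq_of_beq_eq_true (List.all_eq_true.1 (List.all_eq_true.1 coord_ok r (List.mem_range.2 hr)) p hp)
    rw [← himg, ← (hcomb bas10 (by decide) _).2, hco]
    refine hfix _ ?_
    rw [List.getD_eq_getElem _ _ (by rw [beq_iff_eq.1 hlen]; exact List.mem_range.1 hp)]
    exact List.getElem_mem _
  rw [hall] at hsv
  simp only [Bool.not_true, Bool.false_or, Bool.and_eq_true, beq_iff_eq] at hsv
  obtain ⟨⟨⟨⟨rfl, rfl⟩, rfl⟩, rfl⟩, rfl⟩ := hsv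
  have hid : ∀ x ∈ bas10, A.f x = x := by
    intro x hx
    have h10 : img10 1 [0, 0, 0, 0] = bas10 := by decide
    rw [h10] at himg
    have := List.map_inj_left.1 (himg.trans (List.map_id bas10).symm) x hx
    exact this
  obtain ⟨ho, h3, h1, htr⟩ := outside_images
  have hu := List.all_eq_true.1 ho (A.f 3) (List.mem_range.2 (A.lt 3 (by norm_num)))
  have hcond : (Nat.beq (qn (A.f 3)) 1 && bas10.all fun x => Nat.beq (bn (A.f 3) x) (bn 3 x)) = true := by
    simp only [Bool.and_eq_true, List.all_eq_true, Nat.beq_eq]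
    refine ⟨(A.qn_f 3 (by norm_num)).trans (by decide), fun x hx => ?_⟩
    have hx4 : x < 4096 := (show ∀ x ∈ bas10, x < 4096 by decide) x hx
    conv_lhs => rw [← hid x hx]
    exact A.map_bn (by norm_num) hx4
  rw [hcond] at hu
  simp only [Bool.not_true, Bool.false_or, Bool.or_eq_true, beq_iff_eq] at hu
  have hone : A.f 1 = nmul (A.f 3) := hn 3 (by norm_num)
  have hb12 : bas12 = bas10 ++ [3, 1] := rfl
  rcases hu with h | h
  · refine Or.inl (ext_bits A.lt A.add (g := id) (fun _ _ _ _ => rfl) (fun _ hx => hx) fun x hx => ?_)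
    rw [hb12, List.mem_append] at hx
    rcases hx with hx | hx
    · exact hid x hx
    · simp only [List.mem_cons, List.not_mem_nil, or_false] at hx
      rcases hx with rfl | rfl
      · exact h
      · rw [hone, h]; rfl
  · refine Or.inr (ext_bits A.lt A.add (g := tr 15) (fun x hx y hy => M.tr_add (by norm_num) hx hy)
      (fun x hx => (M.e_tr (by norm_num) hx).1) fun x hx => ?_)
    rw [hb12, List.mem_append] at hx
    rcases hx with hx | hx
    · rw [hid x hx]
      exact (Nat.eq_of_beq_eq_true (List.all_eq_true.1 htr x hx)).symm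
    · simp only [List.mem_cons, List.not_mem_nil, or_false] at hx
      rcases hx with rfl | rfl
      · rw [h, h3]
      · rw [hone, h, h1]

end Auto

end Cfsg.Agent.LargeFischer
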