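/-
Permutations of the 27 singular vectors keeping the polar form are isometries.

* `W6`, `q27`, `exists_isometry`, `eq_of_agree`
-/
import Cfsg.Agent.Lib.LargeFischer.ModelFacts
import Cfsg.Agent.Lib.Forms.Count
import Cfsg.Agent.Lib.Forms.BinaryType

set_option autoImplicit false
set_option maxRecDepth 100000

namespace Cfsg.Agent.LargeFischer

/-- The orthogonal space of dimension six. -/
abbrev W6 := (Fin 2 ⊕ Fin 2) ⊕ Fin 2 → ZMod 2

/-- Its form. -/
noncomputable def qW : QuadraticForm (ZMod 2) W6 := Forms.qfMinus 2 (ZMod 2) 1 1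

/-- The position of a coordinate. -/
def pos6 : (Fin 2 ⊕ Fin 2) ⊕ Fin 2 → ℕ
  | .inl (.inl i) => i.val
  | .inl (.inr i) => 2 + i.val
  | .inr i => 4 + i.val

/-- The vector of a number. -/
def e6 (x : ℕ) : W6 := fun i => ((Nat.land (Nat.shiftRight x (pos6 i)) 1 : ℕ) : ZMod 2)

theorem e6_facts :
    (∀ x : Fin 64, quadFormMinus 2 (ZMod 2) 1 1 (e6 x.val) = (q6 x.val : ZMod 2)) ∧
    (∀ x y : Fin 64, e6 (x.val ^^^ y.val) = e6 x.val + e6 y.val) ∧
    (∀ x y : Fin 64, e6 x.val = e6 y.val → x = y) := by decide +kernel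

theorem expand6 : ∀ x : Fin 64,
    e6 x.val = ∑ j : Fin 6, ((b6 x.val (dualData.getD j.val 0) : ℕ) : ZMod 2) •
      e6 (vecData.getD (basisData.getD j.val 0) 0) := by decide +kernel

theorem b6_nondeg : ∀ x : Fin 64, x.val ≠ 0 → ∃ y : Fin 64, b6 x.val y.val = 1 := by decide +kernel

theorem e6_surj (v : W6) : ∃ x : Fin 64, e6 x.val = v := by
  have h : Function.Bijective (fun x : Fin 64 => e6 x.val) :=
    (Fintype.bijective_iff_injective_and_card _).2 ⟨fun x y h => e6_facts.2.2 x y h, by simp⟩
  exact h.2 v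

theorem qW_e6 (x : Fin 64) : qW (e6 x.val) = (q6 x.val : ZMod 2) :=
  (Forms.qfMinus_apply 2 1 1 _).trans (e6_facts.1 x)

theorem polar_e6 (x y : Fin 64) : QuadraticMap.polar qW (e6 x.val) (e6 y.val) = (b6 x.val y.val : ZMod 2) := by
  have hlt : x.val ^^^ y.val < 64 := Nat.xor_lt_two_pow (n := 6) x.isLt y.isLt
  unfold QuadraticMap.polar
  rw [← e6_facts.2.1, qW_e6 ⟨_, hlt⟩, qW_e6, qW_e6]
  show _ = ((Nat.land (q6 (x.val ^^^ y.val) + (q6 x.val + q6 y.val)) 1 : ℕ) : ZMod 2)
  rw [show Nat.land (q6 (x.val ^^^ y.val) + (q6 x.val + q6 y.val)) 1 = (q6 (x.val ^^^ y.val) + (q6 x.val + q6 y.val)) % 2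
    from Nat.and_one_is_mod _, ZMod.natCast_mod, Nat.cast_add, Nat.cast_add, sub_eq_add_neg, sub_eq_add_neg,
    ZModModule.neg_eq_self, ZModModule.neg_eq_self]
  abel

/-- The 27 singular vectors. -/
def v27 (i : Fin 27) : Fin 64 :=
  ⟨vecData.getD i.val 0, by
    have h := List.all_eq_true.1 vec_ok.1 i.val (List.mem_range.2 i.isLt)
    simp only [Bool.and_eq_true, decide_eq_true_eq] at h
    exact h.1.1.1⟩

/-- Vectors in the space. -/
def V27 (i : Fin 27) : W6 := e6 (v27 i).val

theorem v27_injective : Function.Injective v27 := by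
  intro i j h
  by_contra hne
  have key : ∀ i j : Fin 27, j.val < i.val → v27 i = v27 j → False := by
    intro i j hlt h
    have h1 := List.all_eq_true.1 vec_ok.1 i.val (List.mem_range.2 i.isLt)
    simp only [Bool.and_eq_true, List.all_eq_true, List.mem_range, Bool.not_eq_true'] at h1
    have := h1.2 j.val hlt
    rw [show vecData.getD i.val 0 = vecData.getD j.val 0 from congrArg Fin.val h] at this
    rw [show Nat.beq (vecData.getD j.val 0) (vecData.getD j.val 0) = true by rw [Nat.beq_eq]] at this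
    exact Bool.noConfusion this
  rcases lt_or_gt_of_ne (fun e => hne (Fin.ext e)) with h' | h'
  · exact key j i h' h.symm
  · exact key i j h' h

theorem V27_injective : Function.Injective V27 := fun _ _ h => v27_injective (e6_facts.2.2 _ _ h)

/-- The basis indices. -/
def bIdx (j : Fin 6) : Fin 27 :=
  ⟨basisData.getD j.val 0, by
    have h := List.all_eq_true.1 vec_ok.2.2 j.val (List.mem_range.2 j.isLt)
    simp only [Bool.and_eq_true, decide_eq_true_eq] at h
    exact h.1.1⟩

/-- The coordinate functionals. -/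
noncomputable def coord (j : Fin 6) (x : W6) : ZMod 2 := QuadraticMap.polar qW x (e6 (dualData.getD j.val 0))

theorem expand (x : W6) : x = ∑ j, coord j x • V27 (bIdx j) := by
  obtain ⟨y, rfl⟩ := e6_surj x
  conv_lhs => rw [expand6 y]
  refine Finset.sum_congr rfl fun j _ => ?_
  have h := List.all_eq_true.1 vec_ok.2.2 j.val (List.mem_range.2 j.isLt)
  simp only [Bool.and_eq_true, decide_eq_true_eq] at h
  rw [coord, polar_e6 y ⟨_, h.1.2⟩]
  rfl

/-- Linear maps agreeing on the 27 vectors are equal. -/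
theorem eq_of_agree (g g' : W6 ≃ₗ[ZMod 2] W6) (h : ∀ i, g (V27 i) = g' (V27 i)) : g = g' :=
  LinearEquiv.ext fun x => by
    rw [expand x, map_sum, map_sum]
    exact Finset.sum_congr rfl fun j _ => by rw [map_smul, map_smul, h]

theorem qW_nondeg (x : W6) (h : ∀ y, QuadraticMap.polar qW x y = 0) : x = 0 := by
  obtain ⟨a, rfl⟩ := e6_surj x
  by_cases ha : a.val = 0
  · rw [ha]; funext i; simp [e6]
  · obtain ⟨b, hb⟩ := b6_nondeg a ha
    have := h (e6 b.val)
    rw [polar_e6, hb] at this
    exact absurd this (by decide)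

/-- A permutation keeping the polar form is induced by an isometry. -/
theorem exists_isometry (π : Equiv.Perm (Fin 27))
    (h : ∀ i j, b6 (v27 (π i)).val (v27 (π j)).val = b6 (v27 i).val (v27 j).val) :
    ∃ g ∈ Forms.preservingFun (F := ZMod 2) (⇑qW), ∀ i, g (V27 i) = V27 (π i) := by
  classical
  have hadd : ∀ j x y, coord j (x + y) = coord j x + coord j y := fun j x y => QuadraticMap.polar_add_left qW x y _
  let g₀ : W6 →ₗ[ZMod 2] W6 :=
    { toFun := fun x => ∑ j, coord j x • V27 (π (bIdx j))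
      map_add' := fun x y => by simp only [hadd, add_smul, Finset.sum_add_distrib]
      map_smul' := fun c x => by
        simp only [coord, QuadraticMap.polar_smul_left, RingHom.id_apply, Finset.smul_sum, smul_smul, smul_eq_mul] }
  let B := QuadraticMap.polarBilin qW
  have hB : ∀ i j, B (V27 (π i)) (V27 (π j)) = B (V27 i) (V27 j) := fun i j => by
    show QuadraticMap.polar qW (V27 (π i)) (V27 (π j)) = QuadraticMap.polar qW (V27 i) (V27 j)
    rw [V27, V27, V27, V27, polar_e6, polar_e6, h]
  have hg : ∀ x i, B (g₀ x) (V27 (π i)) = B x (V27 i) := fun x i => by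
    conv_rhs => rw [expand x]
    show B (∑ j, coord j x • V27 (π (bIdx j))) _ = _
    simp only [map_sum, map_smul, LinearMap.sum_apply, LinearMap.smul_apply, hB]
  have hgg : ∀ x y, B (g₀ x) (g₀ y) = B x y := fun x y => by
    conv_rhs => rw [expand y]
    show B (g₀ x) (∑ j, coord j y • V27 (π (bIdx j))) = _
    simp only [map_sum, map_smul, hg]
  have hinj : Function.Injective g₀ := by
    rw [injective_iff_map_eq_zero]
    intro x hx
    refine qW_nondeg x fun y => ?_
    have := hgg x y
    rw [hx, map_zero, LinearMap.zero_apply] at this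
    exact this.symm
  let g := LinearEquiv.ofBijective g₀ ⟨hinj, LinearMap.surjective_of_injective hinj⟩
  have hgi : ∀ i, g (V27 i) = V27 (π i) := fun i => by
    refine sub_eq_zero.1 (qW_nondeg _ fun y => ?_)
    obtain ⟨x, rfl⟩ := g.surjective y
    show B (g₀ (V27 i) - V27 (π i)) (g₀ x) = 0
    rw [map_sub, LinearMap.sub_apply, hgg]
    have e : B (V27 (π i)) (g₀ x) = B (V27 i) x := by
      show QuadraticMap.polar qW _ _ = QuadraticMap.polar qW _ _
      rw [QuadraticMap.polar_comm _ (V27 (π i)), QuadraticMap.polar_comm _ (V27 i)]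
      exact hg x i
    rw [e, sub_self]
  refine ⟨g, fun x => ?_, hgi⟩
  have hsing : ∀ i, qW (V27 i) = 0 ∧ V27 i ≠ 0 := fun i => by
    have h1 := List.all_eq_true.1 vec_ok.1 i.val (List.mem_range.2 i.isLt)
    simp only [Bool.and_eq_true, Nat.beq_eq, Bool.not_eq_true'] at h1
    refine ⟨by rw [V27, qW_e6]; show ((q6 (vecData.getD i.val 0) : ℕ) : ZMod 2) = 0; rw [h1.1.1.2, Nat.cast_zero],
      fun e => ?_⟩
    have := e6_facts.2.2 (v27 i) 0 (e.trans (by funext j; simp [e6]))
    rw [show vecData.getD i.val 0 = 0 from congrArg Fin.val this] at h1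
    exact absurd h1.1.2 (by decide)
  have hcover : ∀ y, qW y = 0 → y = 0 ∨ ∃ i, V27 i = y := by
    intro y hy
    obtain ⟨a, rfl⟩ := e6_surj y
    rw [qW_e6] at hy
    have hq : q6 a.val = 0 := by
      have hlt : q6 a.val < 2 := Nat.lt_succ_of_le Nat.and_le_right
      generalize q6 a.val = c at *
      interval_cases c
      · rfl
      · exact absurd hy (by decide)
    have h1 := List.all_eq_true.1 vec_ok.2.1 a.val (List.mem_range.2 a.isLt)
    simp only [Bool.or_eq_true, Bool.not_eq_true', List.contains_iff_mem] at h1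
    rcases h1 with (h1 | h1) | h1
    · rw [hq] at h1; exact absurd h1 (by decide)
    · left; rw [Nat.eq_of_beq_eq_true h1]; funext j; simp [e6]
    · right
      obtain ⟨k, hk, e⟩ := List.mem_iff_getElem.1 h1
      have hk27 : k < 27 := lt_of_lt_of_le hk (by decide)
      exact ⟨⟨k, hk27⟩, congrArg e6 ((List.getD_eq_getElem _ _ hk).trans e)⟩
  have hzero : ∀ y, qW (g y) = 0 ↔ qW y = 0 := by
    intro y
    constructor
    · intro hy
      rcases hcover _ hy with e | ⟨i, e⟩
      · rw [g.injective (e.trans (map_zero g).symm), QuadraticMap.map_zero]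
      · obtain ⟨j, rfl⟩ := π.surjective i
        rw [← g.injective ((hgi j).trans e)]
        exact (hsing j).1
    · intro hy
      rcases hcover _ hy with e | ⟨i, e⟩
      · rw [e, map_zero, QuadraticMap.map_zero]
      · rw [← e, hgi]; exact (hsing _).1
  have two : ∀ a b : ZMod 2, (a = 0 ↔ b = 0) → a = b := by decide
  exact two _ _ (hzero x)

theorem card_O6 : Nat.card (Forms.preservingFun (F := ZMod 2) (⇑qW)) = 51840 := by
  rw [qW, Forms.card_preservingFun_qfMinus Forms.aniso_one_one, Nat.card_zmod]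
  decide

end Cfsg.Agent.LargeFischer
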