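/-
In the alternating group of degree six an element of order three commutes with no involution.

* `no_commuting`
-/
import Mathlib

set_option autoImplicit false
set_option maxRecDepth 100000

namespace Cfsg.Agent.LargeFischer

theorem no_commuting_perm : ∀ a : Equiv.Perm (Fin 6), a * a = 1 → Equiv.Perm.sign a = 1 → a ≠ 1 →
    ∀ p : Equiv.Perm (Fin 6), p * p * p = 1 → a * p = p * a → p = 1 := by
  decide +kernel

theorem no_commuting {a p : alternatingGroup (Fin 6)} (ha : a * a = 1) (hp : p * p * p = 1) (h : a * p = p * a) :
    a = 1 ∨ p = 1 := by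
  by_cases ha1 : a = 1
  · exact Or.inl ha1
  · exact Or.inr (Subtype.ext (no_commuting_perm a.1 (congrArg Subtype.val ha)
      (Equiv.Perm.mem_alternatingGroup.1 a.2) (fun e => ha1 (Subtype.ext e)) p.1 (congrArg Subtype.val hp)
      (congrArg Subtype.val h)))

end Cfsg.Agent.LargeFischer
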