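/-
No transvection lies in the group, and the stabiliser in the small orbit is O₆⁻(2).

* `stab_hom`, `exists_auto`, `not_tr`, `exists_iso`
-/
import Cfsg.Agent.Lib.LargeFischer.Auto
import Cfsg.Agent.Lib.LargeFischer.Graph
import Cfsg.Agent.Lib.LargeFischer.SixCentral

set_option autoImplicit false
set_option maxRecDepth 100000

namespace Cfsg.Agent.LargeFischer

variable {V : Type*} [AddCommGroup V] [Module (ZMod 2) V] [Finite V] {q : QuadraticForm (ZMod 2) V}
  {Γ : Subgroup (V ≃ₗ[ZMod 2] V)} {n : V ≃ₗ[ZMod 2] V}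

/-- The map of numbers induced by a linear map. -/
noncomputable def numMap (M : Model q n) (g : V ≃ₗ[ZMod 2] V) (x : ℕ) : ℕ := (M.surj (g (M.e x))).choose

theorem numMap_spec (M : Model q n) (g : V ≃ₗ[ZMod 2] V) (x : ℕ) :
    numMap M g x < 4096 ∧ M.e (numMap M g x) = g (M.e x) := (M.surj (g (M.e x))).choose_spec

theorem e_npow (M : Model q n) {x : ℕ} (hx : x < 4096) : ∀ s, M.e (npow s x) = (n ^ s) (M.e x)
  | 0 => rfl
  | s + 1 => by
    rw [pow_succ', npow, ← M.n_e _ (npow_lt hx s), e_npow M hx s]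
    rfl

/-- An action of the stabiliser on the 27 lines, with kernel among identity and transvection. -/
theorem stab_hom (M : Model q n) {r : Fin 3}
    (hauto : ∀ x : MulAction.stabilizer Γ (M.e 15), ∃ A : Auto r.val, A.f 15 = 15 ∧ ∀ y, A.f y = numMap M x.1.1 y) :
    ∃ Φ : MulAction.stabilizer Γ (M.e 15) →* Forms.preservingFun (F := ZMod 2) (⇑qW),
      ∀ x, Φ x = 1 → x = 1 ∨ ∀ y < 4096, x.1.1 (M.e y) = M.e (tr 15 y) := by
  classical
  choose A hA15 hA using hauto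
  have hlines := fun x : MulAction.stabilizer Γ (M.e 15) => (A x).lines M r.isLt (hA15 x)
  -- the permutation of the lines
  let L : Fin 27 → Finset ℕ := fun i => (lineOf r.val i.val).toFinset
  have hL4 : ∀ i : Fin 27, ∀ y ∈ lineOf r.val i.val, y < 4096 := by
    intro i y hy
    have h := List.all_eq_true.1 (List.all_eq_true.1 line_small r.val (List.mem_range.2 r.isLt)) i.val (List.mem_range.2 i.isLt)
    simp only [Bool.and_eq_true, List.all_eq_true, decide_eq_true_eq] at h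
    exact h.1 y hy
  have hdist : ∀ i j : Fin 27, (∀ y < 4096, y ∈ lineOf r.val i.val ↔ y ∈ lineOf r.val j.val) → i = j := by
    intro i j h
    by_contra hne
    have h1 := List.all_eq_true.1 (List.all_eq_true.1 line_small r.val (List.mem_range.2 r.isLt)) i.val (List.mem_range.2 i.isLt)
    simp only [Bool.and_eq_true, List.all_eq_true, List.mem_range, Bool.or_eq_true, beq_iff_eq, List.any_eq_true,
      Bool.not_eq_true', List.contains_eq_mem, decide_eq_false_iff_not] at h1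
    rcases h1.2 j.val j.isLt with e | ⟨y, hy, hy'⟩
    · exact hne (Fin.ext e)
    · exact hy' ((h y (hL4 i y hy)).1 hy)
  have hex : ∀ (x : MulAction.stabilizer Γ (M.e 15)) (i : Fin 27), ∃ j : Fin 27,
      ∀ y < 4096, (A x).f y ∈ lineOf r.val j.val ↔ y ∈ lineOf r.val i.val := fun x i => by
    obtain ⟨j, hj, h⟩ := hlines x i.val i.isLt
    exact ⟨⟨j, hj⟩, h⟩
  choose π₀ hπ₀ using hex
  have hπinj : ∀ x, Function.Injective (π₀ x) := fun x i k e => hdist i k fun y hy => by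
    rw [← hπ₀ x i y hy, e, hπ₀ x k y hy]
  let π : MulAction.stabilizer Γ (M.e 15) → Equiv.Perm (Fin 27) := fun x =>
    Equiv.ofBijective (π₀ x) (Finite.injective_iff_bijective.1 (hπinj x))
  have hsurjf : ∀ x, ∀ y < 4096, ∃ z < 4096, (A x).f z = y := by
    intro x y hy
    obtain ⟨z, hz, he⟩ := M.surj (x.1.1.symm (M.e y))
    refine ⟨z, hz, ?_⟩
    rw [hA]
    exact M.inj _ (numMap_spec M _ z).1 y hy ((numMap_spec M _ z).2.trans (by rw [he, LinearEquiv.apply_symm_apply]))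
  have hb6 : ∀ x i j, b6 (v27 (π x i)).val (v27 (π x j)).val = b6 (v27 i).val (v27 j).val := by
    intro x i j
    have h : ∀ a b : Fin 27, b6 (v27 a).val (v27 b).val =
        if a = b ∨ ∃ y ∈ lineOf r.val a.val, y ∈ lineOf r.val b.val then 0 else 1 := by
      intro a b
      have h := List.all_eq_true.1 (List.all_eq_true.1 (List.all_eq_true.1 vec_meet r.val (List.mem_range.2 r.isLt))
        a.val (List.mem_range.2 a.isLt)) b.val (List.mem_range.2 b.isLt)
      rw [Nat.beq_eq] at h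
      refine h.trans (if_congr ?_ rfl rfl)
      simp [List.any_eq_true, Fin.ext_iff]
    rw [h, h]
    refine if_congr (or_congr (π x).injective.eq_iff ?_) rfl rfl
    constructor
    · rintro ⟨y, hy, hy'⟩
      obtain ⟨z, hz, rfl⟩ := hsurjf x y (hL4 _ y hy)
      exact ⟨z, (hπ₀ x i z hz).1 hy, (hπ₀ x j z hz).1 hy'⟩
    · rintro ⟨z, hz, hz'⟩
      exact ⟨_, (hπ₀ x i z (hL4 i z hz)).2 hz, (hπ₀ x j z (hL4 i z hz)).2 hz'⟩
  choose g hgq hgV using fun x => exists_isometry (π x) (hb6 x)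
  have hπmul : ∀ x y i, π (x * y) i = π x (π y i) := by
    intro x y i
    refine hdist _ _ fun w hw => ?_
    obtain ⟨z, hz, rfl⟩ := hsurjf (x * y) w hw
    have e : (A (x * y)).f z = (A x).f ((A y).f z) := by
      rw [hA, hA, hA]
      refine M.inj _ (numMap_spec M _ _).1 _ (numMap_spec M _ _).1 ?_
      rw [(numMap_spec M _ _).2, (numMap_spec M _ _).2, (numMap_spec M _ _).2]
      rfl
    have hy4 : (A y).f z < 4096 := (A y).lt z hz
    show (A (x * y)).f z ∈ lineOf r.val (π₀ (x * y) i).val ↔ (A (x * y)).f z ∈ lineOf r.val (π₀ x (π₀ y i)).val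
    rw [hπ₀ (x * y) i z hz, e, hπ₀ x (π₀ y i) _ hy4, hπ₀ y i z hz]
  let Φ : MulAction.stabilizer Γ (M.e 15) →* Forms.preservingFun (F := ZMod 2) (⇑qW) :=
    MonoidHom.mk' (fun x => ⟨g x, hgq x⟩) fun x y => Subtype.ext (eq_of_agree _ _ fun i => by
      show g (x * y) (V27 i) = g x (g y (V27 i))
      rw [hgV, hgV, hgV, hπmul])
  refine ⟨Φ, fun x hx => ?_⟩
  have hπ1 : ∀ i, π x i = i := fun i => by
    apply V27_injective
    rw [← hgV, show g x = 1 from congrArg Subtype.val hx]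
    rfl
  rcases (A x).kernel M r.isLt (hA15 x) (fun i hi y hy => by
    have := hπ₀ x ⟨i, hi⟩ y hy
    rwa [show π₀ x ⟨i, hi⟩ = ⟨i, hi⟩ from hπ1 ⟨i, hi⟩] at this) with h | h
  · refine Or.inl (Subtype.ext (Subtype.ext (LinearEquiv.ext fun v => ?_)))
    obtain ⟨y, hy, rfl⟩ := M.surj v
    rw [← (numMap_spec M _ y).2, ← hA, h y hy]
    rfl
  · exact Or.inr fun y hy => by rw [← (numMap_spec M _ y).2, ← hA, h y hy]

namespace Frame

variable (F : Frame q Γ n)
include F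

theorem small_invariant {r : Fin 3}
    (hrel : ∀ a b : Code, (cls a).isSome = true → (cls b).isSome = true →
      (F.Rel a b ↔ side r (cls a) = side r (cls b)))
    (hΓ : ∀ γ ∈ Γ, ∀ v, q (γ v) = q v) {γ : V ≃ₗ[ZMod 2] V} (hγ : γ ∈ Γ) {x : ℕ} (hx : x < 4096) :
    inSmall r.val (numMap F.toModel γ x) = inSmall r.val x := by
  obtain ⟨hy, he⟩ := numMap_spec F.toModel γ x
  rw [← inSmall_side ⟨_, hy⟩ r, ← inSmall_side ⟨x, hx⟩ r]
  set a := digits ⟨x, hx⟩
  set b := digits ⟨_, hy⟩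
  have e : γ (F.psi a) = F.psi b := by
    rw [← F.toModel_e ⟨x, hx⟩, ← F.toModel_e ⟨_, hy⟩]; exact he.symm
  have hiff : (cls b).isSome = true ↔ (cls a).isSome = true := by
    rw [← F.singular_iff, ← F.singular_iff, ← e, hΓ γ hγ, ne_eq, map_eq_zero_iff _ γ.injective]
  by_cases ha : (cls a).isSome = true
  · exact ((hrel a b ha (hiff.2 ha)).1 ⟨γ, hγ, e⟩).symm
  · have hb : ¬ (cls b).isSome = true := fun h => ha (hiff.1 h)
    rw [Bool.not_eq_true, Option.isSome_eq_false_iff, Option.isNone_iff_eq_none] at ha hb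
    rw [ha, hb]

theorem exists_auto {r : Fin 3}
    (hrel : ∀ a b : Code, (cls a).isSome = true → (cls b).isSome = true →
      (F.Rel a b ↔ side r (cls a) = side r (cls b)))
    (hΓ : ∀ γ ∈ Γ, ∀ v, q (γ v) = q v) (hn : n ^ 3 = 1)
    (hnorm : ∀ γ ∈ Γ, γ * n * γ⁻¹ ∈ Subgroup.zpowers n) {γ : V ≃ₗ[ZMod 2] V} (hγ : γ ∈ Γ) :
    ∃ A : Auto r.val, ∀ x, A.f x = numMap F.toModel γ x := by
  set M := F.toModel
  obtain ⟨k, hk⟩ := Subgroup.mem_zpowers_iff.1 (hnorm γ hγ)
  have hs : ∃ s : ℕ, s < 3 ∧ γ * n * γ⁻¹ = n ^ s := by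
    refine ⟨(k % 3).toNat, by omega, ?_⟩
    rw [← hk, ← zpow_natCast n ((k % 3).toNat), Int.toNat_of_nonneg (by omega)]
    exact zpow_eq_zpow_emod k hn
  obtain ⟨s, hs3, hs⟩ := hs
  have hs0 : s ≠ 0 := by
    intro e
    rw [e, pow_zero, conj_eq_one_iff] at hs
    have h15 : M.e 15 ≠ M.e 0 := fun h => by
      have := M.inj 15 (by norm_num) 0 (by norm_num) h
      norm_num at this
    apply h15
    rw [M.zero]
    exact F.n_fix _ (LinearEquiv.congr_fun hs (M.e 15))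
  have hγn : ∀ v, γ (n v) = (n ^ s) (γ v) := fun v => by
    rw [← hs]
    show γ (n v) = γ (n (γ.symm (γ v)))
    rw [γ.symm_apply_apply]
  refine ⟨{
    f := numMap M γ
    lt := fun x _ => (numMap_spec M γ x).1
    inj := fun x hx y hy h => by
      refine M.inj x hx y hy (γ.injective ?_)
      rw [← (numMap_spec M γ x).2, ← (numMap_spec M γ y).2, h]
    add := fun x hx y hy => by
      obtain ⟨a1, a2⟩ := numMap_spec M γ x
      obtain ⟨b1, b2⟩ := numMap_spec M γ y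
      refine M.inj _ (numMap_spec M γ _).1 _ (xor_lt_pow a1 b1) ?_
      rw [(numMap_spec M γ _).2, M.add x hx y hy, map_add, M.add _ a1 _ b1, a2, b2]
    qn_f := fun x hx => by
      obtain ⟨a1, a2⟩ := numMap_spec M γ x
      refine cast_inj_two (qn_lt _) (qn_lt _) ?_
      rw [← M.q_e _ a1, a2, hΓ γ hγ, M.q_e x hx]
    small := fun x hx => F.small_invariant hrel hΓ hγ hx
    twist := ⟨s, by omega, fun x hx => by
      obtain ⟨a1, a2⟩ := numMap_spec M γ x
      refine M.inj _ (numMap_spec M γ _).1 _ (npow_lt a1 s) ?_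
      rw [(numMap_spec M γ _).2, e_npow M a1 s, a2, ← M.n_e x hx, hγn]⟩ }, fun _ => rfl⟩

/-- A transvection in the group gives too much in the stabiliser of a vector of the large orbit. -/
theorem not_tr {r : Fin 3}
    (hrel : ∀ a b : Code, (cls a).isSome = true → (cls b).isSome = true →
      (F.Rel a b ↔ side r (cls a) = side r (cls b)))
    (hΓ : ∀ γ ∈ Γ, ∀ v, q (γ v) = q v) (hn : n ^ 3 = 1)
    (hnorm : ∀ γ ∈ Γ, γ * n * γ⁻¹ ∈ Subgroup.zpowers n)
    (φ : MulAction.stabilizer Γ (F.toModel.e 255) →* alternatingGroup (Fin 6))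
    (hφ : ∀ x, φ x = 1 → x * x = 1) :
    ¬ ∃ γ ∈ Γ, ∀ x < 4096, γ (F.toModel.e x) = F.toModel.e (tr 15 x) := by
  rintro ⟨γ₀, hγ₀, h0⟩
  have hall : ∀ a < 4096, inSmall r.val a = true → ∃ γ ∈ Γ, ∀ x < 4096, γ (F.toModel.e x) = F.toModel.e (tr a x) := by
    intro a ha hs
    have h15 : inSmall r.val 15 = true := by
      have : ∀ r : Fin 3, inSmall r.val 15 = true := by decide
      exact this r
    have e1 := inSmall_side ⟨15, by norm_num⟩ r
    have e2 := inSmall_side ⟨a, ha⟩ r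
    have hsome : ∀ c : Code, side r (cls c) = true → (cls c).isSome = true := fun c hc => by
      cases h : cls c
      · rw [h] at hc; exact Bool.noConfusion hc
      · rfl
    obtain ⟨γ, hγ, he⟩ := (hrel _ _ (hsome _ (e1.trans h15)) (hsome _ (e2.trans hs))).2
      ((e1.trans h15).trans (e2.trans hs).symm)
    rw [← F.toModel_e, ← F.toModel_e] at he
    obtain ⟨A, hA⟩ := F.exists_auto hrel hΓ hn hnorm hγ
    have hfa : A.f 15 = a := by
      rw [hA]
      exact F.toModel.inj _ (numMap_spec F.toModel γ 15).1 a ha ((numMap_spec F.toModel γ 15).2.trans he)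
    refine ⟨γ * γ₀ * γ⁻¹, mul_mem (mul_mem hγ hγ₀) (inv_mem hγ), fun x hx => ?_⟩
    obtain ⟨y, hy, hye⟩ := F.toModel.surj (γ.symm (F.toModel.e x))
    have hfy : A.f y = x := by
      rw [hA]
      exact F.toModel.inj _ (numMap_spec F.toModel γ y).1 x hx ((numMap_spec F.toModel γ y).2.trans (by rw [hye, γ.apply_symm_apply]))
    show γ (γ₀ (γ.symm (F.toModel.e x))) = _
    rw [← hye, h0 y hy, ← (numMap_spec F.toModel γ _).2, ← hA, A.map_tr F.toModel (by norm_num) hy, hfa, hfy]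
  obtain ⟨hf, hfix, -, hab, hcd⟩ := tr_facts
  have hfix' : ∀ a ∈ [3840, 1792, 15, 60], a < 4096 ∧ tr a 255 = 255 ∧ inSmall r.val a = true := fun a ha => by
    have h := List.all_eq_true.1 hfix a ha
    simp only [Bool.and_eq_true, Nat.beq_eq, List.all_eq_true, List.mem_range] at h
    exact ⟨(show ∀ a ∈ [3840, 1792, 15, 60], a < 4096 by decide) a ha, h.1, h.2 r.val r.isLt⟩
  have hel : ∀ a ∈ [3840, 1792, 15, 60], ∃ t : MulAction.stabilizer Γ (F.toModel.e 255),
      ∀ x < 4096, t.1.1 (F.toModel.e x) = F.toModel.e (tr a x) := fun a ha => by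
    obtain ⟨h1, h2, h3⟩ := hfix' a ha
    obtain ⟨γ, hγ, h⟩ := hall a h1 h3
    refine ⟨⟨⟨γ, hγ⟩, ?_⟩, h⟩
    show γ (F.toModel.e 255) = F.toModel.e 255
    rw [h 255 (by norm_num), h2]
  obtain ⟨A, hA⟩ := hel 3840 (by simp)
  obtain ⟨B, hB⟩ := hel 1792 (by simp)
  obtain ⟨Cc, hC⟩ := hel 15 (by simp)
  obtain ⟨D, hD⟩ := hel 60 (by simp)
  have ext : ∀ s t : MulAction.stabilizer Γ (F.toModel.e 255), (∀ x < 4096, s.1.1 (F.toModel.e x) = t.1.1 (F.toModel.e x)) → s = t :=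
    fun s t h => Subtype.ext (Subtype.ext (LinearEquiv.ext fun v => by
      obtain ⟨x, hx, rfl⟩ := F.toModel.surj v; exact h x hx))
  have hlt : ∀ a ∈ [3840, 1792, 15, 60], ∀ x < 4096, tr a x < 4096 := fun a ha x hx =>
    (F.toModel.e_tr (hfix' a ha).1 hx).1
  have la := hlt 3840 (by simp); have lb := hlt 1792 (by simp); have lc := hlt 15 (by simp); have ld := hlt 60 (by simp)
  have facts : ∀ x < 4096, tr 3840 (tr 3840 x) = x ∧ tr 1792 (tr 1792 x) = x ∧ tr 15 (tr 15 x) = x ∧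
      tr 60 (tr 60 x) = x ∧ tr 3840 (tr 1792 (tr 3840 (tr 1792 (tr 3840 (tr 1792 x))))) = x ∧
      tr 15 (tr 60 (tr 15 (tr 60 (tr 15 (tr 60 x))))) = x ∧
      tr 3840 (tr 15 x) = tr 15 (tr 3840 x) ∧ tr 3840 (tr 60 x) = tr 60 (tr 3840 x) := fun x hx => by
    have := List.all_eq_true.1 hf x (List.mem_range.2 hx)
    simp only [Bool.and_eq_true, Nat.beq_eq] at this
    obtain ⟨⟨⟨⟨⟨⟨⟨h1, h2⟩, h3⟩, h4⟩, h5⟩, h6⟩, h7⟩, h8⟩ := this
    exact ⟨h1, h2, h3, h4, h5, h6, h7, h8⟩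
  have sq : ∀ (T : MulAction.stabilizer Γ (F.toModel.e 255)) (a : ℕ), (∀ x < 4096, tr a x < 4096) →
      (∀ x < 4096, T.1.1 (F.toModel.e x) = F.toModel.e (tr a x)) → (∀ x < 4096, tr a (tr a x) = x) → T * T = 1 := by
    intro T a l h h2
    refine ext _ _ fun x hx => ?_
    show T.1.1 (T.1.1 (F.toModel.e x)) = F.toModel.e x
    rw [h x hx, h _ (l x hx), h2 x hx]
  have A2 := sq A 3840 la hA fun x hx => (facts x hx).1
  have B2 := sq B 1792 lb hB fun x hx => (facts x hx).2.1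
  have C2 := sq Cc 15 lc hC fun x hx => (facts x hx).2.2.1
  have D2 := sq D 60 ld hD fun x hx => (facts x hx).2.2.2.1
  have AB3 : (A * B) * (A * B) * (A * B) = 1 := ext _ _ fun x hx => by
    show A.1.1 (B.1.1 (A.1.1 (B.1.1 (A.1.1 (B.1.1 (F.toModel.e x)))))) = F.toModel.e x
    rw [hB x hx, hA _ (lb x hx), hB _ (la _ (lb x hx)), hA _ (lb _ (la _ (lb x hx))),
      hB _ (la _ (lb _ (la _ (lb x hx)))), hA _ (lb _ (la _ (lb _ (la _ (lb x hx))))), (facts x hx).2.2.2.2.1]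
  have CD3 : (Cc * D) * (Cc * D) * (Cc * D) = 1 := ext _ _ fun x hx => by
    show Cc.1.1 (D.1.1 (Cc.1.1 (D.1.1 (Cc.1.1 (D.1.1 (F.toModel.e x)))))) = F.toModel.e x
    rw [hD x hx, hC _ (ld x hx), hD _ (lc _ (ld x hx)), hC _ (ld _ (lc _ (ld x hx))),
      hD _ (lc _ (ld _ (lc _ (ld x hx)))), hC _ (ld _ (lc _ (ld _ (lc _ (ld x hx))))), (facts x hx).2.2.2.2.2.1]
  have AC : A * Cc = Cc * A := ext _ _ fun x hx => by
    show A.1.1 (Cc.1.1 (F.toModel.e x)) = Cc.1.1 (A.1.1 (F.toModel.e x))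
    rw [hC x hx, hA _ (lc x hx), hA x hx, hC _ (la x hx), (facts x hx).2.2.2.2.2.2.1]
  have AD : A * D = D * A := ext _ _ fun x hx => by
    show A.1.1 (D.1.1 (F.toModel.e x)) = D.1.1 (A.1.1 (F.toModel.e x))
    rw [hD x hx, hA _ (ld x hx), hA x hx, hD _ (la x hx), (facts x hx).2.2.2.2.2.2.2]
  have cube : ∀ (S T : MulAction.stabilizer Γ (F.toModel.e 255)), S * S = 1 → T * T = 1 →
      (S * T) * (S * T) * (S * T) = 1 → φ S = 1 → S = T := by
    intro S T hS hT h3 hφS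
    have e3 := congrArg φ h3
    rw [map_one, map_mul, map_mul, map_mul, hφS, one_mul] at e3
    have e2 := congrArg φ hT
    rw [map_one, map_mul] at e2
    rw [e2, one_mul] at e3
    have h2 := hφ (S * T) (by rw [map_mul, hφS, e3, one_mul])
    rw [h2, one_mul] at h3
    calc S = S * (T * T) := by rw [hT, mul_one]
      _ = T := by rw [← mul_assoc, h3, one_mul]
  have hAB : A ≠ B := fun e => hab (F.toModel.inj _ (la 768 (by norm_num)) _ (lb 768 (by norm_num))
    (by rw [← hA 768 (by norm_num), ← hB 768 (by norm_num), e]))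
  have hCD : Cc ≠ D := fun e => hcd (F.toModel.inj _ (lc 3 (by norm_num)) _ (ld 3 (by norm_num))
    (by rw [← hC 3 (by norm_num), ← hD 3 (by norm_num), e]))
  have p3 : φ (Cc * D) * φ (Cc * D) * φ (Cc * D) = 1 := by rw [← map_mul, ← map_mul, CD3, map_one]
  rcases no_commuting (a := φ A) (p := φ (Cc * D)) (by rw [← map_mul, A2, map_one]) p3
      (by rw [← map_mul, ← map_mul, ← mul_assoc, AC, mul_assoc, AD, mul_assoc]) with h | h
  · exact hAB (cube A B A2 B2 AB3 h)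
  · have h2 := hφ _ h
    rw [h2, one_mul] at CD3
    exact hCD (by
      calc Cc = Cc * (D * D) := by rw [D2, mul_one]
        _ = D := by rw [← mul_assoc, CD3, one_mul])

/-- The stabiliser of a vector of the small orbit. -/
theorem exists_iso {r : Fin 3}
    (hrel : ∀ a b : Code, (cls a).isSome = true → (cls b).isSome = true →
      (F.Rel a b ↔ side r (cls a) = side r (cls b)))
    (hΓ : ∀ γ ∈ Γ, ∀ v, q (γ v) = q v) (hn : n ^ 3 = 1)
    (hnorm : ∀ γ ∈ Γ, γ * n * γ⁻¹ ∈ Subgroup.zpowers n)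
    (hcard : Nat.card (MulAction.stabilizer Γ (F.toModel.e 15)) = 51840)
    (hnotr : ¬ ∃ γ ∈ Γ, ∀ x < 4096, γ (F.toModel.e x) = F.toModel.e (tr 15 x)) :
    Nonempty (MulAction.stabilizer Γ (F.toModel.e 15) ≃* Forms.preservingFun (F := ZMod 2) (⇑qW)) := by
  classical
  set M := F.toModel
  have hauto : ∀ x : MulAction.stabilizer Γ (M.e 15), ∃ A : Auto r.val, A.f 15 = 15 ∧ ∀ y, A.f y = numMap M x.1.1 y := by
    intro x
    obtain ⟨A, hA⟩ := F.exists_auto hrel hΓ hn hnorm x.1.2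
    refine ⟨A, ?_, hA⟩
    rw [hA]
    exact M.inj _ (numMap_spec M _ 15).1 15 (by norm_num) ((numMap_spec M _ 15).2.trans x.2)
  obtain ⟨Φ, hΦ⟩ := stab_hom M hauto
  have hinj : Function.Injective Φ := by
    rw [injective_iff_map_eq_one]
    intro x hx
    rcases hΦ x hx with h | h
    · exact h
    · exact absurd ⟨x.1.1, x.1.2, h⟩ hnotr
  haveI : Finite (Forms.preservingFun (F := ZMod 2) (⇑qW)) := Nat.finite_of_card_ne_zero (by rw [card_O6]; norm_num)
  exact ⟨MulEquiv.ofBijective Φ ((Nat.bijective_iff_injective_and_card Φ).2 ⟨hinj, hcard.trans card_O6.symm⟩)⟩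

end Frame

end Cfsg.Agent.LargeFischer
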