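/-
Coordinates in which the small orbit is the standard one.

* `Coord`, `Frame.exists_coord`
* `autGroup`, `Coord.sq_mem`, `Coord.relIndex_le`
-/
import Cfsg.Agent.Lib.LargeFischer.Root

set_option autoImplicit false
set_option maxRecDepth 100000

namespace Cfsg.Agent.LargeFischer

variable {V : Type*} [AddCommGroup V] [Module (ZMod 2) V] [Finite V] {q : QuadraticForm (ZMod 2) V}
  {Γ : Subgroup (V ≃ₗ[ZMod 2] V)} {n : V ≃ₗ[ZMod 2] V}

/-- Coordinates adapted to the group. -/
structure Coord (q : QuadraticForm (ZMod 2) V) (Γ : Subgroup (V ≃ₗ[ZMod 2] V)) (n : V ≃ₗ[ZMod 2] V) where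
  /-- The coordinates. -/
  M : Model q n
  auto : ∀ γ ∈ Γ, ∃ A : Auto 0, ∀ x < 4096, M.e (A.f x) = γ (M.e x)
  no_tr : ∀ a < 4096, inSmall 0 a = true → ¬ ∃ γ ∈ Γ, ∀ x < 4096, γ (M.e x) = M.e (tr a x)

/-- The shift of the first digit. -/
def sh (t x : ℕ) : ℕ := Nat.xor (Nat.xor x (Nat.land x 3)) (npow t (Nat.land x 3))

theorem sh_facts : ((List.range 3).all fun t => (List.range 4096).all fun x =>
    decide (sh t x < 4096) && Nat.beq (qn (sh t x)) (qn x) && Nat.beq (sh t (nmul x)) (nmul (sh t x)) &&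
      Nat.beq (sh ((3 - t) % 3) (sh t x)) x && (inSmall t (sh t x) == inSmall 0 x)) = true := by
  decide +kernel

theorem npow_xor_small : ∀ t : Fin 3, ∀ a b : Fin 4,
    npow t.val (a.val ^^^ b.val) = npow t.val a.val ^^^ npow t.val b.val := by decide

theorem sh_add (t : Fin 3) (x y : ℕ) : sh t.val (x ^^^ y) = sh t.val x ^^^ sh t.val y := by
  have h := npow_xor_small t ⟨x &&& 3, Nat.lt_succ_of_le Nat.and_le_right⟩ ⟨y &&& 3, Nat.lt_succ_of_le Nat.and_le_right⟩
  show ((x ^^^ y) ^^^ ((x ^^^ y) &&& 3)) ^^^ npow t.val ((x ^^^ y) &&& 3) =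
    ((x ^^^ (x &&& 3)) ^^^ npow t.val (x &&& 3)) ^^^ ((y ^^^ (y &&& 3)) ^^^ npow t.val (y &&& 3))
  rw [Nat.and_xor_distrib_right, h]
  ac_rfl

theorem npow_npow (k l : ℕ) : ∀ x, npow k (npow l x) = npow (k + l) x := by
  induction k with
  | zero => intro x; simp [npow]
  | succ k ih => intro x; rw [Nat.succ_add]; simp [npow, ih]

theorem sh_spec (t : Fin 3) {x : ℕ} (hx : x < 4096) : sh t.val x < 4096 ∧ qn (sh t.val x) = qn x ∧
    sh t.val (nmul x) = nmul (sh t.val x) ∧ sh ((3 - t.val) % 3) (sh t.val x) = x ∧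
    inSmall t.val (sh t.val x) = inSmall 0 x := by
  have h := List.all_eq_true.1 (List.all_eq_true.1 sh_facts t.val (List.mem_range.2 t.isLt)) x (List.mem_range.2 hx)
  simp only [Bool.and_eq_true, decide_eq_true_eq, Nat.beq_eq, beq_iff_eq] at h
  obtain ⟨⟨⟨⟨h1, h2⟩, h3⟩, h4⟩, h5⟩ := h
  exact ⟨h1, h2, h3, h4, h5⟩

namespace Frame

variable (F : Frame q Γ n)
include F

/-- No transvection at a vector of the small orbit. -/
theorem not_tr_all {r : Fin 3}
    (hrel : ∀ a b : Code, (cls a).isSome = true → (cls b).isSome = true →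
      (F.Rel a b ↔ side r (cls a) = side r (cls b)))
    (hΓ : ∀ γ ∈ Γ, ∀ v, q (γ v) = q v) (hn : n ^ 3 = 1)
    (hnorm : ∀ γ ∈ Γ, γ * n * γ⁻¹ ∈ Subgroup.zpowers n)
    (hno : ¬ ∃ γ ∈ Γ, ∀ x < 4096, γ (F.toModel.e x) = F.toModel.e (tr 15 x))
    {a : ℕ} (ha : a < 4096) (hs : inSmall r.val a = true) :
    ¬ ∃ γ ∈ Γ, ∀ x < 4096, γ (F.toModel.e x) = F.toModel.e (tr a x) := by
  rintro ⟨γ₀, hγ₀, h0⟩
  have h15 : inSmall r.val 15 = true := by
    have : ∀ r : Fin 3, inSmall r.val 15 = true := by decide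
    exact this r
  have e1 := inSmall_side ⟨15, by norm_num⟩ r
  have e2 := inSmall_side ⟨a, ha⟩ r
  have hsome : ∀ c : Code, side r (cls c) = true → (cls c).isSome = true := fun c hc => by
    cases h : cls c
    · rw [h] at hc; exact Bool.noConfusion hc
    · rfl
  obtain ⟨γ, hγ, he⟩ := (hrel _ _ (hsome _ (e2.trans hs)) (hsome _ (e1.trans h15))).2
    ((e2.trans hs).trans (e1.trans h15).symm)
  rw [← F.toModel_e, ← F.toModel_e] at he
  obtain ⟨A, hA⟩ := F.exists_auto hrel hΓ hn hnorm hγ
  have hfa : A.f a = 15 := by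
    rw [hA]
    exact F.toModel.inj _ (numMap_spec F.toModel γ a).1 15 (by norm_num) ((numMap_spec F.toModel γ a).2.trans he)
  refine hno ⟨γ * γ₀ * γ⁻¹, mul_mem (mul_mem hγ hγ₀) (inv_mem hγ), fun x hx => ?_⟩
  obtain ⟨y, hy, hye⟩ := F.toModel.surj (γ.symm (F.toModel.e x))
  have hfy : A.f y = x := by
    rw [hA]
    exact F.toModel.inj _ (numMap_spec F.toModel γ y).1 x hx
      ((numMap_spec F.toModel γ y).2.trans (by rw [hye, γ.apply_symm_apply]))
  show γ (γ₀ (γ.symm (F.toModel.e x))) = _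
  rw [← hye, h0 y hy, ← (numMap_spec F.toModel γ _).2, ← hA, A.map_tr F.toModel ha hy, hfa, hfy]

/-- Adapted coordinates exist. -/
theorem exists_coord {r : Fin 3}
    (hrel : ∀ a b : Code, (cls a).isSome = true → (cls b).isSome = true →
      (F.Rel a b ↔ side r (cls a) = side r (cls b)))
    (hΓ : ∀ γ ∈ Γ, ∀ v, q (γ v) = q v) (hn : n ^ 3 = 1)
    (hnorm : ∀ γ ∈ Γ, γ * n * γ⁻¹ ∈ Subgroup.zpowers n)
    (hno : ¬ ∃ γ ∈ Γ, ∀ x < 4096, γ (F.toModel.e x) = F.toModel.e (tr 15 x)) :
    ∃ C : Coord q Γ n, ∀ x, C.M.e x = F.toModel.e (sh r.val x) := by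
  set M := F.toModel
  set r' : Fin 3 := ⟨(3 - r.val) % 3, Nat.mod_lt _ (by norm_num)⟩
  have hrr : (3 - r'.val) % 3 = r.val := by
    have : ∀ r : Fin 3, (3 - (3 - r.val) % 3) % 3 = r.val := by decide
    exact this r
  have hlt : ∀ {x}, x < 4096 → sh r.val x < 4096 := fun hx => (sh_spec r hx).1
  have hlt' : ∀ {x}, x < 4096 → sh r'.val x < 4096 := fun hx => (sh_spec r' hx).1
  have hl : ∀ {x}, x < 4096 → sh r.val (sh r'.val x) = x := fun {x} hx => by
    have := (sh_spec r' hx).2.2.2.1
    rwa [hrr] at this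
  have hl' : ∀ {x}, x < 4096 → sh r'.val (sh r.val x) = x := fun hx => (sh_spec r hx).2.2.2.1
  have hinj : ∀ x < 4096, ∀ y < 4096, M.e (sh r.val x) = M.e (sh r.val y) → x = y := fun x hx y hy h => by
    rw [← hl' hx, ← hl' hy, M.inj _ (hlt hx) _ (hlt hy) h]
  refine ⟨{
    M := {
      e := fun x => M.e (sh r.val x)
      inj := hinj
      surj := fun v => by
        obtain ⟨x, hx, rfl⟩ := M.surj v
        exact ⟨sh r'.val x, hlt' hx, by rw [hl hx]⟩
      zero := by
        have : ∀ r : Fin 3, sh r.val 0 = 0 := by decide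
        rw [this r, M.zero]
      add := fun x hx y hy => by rw [sh_add, M.add _ (hlt hx) _ (hlt hy)]
      q_e := fun x hx => by rw [M.q_e _ (hlt hx), (sh_spec r hx).2.1]
      n_e := fun x hx => by rw [M.n_e _ (hlt hx), (sh_spec r hx).2.2.1] }
    auto := fun γ hγ => ?_
    no_tr := fun a ha hs => ?_ }, fun _ => rfl⟩
  · obtain ⟨A, hA⟩ := F.exists_auto hrel hΓ hn hnorm hγ
    obtain ⟨s, hs, htw⟩ := A.twist
    have hnp : ∀ k x, x < 4096 → sh r'.val (npow k x) = npow k (sh r'.val x) := by
      intro k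
      induction k with
      | zero => intro x _; rfl
      | succ k ih =>
        intro x hx
        show sh r'.val (nmul (npow k x)) = nmul (npow k (sh r'.val x))
        rw [(sh_spec r' (npow_lt hx k)).2.2.1, ih x hx]
    refine ⟨{
      f := fun x => sh r'.val (A.f (sh r.val x))
      lt := fun x hx => hlt' (A.lt _ (hlt hx))
      inj := fun x hx y hy h => by
        have := congrArg (sh r.val) h
        rw [hl (A.lt _ (hlt hx)), hl (A.lt _ (hlt hy))] at this
        rw [← hl' hx, ← hl' hy, A.inj _ (hlt hx) _ (hlt hy) this]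
      add := fun x hx y hy => by rw [sh_add, A.add _ (hlt hx) _ (hlt hy), sh_add]
      qn_f := fun x hx => by
        rw [(sh_spec r' (A.lt _ (hlt hx))).2.1, A.qn_f _ (hlt hx), (sh_spec r hx).2.1]
      small := fun x hx => by
        have h1 := (sh_spec r (hlt' (A.lt _ (hlt hx)))).2.2.2.2
        rw [hl (A.lt _ (hlt hx)), A.small _ (hlt hx), (sh_spec r hx).2.2.2.2] at h1
        exact h1.symm
      twist := ⟨s, hs, fun x hx => by
        rw [(sh_spec r hx).2.2.1, htw _ (hlt hx), hnp s _ (A.lt _ (hlt hx))]⟩ }, fun x hx => ?_⟩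
    show M.e (sh r.val (sh r'.val (A.f (sh r.val x)))) = γ (M.e (sh r.val x))
    rw [hl (A.lt _ (hlt hx)), hA, (numMap_spec M γ _).2]
  · rintro ⟨γ, hγ, h⟩
    refine F.not_tr_all hrel hΓ hn hnorm hno (hlt ha) ((sh_spec r ha).2.2.2.2.trans hs) ⟨γ, hγ, fun x hx => ?_⟩
    have h' : γ (M.e (sh r.val (sh r'.val x))) = M.e (sh r.val (tr a (sh r'.val x))) :=
      h (sh r'.val x) (hlt' hx)
    rw [hl hx] at h'
    refine h'.trans ?_
    have key : ∀ (u : ℕ), u < 4096 → ∀ w < 4096, sh r.val (tr u w) = tr (sh r.val u) (sh r.val w) := by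
      intro u hu w hw
      have hnu := nmul_lt' hu
      have hb : ∀ a, a < 4096 → bn (sh r.val a) (sh r.val w) = bn a w := fun a ha => by
        unfold bn
        show Nat.land (qn (sh r.val a ^^^ sh r.val w) + _) 1 = Nat.land (qn (a ^^^ w) + _) 1
        rw [← sh_add, (sh_spec r (xor_lt_pow ha hw)).2.1, (sh_spec r ha).2.1, (sh_spec r hw).2.1]
      have e3 : nmul (sh r.val u) = sh r.val (nmul u) := (sh_spec r hu).2.2.1.symm
      unfold tr
      rw [e3, hb u hu, hb _ hnu]
      show sh r.val (w ^^^ (_ ^^^ _)) = sh r.val w ^^^ (_ ^^^ _)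
      rw [sh_add, sh_add]
      have h0 : ∀ r : Fin 3, sh r.val 0 = 0 := by decide
      split_ifs <;> simp [h0 r]
    show M.e (sh r.val (tr a (sh r'.val x))) = _
    rw [key a ha _ (hlt' hx), hl hx]

end Frame

theorem finite_equiv : Finite (V ≃ₗ[ZMod 2] V) :=
  Finite.of_injective _ DFunLike.coe_injective

/-- The automorphisms of the coordinates. -/
def autGroup (M : Model q n) : Subgroup (V ≃ₗ[ZMod 2] V) :=
  let S : Submonoid (V ≃ₗ[ZMod 2] V) :=
    { carrier := {g | ∃ A : Auto 0, ∀ x < 4096, M.e (A.f x) = g (M.e x)}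
      one_mem' := ⟨{ f := id, lt := fun _ h => h, inj := fun _ _ _ _ h => h, add := fun _ _ _ _ => rfl,
                     qn_f := fun _ _ => rfl, small := fun _ _ => rfl,
                     twist := ⟨1, Or.inl rfl, fun _ _ => rfl⟩ }, fun _ _ => rfl⟩
      mul_mem' := by
        rintro g g' ⟨A, hA⟩ ⟨B, hB⟩
        refine ⟨{
          f := fun x => A.f (B.f x)
          lt := fun x hx => A.lt _ (B.lt x hx)
          inj := fun x hx y hy h => B.inj x hx y hy (A.inj _ (B.lt x hx) _ (B.lt y hy) h)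
          add := fun x hx y hy => by rw [B.add x hx y hy, A.add _ (B.lt x hx) _ (B.lt y hy)]
          qn_f := fun x hx => by rw [A.qn_f _ (B.lt x hx), B.qn_f x hx]
          small := fun x hx => by rw [A.small _ (B.lt x hx), B.small x hx]
          twist := ?_ }, fun x hx => ?_⟩
        · obtain ⟨s, hs, hA'⟩ := A.twist
          obtain ⟨s', hs', hB'⟩ := B.twist
          rcases hs' with rfl | rfl
          · exact ⟨s, hs, fun x hx => by rw [hB' x hx]; exact hA' _ (B.lt x hx)⟩
          · rcases hs with rfl | rfl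
            · exact ⟨2, Or.inr rfl, fun x hx => by
                rw [hB' x hx]; simp only [npow]
                rw [hA' _ (nmul_lt' (B.lt x hx)), hA' _ (B.lt x hx)]
                rfl⟩
            · exact ⟨1, Or.inl rfl, fun x hx => by
                rw [hB' x hx]; simp only [npow]
                rw [hA' _ (nmul_lt' (B.lt x hx)), hA' _ (B.lt x hx)]
                simp only [npow]
                rw [(nmul_three (A.lt _ (B.lt x hx))).1]⟩
        · rw [hA _ (B.lt x hx), hB x hx]
          rfl }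
  { S with
    inv_mem' := fun {g} hg => by
      haveI := finite_equiv (V := V)
      have h : g⁻¹ = g ^ (orderOf g - 1) := by
        refine inv_eq_of_mul_eq_one_right ?_
        rw [← pow_succ', Nat.sub_add_cancel (orderOf_pos g), pow_orderOf_eq_one]
      show g⁻¹ ∈ S
      rw [h]; exact pow_mem hg _ }

theorem mem_autGroup {M : Model q n} {g : V ≃ₗ[ZMod 2] V} :
    g ∈ autGroup M ↔ ∃ A : Auto 0, ∀ x < 4096, M.e (A.f x) = g (M.e x) := Iff.rfl

theorem small_card : ((Finset.range 4096).filter fun x => inSmall 0 x = true).card ≤ 378 := by decide +kernel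

theorem small_fifteen : inSmall 0 15 = true := by decide +kernel

/-- The automorphisms are at most twice as many as the elements of Γ. -/
theorem autGroup_card (M : Model q n) : Nat.card (autGroup M) ≤ 2 * 19595520 := by
  classical
  haveI : Fintype V := Fintype.ofFinite V
  set A := autGroup M
  have horb : Nat.card (MulAction.orbit A (M.e 15)) ≤ 378 := by
    let T := ((Finset.range 4096).filter fun x => inSmall 0 x = true).image M.e
    have hsub : MulAction.orbit A (M.e 15) ⊆ (T : Set V) := by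
      rintro _ ⟨g, rfl⟩
      obtain ⟨B, hB⟩ := mem_autGroup.1 g.2
      refine Finset.mem_coe.2 (Finset.mem_image.2 ⟨B.f 15, Finset.mem_filter.2 ⟨Finset.mem_range.2 (B.lt 15 (by norm_num)), ?_⟩, hB 15 (by norm_num)⟩)
      rw [B.small 15 (by norm_num)]; exact small_fifteen
    calc Nat.card (MulAction.orbit A (M.e 15)) ≤ Nat.card (T : Set V) := Nat.card_mono (Set.toFinite _) hsub
      _ = T.card := by simp
      _ ≤ _ := Finset.card_image_le.trans small_card
  have hst : Nat.card (MulAction.stabilizer A (M.e 15)) ≤ 2 * 51840 := by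
    obtain ⟨Φ, hΦ⟩ := stab_hom (Γ := A) (r := 0) M fun x => by
      obtain ⟨B, hB⟩ := mem_autGroup.1 x.1.2
      have e : ∀ y < 4096, B.f y = numMap M x.1.1 y := fun y hy =>
        M.inj _ (B.lt y hy) _ (numMap_spec M _ y).1 ((hB y hy).trans (numMap_spec M _ y).2.symm)
      have h15 : B.f 15 = 15 := M.inj _ (B.lt 15 (by norm_num)) 15 (by norm_num)
        ((hB 15 (by norm_num)).trans x.2)
      refine ⟨{
        f := numMap M x.1.1
        lt := fun y _ => (numMap_spec M _ y).1
        inj := fun y hy w hw h => B.inj y hy w hw (by rw [e y hy, e w hw, h])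
        add := fun y hy w hw => by rw [← e y hy, ← e w hw, ← e _ (xor_lt_pow hy hw), B.add y hy w hw]
        qn_f := fun y hy => by rw [← e y hy, B.qn_f y hy]
        small := fun y hy => by rw [← e y hy]; exact B.small y hy
        twist := ?_ }, (e 15 (by norm_num)).symm.trans h15, fun _ => rfl⟩
      obtain ⟨s, hs, ht⟩ := B.twist
      exact ⟨s, hs, fun y hy => by rw [← e y hy, ← e _ (nmul_lt' hy), ht y hy]⟩
    have hk : Nat.card Φ.ker ≤ 2 := by
      by_cases hex : ∃ x : Φ.ker, x ≠ 1
      · obtain ⟨x₀, hx₀⟩ := hex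
        refine le_trans (Nat.card_le_card_of_surjective (fun b : Bool => if b then x₀ else 1) fun x => ?_) (by simp)
        by_cases hx : x = 1
        · exact ⟨false, by simp [hx]⟩
        · refine ⟨true, ?_⟩
          rcases hΦ x₀.1 x₀.2 with h | h
          · exact absurd (Subtype.ext h) hx₀
          rcases hΦ x.1 x.2 with h' | h'
          · exact absurd (Subtype.ext h') hx
          refine Subtype.ext (Subtype.ext (Subtype.ext (LinearEquiv.ext fun v => ?_)))
          obtain ⟨y, hy, rfl⟩ := M.surj v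
          simp only [if_true]
          rw [h y hy, h' y hy]
      · push Not at hex
        haveI : Subsingleton Φ.ker := ⟨fun a b => (hex a).trans (hex b).symm⟩
        exact Finite.card_le_one_iff_subsingleton.2 inferInstance |>.trans one_le_two
    haveI : Finite (Forms.preservingFun (F := ZMod 2) (⇑qW)) := Nat.finite_of_card_ne_zero (by rw [card_O6]; norm_num)
    rw [Subgroup.card_eq_card_quotient_mul_card_subgroup Φ.ker,
      Nat.card_congr (QuotientGroup.quotientKerEquivRange Φ).toEquiv, mul_comm 2]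
    exact Nat.mul_le_mul (card_O6 ▸ Finite.card_subtype_le _) hk
  haveI := finite_equiv (V := V)
  haveI : Fintype A := Fintype.ofFinite _
  haveI : Fintype (MulAction.stabilizer A (M.e 15)) := Fintype.ofFinite _
  haveI : Fintype (MulAction.orbit A (M.e 15)) := Fintype.ofFinite _
  have h := MulAction.card_orbit_mul_card_stabilizer_eq_card_group (G := A) (M.e 15)
  rw [← Nat.card_eq_fintype_card, ← Nat.card_eq_fintype_card, ← Nat.card_eq_fintype_card] at h
  rw [← h]
  exact (Nat.mul_le_mul horb hst).trans (by norm_num)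

namespace Coord

variable (C : Coord q Γ n)
include C

theorem le_autGroup : Γ ≤ autGroup C.M := fun γ hγ => mem_autGroup.2 (C.auto γ hγ)

theorem relIndex_le (hcard : Nat.card Γ = 19595520) : Γ.relIndex (autGroup C.M) ≤ 2 := by
  have h := Subgroup.card_mul_index (Γ.subgroupOf (autGroup C.M))
  rw [Nat.card_congr (Subgroup.subgroupOfEquivOfLe C.le_autGroup).toEquiv, hcard] at h
  have := autGroup_card C.M
  rw [← h] at this
  show (Γ.subgroupOf (autGroup C.M)).index ≤ 2
  omega

/-- Squares of automorphisms are in the group. -/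
theorem sq_mem (hcard : Nat.card Γ = 19595520) {g : V ≃ₗ[ZMod 2] V} (hg : g ∈ autGroup C.M) : g * g ∈ Γ := by
  have h2 := C.relIndex_le hcard
  haveI := finite_equiv (V := V)
  have h0 : (Γ.subgroupOf (autGroup C.M)).index ≠ 0 := Subgroup.index_ne_zero_of_finite
  rcases (show (Γ.subgroupOf (autGroup C.M)).index = 1 ∨ (Γ.subgroupOf (autGroup C.M)).index = 2 by
    unfold Subgroup.relIndex at h2; omega) with h | h
  · exact mul_mem (Subgroup.mem_subgroupOf.1 (show (⟨g, hg⟩ : autGroup C.M) ∈ Γ.subgroupOf _ by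
      rw [Subgroup.index_eq_one.1 h]; trivial)) (Subgroup.mem_subgroupOf.1 (show (⟨g, hg⟩ : autGroup C.M) ∈ Γ.subgroupOf _ by
      rw [Subgroup.index_eq_one.1 h]; trivial))
  · have := Subgroup.sq_mem_of_index_two h ⟨g, hg⟩
    rw [pow_two] at this
    exact Subgroup.mem_subgroupOf.1 this

end Coord

end Cfsg.Agent.LargeFischer
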