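/-
Computations in the explicit 2-group.

* `ap`, `el`, `mulIdx`, `step`, `level`
-/
import Cfsg.Agent.Lib.LargeFischer.SylData
import Cfsg.Agent.Lib.LargeFischer.ModelBits

set_option autoImplicit false
set_option maxRecDepth 100000
set_option Elab.async false

namespace Cfsg.Agent.LargeFischer

/-- The linear map with packed images. -/
def ap : ℕ → ℕ → ℕ → ℕ
  | 0, _, _ => 0
  | k + 1, N, x => Nat.xor (Nat.mul (Nat.land x 1) (Nat.land N 4095)) (ap k (Nat.shiftRight N 12) (Nat.shiftRight x 1))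

/-- The linear map with twelve packed images. -/
def ap12 (N x : ℕ) : ℕ :=
  Nat.xor (Nat.mul (Nat.land (Nat.shiftRight x 0) 1) (Nat.land (Nat.shiftRight N 0) 4095))
    (Nat.xor (Nat.mul (Nat.land (Nat.shiftRight x 1) 1) (Nat.land (Nat.shiftRight N 12) 4095))
    (Nat.xor (Nat.mul (Nat.land (Nat.shiftRight x 2) 1) (Nat.land (Nat.shiftRight N 24) 4095))
    (Nat.xor (Nat.mul (Nat.land (Nat.shiftRight x 3) 1) (Nat.land (Nat.shiftRight N 36) 4095))
    (Nat.xor (Nat.mul (Nat.land (Nat.shiftRight x 4) 1) (Nat.land (Nat.shiftRight N 48) 4095))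
    (Nat.xor (Nat.mul (Nat.land (Nat.shiftRight x 5) 1) (Nat.land (Nat.shiftRight N 60) 4095))
    (Nat.xor (Nat.mul (Nat.land (Nat.shiftRight x 6) 1) (Nat.land (Nat.shiftRight N 72) 4095))
    (Nat.xor (Nat.mul (Nat.land (Nat.shiftRight x 7) 1) (Nat.land (Nat.shiftRight N 84) 4095))
    (Nat.xor (Nat.mul (Nat.land (Nat.shiftRight x 8) 1) (Nat.land (Nat.shiftRight N 96) 4095))
    (Nat.xor (Nat.mul (Nat.land (Nat.shiftRight x 9) 1) (Nat.land (Nat.shiftRight N 108) 4095))
    (Nat.xor (Nat.mul (Nat.land (Nat.shiftRight x 10) 1) (Nat.land (Nat.shiftRight N 120) 4095))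
    (Nat.mul (Nat.land (Nat.shiftRight x 11) 1) (Nat.land (Nat.shiftRight N 132) 4095))))))))))))

/-- An element by its number. -/
def el (i : ℕ) : ℕ := Nat.land (Nat.shiftRight elemsPk (Nat.mul 144 i)) (Nat.sub (2 ^ 144) 1)

/-- The map of an element. -/
def fe (i x : ℕ) : ℕ := ap12 (el i) x

/-- The predecessor. -/
def parIdx (i : ℕ) : ℕ := Nat.land (Nat.shiftRight parPk (Nat.mul 12 i)) 511

/-- The generator. -/
def parGen (i : ℕ) : ℕ := Nat.land (Nat.shiftRight parPk (Nat.add (Nat.mul 12 i) 9)) 7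

/-- The inverse. -/
def invIdx (i : ℕ) : ℕ := Nat.land (Nat.shiftRight invPk (Nat.mul 9 i)) 511

/-- Left multiplication by a generator. -/
def genMul (g k : ℕ) : ℕ := Nat.land (Nat.shiftRight (tabPk.getD g 0) (Nat.mul 9 k)) 511

/-- The product. -/
def mulF : ℕ → ℕ → ℕ → ℕ
  | 0, _, k => k
  | f + 1, i, k => if Nat.beq i 0 then k else genMul (parGen i) (mulF f (parIdx i) k)

/-- The word of a number ends. -/
def okF : ℕ → ℕ → Bool
  | 0, i => Nat.beq i 0
  | f + 1, i => Nat.beq i 0 || okF f (parIdx i)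

/-- The product, with enough steps. -/
def mulIdx (i k : ℕ) : ℕ := mulF 5 i k

/-- Membership in the candidates. -/
def isCand (i : ℕ) : Bool := Nat.beq (Nat.land (Nat.shiftRight candMask i) 1) 1

/-- Membership in the small orbit. -/
def smallB (x : ℕ) : Bool := Nat.beq (Nat.land (Nat.shiftRight smallMask x) 1) 1

/-- The extensions of a subgroup. -/
def step : ℕ × List ℕ → List (ℕ × List ℕ) := fun p =>
  candList.filterMap fun b =>
    if Nat.blt p.1 b && p.2.all (fun t => isCand (mulIdx t b) && Nat.ble b (mulIdx t b))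
    then some (b, p.2 ++ p.2.map fun t => mulIdx t b) else none

/-- The subgroups of order 2^k. -/
def level : ℕ → List (ℕ × List ℕ)
  | 0 => [(0, [0])]
  | k + 1 => (level k).flatMap step

/-- A certificate of a fixed space. -/
def certOK (s : List ℕ) (c : ℕ × ℕ × ℕ × List ℕ) : Bool :=
  let g := [s.getD 1 0, s.getD 2 0, s.getD 4 0, s.getD 8 0]
  (List.range 12).all fun i =>
    let x := 2 ^ i
    let d := fun j => ap12 (c.2.2.2.getD j 0) (Nat.xor (fe (g.getD j 0) x) x)
    Nat.beq x (Nat.xor (ap c.2.1 c.1 (ap12 c.2.2.1 x)) (Nat.xor (Nat.xor (d 0) (d 1)) (Nat.xor (d 2) (d 3))))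

/-- The certificates fit. -/
def fixOK : List (ℕ × List ℕ) → List (ℕ × ℕ × ℕ × List ℕ) → Bool
  | [], [] => true
  | p :: l, c :: cs =>
    certOK p.2 c && ((Nat.ble c.2.1 3 && (step p).all fun q => (step q).isEmpty) ||
      (p.2 == baList && Nat.beq c.1 fixBasis && Nat.beq c.2.1 6 && (step p).isEmpty)) && fixOK l cs
  | _, _ => false

end Cfsg.Agent.LargeFischer
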