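/-
Checks on the explicit 2-group.
-/
import Cfsg.Agent.Lib.LargeFischer.SylBits
import Cfsg.Agent.Lib.LargeFischer.ModelFacts

set_option autoImplicit false
set_option maxRecDepth 100000
set_option Elab.async false

namespace Cfsg.Agent.LargeFischer

theorem el_zero : el 0 = (List.range 12).foldr (fun i r => 2 ^ i + 4096 * r) 0 := by decide +kernel

theorem par_ok : ((List.range 512).all fun i => okF 5 i && (Nat.beq i 0 ||
    (List.range 12).all fun b => Nat.beq (fe i (2 ^ b))
      (fe (genIdx.getD (parGen i) 0) (fe (parIdx i) (2 ^ b))))) = true := by decide +kernel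

theorem gen_small : (genIdx.all fun g => decide (g < 512)) = true ∧ genIdx.length = 8 := by decide +kernel

theorem tab_ok : ((List.range 8).all fun g => (List.range 512).all fun k => (List.range 12).all fun b =>
    Nat.beq (fe (genIdx.getD g 0) (fe k (2 ^ b))) (fe (genMul g k) (2 ^ b))) = true := by decide +kernel

theorem inv_ok : ((List.range 512).all fun i => Nat.beq (mulIdx (invIdx i) i) 0 && Nat.beq (mulIdx i (invIdx i)) 0) = true := by
  decide +kernel

theorem el_distinct : ((List.range 512).all fun i => (List.range i).all fun j => !Nat.beq (el i) (el j)) = true := by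
  decide +kernel

theorem el_packed : ((List.range 512).all fun i => Nat.beq (el i)
    ((List.range 12).foldr (fun b r => fe i (2 ^ b) + 4096 * r) 0)) = true := by decide +kernel

theorem gen_auto : (genIdx.all fun g =>
    (List.range 12).all (fun b => Nat.beq (fe g (nmul (2 ^ b))) (nmul (fe g (2 ^ b)))) ||
    (List.range 12).all (fun b => Nat.beq (fe g (nmul (2 ^ b))) (nmul (nmul (fe g (2 ^ b)))))) = true ∧
    (genIdx.all fun g => (List.range 4096).all fun x =>
      Nat.beq (qn (fe g x)) (qn x) && (smallB (fe g x) == smallB x)) = true := by decide +kernel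

theorem small_mask : ((List.range 4096).all fun x => smallB x == inSmall 0 x) = true := by decide +kernel

theorem cand_ok : ((List.range 512).all fun i =>
    Nat.beq i 0 || !Nat.beq (mulIdx i i) 0 || trList.any (fun p => Nat.beq p.1 i) ||
      (isCand i && candList.contains i)) = true ∧
    (trList.all fun p => decide (p.2 < 4096) && inSmall 0 p.2 && (List.range 12).all fun b =>
      Nat.beq (fe p.1 (2 ^ b)) (tr p.2 (2 ^ b))) = true ∧
    (candList.all fun b => decide (0 < b) && decide (b < 512)) = true := by decide +kernel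

theorem levels_ok : fixOK (level 4) fixCerts = true := by decide +kernel

theorem ba_ok : baList.length = 16 ∧ baList.Nodup ∧
    (baList.all fun i => decide (i < 512) && (baList.all fun j => baList.contains (mulIdx i j)) &&
      (List.range 12).all fun b => Nat.beq (fe i (nmul (2 ^ b))) (nmul (fe i (2 ^ b))) &&
        Nat.beq (fe i (ap 6 fixBasis (2 ^ b % 64))) (ap 6 fixBasis (2 ^ b % 64))) = true ∧
    ((List.range 64).all fun m => Nat.beq (qn (ap 6 fixBasis m)) 0 && (Nat.beq m 0 || !Nat.beq (ap 6 fixBasis m) 0)) = true ∧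
    ((List.range 4096).all fun x => (List.range 6).any (fun i => Nat.beq (bn x (ap 6 fixBasis (2 ^ i))) 1) ||
      (List.range 64).any fun m => Nat.beq (ap 6 fixBasis m) x) = true := by decide +kernel

theorem norm_ok : (normPk.all fun p =>
      (List.range 12).all (fun b => Nat.beq (ap12 p.2 (ap12 p.1 (2 ^ b))) (2 ^ b) &&
        Nat.beq (ap12 p.1 (ap12 p.1 (ap12 p.1 (2 ^ b)))) (2 ^ b) &&
        Nat.beq (ap12 p.1 (nmul (2 ^ b))) (nmul (ap12 p.1 (2 ^ b)))) &&
      (List.range 4096).all fun x => Nat.beq (qn (ap12 p.1 x)) (qn x) && (smallB (ap12 p.1 x) == smallB x)) = true ∧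
    normPk.length = 2 ∧
    ((List.range 2).all fun k => (List.range 16).all fun a => (List.range 12).all fun b =>
      Nat.beq (ap12 (normPk.getD k (0, 0)).1 (fe (baList.getD a 0) (2 ^ b)))
        (fe (baList.getD ((normPerm.getD k []).getD a 0) 0) (ap12 (normPk.getD k (0, 0)).1 (2 ^ b)))) = true ∧
    mulIdx sqWitness.2 sqWitness.2 = baList.getD sqWitness.1 0 ∧ sqWitness.2 < 512 ∧ sqWitness.1 < 16 ∧
      0 < sqWitness.1 ∧
    (orbitSteps.all fun p => decide (p.1 < 16) && decide (p.2.2 < 2) &&
      Nat.beq ((normPerm.getD p.2.2 []).getD p.2.1 16) p.1) = true ∧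
    ((List.range 14).all fun j => Nat.beq (orbitSteps.getD j (0, 0, 0)).2.1 sqWitness.1 ||
      (List.range j).any fun i => Nat.beq (orbitSteps.getD i (0, 0, 0)).1 (orbitSteps.getD j (0, 0, 0)).2.1) = true ∧
    ((List.range 16).all fun a => Nat.beq a 0 || Nat.beq a sqWitness.1 || orbitSteps.any fun p => Nat.beq p.1 a) = true := by
  decide +kernel

end Cfsg.Agent.LargeFischer
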