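/-
The explicit 2-group as linear maps.

* `Rep`, `sylGroup`, `syl_facts`
-/
import Cfsg.Agent.Lib.LargeFischer.Coord
import Cfsg.Agent.Lib.LargeFischer.SylFacts

set_option autoImplicit false
set_option maxRecDepth 100000

namespace Cfsg.Agent.LargeFischer

theorem bit_xor (x y : ℕ) : (x ^^^ y) &&& 1 = (x &&& 1) ^^^ (y &&& 1) := Nat.and_xor_distrib_right ..

theorem ap_add : ∀ (k N x y : ℕ), ap k N (x ^^^ y) = ap k N x ^^^ ap k N y
  | 0, _, _, _ => (Nat.xor_self 0).symm
  | k + 1, N, x, y => by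
    show ((x ^^^ y) &&& 1) * (N &&& 4095) ^^^ ap k (N >>> 12) ((x ^^^ y) >>> 1) =
      ((x &&& 1) * (N &&& 4095) ^^^ ap k (N >>> 12) (x >>> 1)) ^^^
        ((y &&& 1) * (N &&& 4095) ^^^ ap k (N >>> 12) (y >>> 1))
    rw [Nat.shiftRight_xor_distrib, ap_add k, bit_xor]
    have hx : x &&& 1 = 0 ∨ x &&& 1 = 1 := by have := Nat.and_le_right (n := x) (m := 1); omega
    have hy : y &&& 1 = 0 ∨ y &&& 1 = 1 := by have := Nat.and_le_right (n := y) (m := 1); omega
    rcases hx with e | e <;> rcases hy with e' | e' <;> rw [e, e'] <;> simp <;> try ac_rfl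
    all_goals
      rw [show ∀ a b c : ℕ, a ^^^ b ^^^ (a ^^^ c) = b ^^^ c from fun a b c => by
        rw [show a ^^^ b ^^^ (a ^^^ c) = (a ^^^ a) ^^^ (b ^^^ c) by ac_rfl, Nat.xor_self, Nat.zero_xor]]

theorem ap_lt : ∀ (k N x : ℕ), ap k N x < 4096
  | 0, _, _ => by show (0 : ℕ) < 4096; norm_num
  | k + 1, N, x => by
    refine xor_lt_pow ?_ (ap_lt k _ _)
    show (x &&& 1) * (N &&& 4095) < 4096
    have h1 : x &&& 1 ≤ 1 := Nat.and_le_right
    have h2 : N &&& 4095 ≤ 4095 := Nat.and_le_right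
    exact Nat.lt_succ_of_le ((Nat.mul_le_mul h1 h2).trans (by norm_num))

theorem ap_zero : ∀ (k N : ℕ), ap k N 0 = 0
  | 0, _ => rfl
  | k + 1, N => by
    show (0 &&& 1) * (N &&& 4095) ^^^ ap k (N >>> 12) (0 >>> 1) = 0
    rw [Nat.zero_shiftRight, ap_zero k]; simp

theorem ap_mod : ∀ (k N x : ℕ), ap k N x = ap k N (x % 2 ^ k)
  | 0, _, _ => rfl
  | k + 1, N, x => by
    show (x &&& 1) * (N &&& 4095) ^^^ ap k (N >>> 12) (x >>> 1) =
      ((x % 2 ^ (k + 1)) &&& 1) * (N &&& 4095) ^^^ ap k (N >>> 12) ((x % 2 ^ (k + 1)) >>> 1)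
    have e1 : (x % 2 ^ (k + 1)) &&& 1 = x &&& 1 := by
      rw [Nat.and_one_is_mod, Nat.and_one_is_mod, Nat.mod_mod_of_dvd]
      exact Dvd.intro_left _ (pow_succ 2 k).symm
    have e2 : (x % 2 ^ (k + 1)) >>> 1 = (x >>> 1) % 2 ^ k := by
      rw [Nat.shiftRight_eq_div_pow, Nat.shiftRight_eq_div_pow, pow_one, pow_succ', Nat.mod_mul_right_div_self]
    rw [e1, e2, ← ap_mod k]

theorem ap12_eq (N x : ℕ) : ap12 N x = ap 12 N x := by
  have hs : ∀ m a b, Nat.shiftRight (Nat.shiftRight m a) b = Nat.shiftRight m (a + b) :=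
    fun m a b => (Nat.shiftRight_add m a b).symm
  have hz : ∀ a, Nat.xor a 0 = a := Nat.xor_zero
  have h0 : ∀ m, Nat.shiftRight m 0 = m := fun _ => rfl
  unfold ap12
  simp only [ap, hs, hz, h0, Nat.reduceAdd]

theorem fe_eq (i x : ℕ) : fe i x = ap 12 (el i) x := ap12_eq _ _

theorem fe_add (i x y : ℕ) : fe i (x ^^^ y) = fe i x ^^^ fe i y := by simp only [fe_eq, ap_add]

theorem fe_lt (i x : ℕ) : fe i x < 4096 := by rw [fe_eq]; exact ap_lt _ _ _

theorem fe_zero (i : ℕ) : fe i 0 = 0 := by rw [fe_eq]; exact ap_zero _ _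

theorem ext_two {f g : ℕ → ℕ} (hf : ∀ x < 4096, ∀ y < 4096, f (x ^^^ y) = f x ^^^ f y)
    (hg : ∀ x < 4096, ∀ y < 4096, g (x ^^^ y) = g x ^^^ g y) (h : ∀ b < 12, f (2 ^ b) = g (2 ^ b)) :
    ∀ x < 4096, f x = g x := by
  have z : ∀ {f : ℕ → ℕ}, (∀ x < 4096, ∀ y < 4096, f (x ^^^ y) = f x ^^^ f y) → f 0 = 0 := fun {f} hf => by
    have := hf 0 (by norm_num) 0 (by norm_num)
    rwa [Nat.xor_self, Nat.xor_self] at this
  have key : ∀ (l : List ℕ), (∀ x ∈ l, x < 4096 ∧ f x = g x) → ∀ m, comb l m < 4096 ∧ f (comb l m) = g (comb l m) := by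
    intro l
    induction l with
    | nil => intro _ m; exact ⟨by show (0 : ℕ) < 4096; norm_num, by show f 0 = g 0; rw [z hf, z hg]⟩
    | cons a l ih =>
      intro hl m
      obtain ⟨h1, h2⟩ := ih (fun x hx => hl x (List.mem_cons_of_mem _ hx)) (m / 2)
      obtain ⟨a1, a2⟩ := hl a List.mem_cons_self
      have hc : (if Nat.beq (m % 2) 1 then a else 0) < 4096 ∧
          f (if Nat.beq (m % 2) 1 then a else 0) = g (if Nat.beq (m % 2) 1 then a else 0) := by
        split_ifs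
        · exact ⟨a1, a2⟩
        · exact ⟨by norm_num, by rw [z hf, z hg]⟩
      refine ⟨xor_lt_pow hc.1 h1, ?_⟩
      show f (_ ^^^ _) = g (_ ^^^ _)
      rw [hf _ hc.1 _ h1, hg _ hc.1 _ h1, hc.2, h2]
  intro x hx
  have := (key _ (fun y hy => by
    obtain ⟨b, hb, rfl⟩ := List.mem_map.1 hy
    exact ⟨(Nat.pow_lt_pow_iff_right (a := 2) (by norm_num)).2 (List.mem_range.1 hb), h b (List.mem_range.1 hb)⟩) x).2
  rwa [Nat.eq_of_beq_eq_true (List.all_eq_true.1 bits_span.2 x (List.mem_range.2 hx))] at this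

theorem fe_id : ∀ x < 4096, fe 0 x = x :=
  ext_two (fun x _ y _ => fe_add 0 x y) (fun _ _ _ _ => rfl) (by decide +kernel)

theorem genMul_lt (g k : ℕ) : genMul g k < 512 := Nat.lt_succ_of_le Nat.and_le_right

theorem parIdx_lt (i : ℕ) : parIdx i < 512 := Nat.lt_succ_of_le Nat.and_le_right

theorem invIdx_lt (i : ℕ) : invIdx i < 512 := Nat.lt_succ_of_le Nat.and_le_right

theorem parGen_lt (i : ℕ) : parGen i < 8 := Nat.lt_succ_of_le Nat.and_le_right

theorem mulF_spec : ∀ (f i : ℕ), i < 512 → okF f i = true → ∀ k < 512,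
    mulF f i k < 512 ∧ ∀ x < 4096, fe (mulF f i k) x = fe i (fe k x)
  | 0, i, _, hok, k, hk => by
    obtain rfl : i = 0 := Nat.eq_of_beq_eq_true hok
    exact ⟨hk, fun x _ => (fe_id _ (fe_lt _ _)).symm⟩
  | f + 1, i, hi, hok, k, hk => by
    unfold mulF
    by_cases h0 : Nat.beq i 0 = true
    · rw [if_pos h0]
      obtain rfl : i = 0 := Nat.eq_of_beq_eq_true h0
      exact ⟨hk, fun x _ => (fe_id _ (fe_lt _ _)).symm⟩
    · rw [if_neg h0]
      simp only [okF, Bool.or_eq_true] at hok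
      replace hok := hok.resolve_left h0
      obtain ⟨h1, h2⟩ := mulF_spec f _ (parIdx_lt i) hok k hk
      refine ⟨genMul_lt _ _, fun x hx => ?_⟩
      have ht : ∀ x < 4096, fe (genMul (parGen i) (mulF f (parIdx i) k)) x =
          fe (genIdx.getD (parGen i) 0) (fe (mulF f (parIdx i) k) x) := by
        refine ext_two (fun x _ y _ => fe_add _ x y) (fun x _ y _ => by rw [fe_add, fe_add]) fun b hb => ?_
        exact (Nat.eq_of_beq_eq_true (List.all_eq_true.1 (List.all_eq_true.1 (List.all_eq_true.1 tab_ok _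
          (List.mem_range.2 (parGen_lt i))) _ (List.mem_range.2 h1)) b (List.mem_range.2 hb))).symm
      have hp : ∀ x < 4096, fe i x = fe (genIdx.getD (parGen i) 0) (fe (parIdx i) x) := by
        refine ext_two (fun x _ y _ => fe_add _ x y) (fun x _ y _ => by rw [fe_add, fe_add]) fun b hb => ?_
        have h := (Bool.and_eq_true_iff.1 (List.all_eq_true.1 par_ok i (List.mem_range.2 hi))).2
        rw [Bool.or_eq_true] at h
        exact Nat.eq_of_beq_eq_true (List.all_eq_true.1 (h.resolve_left h0) b (List.mem_range.2 hb))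
      rw [ht x hx, h2 x hx, hp _ (fe_lt _ _)]

theorem okF_five {i : ℕ} (hi : i < 512) : okF 5 i = true :=
  (Bool.and_eq_true_iff.1 (List.all_eq_true.1 par_ok i (List.mem_range.2 hi))).1

theorem mulIdx_spec {i k : ℕ} (hi : i < 512) (hk : k < 512) :
    mulIdx i k < 512 ∧ ∀ x < 4096, fe (mulIdx i k) x = fe i (fe k x) :=
  mulF_spec 5 i hi (okF_five hi) k hk

theorem fe_injective {i j : ℕ} (hi : i < 512) (hj : j < 512) (h : ∀ x < 4096, fe i x = fe j x) : i = j := by
  have he : el i = el j := by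
    rw [Nat.eq_of_beq_eq_true (List.all_eq_true.1 el_packed i (List.mem_range.2 hi)),
      Nat.eq_of_beq_eq_true (List.all_eq_true.1 el_packed j (List.mem_range.2 hj))]
    have : ∀ b ∈ List.range 12, fe i (2 ^ b) = fe j (2 ^ b) := fun b hb =>
      h _ ((Nat.pow_lt_pow_iff_right (a := 2) (by norm_num)).2 (List.mem_range.1 hb))
    revert this
    generalize List.range 12 = l
    intro this
    induction l with
    | nil => rfl
    | cons a l ih => rw [List.foldr_cons, List.foldr_cons, this a List.mem_cons_self, ih fun b hb => this b (List.mem_cons_of_mem _ hb)]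
  by_contra hne
  have key : ∀ a b, b < a → a < 512 → el a ≠ el b := fun a b hba ha e => by
    have := List.all_eq_true.1 (List.all_eq_true.1 el_distinct a (List.mem_range.2 ha)) b (List.mem_range.2 hba)
    rw [e, Bool.not_eq_true'] at this
    exact Bool.noConfusion ((Nat.beq_refl _).symm.trans this)
  rcases Nat.lt_or_gt_of_ne hne with h' | h'
  · exact key j i h' hj he.symm
  · exact key i j h' hi he

variable {V : Type*} [AddCommGroup V] [Module (ZMod 2) V] [Finite V] {q : QuadraticForm (ZMod 2) V}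
  {n : V ≃ₗ[ZMod 2] V}

/-- The element with the given number. -/
def Rep (M : Model q n) (g : V ≃ₗ[ZMod 2] V) (i : ℕ) : Prop := ∀ x < 4096, g (M.e x) = M.e (fe i x)

theorem exists_map (M : Model q n) {N N' : ℕ} (h : ∀ b < 12, ap 12 N' (ap 12 N (2 ^ b)) = 2 ^ b) :
    ∃ g : V ≃ₗ[ZMod 2] V, ∀ x < 4096, g (M.e x) = M.e (ap 12 N x) := by
  choose num hn1 hn2 using M.surj
  have hl := ext_two (f := fun x => ap 12 N' (ap 12 N x)) (g := id) (fun x _ y _ => by rw [ap_add, ap_add])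
    (fun _ _ _ _ => rfl) h
  let f : V →+ V :=
    { toFun := fun v => M.e (ap 12 N (num v))
      map_zero' := by
        rw [show num 0 = 0 from M.inj _ (hn1 0) 0 (by norm_num) ((hn2 0).trans M.zero.symm), ap_zero, M.zero]
      map_add' := fun v w => by
        rw [show num (v + w) = num v ^^^ num w from M.inj _ (hn1 _) _ (xor_lt_pow (hn1 v) (hn1 w))
          (by rw [hn2, M.add _ (hn1 v) _ (hn1 w), hn2, hn2]), ap_add, M.add _ (ap_lt _ _ _) _ (ap_lt _ _ _)] }
  have hinj : Function.Injective f := fun v w e => by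
    have h' := congrArg (ap 12 N') (M.inj _ (ap_lt _ _ _) _ (ap_lt _ _ _) e)
    rw [hl _ (hn1 v), hl _ (hn1 w)] at h'
    rw [← hn2 v, ← hn2 w]; exact congrArg M.e h'
  refine ⟨LinearEquiv.ofBijective (f.toZModLinearMap 2) ⟨hinj, Finite.injective_iff_surjective.1 hinj⟩, fun x hx => ?_⟩
  show M.e (ap 12 N (num (M.e x))) = _
  rw [M.inj _ (hn1 _) x hx (hn2 _)]

theorem exists_rep (M : Model q n) {i : ℕ} (hi : i < 512) : ∃ g, Rep M g i := by
  obtain ⟨g, hg⟩ := exists_map M (N := el i) (N' := el (invIdx i)) fun b hb => by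
    obtain ⟨-, h⟩ := mulIdx_spec (invIdx_lt i) hi
    have hb' : (2 : ℕ) ^ b < 4096 := (Nat.pow_lt_pow_iff_right (a := 2) (by norm_num)).2 hb
    rw [← fe_eq, ← fe_eq, ← h _ hb']
    have h0 := (Bool.and_eq_true_iff.1 (List.all_eq_true.1 inv_ok i (List.mem_range.2 hi))).1
    rw [Nat.eq_of_beq_eq_true h0, fe_id _ hb']
  exact ⟨g, fun x hx => by rw [hg x hx, fe_eq]⟩

namespace Rep

variable {M : Model q n} {g g' : V ≃ₗ[ZMod 2] V} {i j : ℕ}

theorem eq_map (h : Rep M g i) (h' : Rep M g' i) : g = g' :=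
  LinearEquiv.ext fun v => by obtain ⟨x, hx, rfl⟩ := M.surj v; rw [h x hx, h' x hx]

theorem eq_num (hi : i < 512) (hj : j < 512) (h : Rep M g i) (h' : Rep M g j) : i = j :=
  fe_injective hi hj fun x hx => M.inj _ (fe_lt _ _) _ (fe_lt _ _) ((h x hx).symm.trans (h' x hx))

theorem mul (hi : i < 512) (hj : j < 512) (h : Rep M g i) (h' : Rep M g' j) : Rep M (g * g') (mulIdx i j) :=
  fun x hx => by
    show g (g' (M.e x)) = _
    rw [h' x hx, h _ (fe_lt _ _), (mulIdx_spec hi hj).2 x hx]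

theorem one : Rep M (1 : V ≃ₗ[ZMod 2] V) 0 := fun x hx => by rw [fe_id x hx]; rfl

end Rep

/-- The 2-group. -/
def sylGroup (M : Model q n) : Subgroup (V ≃ₗ[ZMod 2] V) where
  carrier := {g | ∃ i < 512, Rep M g i}
  one_mem' := ⟨0, by norm_num, Rep.one⟩
  mul_mem' := by
    rintro g g' ⟨i, hi, h⟩ ⟨j, hj, h'⟩
    exact ⟨_, (mulIdx_spec hi hj).1, h.mul hi hj h'⟩
  inv_mem' := by
    rintro g ⟨i, hi, h⟩
    obtain ⟨g', hg'⟩ := exists_rep M (invIdx_lt i)
    have h1 := hg'.mul (invIdx_lt i) hi h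
    rw [Nat.eq_of_beq_eq_true (Bool.and_eq_true_iff.1 (List.all_eq_true.1 inv_ok i (List.mem_range.2 hi))).1] at h1
    have := h1.eq_map Rep.one
    rw [inv_eq_of_mul_eq_one_left this]
    exact ⟨_, invIdx_lt i, hg'⟩

theorem sylGroup_card (M : Model q n) : Nat.card (sylGroup M) = 512 := by
  choose g hg using fun i : Fin 512 => exists_rep M i.isLt
  rw [← Nat.card_fin 512]
  refine (Nat.card_eq_of_bijective (fun i : Fin 512 => (⟨g i, i.val, i.isLt, hg i⟩ : sylGroup M)) ⟨fun i j e => ?_, ?_⟩).symm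
  · have e' : g i = g j := congrArg Subtype.val e
    exact Fin.ext ((hg i).eq_num i.isLt j.isLt (e' ▸ hg j))
  · rintro ⟨x, i, hi, hx⟩
    exact ⟨⟨i, hi⟩, Subtype.ext ((hg ⟨i, hi⟩).eq_map hx)⟩

theorem smallB_eq {x : ℕ} (hx : x < 4096) : smallB x = inSmall 0 x :=
  beq_iff_eq.1 (List.all_eq_true.1 small_mask x (List.mem_range.2 hx))

theorem nmul_xor (M : Model q n) {x y : ℕ} (hx : x < 4096) (hy : y < 4096) : nmul (x ^^^ y) = nmul x ^^^ nmul y :=
  M.inj _ (nmul_lt' (xor_lt_pow hx hy)) _ (xor_lt_pow (nmul_lt' hx) (nmul_lt' hy))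
    (by rw [← M.n_e _ (xor_lt_pow hx hy), M.add x hx y hy, map_add, M.add _ (nmul_lt' hx) _ (nmul_lt' hy),
      M.n_e x hx, M.n_e y hy])

theorem auto_of_checks (M : Model q n) {f : ℕ → ℕ} {g : V ≃ₗ[ZMod 2] V} (hg : ∀ x < 4096, g (M.e x) = M.e (f x))
    (hlt : ∀ x, f x < 4096) (hadd : ∀ x y, f (x ^^^ y) = f x ^^^ f y)
    (hq : ∀ x < 4096, qn (f x) = qn x ∧ smallB (f x) = smallB x)
    (htw : (∀ b < 12, f (nmul (2 ^ b)) = nmul (f (2 ^ b))) ∨ ∀ b < 12, f (nmul (2 ^ b)) = nmul (nmul (f (2 ^ b)))) :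
    g ∈ autGroup M := by
  refine mem_autGroup.2 ⟨{
    f := f
    lt := fun x _ => hlt x
    inj := fun x hx y hy e => M.inj x hx y hy (g.injective (by rw [hg x hx, hg y hy, e]))
    add := fun x _ y _ => hadd x y
    qn_f := fun x hx => (hq x hx).1
    small := fun x hx => by rw [← smallB_eq (hlt x), (hq x hx).2, smallB_eq hx]
    twist := ?_ }, fun x hx => (hg x hx).symm⟩
  have hn : ∀ x < 4096, ∀ y < 4096, f (nmul (x ^^^ y)) = f (nmul x) ^^^ f (nmul y) := fun x hx y hy => by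
    rw [nmul_xor M hx hy, hadd]
  rcases htw with h | h
  · refine ⟨1, Or.inl rfl, ext_two hn (fun x _ y _ => ?_) h⟩
    show nmul (f (x ^^^ y)) = nmul (f x) ^^^ nmul (f y)
    rw [hadd, nmul_xor M (hlt _) (hlt _)]
  · refine ⟨2, Or.inr rfl, ext_two hn (fun x _ y _ => ?_) h⟩
    show nmul (nmul (f (x ^^^ y))) = nmul (nmul (f x)) ^^^ nmul (nmul (f y))
    rw [hadd, nmul_xor M (hlt _) (hlt _), nmul_xor M (nmul_lt' (hlt _)) (nmul_lt' (hlt _))]

theorem sylGroup_le (M : Model q n) : sylGroup M ≤ autGroup M := by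
  have hgen : ∀ g ∈ genIdx, ∀ γ, Rep M γ g → γ ∈ autGroup M := by
    intro g hg γ hγ
    have h1 := List.all_eq_true.1 gen_auto.1 g hg
    have h2 := List.all_eq_true.1 gen_auto.2 g hg
    simp only [Bool.or_eq_true, List.all_eq_true, List.mem_range, Nat.beq_eq, Bool.and_eq_true, beq_iff_eq] at h1 h2
    exact auto_of_checks M hγ (fe_lt g) (fe_add g) h2 h1
  have key : ∀ (f i : ℕ), i < 512 → okF f i = true → ∀ γ, Rep M γ i → γ ∈ autGroup M := by
    intro f
    induction f with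
    | zero =>
      intro i _ hok γ hγ
      obtain rfl : i = 0 := Nat.eq_of_beq_eq_true hok
      rw [hγ.eq_map Rep.one]; exact one_mem _
    | succ f ih =>
      intro i hi hok γ hγ
      by_cases h0 : Nat.beq i 0 = true
      · obtain rfl : i = 0 := Nat.eq_of_beq_eq_true h0
        rw [hγ.eq_map Rep.one]; exact one_mem _
      simp only [okF, Bool.or_eq_true] at hok
      replace hok := hok.resolve_left h0
      have hg8 : parGen i < genIdx.length := by rw [gen_small.2]; exact parGen_lt i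
      have hgm : genIdx.getD (parGen i) 0 ∈ genIdx := by
        rw [List.getD_eq_getElem _ _ hg8]; exact List.getElem_mem _
      have hg512 : genIdx.getD (parGen i) 0 < 512 := of_decide_eq_true (List.all_eq_true.1 gen_small.1 _ hgm)
      obtain ⟨a, ha⟩ := exists_rep M hg512
      obtain ⟨b, hb⟩ := exists_rep M (parIdx_lt i)
      have e : γ = a * b := LinearEquiv.ext fun v => by
        obtain ⟨x, hx, rfl⟩ := M.surj v
        show γ (M.e x) = a (b (M.e x))
        rw [hγ x hx, hb x hx, ha _ (fe_lt _ _)]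
        congr 1
        refine (ext_two (f := fe i) (g := fun x => fe (genIdx.getD (parGen i) 0) (fe (parIdx i) x))
          (fun x _ y _ => fe_add _ x y) (fun x _ y _ => by rw [fe_add, fe_add]) fun c hc => ?_) x hx
        have h := (Bool.and_eq_true_iff.1 (List.all_eq_true.1 par_ok i (List.mem_range.2 hi))).2
        rw [Bool.or_eq_true] at h
        exact Nat.eq_of_beq_eq_true (List.all_eq_true.1 (h.resolve_left h0) c (List.mem_range.2 hc))
      rw [e]
      exact mul_mem (hgen _ hgm a ha) (ih _ (parIdx_lt i) hok b hb)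
  rintro γ ⟨i, hi, hγ⟩
  exact key 5 i hi (okF_five hi) γ hγ

end Cfsg.Agent.LargeFischer
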