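/-
A central extension by three of the group of order 81 inside the monomial hypotheses.

* `exists_setup`
-/
import Cfsg.Agent.Lib.LargeFischer.Monomial

set_option autoImplicit false
set_option maxRecDepth 100000

open scoped commutatorElement

namespace Cfsg.Agent.LargeFischer

open Cfsg.Agent.MultiplierUFourThree

/-- The map on the group of order 243 given by a matrix and a translation. -/
def lmap (A : Fin 4 → Fin 4 → ZMod 3) (d : Lam) (u : Vec) : Vec :=
  u 0 • unit 0 + u 1 • cons (d 0) (A 0) + u 2 • cons (d 1) (A 1) + u 3 • cons (d 2) (A 2) + u 4 • cons (d 3) (A 3)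

theorem cons_zero' (a : ZMod 3) (l : Lam) : cons a l 0 = a := rfl
theorem cons_one' (a : ZMod 3) (l : Lam) : cons a l 1 = l 0 := rfl
theorem cons_two' (a : ZMod 3) (l : Lam) : cons a l 2 = l 1 := rfl
theorem cons_three' (a : ZMod 3) (l : Lam) : cons a l 3 = l 2 := rfl
theorem cons_four' (a : ZMod 3) (l : Lam) : cons a l 4 = l 3 := rfl

theorem dot_lmap (A : Fin 4 → Fin 4 → ZMod 3) (d : Lam) (a : ZMod 3) (l : Lam) (u : Vec) :
    dot (cons a l) (lmap A d u) = dot (cons a (app A l + a • d)) u := by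
  simp only [lmap, dot_add_right, dot_smul_right, dot_unit]
  simp only [dot, cons_zero', cons_one', cons_two', cons_three', cons_four', app, Pi.add_apply, Pi.smul_apply,
    smul_eq_mul]
  ring

theorem vec_eq_sum : ∀ u : Vec, u = u 0 • unit 0 + u 1 • unit 1 + u 2 • unit 2 + u 3 • unit 3 + u 4 • unit 4 := by
  intro u; funext i; fin_cases i <;> simp [unit]

/-- Two additive maps into a group that agree on the unit vectors are equal. -/
theorem eq_of_units {H : Type*} [Group H] {f g : Vec → H} (hf : ∀ u v, f (u + v) = f u * f v)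
    (hg : ∀ u v, g (u + v) = g u * g v) (h : ∀ i, f (unit i) = g (unit i)) : ∀ u, f u = g u := by
  have z : ∀ k : Vec → H, (∀ u v, k (u + v) = k u * k v) → k 0 = 1 := fun k hk => by
    have := hk 0 0; rwa [add_zero, left_eq_mul] at this
  have hs : ∀ (c : ZMod 3) i, f (c • unit i) = g (c • unit i) := by
    intro c i
    rcases three_vals c with rfl | rfl | rfl
    · rw [zero_smul, z f hf, z g hg]
    · rw [one_smul, h]
    · rw [show (-1 : ZMod 3) = 1 + 1 from by decide, add_smul, one_smul, hf, hg, h]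
  intro u
  rw [vec_eq_sum u, hf, hf, hf, hf, hg, hg, hg, hg, hs, hs, hs, hs, hs]

theorem aprod_shift {H : Type*} [CommMonoid H] (z : H) (e : Fin 4 → ℕ) (A : Fin 4 → H) (v : Lam) :
    aprod (fun i => z ^ e i * A i) v =
      z ^ (e 0 * (v 0).val + e 1 * (v 1).val + e 2 * (v 2).val + e 3 * (v 3).val) * aprod A v := by
  have key : ∀ a b c d p r s t : H, (a * p) * (b * r) * (c * s) * (d * t) = (a * b * c * d) * (p * r * s * t) := by
    intros; ac_rfl
  simp only [aprod, mul_pow, ← pow_mul, pow_add]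
  exact key _ _ _ _ _ _ _ _

variable {V : Type*} [AddCommGroup V] [Module (ZMod 2) V] {q : QuadraticForm (ZMod 2) V}
variable {F : Type} [Field F] [Fintype F]

set_option maxHeartbeats 1000000 in
theorem exists_setup (hF : Fintype.card F = 3 ^ 2) (M : Subgroup (V ≃ₗ[ZMod 2] V))
    (π : M →* PU F) (hπ : Function.Surjective π) (n : M) (hn3 : n ^ 3 = 1) (hn1 : n ≠ 1)
    (hker : ∀ m, π m = 1 ↔ m ∈ Subgroup.zpowers n)
    (hq : ∀ m ∈ M, ∀ v, q (m v) = q v) (hcard : Nat.card V = 4096)
    (hnd : ∀ v, (∀ w, QuadraticMap.polar q v w = 0) → v = 0) :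
    ∃ (S : Setup q) (g : V ≃ₗ[ZMod 2] V), (∀ u, S.T u ∈ M) ∧ S.gx ∈ M ∧ S.gy ∈ M ∧
      S.T (unit 0) = n.1 ∧ g ∈ M ∧ g ^ 7 = 1 ∧ g ≠ 1 ∧ g * n.1 = n.1 * g := by
  classical
  obtain ⟨a, x, y, g, ha3, hac, hind, hx5, hy5, hg7, hg1, hxa, hya⟩ := exists_elems (F := F) hF
  -- powers of `n`
  let pw : ZMod 3 → M := fun c => n ^ c.val
  have hpw : ∀ a b, pw (a + b) = pw a * pw b := fun a b => by
    show n ^ (a + b).val = n ^ a.val * n ^ b.val
    rw [ZMod.val_add, ← pow_eq_pow_mod _ hn3, pow_add]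
  have hpwk : ∀ m, m ∈ Subgroup.zpowers n → ∃ c, m = pw c := by
    intro m hm
    obtain ⟨k, rfl⟩ := Subgroup.mem_zpowers_iff.1 hm
    refine ⟨(k : ZMod 3), ?_⟩
    show n ^ k = n ^ ((k : ZMod 3)).val
    rw [← zpow_natCast n ((k : ZMod 3)).val, ZMod.val_intCast, ← zpow_eq_zpow_emod k hn3]
  have hπpw : ∀ c, π (pw c) = 1 := fun c => (hker _).2 (pow_mem (Subgroup.mem_zpowers n) _)
  have hpwinj : Function.Injective pw := by
    intro a b h
    have ho : orderOf n = 3 := orderOf_eq_prime hn3 hn1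
    exact ZMod.val_injective 3 (pow_injOn_Iio_orderOf (x := n) (by rw [ho]; exact ZMod.val_lt a)
      (by rw [ho]; exact ZMod.val_lt b) h)
  -- odd elements centralise `n`
  have hcent : ∀ (m : M) (k : ℕ), Odd k → π m ^ k = 1 → m * n = n * m := by
    intro m k hk hm
    obtain ⟨c, hc⟩ := hpwk (m * n * m⁻¹) ((hker _).1 (by
      rw [map_mul, map_mul, (hker n).2 (Subgroup.mem_zpowers n), mul_one, map_inv, mul_inv_cancel]))
    rcases three_vals c with rfl | rfl | rfl
    · exact absurd (conj_eq_one_iff.1 (hc.trans (pow_zero n))) hn1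
    · rw [← mul_inv_eq_iff_eq_mul]
      exact hc.trans (pow_one n)
    · exfalso
      have hinv : m * n * m⁻¹ = n⁻¹ := by
        rw [hc]
        show n ^ 2 = n⁻¹
        rw [eq_inv_iff_mul_eq_one, ← pow_succ, hn3]
      have hj : ∀ j : ℕ, m ^ (2 * j) * n * (m ^ (2 * j))⁻¹ = n := by
        intro j; induction j with
        | zero => simp
        | succ j ih =>
          rw [Nat.mul_succ, pow_add, pow_two]
          calc m ^ (2 * j) * (m * m) * n * (m ^ (2 * j) * (m * m))⁻¹
              = m ^ (2 * j) * (m * (m * n * m⁻¹) * m⁻¹) * (m ^ (2 * j))⁻¹ := by group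
            _ = m ^ (2 * j) * (m * n * m⁻¹)⁻¹ * (m ^ (2 * j))⁻¹ := by
                rw [show m * (m * n * m⁻¹) * m⁻¹ = (m * n * m⁻¹)⁻¹ from (congrArg (fun w => m * w * m⁻¹) hinv).trans (by group)]
            _ = n := by rw [hinv, inv_inv, ih]
      obtain ⟨j, rfl⟩ := hk
      obtain ⟨c', hc'⟩ := hpwk (m ^ (2 * j + 1)) ((hker _).1 (by rw [map_pow, hm]))
      have h1 : m ^ (2 * j + 1) * n * (m ^ (2 * j + 1))⁻¹ = n := by
        rw [hc']; show n ^ c'.val * n * (n ^ c'.val)⁻¹ = n; group
      have h2 : m ^ (2 * j + 1) * n * (m ^ (2 * j + 1))⁻¹ = n⁻¹ := by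
        calc m ^ (2 * j + 1) * n * (m ^ (2 * j + 1))⁻¹
            = m * (m ^ (2 * j) * n * (m ^ (2 * j))⁻¹) * m⁻¹ := by rw [pow_succ']; group
          _ = n⁻¹ := by rw [hj, hinv]
      have h4 : n ^ 2 = 1 := by rw [pow_two, ← eq_inv_iff_mul_eq_one]; exact h1.symm.trans h2
      apply hn1
      calc n = n ^ 3 * (n ^ 2)⁻¹ := by group
        _ = 1 := by rw [hn3, h4]; simp
  choose A hA using fun i => hπ (a i)
  obtain ⟨X, hX⟩ := hπ x
  obtain ⟨Y, hY⟩ := hπ y
  obtain ⟨G₀, hG⟩ := hπ g
  have hAn : ∀ i, A i * n = n * A i := fun i => hcent _ 3 (by decide) (by rw [hA, ha3])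
  have hXn : X * n = n * X := hcent _ 5 (by decide) (by rw [hX, hx5])
  have hYn : Y * n = n * Y := hcent _ 5 (by decide) (by rw [hY, hy5])
  -- commutators
  let E : Subgroup M :=
    { carrier := {m | (∀ i, Commute (π m) (a i)) ∧ m * n = n * m ∧ π m ∈ Subgroup.closure (Set.range a)}
      one_mem' := ⟨fun i => by rw [map_one]; exact Commute.one_left _, by simp, by rw [map_one]; exact one_mem _⟩
      mul_mem' := fun {p r} hp hr => ⟨fun i => by rw [map_mul]; exact (hp.1 i).mul_left (hr.1 i),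
        (Commute.mul_left hp.2.1 hr.2.1).eq, by rw [map_mul]; exact mul_mem hp.2.2 hr.2.2⟩
      inv_mem' := fun {p} hp => ⟨fun i => by rw [map_inv]; exact (hp.1 i).inv_left,
        (Commute.inv_left hp.2.1).eq, by rw [map_inv]; exact inv_mem hp.2.2⟩ }
  have hAE : ∀ i, A i ∈ E := fun i => ⟨fun j => by rw [hA]; exact hac i j, hAn i,
    by rw [hA]; exact Subgroup.subset_closure ⟨i, rfl⟩⟩
  have hnE : n ∈ E := ⟨fun i => by rw [(hker n).2 (Subgroup.mem_zpowers n)]; exact Commute.one_left _, rfl,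
    by rw [(hker n).2 (Subgroup.mem_zpowers n)]; exact one_mem _⟩
  have hpwE : ∀ c, pw c ∈ E := fun c => pow_mem hnE _
  have hEc : ∀ p r : M, p ∈ E → r ∈ E → Commute (π p) (π r) := by
    intro p r hp hr
    have hle : Subgroup.closure (Set.range a) ≤ Subgroup.centralizer {π p} := by
      rw [Subgroup.closure_le]
      rintro _ ⟨i, rfl⟩
      exact Subgroup.mem_centralizer_singleton_iff.2 (hp.1 i).symm.eq
    exact (Subgroup.mem_centralizer_singleton_iff.1 (hle hr.2.2)).symm
  have hcomm : ∀ p r : E, ∃ c, ⁅(p : M), (r : M)⁆ = pw c := fun p r => hpwk _ ((hker _).1 (by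
    rw [map_commutatorElement, commutatorElement_eq_one_iff_mul_comm]; exact (hEc _ _ p.2 r.2).eq))
  choose cb hcb using hcomm
  have hpwc : ∀ (c : ZMod 3) (m : E), (m : M) * pw c = pw c * (m : M) := fun c m =>
    (Commute.pow_right (show Commute (m : M) n from m.2.2.1) _).eq
  have hanti : ∀ p r, cb r p = -cb p r := fun p r => by
    apply eq_neg_of_add_eq_zero_left
    apply hpwinj
    rw [hpw, ← hcb, ← hcb, ← commutatorElement_inv (p : M) (r : M), inv_mul_cancel]; rfl
  have hadd : ∀ p p' r, cb (p * p') r = cb p r + cb p' r := fun p p' r => by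
    apply hpwinj
    rw [hpw, ← hcb, ← hcb]
    show ⁅(p : M) * (p' : M), (r : M)⁆ = _
    have e : ⁅(p : M) * (p' : M), (r : M)⁆ = (p : M) * ⁅(p' : M), (r : M)⁆ * (p : M)⁻¹ * ⁅(p : M), (r : M)⁆ := by
      simp only [commutatorElement_def]; group
    rw [e, hcb p' r, hpwc, mul_inv_cancel_right, hcb p r, ← hpw, ← hpw, add_comm]
  have hpow : ∀ p r (k : ℕ), cb (p ^ k) r = (k : ZMod 3) * cb p r := by
    intro p r k
    induction k with
    | zero =>
      have h := hadd 1 1 r
      rw [one_mul, left_eq_add] at h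
      rw [pow_zero, h, Nat.cast_zero, zero_mul]
    | succ k ih => rw [pow_succ, hadd, ih, Nat.cast_succ]; ring
  let nE : E := ⟨n, hnE⟩
  let AE : Fin 4 → E := fun i => ⟨A i, hAE i⟩
  have hcn : ∀ r, cb nE r = 0 := fun r => hpwinj (by
    rw [← hcb, show pw 0 = 1 from rfl, commutatorElement_eq_one_iff_mul_comm]; exact r.2.2.1.symm)
  have hexp : ∀ (c : ZMod 3) (u : Lam) (r : E), cb (nE ^ c.val * aprod AE u) r =
      ∑ k, u k * cb (AE k) r := fun c u r => by
    simp only [aprod, hadd, hpow, hcn, ZMod.natCast_val, ZMod.cast_id', id, Fin.sum_univ_four]; ring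
  let b : Fin 6 → ZMod 3 := ![cb (AE 0) (AE 1), cb (AE 0) (AE 2), cb (AE 0) (AE 3), cb (AE 1) (AE 2),
    cb (AE 1) (AE 3), cb (AE 2) (AE 3)]
  have hdiag : ∀ p, cb p p = 0 := fun p => hpwinj (by rw [← hcb, commutatorElement_self]; rfl)
  have halt : ∀ i j, alt b i j = cb (AE i) (AE j) := by
    intro i j
    fin_cases i <;> fin_cases j <;> simp [alt, b, hdiag] <;> exact (hanti _ _).symm
  have halt2 : ∀ (v : Lam) i, app (alt b) v i = ∑ l, v l * cb (AE i) (AE l) := fun v i => by
    simp only [app, halt, Fin.sum_univ_four]; ring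
  -- conjugation by elements centralising `n`
  have hconj : ∀ (m : M) (mg : PU F) (Am : Fin 4 → Fin 4 → ZMod 3), π m = mg →
      (∀ i, mg * a i = aprod a (Am i) * mg) → ∃ c : Lam, ∀ i, m * A i * m⁻¹ = pw (c i) * aprod A (Am i) := by
    intro m mg Am hm hma
    have : ∀ i, ∃ c, m * A i * m⁻¹ * (aprod A (Am i))⁻¹ = pw c := fun i => hpwk _ ((hker _).1 (by
      have e : π (aprod A (Am i)) = aprod a (Am i) := by simp [aprod, hA]
      rw [map_mul, map_mul, map_mul, map_inv, map_inv, e, hm, hA, hma, mul_inv_cancel_right, mul_inv_cancel]))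
    choose c hc using this
    exact ⟨c, fun i => by rw [← hc, inv_mul_cancel_right]⟩
  obtain ⟨cx, hcx⟩ := hconj X x Xm hX hxa
  obtain ⟨cy, hcy⟩ := hconj Y y Ym hY hya
  have hcoe : ∀ (c : ZMod 3) u, ((nE ^ c.val * aprod AE u : E) : M) = pw c * aprod A u := fun c u => by
    simp [aprod, pw, AE, nE]
  have hform : ∀ (m : M) (Am : Fin 4 → Fin 4 → ZMod 3) (c : Lam), m * n = n * m →
      (∀ i, m * A i * m⁻¹ = pw (c i) * aprod A (Am i)) →
      ∀ i j, ∑ k, Am i k * app (alt b) (Am j) k = alt b i j := by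
    intro m Am c hmn hm i j
    have e : cb (nE ^ (c i).val * aprod AE (Am i)) (nE ^ (c j).val * aprod AE (Am j)) = cb (AE i) (AE j) := by
      apply hpwinj
      rw [← hcb, hcoe, hcoe, ← hm, ← hm]
      rw [show ⁅m * A i * m⁻¹, m * A j * m⁻¹⁆ = m * ⁅A i, A j⁆ * m⁻¹ by
        simp only [commutatorElement_def]; group, show ⁅A i, A j⁆ = pw (cb (AE i) (AE j)) from hcb (AE i) (AE j)]
      rw [(Commute.pow_right (show Commute m n from hmn) _).eq, mul_inv_cancel_right]
    rw [halt i j, ← e, hexp]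
    refine Finset.sum_congr rfl fun k _ => ?_
    rw [halt2]
    congr 1
    rw [hanti, hexp]
    simp [hanti (AE k), Finset.sum_neg_distrib]
  have hb0 : b = 0 := form_zero b (hform X Xm cx hXn hcx) (hform Y Ym cy hYn hcy)
  have hAA : ∀ i j, Commute (A i) (A j) := fun i j => by
    have h := hcb (AE i) (AE j)
    rw [← halt, hb0, show alt 0 i j = 0 by fin_cases i <;> fin_cases j <;> simp [alt]] at h
    exact commutatorElement_eq_one_iff_mul_comm.1 h
  -- the abelian group
  let gens : Set M := insert n (Set.range A)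
  have hgens : ∀ p ∈ gens, ∀ r ∈ gens, p * r = r * p := by
    rintro p (rfl | ⟨i, rfl⟩) r (rfl | ⟨j, rfl⟩)
    exacts [rfl, (hAn j).symm, hAn i, hAA i j]
  let K := Subgroup.closure gens
  letI : CommGroup K :=
    { (inferInstance : Group K) with
      mul_comm := fun p r => by
        refine Subtype.ext ?_
        have hle : K ≤ Subgroup.centralizer (K : Set M) := by
          refine (Subgroup.closure_le _).2 fun s hs => Subgroup.mem_centralizer_iff.2 fun t ht => ?_
          exact Subgroup.closure_induction (fun t ht => hgens t ht s hs) (by simp)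
            (fun _ _ _ _ h1 h2 => (Commute.mul_left h1 h2).eq) (fun _ _ h => (Commute.inv_left h).eq) ht
        exact (Subgroup.mem_centralizer_iff.1 (hle p.2) r.1 r.2).symm }
  have hnK : n ∈ K := Subgroup.subset_closure (Set.mem_insert _ _)
  have hAK : ∀ i, A i ∈ K := fun i => Subgroup.subset_closure (Set.mem_insert_of_mem _ ⟨i, rfl⟩)
  -- exponent three
  have hcube : ∀ i, ∃ l, A i ^ 3 = pw l := fun i => hpwk _ ((hker _).1 (by rw [map_pow, hA, ha3]))
  choose lam hlam using hcube
  have hlam0 : lam = 0 := by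
    apply x_fix
    funext i
    apply hpwinj
    let nK : K := ⟨n, hnK⟩
    let AK : Fin 4 → K := fun k => ⟨A k, hAK k⟩
    have e1 : (pw (cx i) * aprod A (Xm i)) ^ 3 = pw (app Xm lam i) := by
      have hL : ∀ k, AK k ^ 3 = nK ^ (lam k).val := fun k => Subtype.ext (by simpa [AK, nK] using hlam k)
      have h : (nK ^ (cx i).val * aprod AK (Xm i)) ^ 3 =
          nK ^ ((lam 0).val * (Xm i 0).val + (lam 1).val * (Xm i 1).val + (lam 2).val * (Xm i 2).val +
            (lam 3).val * (Xm i 3).val) := by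
        have h3 : nK ^ 3 = 1 := Subtype.ext (by simpa [nK] using hn3)
        simp only [aprod, mul_pow, pow_right_comm _ _ 3, hL, h3, one_pow, one_mul]
        simp only [pow_mul, pow_add]
      have h' := congrArg Subtype.val h
      simp only [aprod, Subgroup.coe_mul, SubmonoidClass.coe_pow, AK, nK] at h'
      refine h'.trans ?_
      show n ^ _ = n ^ (app Xm lam i).val
      rw [pow_eq_pow_mod _ hn3, ← ZMod.val_natCast]
      congr 2
      simp only [Nat.cast_add, Nat.cast_mul, ZMod.natCast_val, ZMod.cast_id', id, app]; ring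
    rw [← e1, ← hcx i, conj_pow, hlam]
    rw [(Commute.pow_right (show Commute X n from hXn) _).eq, mul_inv_cancel_right]
  -- new lifts
  obtain ⟨f, hf⟩ := x_solve cx
  let B : Fin 5 → K := Fin.cons ⟨n, hnK⟩ fun i => ⟨pw (f i) * A i, mul_mem (pow_mem hnK _) (hAK i)⟩
  have hB3 : ∀ i, B i ^ 3 = 1 := by
    intro i
    refine Fin.cases ?_ (fun j => ?_) i
    · exact Subtype.ext (by simpa [B] using hn3)
    · refine Subtype.ext ?_
      show (pw (f j) * A j) ^ 3 = 1
      rw [(show Commute (pw (f j)) (A j) from (Commute.pow_left (hAn j).symm _)).mul_pow, hlam, hlam0]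
      show (n ^ _) ^ 3 * n ^ (0 : ZMod 3).val = 1
      rw [pow_right_comm, hn3, one_pow, ZMod.val_zero, pow_zero, one_mul]
  let T0 : Vec → K := fun u => ∏ i, B i ^ (u i).val
  have hT0 : ∀ u v, T0 (u + v) = T0 u * T0 v := fun u v => by
    simp only [T0, ← Finset.prod_mul_distrib]
    refine Finset.prod_congr rfl fun i _ => ?_
    rw [Pi.add_apply, ZMod.val_add, ← pow_eq_pow_mod _ (hB3 i), pow_add]
  let T : Vec → M := fun u => (T0 u : M)
  have hTadd : ∀ u v, T (u + v) = T u * T v := fun u v => congrArg Subtype.val (hT0 u v)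
  have hTform : ∀ u : Vec, T u = pw (u 0) * aprod (fun i => pw (f i) * A i) (Fin.tail u) := fun u => by
    simp only [T, T0, Fin.prod_univ_five, Subgroup.coe_mul, SubmonoidClass.coe_pow, aprod, Fin.tail, mul_assoc]
    rfl
  have hTB : ∀ i : Fin 4, T (unit i.succ) = pw (f i) * A i := fun i => by
    rw [hTform]; fin_cases i <;> simp [unit, Fin.tail, aprod, pw, show (1 : ZMod 3).val = 1 from rfl]
  have hTn : T (unit 0) = n := by
    rw [hTform]; simp [unit, Fin.tail, aprod, pw, show (1 : ZMod 3).val = 1 from rfl]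
  have hTf : ∀ c (v : Lam), T (cons c v) = pw (c + ∑ k, v k * f k) * aprod A v := by
    intro c v
    rw [hTform]
    show pw c * aprod (fun i => pw (f i) * A i) v = _
    let nK : K := ⟨n, hnK⟩
    let AK : Fin 4 → K := fun k => ⟨A k, hAK k⟩
    have h : nK ^ c.val * aprod (fun i => nK ^ (f i).val * AK i) v =
        nK ^ (c.val + ((f 0).val * (v 0).val + (f 1).val * (v 1).val + (f 2).val * (v 2).val + (f 3).val * (v 3).val)) *
          aprod AK v := by
      rw [aprod_shift]
      simp only [pow_add, mul_assoc]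
    have h' := congrArg Subtype.val h
    simp only [aprod, Subgroup.coe_mul, SubmonoidClass.coe_pow, AK, nK] at h'
    refine h'.trans (congrArg (· * _) ?_)
    show n ^ _ = n ^ (c + ∑ k, v k * f k).val
    rw [pow_eq_pow_mod _ hn3, ← ZMod.val_natCast]
    congr 2
    simp only [Nat.cast_add, Nat.cast_mul, ZMod.natCast_val, ZMod.cast_id', id, Fin.sum_univ_four]; ring
  have hTinj : Function.Injective T := by
    have h1 : ∀ u, T u = 1 → u = 0 := by
      intro u hu
      have hp := congrArg π hu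
      rw [hTform, map_mul, hπpw, one_mul, map_one] at hp
      have ht : Fin.tail u = 0 := hind _ (by simpa [aprod, hπpw, hA] using hp)
      rw [hTform, ht] at hu
      have h0 : pw (u 0) = pw 0 := by simpa [aprod, pw] using hu
      funext i
      refine Fin.cases (hpwinj h0) (fun j => ?_) i
      exact congrFun ht j
    intro u v h
    refine sub_eq_zero.1 (h1 _ (mul_right_cancel (b := T v) ?_))
    rw [← hTadd, sub_add_cancel, one_mul, h]
  have hrule : ∀ (m : M) (Am : Fin 4 → Fin 4 → ZMod 3) (c d : Lam), m * n = n * m →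
      (∀ i, m * A i * m⁻¹ = pw (c i) * aprod A (Am i)) → (∀ i, f i + c i = d i + ∑ k, Am i k * f k) →
      ∀ u, m * T u = T (lmap Am d u) * m := by
    intro m Am c d hmn hm hd u
    rw [← mul_inv_eq_iff_eq_mul]
    refine eq_of_units (f := fun u => m * T u * m⁻¹) (g := fun u => T (lmap Am d u))
      (fun u v => by simp only [hTadd]; group) (fun u v => by
        rw [← hTadd]; congr 1
        simp only [lmap, Pi.add_apply, add_smul]; abel) (fun i => ?_) u
    refine Fin.cases ?_ (fun j => ?_) i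
    · show m * T (unit 0) * m⁻¹ = T (lmap Am d (unit 0))
      rw [show lmap Am d (unit 0) = unit 0 by simp [lmap, unit], hTn, hmn, mul_inv_cancel_right]
    · show m * T (unit j.succ) * m⁻¹ = T (lmap Am d (unit j.succ))
      rw [show lmap Am d (unit j.succ) = cons (d j) (Am j) by fin_cases j <;> simp [lmap, unit],
        hTB, hTf, ← hd j, hpw]
      calc m * (pw (f j) * A j) * m⁻¹ = m * pw (f j) * m⁻¹ * (m * A j * m⁻¹) := by group
        _ = _ := by
          rw [(Commute.pow_right (show Commute m n from hmn) _).eq, mul_inv_cancel_right, hm, mul_assoc]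
  have hfx : ∀ i, f i + cx i = (0 : Lam) i + ∑ k, Xm i k * f k := fun i => by
    have h := congrFun hf i
    simp only [Pi.sub_apply, app] at h
    simp only [Pi.zero_apply, zero_add, Fin.sum_univ_four]
    linear_combination -h
  let dy : Lam := fun i => f i + cy i - ∑ k, Ym i k * f k
  have hfy : ∀ i, f i + cy i = dy i + ∑ k, Ym i k * f k := fun i => by simp [dy]
  have hXr := hrule X Xm cx 0 hXn hcx hfx
  have hYr := hrule Y Ym cy dy hYn hcy hfy
  let S : Setup q :=
    { T := fun u => (T u).1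
      T_add := fun u v => congrArg Subtype.val (hTadd u v)
      T_inj := fun u v h => hTinj (Subtype.ext h)
      T_q := fun u => hq _ (T u).2
      gx := X.1
      Lx := lmap Xm 0
      hx := fun u v => LinearEquiv.congr_fun (congrArg Subtype.val (hXr u)) v
      dot_Lx := fun a l u => by rw [dot_lmap, smul_zero, add_zero]
      gy := Y.1
      Ly := lmap Ym dy
      d := dy
      hy := fun u v => LinearEquiv.congr_fun (congrArg Subtype.val (hYr u)) v
      dot_Ly := fun a l u => dot_lmap _ _ a l u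
      card := hcard
      nondeg := hnd }
  have hg3 : π (G₀ ^ 3) ≠ 1 := by
    rw [map_pow, hG]
    intro h
    apply hg1
    calc g = g ^ 7 * ((g ^ 3) ^ 2)⁻¹ := by group
      _ = 1 := by rw [hg7, h]; simp
  refine ⟨S, (G₀ ^ 3 : M).1, fun u => (T u).2, X.2, Y.2, congrArg Subtype.val hTn, (G₀ ^ 3 : M).2, ?_,
    fun h => hg3 (by rw [show G₀ ^ 3 = 1 from Subtype.ext h, map_one]), ?_⟩
  · obtain ⟨c, hc⟩ := hpwk (G₀ ^ 7) ((hker _).1 (by rw [map_pow, hG, hg7]))
    have : (G₀ ^ 3) ^ 7 = 1 := by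
      rw [pow_right_comm, hc]
      show (n ^ _) ^ 3 = 1
      rw [pow_right_comm, hn3, one_pow]
    exact congrArg Subtype.val this
  · exact congrArg Subtype.val (Commute.pow_left (show Commute G₀ n from hcent G₀ 7 (by decide) (by rw [hG, hg7])) 3).eq

end Cfsg.Agent.LargeFischer
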