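/-
The action of the centraliser on the Frattini quotient for a group of large Fischer type.

* `toGL` : the representation
* `exists_frame` : the frame, with an element of order seven
-/
import Cfsg.Agent.Lib.LargeFischer.Count
import Cfsg.Agent.Lib.LargeFischer.Extension
import Cfsg.Agent.Lib.LargeExtraspecial.OutForm
import Cfsg.Agent.Lib.Symplectic.GFit
import Cfsg.Agent.Lib.Cores.Fitting
import Cfsg.Agent.Lib.StabCert.Quad
import Cfsg.Prelude.Def_MonsterType

set_option autoImplicit false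
open Cfsg
open scoped commutatorElement

namespace Cfsg.Agent.LargeFischer

open LargeExtraspecial

universe u

variable {C : Type u} [Group C] {Q : Subgroup C} [hQn : Q.Normal] [Finite Q]
  [hE : Fact (Cfsg.IsExtraspecial 2 Q)]

/-- The action of the group on the Frattini quotient. -/
noncomputable def toGL (Q : Subgroup C) [Q.Normal] [Finite Q] [Fact (Cfsg.IsExtraspecial 2 Q)] :
    C →* (OutForm.Vm Q ≃ₗ[ZMod 2] OutForm.Vm Q) :=
  (Subgroup.subtype _).comp ((OutForm.act Q).comp MulAut.conjNormal)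

theorem toGL_pr (c : C) (x : Q) : toGL Q c (OutForm.pr x) = OutForm.pr (MulAut.conjNormal c x) :=
  OutForm.actLin_pr _ x

theorem toGL_q (c : C) (v : OutForm.Vm Q) : OutForm.qf Q (toGL Q c v) = OutForm.qf Q v :=
  ((OutForm.act Q) (MulAut.conjNormal c)).2 v

theorem toGL_ker (hcent : Subgroup.centralizer (Q : Set C) ≤ Q) : (toGL Q).ker = Q := by
  refine le_antisymm (fun c hc => ?_) fun c hc => ?_
  · have h : MulAut.conjNormal c ∈ (OutForm.act Q).ker := Subtype.ext hc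
    rw [OutForm.ker_eq] at h
    obtain ⟨x, hx⟩ := h
    have hmem : (x : C)⁻¹ * c ∈ Subgroup.centralizer (Q : Set C) := by
      refine Subgroup.mem_centralizer_iff.2 fun y hy => ?_
      have h' : (x : C) * y * (x : C)⁻¹ = c * y * c⁻¹ :=
        congrArg (fun f : MulAut Q => ((f ⟨y, hy⟩ : Q) : C)) hx
      calc y * ((x : C)⁻¹ * c) = (x : C)⁻¹ * ((x : C) * y * (x : C)⁻¹) * c := by group
        _ = (x : C)⁻¹ * c * y := by rw [h']; group
    have := mul_mem x.2 (hcent hmem)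
    rwa [mul_inv_cancel_left] at this
  · have h : MulAut.conjNormal c = MulAut.conj (⟨c, hc⟩ : Q) := MulEquiv.ext fun y => Subtype.ext rfl
    have h1 : (OutForm.act Q) (MulAut.conjNormal c) = 1 := by
      rw [h]; exact OutForm.inn_le_ker ⟨_, rfl⟩
    exact congrArg Subtype.val h1

variable {G : Type u} [Group G] [Finite G]

/-- The frame of a group of large Fischer type. -/
theorem exists_frame {z : G} {Q : Subgroup (Subgroup.centralizer ({z} : Set G))} [Q.Normal]
    [Fact (Cfsg.IsExtraspecial 2 Q)] (hF : Cfsg.IsOfLargeFischerTypeAt z Q) :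
    (toGL Q).ker = Q ∧ Nat.card (toGL Q).range = 19595520 ∧
    ∃ (n g : OutForm.Vm Q ≃ₗ[ZMod 2] OutForm.Vm Q),
      Nonempty (Frame (OutForm.qf Q) (toGL Q).range n) ∧ n ∈ (toGL Q).range ∧ n ^ 3 = 1 ∧
      g ∈ (toGL Q).range ∧ g ^ 7 = 1 ∧ g ≠ 1 ∧ g * n = n * g ∧
      ∀ γ ∈ (toGL Q).range, γ * n * γ⁻¹ ∈ Subgroup.zpowers n := by
  classical
  obtain ⟨⟨hz, hfit, hex, hcard, -⟩, N, M, hNn, hMn, hQN, hNM, hNcard, ⟨K, _, _, hK, ⟨e⟩⟩, hidx⟩ := hF
  have hker : (toGL Q).ker = Q := toGL_ker (by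
    conv_rhs => rw [← hfit]
    refine le_trans (le_of_eq ?_) (Symplectic.centralizer_generalizedFitting_le _)
    rw [hfit])
  have hK2 : Fintype.card K = 3 ^ 2 := by rw [hK]; norm_num
  haveI : Fintype (OutForm.Vm Q) := Fintype.ofFinite _
  obtain ⟨iso⟩ := StabCert.nonempty_range_permHom (n := 4) (p := 3) hK2 (by norm_num)
  let π₀ : M →* MultiplierUFourThree.PU K :=
    (e.trans iso.symm).toMonoidHom.comp (QuotientGroup.mk' (N.subgroupOf M))
  have hπ₀ : Function.Surjective π₀ :=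
    (e.trans iso.symm).surjective.comp (QuotientGroup.mk'_surjective _)
  have hπ₀k : ∀ m : M, π₀ m = 1 ↔ (m : Subgroup.centralizer ({z} : Set G)) ∈ N := fun m => by
    show (e.trans iso.symm) (QuotientGroup.mk' _ m) = 1 ↔ _
    rw [EmbeddingLike.map_eq_one_iff, QuotientGroup.mk'_apply, QuotientGroup.eq_one_iff,
      Subgroup.mem_subgroupOf]
  let Mb := M.map (toGL Q)
  let ρM : M →* Mb := (toGL Q).subgroupMap M
  have hρM : Function.Surjective ρM := (toGL Q).subgroupMap_surjective M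
  have hker2 : ρM.ker ≤ π₀.ker := fun m hm => by
    rw [MonoidHom.mem_ker, hπ₀k]
    apply hQN
    rw [← hker, MonoidHom.mem_ker]
    exact congrArg Subtype.val (MonoidHom.mem_ker.1 hm)
  let π : Mb →* MultiplierUFourThree.PU K := ρM.liftOfSurjective hρM ⟨π₀, hker2⟩
  have hπρ : ∀ m, π (ρM m) = π₀ m := fun m => MonoidHom.liftOfRightInverse_comp_apply _ _ _ _ m
  have hπ : Function.Surjective π := fun y => by
    obtain ⟨m, rfl⟩ := hπ₀ y; exact ⟨ρM m, hπρ m⟩
  -- the element of order three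
  let Nb : Subgroup Mb := (N.map (toGL Q)).subgroupOf Mb
  have hcardN : Nat.card (N.map (toGL Q)) = 3 := by
    have h := Subgroup.card_eq_card_quotient_mul_card_subgroup ((toGL Q).comp N.subtype).ker
    have hk : ((toGL Q).comp N.subtype).ker = Q.subgroupOf N := by
      ext x; simp [Subgroup.mem_subgroupOf, ← hker]
    rw [hk, Nat.card_congr (Subgroup.subgroupOfEquivOfLe hQN).toEquiv, hNcard] at h
    have hq : Nat.card (N ⧸ Q.subgroupOf N) = Nat.card (N.map (toGL Q)) := by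
      rw [← hk, Nat.card_congr (QuotientGroup.quotientKerEquivRange _).toEquiv, MonoidHom.range_comp,
        Subgroup.range_subtype]
    rw [hq] at h
    exact Nat.eq_of_mul_eq_mul_right (Nat.card_pos (α := Q)) h.symm
  have hNb : Nat.card Nb = 3 := by
    rw [← hcardN]; exact Nat.card_congr (Subgroup.subgroupOfEquivOfLe (Subgroup.map_mono hNM)).toEquiv
  haveI : Fact (Nat.Prime 3) := ⟨Nat.prime_three⟩
  haveI : Finite Nb := Nat.finite_of_card_ne_zero (by rw [hNb]; norm_num)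
  obtain ⟨⟨n, hnN⟩, hn⟩ := exists_prime_orderOf_dvd_card' (G := Nb) 3 (by rw [hNb])
  have hno : orderOf n = 3 := (Subgroup.orderOf_mk n hnN).symm.trans hn
  have hzp : Subgroup.zpowers n = Nb :=
    Subgroup.eq_of_le_of_card_ge (Subgroup.zpowers_le.2 hnN) (by rw [Nat.card_zpowers, hno, hNb])
  have hkπ : ∀ m : Mb, π m = 1 ↔ m ∈ Subgroup.zpowers n := by
    intro m
    obtain ⟨m, rfl⟩ := hρM m
    rw [hπρ, hπ₀k, hzp]
    constructor
    · intro h; exact ⟨_, h, rfl⟩
    · rintro ⟨c, hc, he⟩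
      have : c⁻¹ * m ∈ (toGL Q).ker := by
        rw [MonoidHom.mem_ker, map_mul, map_inv, inv_mul_eq_one]
        exact he
      rw [hker] at this
      simpa using mul_mem hc (hQN this)
  have hn3 : n ^ 3 = 1 := by rw [← hno, pow_orderOf_eq_one]
  have hcardV : Nat.card (OutForm.Vm Q) = 4096 := by
    rw [OutForm.card_Vm (n := 6) hcard]; norm_num
  have hnd : ∀ v, (∀ w, QuadraticMap.polar (OutForm.qf Q) v w = 0) → v = 0 :=
    (Forms.nondegenerate_polarBilin_iff _).1 OutForm.qf_nondegenerate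
  have hle' : N.map (toGL Q) ≤ Mb := Subgroup.map_mono hNM
  obtain ⟨S, g, hT, hgx, hgy, hSn, hg, hg7, hg1, hgn⟩ := exists_setup (q := OutForm.qf Q) hK2 Mb π hπ n hn3
    (fun h => by rw [h, orderOf_one] at hno; norm_num at hno) hkπ
    (by rintro _ ⟨c, -, rfl⟩ v; exact toGL_q c v) hcardV hnd
  have hle : Mb ≤ (toGL Q).range := by rintro _ ⟨c, -, rfl⟩; exact ⟨c, rfl⟩
  refine ⟨hker, ?_, n.1, g, ?_, hle n.2, congrArg Subtype.val hn3, hle hg, hg7, hg1, hgn, ?_⟩
  · have h := Subgroup.card_eq_card_quotient_mul_card_subgroup (toGL Q).ker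
    rw [Nat.card_congr (QuotientGroup.quotientKerEquivRange (toGL Q)).toEquiv, hker] at h
    have h2 := Subgroup.card_mul_index M
    have h3 := Subgroup.card_eq_card_quotient_mul_card_subgroup (N.subgroupOf M)
    rw [Nat.card_congr (Subgroup.subgroupOfEquivOfLe hNM).toEquiv, hNcard,
      Nat.card_congr (e.trans iso.symm).toEquiv, MultiplierUFourThree.natCard_PU hK2] at h3
    rw [hidx, h3, h] at h2
    refine Nat.eq_of_mul_eq_mul_right (Nat.card_pos (α := Q)) ?_
    rw [← h2]; ring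
  · rw [← hSn]; exact S.exists_frame _ (fun u => hle (hT u)) (hle hgx) (hle hgy)
  · rintro _ ⟨c, rfl⟩
    have hmem : n.1 ∈ N.map (toGL Q) := Subgroup.mem_subgroupOf.1 hnN
    obtain ⟨m, hm, hme⟩ := hmem
    have hc : (⟨toGL Q (c * m * c⁻¹), hle' (Subgroup.mem_map_of_mem _ (hNn.conj_mem m hm c))⟩ : Mb) ∈
        Subgroup.zpowers n := by
      rw [hzp]; exact Subgroup.mem_subgroupOf.2 (Subgroup.mem_map_of_mem _ (hNn.conj_mem m hm c))
    obtain ⟨k, hk⟩ := Subgroup.mem_zpowers_iff.1 hc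
    refine Subgroup.mem_zpowers_iff.2 ⟨k, ?_⟩
    have h := congrArg Subtype.val hk
    rw [Subgroup.coe_zpow] at h
    refine h.trans ?_
    show toGL Q (c * m * c⁻¹) = _
    rw [map_mul, map_mul, map_inv, hme]

/-- Two orbits on the non-zero singular vectors. -/
theorem two_orbits {z : G} {Q : Subgroup (Subgroup.centralizer ({z} : Set G))} [Q.Normal]
    [Fact (Cfsg.IsExtraspecial 2 Q)] (hF : Cfsg.IsOfLargeFischerTypeAt z Q) :
    ∃ u w : OutForm.Vm Q, u ≠ 0 ∧ OutForm.qf Q u = 0 ∧ w ≠ 0 ∧ OutForm.qf Q w = 0 ∧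
      (¬ ∃ c, toGL Q c u = w) ∧
      ∀ x, x ≠ 0 → OutForm.qf Q x = 0 → (∃ c, toGL Q c u = x) ∨ ∃ c, toGL Q c w = x := by
  obtain ⟨-, hcard, n, g, ⟨F⟩, hnΓ, hn, hgΓ, hg7, hg1, hgn, -⟩ := exists_frame hF
  obtain ⟨u, w, hu, hqu, hw, hqw, hne, hall⟩ := F.two_orbits
    ((Forms.nondegenerate_polarBilin_iff _).1 OutForm.qf_nondegenerate)
    (by rintro _ ⟨c, rfl⟩ v; exact toGL_q c v) hcard hnΓ hn hgΓ hg7 hg1 hgn
  refine ⟨u, w, hu, hqu, hw, hqw, fun ⟨c, hc⟩ => hne ⟨_, ⟨c, rfl⟩, hc⟩, fun x hx hqx => ?_⟩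
  rcases hall x hx hqx with ⟨_, ⟨c, rfl⟩, h⟩ | ⟨_, ⟨c, rfl⟩, h⟩
  exacts [Or.inl ⟨c, h⟩, Or.inr ⟨c, h⟩]

/-- Elements of an extraspecial group with equal images are conjugate. -/
theorem exists_conj_of_pr {x y : Q} (hx : OutForm.pr x ≠ 0) (h : OutForm.pr x = OutForm.pr y) :
    ∃ r : Q, r * x * r⁻¹ = y := by
  obtain ⟨c, hc, rfl⟩ := OutForm.eq_mul_center h.symm
  rcases OutForm.zeta_cases hc with rfl | rfl
  · exact ⟨1, by simp⟩
  obtain ⟨r, hr⟩ : ∃ r, ¬ r * x = x * r := by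
    by_contra! hall
    exact hx (OutForm.pr_eq_zero.2 (Subgroup.mem_center_iff.2 hall))
  refine ⟨r, ?_⟩
  have e : ⁅r, x⁆ = OutForm.zeta Q := (OutForm.zeta_cases (OutForm.comm_mem r x)).resolve_left
    fun h => hr (commutatorElement_eq_one_iff_mul_comm.1 h)
  calc r * x * r⁻¹ = ⁅r, x⁆ * x := by rw [commutatorElement_def]; group
    _ = x * OutForm.zeta Q := by rw [e, Subgroup.mem_center_iff.1 OutForm.zeta_mem x]

/-- Conjugation over a fixed image. -/
theorem exists_conj_lift {c : C} {x y : Q} (hy : OutForm.pr y ≠ 0)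
    (h : toGL Q c (OutForm.pr x) = OutForm.pr y) : ∃ d : C, d * (x : C) * d⁻¹ = (y : C) := by
  rw [toGL_pr] at h
  obtain ⟨r, hr⟩ := exists_conj_of_pr (by rw [h]; exact hy) h
  exact ⟨r * c, by rw [← hr]; simp [mul_assoc]⟩

end Cfsg.Agent.LargeFischer
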