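/-
Computations in the coordinates of the subgroup of order 2^11.

* `wv`, `posMul`, `cmul`, `isTc`, `evalC`, `toLin`
-/
import Cfsg.Agent.Lib.LargeFischer.SylBits
import Cfsg.Agent.Lib.LargeFischer.ElemData

set_option autoImplicit false

namespace Cfsg.Agent.LargeFischer

/-- The vector of a position in the fixed space. -/
def wv (m : ℕ) : ℕ := ap 6 fixBasis m

/-- The element at a position of the subgroup of order 16. -/
def bel (a : ℕ) : ℕ := baList.getD a 0

/-- Products of positions. -/
def posMul (a b : ℕ) : ℕ := Nat.land (Nat.shiftRight posTab (Nat.mul 4 (Nat.add (Nat.mul 16 a) b))) 15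

/-- The commutator map of a position. -/
def tv (a v : ℕ) : ℕ := Nat.xor v (fe (bel a) v)

/-- Its central component. -/
def cv (a v : ℕ) : ℕ := bn v (nmul (tv a v))

/-- The orbit of a pair. -/
def pairO (a b : ℕ) : ℕ := Nat.land (Nat.shiftRight pairOrb (Nat.mul 2 (Nat.add (Nat.mul 16 a) b))) 3

/-- The cocycle with given values on the two orbits. -/
def epsW (x y : ℕ) (a b : ℕ) : ℕ :=
  if Nat.beq a 0 || Nat.beq b 0 || Nat.beq a b then 0 else if Nat.beq (pairO a b) 0 then x else y

/-- The position of a code. -/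
def cpos (c : ℕ) : ℕ := Nat.shiftRight c 7

/-- The product of codes. -/
def cmul (x y c d : ℕ) : ℕ :=
  Nat.add (Nat.xor (Nat.land (Nat.xor c d) 127) (epsW x y (cpos c) (cpos d)))
    (Nat.shiftLeft (posMul (cpos c) (cpos d)) 7)

/-- The class of noncentral involutions. -/
def isTc (c : ℕ) : Bool :=
  Nat.beq (Nat.land (Nat.shiftRight (tMasks.getD (cpos c) 0) (Nat.land c 127)) 1) 1

/-- The number of products in the class. -/
def cnt (x y u : ℕ) : ℕ := ((List.range 2048).filter fun c => isTc c && isTc (cmul x y c u)).length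

/-- The code of linear coordinates. -/
def evalC : ℕ → ℕ → ℕ
  | 0, _ => 0
  | k + 1, y => if Nat.beq (Nat.land (Nat.shiftRight y k) 1) 1 then cmul 0 1 (evalC k y) (Nat.shiftLeft 1 k) else evalC k y

/-- The linear coordinates of a code. -/
def toLin (c : ℕ) : ℕ := Nat.land (Nat.shiftRight invEval (Nat.mul 11 c)) 2047

/-- The class in linear coordinates. -/
def isTL (y : ℕ) : Bool := Nat.beq (Nat.land (Nat.shiftRight tLinMask y) 1) 1

/-- The value of a pair of points. -/
def pairL (i j : ℕ) : ℕ := Nat.xor (tauList.getD i 0) (tauList.getD j 0)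

end Cfsg.Agent.LargeFischer
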