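/-
Checks on the coordinates of the subgroup of order 2^11.
-/
import Cfsg.Agent.Lib.LargeFischer.ElemBits
import Cfsg.Agent.Lib.LargeFischer.ModelBits
import Cfsg.Agent.Lib.Golay.Code

set_option autoImplicit false
set_option maxRecDepth 100000
set_option Elab.async false

namespace Cfsg.Agent.LargeFischer

theorem pos_ok : ((List.range 16).all fun a => (List.range 16).all fun b =>
    decide (posMul a b < 16) && Nat.beq (mulIdx (bel a) (bel b)) (bel (posMul a b))) = true ∧
    ((List.range 16).all fun a => Nat.beq (posMul a a) 0 && Nat.beq (posMul 0 a) a && Nat.beq (posMul a 0) a) = true := by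
  decide +kernel

theorem w_ok : ((List.range 64).all fun m => isTc (2 * m) == (!Nat.beq m 0 && inSmall 0 (wv m))) = true ∧
    ((List.range 64).all fun m => isTc (2 * m + 1) == isTc (2 * m)) = true := by decide +kernel

theorem orb_ok : ((List.range 15).all fun a =>
    (List.range 16).all fun i =>
      let v := Nat.land (Nat.shiftRight (orbWit.getD (a + 1) 0) (12 * i)) 4095
      (List.range 64).any fun m => Nat.beq (wv m) (tv (a + 1) v) && isTc (2 * m + cv (a + 1) v + 128 * (a + 1))) = true ∧
    ((List.range 15).all fun a => (List.range 128).all fun k => !isTc (k + 128 * (a + 1)) ||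
      (List.range 16).any fun i =>
        let v := Nat.land (Nat.shiftRight (orbWit.getD (a + 1) 0) (12 * i)) 4095
        Nat.beq (wv (k / 2)) (tv (a + 1) v) && Nat.beq (k % 2) (cv (a + 1) v)) = true := by
  decide +kernel

theorem coset_ok : ((List.range 15).all fun a =>
    let m0 := cosetBase.getD (a + 1) 0
    let u := flipWit.getD (a + 1) 0
    decide (m0 < 64) && decide (u < 4096) && Nat.beq (tv (a + 1) u) 0 && Nat.beq (bn u (wv m0)) 1 &&
    (List.range 64).all fun m =>
      let e := Nat.land (Nat.shiftRight (cosetWit.getD (a + 1) 0) (14 * m)) 16383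
      let i := Nat.land e 3
      let v := Nat.shiftRight e 2
      if Nat.beq i 3 then Nat.beq (wv m) (tv (a + 1) v) && (isTc (2 * m + 128 * (a + 1)) != isTc (2 * m + 1 + 128 * (a + 1)))
      else Nat.beq (wv m) (Nat.xor (if Nat.beq i 0 then wv m0 else if Nat.beq i 1 then nmul (wv m0) else nmul (nmul (wv m0)))
        (tv (a + 1) v)) && !isTc (2 * m + 128 * (a + 1)) && !isTc (2 * m + 1 + 128 * (a + 1))) = true := by
  decide +kernel

theorem norm_base : ((List.range 2).all fun k => (List.range 15).all fun a =>
    let b := (normPerm.getD k []).getD (a + 1) 0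
    decide (0 < b) && decide (b < 16) && (List.range 64).any fun m =>
      Nat.beq (wv m) (ap 12 (normPk.getD k (0, 0)).1 (wv (cosetBase.getD (a + 1) 0))) &&
        !isTc (2 * m + 128 * b) && !isTc (2 * m + 1 + 128 * b)) = true := by decide +kernel

theorem pairs_ok : ((List.range 210).all fun j =>
    let p := pairSteps.getD j 0
    let a := Nat.land p 15
    let b := Nat.land (Nat.shiftRight p 4) 15
    let q := pairSteps.getD (Nat.land (Nat.shiftRight p 8) 255) 0
    let a' := Nat.land q 15
    let b' := Nat.land (Nat.shiftRight q 4) 15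
    let k := Nat.shiftRight p 16
    if Nat.beq k 4 then (Nat.beq a 1 && Nat.beq b 2 && Nat.beq (pairO a b) 0) || (Nat.beq a 1 && Nat.beq b 6 && Nat.beq (pairO a b) 1)
    else decide (Nat.land (Nat.shiftRight p 8) 255 < j) && Nat.beq (pairO a b) (pairO a' b') &&
      (if Nat.beq k 2 then Nat.beq a b' && Nat.beq b a'
       else if Nat.beq k 3 then Nat.beq a a' && Nat.beq b (posMul a' b')
       else decide (k < 2) && Nat.beq a ((normPerm.getD k []).getD a' 0) && Nat.beq b ((normPerm.getD k []).getD b' 0))) = true ∧
    ((List.range 15).all fun a => (List.range 15).all fun b => Nat.beq a b ||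
      pairSteps.any fun p => Nat.beq (Nat.land p 15) (a + 1) && Nat.beq (Nat.land (Nat.shiftRight p 4) 15) (b + 1)) = true := by
  decide +kernel

theorem class_sizes : ((List.range 2048).filter isTc).length = 276 ∧ isTc 0 = false ∧ isTc 1 = false := by
  decide +kernel

theorem counts_kill : cnt 0 1 1 = 36 ∧
    cnt 0 0 1 ≠ cnt 0 0 (1 + 128) ∧ cnt 1 0 1 ≠ cnt 1 0 (1 + 128) ∧ cnt 1 1 1 ≠ cnt 1 1 (1 + 128) := by
  decide +kernel

theorem lin_ok : ((List.range 2048).all fun c => decide (toLin c < 2048) && Nat.beq (evalC 11 (toLin c)) c &&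
    (isTL (toLin c) == isTc c)) = true ∧
    ((List.range 2048).all fun y => decide (evalC 11 y < 2048) && Nat.beq (toLin (evalC 11 y)) y) = true := by
  decide +kernel

theorem tau_ok : ((List.range 24).all fun i => decide (tauList.getD i 0 < 2048) && (List.range i).all fun j => isTL (pairL i j)) = true ∧
    tauList.getD 23 1 = 0 ∧
    ((List.range 2048).all fun y => !isTL y || (List.range 24).any fun i => (List.range i).any fun j => Nat.beq (pairL i j) y) = true ∧
    ((List.range 24).all fun i => (List.range i).all fun j => (List.range 24).all fun k => (List.range k).all fun l =>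
      isTL (Nat.xor (pairL i j) (pairL k l)) ==
        ((Nat.beq i k || Nat.beq i l || Nat.beq j k || Nat.beq j l) && !(Nat.beq i k && Nat.beq j l))) = true := by
  decide +kernel

theorem sum_ok : (Golay.rows.all fun r => Nat.beq (((List.range 24).foldr
      (fun i acc => Nat.xor (if Nat.beq (Nat.land (Nat.shiftRight r i) 1) 1 then tauList.getD i 0 else 0) acc) 0)) 0) = true ∧
    ((List.range 24).all fun i => Golay.isCode (Nat.xor (Nat.shiftLeft 1 i)
      ((List.range 12).foldr (fun k acc => Nat.xor
        (if Nat.beq (Nat.land (Nat.shiftRight (Nat.lor (tauList.getD i 0) 2048) k) 1) 1 then secList.getD k 0 else 0) acc) 0))) = true := by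
  decide +kernel

end Cfsg.Agent.LargeFischer
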