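/-
The elementary abelian subgroups of the 2-group with a large fixed space.

* `bR`, `baGroup`, `wSet`, `exists_delta`, `orbit_induction`, `syl_facts`
-/
import Cfsg.Agent.Lib.LargeFischer.SylModel
import Cfsg.Agent.Lib.LargeFischer.ElemFacts

set_option autoImplicit false
set_option maxRecDepth 100000

namespace Cfsg.Agent.LargeFischer

/-- A set of numbers forming an elementary abelian subgroup without transvections. -/
structure IdxSub (I : Finset ℕ) : Prop where
  lt : ∀ i ∈ I, i < 512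
  zero : 0 ∈ I
  cand : ∀ i ∈ I, i = 0 ∨ (isCand i = true ∧ i ∈ candList)
  mul : ∀ i ∈ I, ∀ j ∈ I, mulIdx i j ∈ I
  sq : ∀ i ∈ I, mulIdx i i = 0

theorem mulIdx_assoc {i j k : ℕ} (hi : i < 512) (hj : j < 512) (hk : k < 512) :
    mulIdx (mulIdx i j) k = mulIdx i (mulIdx j k) := by
  obtain ⟨a, ha⟩ := mulIdx_spec hi hj
  obtain ⟨b, hb⟩ := mulIdx_spec hj hk
  refine fe_injective (mulIdx_spec a hk).1 (mulIdx_spec hi b).1 fun x hx => ?_
  rw [(mulIdx_spec a hk).2 x hx, ha _ (fe_lt _ _), (mulIdx_spec hi b).2 x hx, hb x hx]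

theorem mulIdx_zero_left (k : ℕ) : mulIdx 0 k = k := rfl

theorem mulIdx_zero_right {i : ℕ} (hi : i < 512) : mulIdx i 0 = i :=
  fe_injective (mulIdx_spec hi (by norm_num)).1 hi fun x hx => by
    rw [(mulIdx_spec hi (by norm_num)).2 x hx, fe_id x hx]

namespace IdxSub

variable {I : Finset ℕ} (h : IdxSub I)
include h

theorem cancel {i j : ℕ} (hi : i ∈ I) (hj : j ∈ I) : mulIdx i (mulIdx i j) = j := by
  rw [← mulIdx_assoc (h.lt i hi) (h.lt i hi) (h.lt j hj), h.sq i hi, mulIdx_zero_left]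

theorem comm {i j : ℕ} (hi : i ∈ I) (hj : j ∈ I) : mulIdx i j = mulIdx j i := by
  have li := h.lt i hi
  have lj := h.lt j hj
  have hij := h.mul i hi j hj
  calc mulIdx i j = mulIdx (mulIdx i j) (mulIdx j (mulIdx i (mulIdx i j))) := by
        rw [h.cancel hi hj, h.sq j hj, mulIdx_zero_right (h.lt _ hij)]
    _ = mulIdx (mulIdx i j) (mulIdx (mulIdx j i) (mulIdx i j)) := by
        rw [mulIdx_assoc lj li (h.lt _ hij)]
    _ = mulIdx (mulIdx i j) (mulIdx (mulIdx i j) (mulIdx j i)) := by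
        have e : mulIdx (mulIdx j i) (mulIdx i j) = 0 := by
          rw [mulIdx_assoc lj li (h.lt _ hij), h.cancel hi hj, h.sq j hj]
        have e' : mulIdx (mulIdx i j) (mulIdx j i) = 0 := by
          rw [mulIdx_assoc li lj (h.lt _ (h.mul j hj i hi)), h.cancel hj hi, h.sq i hi]
        rw [e, e']
    _ = mulIdx j i := h.cancel hij (h.mul j hj i hi)

/-- A subgroup found by the search. -/
def Found (I : Finset ℕ) (k : ℕ) (p : ℕ × List ℕ) : Prop :=
  p.2.length = 2 ^ k ∧ 0 ∈ p.2 ∧ (∀ t ∈ p.2, t ∈ I) ∧ (∀ t ∈ p.2, ∀ u ∈ p.2, mulIdx t u ∈ p.2) ∧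
    ∀ y ∈ I, y ∉ p.2 → p.1 < y

theorem grow {k : ℕ} {p : ℕ × List ℕ} (hp : Found I k p) (hk : 2 ^ k < I.card) :
    ∃ q ∈ step p, Found I (k + 1) q := by
  classical
  obtain ⟨hlen, h0, hsub, hcl, hgt⟩ := hp
  have hne : (I \ p.2.toFinset).Nonempty := by
    rw [← Finset.card_pos]
    have h1 := Finset.le_card_sdiff p.2.toFinset I
    have h2 := List.toFinset_card_le p.2
    omega
  obtain ⟨hbI, hbp⟩ := Finset.mem_sdiff.1 (Finset.min'_mem _ hne)
  set b := (I \ p.2.toFinset).min' hne with hb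
  rw [List.mem_toFinset] at hbp
  have hmin : ∀ y ∈ I, y ∉ p.2 → b ≤ y := fun y hy hy' =>
    Finset.min'_le _ _ (Finset.mem_sdiff.2 ⟨hy, fun h => hy' (List.mem_toFinset.1 h)⟩)
  have hout : ∀ t ∈ p.2, mulIdx t b ∉ p.2 := fun t ht hc => hbp (by
    have := hcl t ht _ hc
    rwa [h.cancel (hsub t ht) hbI] at this)
  have hb0 : b ≠ 0 := fun e => hbp (e ▸ h0)
  refine ⟨(b, p.2 ++ p.2.map fun t => mulIdx t b), ?_, ?_, ?_, ?_, ?_, ?_⟩
  · refine List.mem_filterMap.2 ⟨b, ((h.cand b hbI).resolve_left hb0).2, ?_⟩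
    rw [if_pos]
    rw [Bool.and_eq_true, List.all_eq_true]
    refine ⟨?_, fun t ht => ?_⟩
    · exact Nat.ble_eq_true_of_le (hgt b hbI hbp)
    · have hm := h.mul t (hsub t ht) b hbI
      rw [Bool.and_eq_true]
      refine ⟨((h.cand _ hm).resolve_left fun e => hout t ht (e ▸ h0)).1, Nat.ble_eq_true_of_le (hmin _ hm (hout t ht))⟩
  · simp [hlen, pow_succ, Nat.mul_two]
  · exact List.mem_append_left _ h0
  · intro t ht
    rcases List.mem_append.1 ht with ht | ht
    · exact hsub t ht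
    · obtain ⟨u, hu, rfl⟩ := List.mem_map.1 ht
      exact h.mul u (hsub u hu) b hbI
  · intro t ht u hu
    rcases List.mem_append.1 ht with ht | ht <;> rcases List.mem_append.1 hu with hu | hu
    · exact List.mem_append_left _ (hcl t ht u hu)
    · obtain ⟨v, hv, rfl⟩ := List.mem_map.1 hu
      refine List.mem_append_right _ (List.mem_map.2 ⟨_, hcl t ht v hv, ?_⟩)
      exact mulIdx_assoc (h.lt t (hsub t ht)) (h.lt v (hsub v hv)) (h.lt b hbI)
    · obtain ⟨v, hv, rfl⟩ := List.mem_map.1 ht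
      refine List.mem_append_right _ (List.mem_map.2 ⟨_, hcl v hv u hu, ?_⟩)
      show mulIdx (mulIdx v u) b = mulIdx (mulIdx v b) u
      rw [mulIdx_assoc (h.lt v (hsub v hv)) (h.lt u (hsub u hu)) (h.lt b hbI),
        mulIdx_assoc (h.lt v (hsub v hv)) (h.lt b hbI) (h.lt u (hsub u hu)), h.comm (hsub u hu) hbI]
    · obtain ⟨v, hv, rfl⟩ := List.mem_map.1 ht
      obtain ⟨w, hw, rfl⟩ := List.mem_map.1 hu
      refine List.mem_append_left _ ?_
      have e : mulIdx (mulIdx v b) (mulIdx w b) = mulIdx v w := by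
        rw [mulIdx_assoc (h.lt v (hsub v hv)) (h.lt b hbI) (h.lt _ (h.mul w (hsub w hw) b hbI)),
          h.comm (hsub w hw) hbI, h.cancel hbI (hsub w hw)]
      rw [e]; exact hcl v hv w hw
  · intro y hy hy'
    rw [List.mem_append, not_or] at hy'
    refine lt_of_le_of_ne (hmin y hy hy'.1) fun e => hy'.2 (List.mem_map.2 ⟨0, h0, ?_⟩)
    exact (mulIdx_zero_left b).trans e

theorem found : ∀ k, 2 ^ k ≤ I.card → ∃ p ∈ level k, Found I k p
  | 0, _ => by
    refine ⟨(0, [0]), List.mem_singleton.2 rfl, rfl, List.mem_singleton.2 rfl, fun t ht => ?_, fun t ht u hu => ?_,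
      fun y _ hy => Nat.pos_of_ne_zero fun e => hy (List.mem_singleton.2 e)⟩
    · rw [List.mem_singleton.1 ht]; exact h.zero
    · rw [List.mem_singleton.1 ht, List.mem_singleton.1 hu]; exact List.mem_singleton.2 rfl
  | k + 1, hk => by
    obtain ⟨p, hp, hf⟩ := found k (le_trans (Nat.pow_le_pow_right (by norm_num) k.le_succ) hk)
    obtain ⟨q, hq, hf'⟩ := h.grow hf (lt_of_lt_of_le (Nat.pow_lt_pow_right (by norm_num) k.lt_succ_self) hk)
    exact ⟨q, List.mem_flatMap.2 ⟨p, hp, hq⟩, hf'⟩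

end IdxSub

theorem fixOK_mem : ∀ {l : List (ℕ × List ℕ)} {cs : List (ℕ × ℕ × ℕ × List ℕ)}, fixOK l cs = true → ∀ p ∈ l,
    ∃ c, certOK p.2 c = true ∧ ((c.2.1 ≤ 3 ∧ ∀ q ∈ step p, step q = []) ∨
      (p.2 = baList ∧ c.1 = fixBasis ∧ c.2.1 = 6 ∧ step p = []))
  | [], _, _, p, hp => absurd hp (List.not_mem_nil)
  | _ :: _, [], h, _, _ => Bool.noConfusion h
  | a :: l, c :: cs, h, p, hp => by
    simp only [fixOK, Bool.and_eq_true, Bool.or_eq_true, List.all_eq_true, List.isEmpty_iff, Nat.ble_eq, Nat.beq_eq,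
      beq_iff_eq] at h
    obtain ⟨⟨h1, h2⟩, h3⟩ := h
    rcases List.mem_cons.1 hp with rfl | hp
    · refine ⟨c, h1, ?_⟩
      rcases h2 with ⟨ha, hb⟩ | ⟨⟨⟨ha, hb⟩, hc⟩, hd⟩
      · exact Or.inl ⟨ha, hb⟩
      · exact Or.inr ⟨ha, hb, hc, hd⟩
    · exact fixOK_mem h3 p hp

theorem cert_fix {s : List ℕ} {c : ℕ × ℕ × ℕ × List ℕ} (hs : s.length = 16) (h : certOK s c = true) {x : ℕ}
    (hx : x < 4096) (hfix : ∀ t ∈ s, fe t x = x) : x = ap c.2.1 c.1 (ap12 c.2.2.1 x % 2 ^ c.2.1) := by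
  let g := [s.getD 1 0, s.getD 2 0, s.getD 4 0, s.getD 8 0]
  let d := fun (j x : ℕ) => ap12 (c.2.2.2.getD j 0) (fe (g.getD j 0) x ^^^ x)
  have hg : ∀ j < 4, g.getD j 0 ∈ s := fun j hj => by
    have hm : ∀ k < 16, s.getD k 0 ∈ s := fun k hk => by
      rw [List.getD_eq_getElem _ _ (hs ▸ hk)]; exact List.getElem_mem _
    interval_cases j <;> exact hm _ (by norm_num)
  have hadd : ∀ j a b, d j (a ^^^ b) = d j a ^^^ d j b := fun j a b => by
    simp only [d, fe_add, ap12_eq, ← ap_add]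
    congr 1
    ac_rfl
  have key := ext_two (f := id)
    (g := fun x => ap c.2.1 c.1 (ap12 c.2.2.1 x) ^^^ ((d 0 x ^^^ d 1 x) ^^^ (d 2 x ^^^ d 3 x)))
    (fun _ _ _ _ => rfl) (fun a _ b _ => by simp only [hadd, ap12_eq, ap_add]; ac_rfl)
    (fun b hb => Nat.eq_of_beq_eq_true (List.all_eq_true.1 h b (List.mem_range.2 hb))) x hx
  have hz : ∀ j < 4, d j x = 0 := fun j hj => by
    simp only [d, hfix _ (hg j hj), Nat.xor_self, ap12_eq, ap_zero]
  simp only [id, hz 0 (by norm_num), hz 1 (by norm_num), hz 2 (by norm_num), hz 3 (by norm_num), Nat.xor_self,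
    Nat.xor_zero] at key
  rwa [← ap_mod]

theorem ba_sq : (baList.all fun i => Nat.beq (mulIdx i i) 0) = true ∧ baList.contains 0 = true ∧
    (baList.all fun i => Nat.beq i 0 || (isCand i && candList.contains i)) = true ∧ baList.getD 0 1 = 0 := by
  decide +kernel

theorem ba_sub : IdxSub baList.toFinset := by
  obtain ⟨h1, h2, h3, -⟩ := ba_sq
  obtain ⟨-, -, h4, -, -⟩ := ba_ok
  simp only [List.all_eq_true, Nat.beq_eq, Bool.or_eq_true, Bool.and_eq_true, List.contains_iff_mem,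
    decide_eq_true_eq] at h1 h2 h3 h4
  exact ⟨fun i hi => (h4 i (List.mem_toFinset.1 hi)).1.1, List.mem_toFinset.2 h2,
    fun i hi => h3 i (List.mem_toFinset.1 hi),
    fun i hi j hj => List.mem_toFinset.2 ((h4 i (List.mem_toFinset.1 hi)).1.2 j (List.mem_toFinset.1 hj)),
    fun i hi => h1 i (List.mem_toFinset.1 hi)⟩

theorem ap_six_card : ((Finset.range 64).image (ap 6 fixBasis)).card = 64 := by
  refine (Finset.card_image_of_injOn ?_).trans (Finset.card_range 64)
  intro a ha b hb e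
  have ha' := List.mem_range.2 (Finset.mem_range.1 ha)
  have hab : a ^^^ b < 64 := Nat.xor_lt_two_pow (n := 6) (Finset.mem_range.1 ha) (Finset.mem_range.1 hb)
  have := List.all_eq_true.1 ba_ok.2.2.2.1 _ (List.mem_range.2 hab)
  rw [ap_add, e, Nat.xor_self] at this
  simp only [Bool.and_eq_true, Bool.or_eq_true, Nat.beq_eq, Bool.not_eq_true'] at this
  rcases this.2 with h | h
  · exact (Nat.xor_eq_zero_iff).1 h
  · exact absurd h (by decide)

/-- The alternatives for a set of numbers. -/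
theorem classify {I : Finset ℕ} (h : IdxSub I) (F : Finset ℕ) (hF : ∀ x ∈ F, x < 4096 ∧ ∀ i ∈ I, fe i x = x)
    (h16 : 16 ≤ I.card) :
    (I.card ≤ 32 ∧ F.card ≤ 8) ∨ (I = baList.toFinset ∧ F ⊆ (Finset.range 64).image (ap 6 fixBasis)) := by
  obtain ⟨p, hp, hf⟩ := h.found 4 h16
  have hlen := hf.1
  obtain ⟨c, hc, hcase⟩ := fixOK_mem levels_ok p hp
  have hFsub : F ⊆ (Finset.range (2 ^ c.2.1)).image (ap c.2.1 c.1) := fun x hx => by
    obtain ⟨hx4, hfix⟩ := hF x hx
    exact Finset.mem_image.2 ⟨_, Finset.mem_range.2 (Nat.mod_lt _ (Nat.two_pow_pos _)),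
      (cert_fix hlen hc hx4 fun t ht => hfix t (hf.2.2.1 t ht)).symm⟩
  rcases hcase with ⟨h3, hstep⟩ | ⟨he, hb, h6, hstep⟩
  · refine Or.inl ⟨not_lt.1 fun h32 => ?_, ?_⟩
    · obtain ⟨q, hq, hfq⟩ := h.grow hf (lt_trans (by norm_num) h32)
      obtain ⟨r, hr, -⟩ := h.grow hfq h32
      rw [hstep q hq] at hr
      exact absurd hr (List.not_mem_nil)
    · refine (Finset.card_le_card hFsub).trans (Finset.card_image_le.trans ?_)
      rw [Finset.card_range]
      exact Nat.pow_le_pow_right (by norm_num) h3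
  · rw [hb, h6] at hFsub
    refine Or.inr ⟨(Finset.eq_of_subset_of_card_le (fun i hi => ?_) ?_).symm, hFsub⟩
    · exact hf.2.2.1 i (he ▸ List.mem_toFinset.1 hi)
    · rw [List.toFinset_card_of_nodup ba_ok.2.1, ba_ok.1]
      refine not_lt.1 fun h' => ?_
      obtain ⟨q, hq, -⟩ := h.grow hf h'
      rw [hstep] at hq
      exact absurd hq (List.not_mem_nil)

variable {V : Type*} [AddCommGroup V] [Module (ZMod 2) V] [Finite V] {q : QuadraticForm (ZMod 2) V}
  {Γ : Subgroup (V ≃ₗ[ZMod 2] V)} {n : V ≃ₗ[ZMod 2] V}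

theorem bel_mem {a : ℕ} (ha : a < 16) : bel a ∈ baList := by
  unfold bel
  rw [List.getD_eq_getElem _ _ (by rw [ba_ok.1]; exact ha)]; exact List.getElem_mem _

theorem bel_lt {a : ℕ} (ha : a < 16) : bel a < 512 := ba_sub.lt _ (List.mem_toFinset.2 (bel_mem ha))

theorem bel_zero : bel 0 = 0 := by decide +kernel

theorem bel_inj {a b : ℕ} (ha : a < 16) (hb : b < 16) (h : bel a = bel b) : a = b := by
  unfold bel at h
  rw [List.getD_eq_getElem _ _ (by rw [ba_ok.1]; exact ha), List.getD_eq_getElem _ _ (by rw [ba_ok.1]; exact hb)] at h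
  exact (List.Nodup.getElem_inj_iff ba_ok.2.1).1 h

theorem posMul_spec {a b : ℕ} (ha : a < 16) (hb : b < 16) :
    posMul a b < 16 ∧ mulIdx (bel a) (bel b) = bel (posMul a b) := by
  have h := List.all_eq_true.1 (List.all_eq_true.1 pos_ok.1 a (List.mem_range.2 ha)) b (List.mem_range.2 hb)
  simpa [Bool.and_eq_true] using h

theorem posMul_self {a : ℕ} (ha : a < 16) : posMul a a = 0 ∧ posMul 0 a = a ∧ posMul a 0 = a := by
  have h := List.all_eq_true.1 pos_ok.2 a (List.mem_range.2 ha)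
  simpa [Bool.and_eq_true, and_assoc] using h

/-- The element at a position. -/
noncomputable def bR (M : Model q n) (a : ℕ) : V ≃ₗ[ZMod 2] V :=
  if h : a < 16 then (exists_rep M (bel_lt h)).choose else 1

theorem bR_rep (M : Model q n) {a : ℕ} (ha : a < 16) : Rep M (bR M a) (bel a) := by
  rw [bR, dif_pos ha]; exact (exists_rep M (bel_lt ha)).choose_spec

theorem bR_mul (M : Model q n) {a b : ℕ} (ha : a < 16) (hb : b < 16) : bR M a * bR M b = bR M (posMul a b) := by
  have h := (bR_rep M ha).mul (bel_lt ha) (bel_lt hb) (bR_rep M hb)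
  rw [(posMul_spec ha hb).2] at h
  exact h.eq_map (bR_rep M (posMul_spec ha hb).1)

theorem bR_zero (M : Model q n) : bR M 0 = 1 := by
  refine (bR_rep M (by norm_num)).eq_map ?_
  rw [bel_zero]; exact Rep.one

theorem bR_sq (M : Model q n) {a : ℕ} (ha : a < 16) : bR M a * bR M a = 1 := by
  rw [bR_mul M ha ha, (posMul_self ha).1, bR_zero]

theorem bR_inj (M : Model q n) {a b : ℕ} (ha : a < 16) (hb : b < 16) (h : bR M a = bR M b) : a = b :=
  bel_inj ha hb ((bR_rep M ha).eq_num (bel_lt ha) (bel_lt hb) (h ▸ bR_rep M hb))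

theorem bR_ne_one (M : Model q n) {a : ℕ} (ha : a < 16) (h0 : a ≠ 0) : bR M a ≠ 1 :=
  fun h => h0 (bR_inj M ha (by norm_num) (h.trans (bR_zero M).symm))

theorem bR_n (M : Model q n) {a : ℕ} (ha : a < 16) : bR M a * n = n * bR M a := by
  obtain ⟨-, -, hba, -, -⟩ := ba_ok
  simp only [List.all_eq_true, Bool.and_eq_true, Nat.beq_eq, decide_eq_true_eq, List.mem_range] at hba
  have h := bR_rep M ha
  refine LinearEquiv.ext fun v => ?_
  obtain ⟨x, hx, rfl⟩ := M.surj v
  show bR M a (n (M.e x)) = n (bR M a (M.e x))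
  rw [M.n_e x hx, h _ (nmul_lt' hx), h x hx, M.n_e _ (fe_lt _ _)]
  congr 1
  refine ext_two (f := fun x => fe (bel a) (nmul x)) (g := fun x => nmul (fe (bel a) x))
    (fun a ha c hc => by rw [nmul_xor M ha hc, fe_add]) (fun a ha c hc => by rw [fe_add, nmul_xor M (fe_lt _ _) (fe_lt _ _)])
    (fun c hc => ((hba _ (bel_mem ha)).2 c hc).1) x hx

theorem bR_tv (M : Model q n) {a v : ℕ} (ha : a < 16) (hv : v < 4096) :
    M.e (tv a v) = M.e v + bR M a (M.e v) := by
  rw [bR_rep M ha v hv]; exact M.add v hv _ (fe_lt _ _)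

/-- The subgroup of order 16. -/
noncomputable def baGroup (M : Model q n) : Subgroup (V ≃ₗ[ZMod 2] V) where
  carrier := {g | ∃ a < 16, g = bR M a}
  one_mem' := ⟨0, by norm_num, (bR_zero M).symm⟩
  mul_mem' := by
    rintro g g' ⟨a, ha, rfl⟩ ⟨b, hb, rfl⟩
    exact ⟨_, (posMul_spec ha hb).1, bR_mul M ha hb⟩
  inv_mem' := by
    rintro g ⟨a, ha, rfl⟩
    exact ⟨a, ha, inv_eq_of_mul_eq_one_left (bR_sq M ha)⟩

theorem baGroup_card (M : Model q n) : Nat.card (baGroup M) = 16 := by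
  rw [← Nat.card_fin 16]
  refine (Nat.card_eq_of_bijective (fun a : Fin 16 => (⟨bR M a, a, a.isLt, rfl⟩ : baGroup M)) ⟨fun a b e => ?_, ?_⟩).symm
  · exact Fin.ext (bR_inj M a.isLt b.isLt (congrArg Subtype.val e))
  · rintro ⟨g, a, ha, rfl⟩; exact ⟨⟨a, ha⟩, rfl⟩

theorem baGroup_sq (M : Model q n) : ∀ b ∈ baGroup M, b * b = 1 := by
  rintro b ⟨a, ha, rfl⟩; exact bR_sq M ha

/-- The fixed space. -/
noncomputable def wSet [DecidableEq V] (M : Model q n) : Finset V := (Finset.range 64).image fun m => M.e (wv m)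

theorem wv_lt (m : ℕ) : wv m < 4096 := ap_lt _ _ _

theorem wv_xor (m l : ℕ) : wv (m ^^^ l) = wv m ^^^ wv l := ap_add ..

theorem wv_inj {a b : ℕ} (ha : a < 64) (hb : b < 64) (e : wv a = wv b) : a = b := by
  have hab : a ^^^ b < 64 := Nat.xor_lt_two_pow (n := 6) ha hb
  have := List.all_eq_true.1 ba_ok.2.2.2.1 _ (List.mem_range.2 hab)
  simp only [show ap 6 fixBasis (a ^^^ b) = wv (a ^^^ b) from rfl, wv_xor, e, Nat.xor_self, Bool.and_eq_true,
    Bool.or_eq_true, Nat.beq_eq, Bool.not_eq_true'] at this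
  rcases this.2 with h | h
  · exact (Nat.xor_eq_zero_iff).1 h
  · exact absurd h (by decide)

theorem mem_wSet [DecidableEq V] {M : Model q n} {v : V} : v ∈ wSet M ↔ ∃ m < 64, M.e (wv m) = v := by
  simp [wSet]

theorem wSet_card [DecidableEq V] (M : Model q n) : (wSet M).card = 64 :=
  (Finset.card_image_of_injOn fun a ha b hb e => wv_inj (Finset.mem_range.1 ha) (Finset.mem_range.1 hb)
    (M.inj _ (wv_lt a) _ (wv_lt b) e)).trans (Finset.card_range 64)

theorem bR_fix (M : Model q n) {a m : ℕ} (ha : a < 16) (hm : m < 64) : bR M a (M.e (wv m)) = M.e (wv m) := by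
  obtain ⟨-, -, hba, -, -⟩ := ba_ok
  simp only [List.all_eq_true, Bool.and_eq_true, Nat.beq_eq, decide_eq_true_eq, List.mem_range] at hba
  rw [bR_rep M ha _ (wv_lt m)]
  congr 1
  refine ext_two (f := fun m => fe (bel a) (wv m)) (g := wv)
    (fun a _ c _ => by rw [wv_xor, fe_add]) (fun a _ c _ => wv_xor ..) (fun c hc => ?_) m (lt_trans hm (by norm_num))
  have := ((hba _ (bel_mem ha)).2 c hc).2
  rwa [show (64 : ℕ) = 2 ^ 6 from rfl, ← ap_mod] at this

theorem wSet_fix [DecidableEq V] (M : Model q n) (v : V) : v ∈ wSet M ↔ ∀ b ∈ baGroup M, b v = v := by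
  constructor
  · rintro hv b ⟨a, ha, rfl⟩
    obtain ⟨m, hm, rfl⟩ := mem_wSet.1 hv
    exact bR_fix M ha hm
  · intro hv
    obtain ⟨x, hx, rfl⟩ := M.surj v
    let F0 := (Finset.range 64).image (ap 6 fixBasis)
    have hF : ∀ y ∈ insert x F0, y < 4096 ∧ ∀ i ∈ baList.toFinset, fe i y = y := by
      intro y hy
      have key : y < 4096 ∧ ∀ a < 16, bR M a (M.e y) = M.e y := by
        rcases Finset.mem_insert.1 hy with rfl | hy
        · exact ⟨hx, fun a ha => hv _ ⟨a, ha, rfl⟩⟩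
        · obtain ⟨m, hm, rfl⟩ := Finset.mem_image.1 hy
          exact ⟨wv_lt m, fun a ha => bR_fix M ha (Finset.mem_range.1 hm)⟩
      refine ⟨key.1, fun i hi => ?_⟩
      obtain ⟨a, ha, rfl⟩ := List.getElem_of_mem (List.mem_toFinset.1 hi)
      rw [ba_ok.1] at ha
      have h := key.2 a ha
      rw [bR_rep M ha y key.1] at h
      have h' := M.inj _ (fe_lt _ _) y key.1 h
      unfold bel at h'
      rwa [List.getD_eq_getElem] at h'
    rcases classify ba_sub (insert x F0) hF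
      (by rw [List.toFinset_card_of_nodup ba_ok.2.1, ba_ok.1]) with ⟨-, h⟩ | ⟨-, h⟩
    · have := (Finset.card_le_card (Finset.subset_insert x F0)).trans h
      rw [show F0.card = 64 from ap_six_card] at this
      omega
    · obtain ⟨m, hm, rfl⟩ := Finset.mem_image.1 (h (Finset.mem_insert_self _ _))
      exact mem_wSet.2 ⟨m, Finset.mem_range.1 hm, rfl⟩

theorem wSet_singular [DecidableEq V] (M : Model q n) : ∀ w ∈ wSet M, q w = 0 := by
  intro w hw
  obtain ⟨m, hm, rfl⟩ := mem_wSet.1 hw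
  have h := List.all_eq_true.1 ba_ok.2.2.2.1 m (List.mem_range.2 hm)
  simp only [Bool.and_eq_true, Nat.beq_eq] at h
  rw [M.q_e _ (wv_lt m), show qn (wv m) = 0 from h.1, Nat.cast_zero]

theorem wSet_perp [DecidableEq V] (M : Model q n) (v : V) (hv : ∀ w ∈ wSet M, QuadraticMap.polar q v w = 0) :
    v ∈ wSet M := by
  obtain ⟨x, hx, rfl⟩ := M.surj v
  have h := List.all_eq_true.1 ba_ok.2.2.2.2 x (List.mem_range.2 hx)
  simp only [Bool.or_eq_true, List.any_eq_true, List.mem_range, Nat.beq_eq] at h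
  rcases h with ⟨i, hi, h⟩ | ⟨m, hm, rfl⟩
  · have hp := hv (M.e (wv (2 ^ i))) (mem_wSet.2 ⟨_, (Nat.pow_lt_pow_iff_right (a := 2) (n := i) (m := 6) (by norm_num)).2 hi, rfl⟩)
    rw [← M.bn_polar hx (wv_lt _), show bn x (wv (2 ^ i)) = 1 from h] at hp
    exact absurd hp (by decide)
  · exact mem_wSet.2 ⟨m, hm, rfl⟩

/-- The permutation of positions by a normalising element. -/
def permPos (k a : ℕ) : ℕ := (normPerm.getD k []).getD a 0

theorem permPos_lt {k a : ℕ} (hk : k < 2) (ha : a < 16) : permPos k a < 16 := by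
  have : ∀ k < 2, ∀ a < 16, (normPerm.getD k []).getD a 0 < 16 := by decide +kernel
  exact this k hk a ha

/-- The number map of a normalising element. -/
def dN (k x : ℕ) : ℕ := ap 12 (normPk.getD k (0, 0)).1 x

theorem dN_lt (k x : ℕ) : dN k x < 4096 := ap_lt _ _ _

theorem exists_delta (C : Coord q Γ n) (hcard : Nat.card Γ = 19595520) {k : ℕ} (hk : k < 2) :
    ∃ δ ∈ Γ, δ * n = n * δ ∧ (∀ x < 4096, δ (C.M.e x) = C.M.e (dN k x)) ∧
      ∀ a < 16, δ * bR C.M a * δ⁻¹ = bR C.M (permPos k a) := by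
  set M := C.M
  obtain ⟨hn1, hnlen, hnperm, -⟩ := norm_ok
  simp only [List.all_eq_true, Bool.and_eq_true, Nat.beq_eq, List.mem_range, beq_iff_eq] at hn1 hnperm
  have hmem : normPk.getD k (0, 0) ∈ normPk := by
    rw [List.getD_eq_getElem _ _ (hnlen ▸ hk)]; exact List.getElem_mem _
  obtain ⟨hb, hx⟩ := hn1 _ hmem
  set N := (normPk.getD k (0, 0)).1
  obtain ⟨δ, hδ⟩ := exists_map M (N := N) (N' := (normPk.getD k (0, 0)).2) fun b hb' => by
    have := (hb b hb').1.1
    rwa [ap12_eq, ap12_eq] at this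
  have hnN : ∀ x < 4096, ap 12 N (nmul x) = nmul (ap 12 N x) := by
    refine ext_two (fun a ha c hc => by rw [nmul_xor M ha hc, ap_add])
      (fun a ha c hc => by rw [ap_add, nmul_xor M (ap_lt _ _ _) (ap_lt _ _ _)]) fun c hc => ?_
    have := (hb c hc).2
    rwa [ap12_eq, ap12_eq] at this
  have haut : δ ∈ autGroup M := auto_of_checks M hδ (ap_lt 12 N) (ap_add 12 N)
    (fun x hx' => by have := hx x hx'; rwa [ap12_eq] at this) (Or.inl fun c hc => hnN _
      ((Nat.pow_lt_pow_iff_right (a := 2) (by norm_num)).2 hc))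
  have h3 : δ * δ * δ = 1 := LinearEquiv.ext fun v => by
    obtain ⟨x, hx', rfl⟩ := M.surj v
    show δ (δ (δ (M.e x))) = M.e x
    rw [hδ x hx', hδ _ (ap_lt _ _ _), hδ _ (ap_lt _ _ _)]
    congr 1
    refine ext_two (f := fun x => ap 12 N (ap 12 N (ap 12 N x))) (g := id) (fun a _ c _ => by simp only [ap_add])
      (fun _ _ _ _ => rfl) (fun c hc => ?_) x hx'
    have := (hb c hc).1.2
    rwa [ap12_eq, ap12_eq, ap12_eq] at this
  have hmemΓ : δ ∈ Γ := by
    have h4 : δ = (δ * δ) * (δ * δ) := by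
      calc δ = (δ * δ * δ) * δ := by rw [h3, one_mul]
        _ = _ := by group
    rw [h4]; exact mul_mem (C.sq_mem hcard haut) (C.sq_mem hcard haut)
  refine ⟨δ, hmemΓ, LinearEquiv.ext fun v => ?_, hδ, fun a ha => ?_⟩
  · obtain ⟨x, hx', rfl⟩ := M.surj v
    show δ (n (M.e x)) = n (δ (M.e x))
    rw [M.n_e x hx', hδ _ (nmul_lt' hx'), hδ x hx', M.n_e _ (ap_lt _ _ _), hnN x hx']
  · rw [mul_inv_eq_iff_eq_mul]
    refine LinearEquiv.ext fun v => ?_
    obtain ⟨x, hx', rfl⟩ := M.surj v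
    show δ (bR M a (M.e x)) = bR M (permPos k a) (δ (M.e x))
    rw [bR_rep M ha x hx', hδ _ (fe_lt _ _), hδ x hx', bR_rep M (permPos_lt hk ha) _ (ap_lt _ _ _)]
    congr 1
    refine ext_two (f := fun x => ap 12 N (fe (bel a) x)) (g := fun x => fe (bel (permPos k a)) (ap 12 N x))
      (fun u _ w _ => by simp only [fe_add, ap_add]) (fun u _ w _ => by simp only [fe_add, ap_add]) (fun c hc => ?_) x hx'
    have := hnperm k hk a ha c hc
    rwa [ap12_eq, ap12_eq] at this

theorem orbit_induction {P : ℕ → Prop} (h0 : P sqWitness.1)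
    (hstep : ∀ k < 2, ∀ a < 16, P a → P (permPos k a)) : ∀ a < 16, a ≠ 0 → P a := by
  obtain ⟨-, -, -, -, -, hs16, -, hsteps, hchain, hall⟩ := norm_ok
  simp only [List.all_eq_true, Bool.and_eq_true, Nat.beq_eq, decide_eq_true_eq, List.mem_range, Bool.or_eq_true,
    List.any_eq_true] at hsteps hchain hall
  have hlen : orbitSteps.length = 14 := by decide +kernel
  have hst : ∀ j < 14, P (orbitSteps.getD j (0, 0, 0)).1 := by
    intro j
    induction j using Nat.strong_induction_on with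
    | _ j ih =>
      intro hj
      have hmem : orbitSteps.getD j (0, 0, 0) ∈ orbitSteps := by
        rw [List.getD_eq_getElem _ _ (hlen ▸ hj)]; exact List.getElem_mem _
      obtain ⟨⟨h16, hk⟩, hp⟩ := hsteps _ hmem
      set p := orbitSteps.getD j (0, 0, 0)
      have hb : p.2.1 < 16 ∧ P p.2.1 := by
        rcases hchain j hj with e | ⟨i, hi, e⟩
        · rw [e]; exact ⟨hs16, h0⟩
        · have := ih i hi (by omega)
          refine e ▸ ⟨?_, this⟩
          refine (hsteps _ ?_).1.1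
          rw [List.getD_eq_getElem _ _ (by rw [hlen]; omega)]; exact List.getElem_mem _
      have hperm : permPos p.2.2 p.2.1 = p.1 := by
        have hl : p.2.1 < (normPerm.getD p.2.2 []).length := by
          have : ∀ k < 2, (normPerm.getD k []).length = 16 := by decide +kernel
          rw [this _ hk]; exact hb.1
        unfold permPos
        rw [List.getD_eq_getElem _ _ hl] at hp ⊢
        exact hp
      exact hperm ▸ hstep _ hk _ hb.1 hb.2
  intro a ha ha0
  rcases hall a ha with (e | e) | ⟨p, hp, e⟩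
  · exact absurd e ha0
  · exact e ▸ h0
  · obtain ⟨j, hj, rfl⟩ := List.getElem_of_mem hp
    have := hst j (hlen ▸ hj)
    rwa [List.getD_eq_getElem _ _ hj, e] at this

/-- The group of order 256, and the uniqueness of the subgroup of order 16. -/
theorem syl_facts [DecidableEq V] (C : Coord q Γ n) (hcard : Nat.card Γ = 19595520) :
    baGroup C.M ≤ Γ ∧
    (∀ b ∈ baGroup C.M, ∀ b' ∈ baGroup C.M, b ≠ 1 → b' ≠ 1 → ∃ γ ∈ Γ, γ * n = n * γ ∧ γ * b * γ⁻¹ = b') ∧
    ∃ S : Subgroup (V ≃ₗ[ZMod 2] V), S ≤ Γ ∧ Nat.card S = 256 ∧ baGroup C.M ≤ S ∧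
      ∀ B' ≤ S, (∀ b ∈ B', b * b = 1) → B' ≠ baGroup C.M →
        ∀ U : Finset V, (∀ v ∈ U, ∀ b ∈ B', b v = v) → U.card ≤ 64 → Nat.card B' * U.card < 1024 := by
  classical
  haveI := finite_equiv (V := V)
  set M := C.M
  let S0 := sylGroup M ⊓ Γ
  have hrel := Subgroup.relIndex_le_of_le_right (H := Γ) (sylGroup_le M) (by
    have : (Γ.subgroupOf (autGroup M)).index ≠ 0 := Subgroup.index_ne_zero_of_finite
    exact this)
  have h2 := hrel.trans (C.relIndex_le hcard)
  have hmul := Subgroup.card_mul_index (Γ.subgroupOf (sylGroup M))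
  rw [sylGroup_card] at hmul
  have hS0c : Nat.card (Γ.subgroupOf (sylGroup M)) = Nat.card S0 :=
    Nat.card_congr
      { toFun := fun x => ⟨x.1.1, x.1.2, Subgroup.mem_subgroupOf.1 x.2⟩
        invFun := fun y => ⟨⟨y.1, y.2.1⟩, Subgroup.mem_subgroupOf.2 y.2.2⟩
        left_inv := fun _ => rfl
        right_inv := fun _ => rfl }
  have hS : Nat.card S0 = 256 := by
    have hd := Subgroup.card_dvd_of_le (inf_le_right : S0 ≤ Γ)
    rw [hS0c] at hmul
    rw [hcard] at hd
    have h2' : (Γ.subgroupOf (sylGroup M)).index ≤ 2 := h2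
    have h0 : (Γ.subgroupOf (sylGroup M)).index ≠ 0 := Subgroup.index_ne_zero_of_finite
    rcases (show (Γ.subgroupOf (sylGroup M)).index = 1 ∨ (Γ.subgroupOf (sylGroup M)).index = 2 by omega) with e | e
    · rw [e, mul_one] at hmul; rw [hmul] at hd; norm_num at hd
    · rw [e] at hmul; omega
  obtain ⟨-, -, -, hsq, hsq512, hs16, -⟩ := norm_ok
  have hR0 : bR M sqWitness.1 ∈ Γ := by
    obtain ⟨t, ht⟩ := exists_rep M hsq512
    have h1 := ht.mul hsq512 hsq512 ht
    rw [hsq] at h1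
    rw [(bR_rep M hs16).eq_map h1]
    exact C.sq_mem hcard (sylGroup_le M ⟨_, hsq512, ht⟩)
  have horbit : ∀ a < 16, a ≠ 0 → ∃ γ ∈ Γ, γ * n = n * γ ∧ γ * bR M sqWitness.1 * γ⁻¹ = bR M a :=
    orbit_induction ⟨1, one_mem _, by simp, by simp⟩ fun k hk a ha ⟨γ, hγ, hγn, hγe⟩ => by
      obtain ⟨δ, hδ, hδn, -, hδe⟩ := exists_delta C hcard hk
      refine ⟨δ * γ, mul_mem hδ hγ, by rw [mul_assoc, hγn, ← mul_assoc, hδn, mul_assoc], ?_⟩
      rw [← hδe a ha, ← hγe]; group
  have hBΓ : baGroup M ≤ Γ := by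
    rintro b ⟨a, ha, rfl⟩
    by_cases h0 : a = 0
    · rw [h0, bR_zero]; exact one_mem _
    · obtain ⟨γ, hγ, -, e⟩ := horbit a ha h0
      rw [← e]; exact mul_mem (mul_mem hγ hR0) (inv_mem hγ)
  refine ⟨hBΓ, ?_, S0, inf_le_right, hS, ?_, ?_⟩
  · rintro _ ⟨a, ha, rfl⟩ _ ⟨a', ha', rfl⟩ h1 h1'
    obtain ⟨γ, hγ, hγn, e⟩ := horbit a ha fun h => h1 (h ▸ bR_zero M)
    obtain ⟨γ', hγ', hγn', e'⟩ := horbit a' ha' fun h => h1' (h ▸ bR_zero M)
    refine ⟨γ' * γ⁻¹, mul_mem hγ' (inv_mem hγ), ?_, ?_⟩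
    · have : γ⁻¹ * n = n * γ⁻¹ := by rw [inv_mul_eq_iff_eq_mul, ← mul_assoc, hγn, mul_inv_cancel_right]
      rw [mul_assoc, this, ← mul_assoc, hγn', mul_assoc]
    · rw [← e, ← e']; group
  · rintro b ⟨a, ha, rfl⟩
    exact ⟨⟨_, bel_lt ha, bR_rep M ha⟩, hBΓ ⟨a, ha, rfl⟩⟩
  · intro B' hB' hsq' hne U hU hU64
    let I : Finset ℕ := (Finset.range 512).filter fun i => ∃ g ∈ B', Rep M g i
    have hI : ∀ {i}, i ∈ I ↔ i < 512 ∧ ∃ g ∈ B', Rep M g i := by simp [I]
    have hIs : IdxSub I := by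
      refine ⟨fun i hi => (hI.1 hi).1, hI.2 ⟨by norm_num, 1, one_mem _, Rep.one⟩, fun i hi => ?_, fun i hi j hj => ?_,
        fun i hi => ?_⟩
      · obtain ⟨hi5, g, hg, hr⟩ := hI.1 hi
        have h := List.all_eq_true.1 cand_ok.1 i (List.mem_range.2 hi5)
        simp only [Bool.or_eq_true, Nat.beq_eq, Bool.not_eq_true', List.any_eq_true, Bool.and_eq_true,
          List.contains_iff_mem] at h
        rcases h with ((h | h) | ⟨p, hp, e⟩) | h
        · exact Or.inl h
        · exfalso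
          have h1 := hr.mul hi5 hi5 hr
          rw [hsq' g hg] at h1
          have := h1.eq_num (mulIdx_spec hi5 hi5).1 (by norm_num) Rep.one
          rw [this] at h
          exact Bool.noConfusion h
        · exfalso
          subst e
          have h := List.all_eq_true.1 cand_ok.2.1 p hp
          simp only [Bool.and_eq_true, decide_eq_true_eq, List.all_eq_true, List.mem_range, Nat.beq_eq] at h
          obtain ⟨⟨ha, hs⟩, hb⟩ := h
          refine C.no_tr p.2 ha hs ⟨g, (hB' hg).2, fun x hx => ?_⟩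
          rw [hr x hx]
          congr 1
          exact ext_two (fun u _ w _ => fe_add _ u w) (fun u hu w hw => M.tr_add ha hu hw) hb x hx
        · exact Or.inr h
      · obtain ⟨hi5, g, hg, hr⟩ := hI.1 hi
        obtain ⟨hj5, g', hg', hr'⟩ := hI.1 hj
        exact hI.2 ⟨(mulIdx_spec hi5 hj5).1, g * g', mul_mem hg hg', hr.mul hi5 hj5 hr'⟩
      · obtain ⟨hi5, g, hg, hr⟩ := hI.1 hi
        have h1 := hr.mul hi5 hi5 hr
        rw [hsq' g hg] at h1
        exact h1.eq_num (mulIdx_spec hi5 hi5).1 (by norm_num) Rep.one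
    have hIc : Nat.card B' = I.card := by
      rw [← Nat.card_eq_finsetCard]
      have hex : ∀ g : B', ∃ i : I, Rep M g.1 i.1 := fun g => by
        obtain ⟨i, hi, h⟩ := (hB' g.2).1
        exact ⟨⟨i, hI.2 ⟨hi, g.1, g.2, h⟩⟩, h⟩
      choose f hf using hex
      refine Nat.card_eq_of_bijective f ⟨fun g g' e => Subtype.ext ((hf g).eq_map (e ▸ hf g')), fun i => ?_⟩
      obtain ⟨hi5, g, hg, h⟩ := hI.1 i.2
      exact ⟨⟨g, hg⟩, Subtype.ext ((hf ⟨g, hg⟩).eq_num (hIs.lt _ (f _).2) hi5 h)⟩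
    rw [hIc]
    by_cases h16 : 16 ≤ I.card
    · let F : Finset ℕ := (Finset.range 4096).filter fun x => M.e x ∈ U
      have hF : ∀ x ∈ F, x < 4096 ∧ ∀ i ∈ I, fe i x = x := fun x hx => by
        obtain ⟨hx4, hxU⟩ := Finset.mem_filter.1 hx
        refine ⟨Finset.mem_range.1 hx4, fun i hi => ?_⟩
        obtain ⟨-, g, hg, h⟩ := hI.1 hi
        exact M.inj _ (fe_lt _ _) x (Finset.mem_range.1 hx4) ((h x (Finset.mem_range.1 hx4)).symm.trans (hU _ hxU g hg))
      have hUF : U.card ≤ F.card := by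
        refine (Finset.card_le_card fun v hv => ?_).trans (Finset.card_image_le (f := M.e))
        obtain ⟨x, hx, rfl⟩ := M.surj v
        exact Finset.mem_image_of_mem _ (Finset.mem_filter.2 ⟨Finset.mem_range.2 hx, hv⟩)
      rcases classify hIs F hF h16 with ⟨h32, h8⟩ | ⟨e, -⟩
      · exact lt_of_le_of_lt (Nat.mul_le_mul h32 (hUF.trans h8)) (by norm_num)
      · refine absurd (le_antisymm (fun g hg => ?_) fun g hg => ?_) hne
        · obtain ⟨i, hi, h⟩ := (hB' hg).1
          have hi' : i ∈ baList.toFinset := e ▸ hI.2 ⟨hi, g, hg, h⟩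
          obtain ⟨a, ha, rfl⟩ := List.getElem_of_mem (List.mem_toFinset.1 hi')
          rw [ba_ok.1] at ha
          refine ⟨a, ha, h.eq_map ?_⟩
          have hr := bR_rep M ha
          unfold bel at hr
          rwa [List.getD_eq_getElem] at hr
        · obtain ⟨a, ha, rfl⟩ := hg
          have hi : bel a ∈ I := e ▸ List.mem_toFinset.2 (bel_mem ha)
          obtain ⟨-, g', hg', h'⟩ := hI.1 hi
          rwa [(bR_rep M ha).eq_map h']
    · exact lt_of_le_of_lt (Nat.mul_le_mul (show I.card ≤ 15 by omega) hU64) (by norm_num)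

end Cfsg.Agent.LargeFischer
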