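/-
Conjugates of the central involution inside Q for a group of large Fischer type.

* `central_facts` : intersection, image of the other subgroup, stabiliser
* `orbit_of_card` : stabilisers of equal order give one orbit
-/
import Cfsg.Agent.Lib.LargeFischer.OfType
import Cfsg.Agent.Lib.LargeFischer.Stab
import Cfsg.Agent.Lib.LargeExtraspecial.Quotient
import Cfsg.Agent.Lib.LargeExtraspecial.Simple

set_option autoImplicit false
open Cfsg
open scoped commutatorElement

namespace Cfsg.Agent.LargeFischer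

open LargeExtraspecial

universe u

variable {G : Type u} [Group G] [Finite G] {z : G} {Q : Subgroup (Subgroup.centralizer ({z} : Set G))}
  [Q.Normal] [Fact (Cfsg.IsExtraspecial 2 Q)]

/-- The hypotheses on the action, at once. -/
theorem stab_type (hF : Cfsg.IsOfLargeFischerTypeAt z Q) :
    (∀ v : OutForm.Vm Q, v ≠ 0 → OutForm.qf Q v = 0 →
      (Nat.card (MulAction.stabilizer (toGL Q).range v) = 51840 ∨
        Nat.card (MulAction.stabilizer (toGL Q).range v) = 11520) ∧
      ∃ f : alternatingGroup (Fin 6) →* (toGL Q).range, Function.Injective f ∧ ∀ π, (f π).1 v = v) ∧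
    ∀ v w : OutForm.Vm Q, v ≠ 0 → OutForm.qf Q v = 0 → w ≠ 0 → OutForm.qf Q w = 0 →
      Nat.card (MulAction.stabilizer (toGL Q).range v) = Nat.card (MulAction.stabilizer (toGL Q).range w) →
        ∃ γ ∈ (toGL Q).range, γ v = w := by
  obtain ⟨-, hcard, n, g, ⟨F⟩, hnΓ, hn, hgΓ, hg7, hg1, hgn, -⟩ := exists_frame hF
  exact F.stab_data ((Forms.nondegenerate_polarBilin_iff _).1 OutForm.qf_nondegenerate)
    (by rintro _ ⟨c, rfl⟩ v; exact toGL_q c v) hcard hnΓ hn hgΓ hg7 hg1 hgn

/-- An elementary subgroup of an extraspecial group of order 2^13 has order at most 2^7. -/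
theorem card_elementary_le (hcard : Nat.card Q = 2 ^ (2 * 6 + 1)) (J : Subgroup Q)
    (hJ : ∀ x ∈ J, x * x = 1) : Nat.card J ≤ 2 ^ 7 := by
  classical
  let f : J →* Q ⧸ Subgroup.center Q := (QuotientGroup.mk' (Subgroup.center Q)).comp J.subtype
  let W : Submodule (ZMod 2) (OutForm.Vm Q) := AddSubgroup.toZModSubmodule 2 f.range.toAddSubgroup
  have hW : ∀ w ∈ W, OutForm.qf Q w = 0 := by
    rintro w ⟨x, hx⟩
    have e : w = OutForm.pr (x : Q) := hx.symm
    rw [e, OutForm.qf_apply, hJ _ x.2, OutForm.eps_one]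
  have h2 := Forms.two_mul_finrank_singular_le (OutForm.qf Q) OutForm.qf_nondegenerate W hW
  rw [OutForm.finrank_Vm hcard] at h2
  have hWc : Nat.card f.range ≤ 2 ^ 6 := by
    have h := Module.natCard_eq_pow_finrank (K := ZMod 2) (V := W)
    rw [Nat.card_zmod] at h
    calc Nat.card f.range = Nat.card W := Nat.card_congr
          { toFun := fun x => ⟨Additive.ofMul x.1, x.2⟩
            invFun := fun w => ⟨w.1.toMul, w.2⟩
            left_inv := fun _ => rfl
            right_inv := fun _ => rfl }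
      _ ≤ 2 ^ 6 := h ▸ Nat.pow_le_pow_right (by norm_num) (by omega)
  have hk : Nat.card f.ker ≤ 2 := by
    rw [← (Fact.out : Cfsg.IsExtraspecial 2 Q).2]
    refine Nat.card_le_card_of_injective (fun x => (⟨x.1.1, (QuotientGroup.eq_one_iff _).1 x.2⟩ : Subgroup.center Q))
      fun x y h => Subtype.ext (Subtype.ext (congrArg Subtype.val h :))
  rw [← f.ker.card_mul_index, Subgroup.index_ker]
  calc Nat.card f.ker * Nat.card f.range ≤ 2 * 2 ^ 6 := Nat.mul_le_mul hk hWc
    _ = 2 ^ 7 := by norm_num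

theorem eq_one_of_sq_cube {H : Type*} [Group H] {x : H} (h2 : x * x = 1) (h3 : x ^ 3 = 1) : x = 1 := by
  rwa [pow_succ, pow_two, h2, one_mul] at h3

/-- The central involution is in Q, and every conjugate in Q gives a non-zero singular vector. -/
theorem data_of_type (hF : Cfsg.IsOfLargeFischerTypeAt z Q) :
    Data (Q.map (Subgroup.centralizer ({z} : Set G)).subtype) z := by
  obtain ⟨⟨hz, hfit, hex, -, -⟩, -⟩ := hF
  exact (Data.of_generalizedFitting hz (by rw [hfit])
    (isExtraspecial_congr (Subgroup.equivMapOfInjective Q _ (Subgroup.centralizer ({z} : Set G)).subtype_injective) hex)).1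

set_option maxHeartbeats 1000000 in
/-- The facts on a conjugate `s = g z g⁻¹` in Q. -/
theorem central_facts (hF : Cfsg.IsOfLargeFischerTypeAt z Q) {s g : G} (hg : g * z * g⁻¹ = s) (hs1 : s ≠ z)
    (hsc : s ∈ Subgroup.centralizer ({z} : Set G)) (hsQ : (⟨s, hsc⟩ : Subgroup.centralizer ({z} : Set G)) ∈ Q)
    (X E : Subgroup ((Subgroup.centralizer ({z} : Set G)) ⧸ Q))
    (hX : X = ((Subgroup.centralizer ({z} : Set G) ⊓ Subgroup.centralizer ({s} : Set G)).subgroupOf
      (Subgroup.centralizer ({z} : Set G))).map (QuotientGroup.mk' Q))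
    (hE : E = ((((Q.map (Subgroup.centralizer ({z} : Set G)).subtype)).map (MulAut.conj g).toMonoidHom ⊓
      Subgroup.centralizer ({z} : Set G)).subgroupOf (Subgroup.centralizer ({z} : Set G))).map (QuotientGroup.mk' Q)) :
    OutForm.pr (⟨_, hsQ⟩ : Q) ≠ 0 ∧ OutForm.qf Q (OutForm.pr (⟨_, hsQ⟩ : Q)) = 0 ∧
    Nat.card (MulAction.stabilizer (toGL Q).range (OutForm.pr (⟨_, hsQ⟩ : Q))) = 11520 ∧
    (∃ φ : MulAction.stabilizer (toGL Q).range (OutForm.pr (⟨_, hsQ⟩ : Q)) →* alternatingGroup (Fin 6),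
      ∀ x, φ x = 1 → x * x = 1) ∧
    Cfsg.IsElementaryAbelian 2 ((Q.map (Subgroup.centralizer ({z} : Set G)).subtype) ⊓
      ((Q.map (Subgroup.centralizer ({z} : Set G)).subtype)).map (MulAut.conj g).toMonoidHom) ∧
    Nat.card ↥((Q.map (Subgroup.centralizer ({z} : Set G)).subtype) ⊓
      ((Q.map (Subgroup.centralizer ({z} : Set G)).subtype)).map (MulAut.conj g).toMonoidHom) = 2 ^ 7 ∧
    E ≤ X ∧ (∀ x ∈ X, ∀ y ∈ E, x * y * x⁻¹ ∈ E) ∧ Cfsg.IsElementaryAbelian 2 E ∧ Nat.card E = 32 ∧
    ∃ _ : (E.subgroupOf X).Normal, Nonempty (↥X ⧸ E.subgroupOf X ≃* alternatingGroup (Fin 6)) := by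
  classical
  have D := data_of_type hF
  have hker : (toGL Q).ker = Q := (exists_frame hF).1
  have hcardQ : Nat.card Q = 2 ^ (2 * 6 + 1) := hF.1.2.2.2.1
  have hstab := (stab_type hF).1
  have hcardQ' : Nat.card (Q.map (Subgroup.centralizer ({z} : Set G)).subtype) = 2 ^ 13 := by
    rw [Subgroup.card_subtype]; exact hcardQ
  have hsQ' : g * z * g⁻¹ ∈ (Q.map (Subgroup.centralizer ({z} : Set G)).subtype) := by rw [hg]; exact ⟨_, hsQ, rfl⟩
  have hsz : g * z * g⁻¹ ≠ z := by rw [hg]; exact hs1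
  have DR := D.conjugate g
  rw [hg] at DR
  set R := (Q.map (Subgroup.centralizer ({z} : Set G)).subtype).map (MulAut.conj g).toMonoidHom with hR
  have hzR : z ∈ R := D.mem_conj hsQ' hsz (by rw [hcardQ']; norm_num)
  have hcardR : Nat.card R = 2 ^ 13 := by
    rw [hR, ← hcardQ']; exact (Nat.card_congr (Subgroup.equivMapOfInjective (Q.map (Subgroup.centralizer ({z} : Set G)).subtype) _ (MulAut.conj g).injective).toEquiv).symm
  -- the intersection
  have hI : ∀ x ∈ (Q.map (Subgroup.centralizer ({z} : Set G)).subtype) ⊓ R, x * x = 1 := by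
    intro x hx
    rcases D.sq hx.1 with h | h
    · exact h
    · rcases DR.sq hx.2 with h' | h'
      · exact h'
      · exact absurd (h'.symm.trans h) hs1
  have hIel : Cfsg.IsElementaryAbelian 2 ((Q.map (Subgroup.centralizer ({z} : Set G)).subtype) ⊓ R : Subgroup G) := by
    refine ⟨⟨⟨fun a b => Subtype.ext ?_⟩⟩, fun a ha => by rw [pow_two]; exact hI a ha⟩
    rw [Subgroup.coe_mul, Subgroup.coe_mul, ← commutatorElement_eq_one_iff_mul_comm]
    rcases D.comm _ a.2.1 _ b.2.1 with h | h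
    · exact h
    · rcases DR.comm _ a.2.2 _ b.2.2 with h' | h'
      · exact h'
      · exact absurd (h'.symm.trans h) hs1
  have hIle : Nat.card ((Q.map (Subgroup.centralizer ({z} : Set G)).subtype) ⊓ R : Subgroup G) ≤ 2 ^ 7 := by
    let J : Subgroup Q := ((Q.map (Subgroup.centralizer ({z} : Set G)).subtype) ⊓ R).comap ((Subgroup.centralizer ({z} : Set G)).subtype.comp Q.subtype)
    refine le_trans (le_of_eq ?_) (card_elementary_le hcardQ J fun x hx =>
      Subtype.ext (Subtype.ext (hI _ hx)))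
    refine (Nat.card_congr ?_).symm
    exact
      { toFun := fun x => ⟨((x.1 : (Subgroup.centralizer ({z} : Set G))) : G), x.2⟩
        invFun := fun y => ⟨⟨⟨y.1, by obtain ⟨q, hq, e⟩ := y.2.1; exact e ▸ q.2⟩, by
          obtain ⟨q, hq, e⟩ := y.2.1
          exact (Subtype.ext e : q = ⟨y.1, e ▸ q.2⟩) ▸ hq⟩, y.2⟩
        left_inv := fun _ => rfl
        right_inv := fun _ => rfl }
  -- the centraliser of z in R
  have hzC : ∀ x : G, x ∈ (Subgroup.centralizer ({z} : Set G)) ↔ x * z = z * x := fun x => Subgroup.mem_centralizer_singleton_iff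
  have hs1' : s ≠ 1 := DR.z_ne
  obtain ⟨r₀, hr₀, hr₀z⟩ := DR.exists_conj_eq hzR D.z_ne (Ne.symm hs1)
  have hRC : Nat.card (R ⊓ (Subgroup.centralizer ({z} : Set G)) : Subgroup G) = 2 ^ 12 := by
    have hidx : ((R ⊓ (Subgroup.centralizer ({z} : Set G))).subgroupOf R).index = 2 := by
      rw [Subgroup.index_eq_two_iff]
      refine ⟨⟨r₀, hr₀⟩, fun b => ?_⟩
      have hb : ∀ x : R, x ∈ (R ⊓ (Subgroup.centralizer ({z} : Set G))).subgroupOf R ↔ ⁅(x : G), z⁆ = 1 := fun x => by
        rw [Subgroup.mem_subgroupOf, Subgroup.mem_inf, hzC, commutatorElement_eq_one_iff_mul_comm]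
        exact ⟨fun h => h.2, fun h => ⟨x.2, h⟩⟩
      have h0 : ⁅r₀, z⁆ = s := by
        rw [commutatorElement_def, hr₀z]
        calc z * s * z⁻¹ = s * z * z⁻¹ := by rw [DR.z_central z hzR]
          _ = s := by group
      rw [hb, hb, Subgroup.coe_mul, DR.comm_mul_left b.2 hr₀ hzR, h0]
      rcases DR.comm _ b.2 z hzR with h | h
      · refine Or.inr ⟨h, ?_⟩
        rw [h, one_mul]; exact hs1'
      · refine Or.inl ⟨by rw [h, DR.z_sq], ?_⟩
        rw [h]; exact hs1'
    have h := ((R ⊓ (Subgroup.centralizer ({z} : Set G))).subgroupOf R).card_mul_index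
    rw [hidx, Nat.card_congr (Subgroup.subgroupOfEquivOfLe (inf_le_left : R ⊓ (Subgroup.centralizer ({z} : Set G)) ≤ R)).toEquiv, hcardR] at h
    omega
  -- the image
  set Rc := (R ⊓ (Subgroup.centralizer ({z} : Set G))).subgroupOf (Subgroup.centralizer ({z} : Set G)) with hRc
  have hEcard : Nat.card ((Q.map (Subgroup.centralizer ({z} : Set G)).subtype) ⊓ R : Subgroup G) * Nat.card E = 2 ^ 12 := by
    have h := Subgroup.card_eq_card_quotient_mul_card_subgroup ((QuotientGroup.mk' Q).comp Rc.subtype).ker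
    rw [Nat.card_congr (QuotientGroup.quotientKerEquivRange _).toEquiv, MonoidHom.range_comp,
      Subgroup.range_subtype, ← hE,
      Nat.card_congr (Subgroup.subgroupOfEquivOfLe (inf_le_right : R ⊓ (Subgroup.centralizer ({z} : Set G)) ≤ (Subgroup.centralizer ({z} : Set G)))).toEquiv, hRC] at h
    rw [h, mul_comm]
    congr 1
    exact Nat.card_congr
      { toFun := fun x => ⟨⟨⟨x.1, by obtain ⟨q, hq, e⟩ := x.2.1; exact e ▸ q.2⟩,
            Subgroup.mem_subgroupOf.2 ⟨x.2.2, by obtain ⟨q, hq, e⟩ := x.2.1; exact e ▸ q.2⟩⟩, by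
          obtain ⟨q, hq, e⟩ := x.2.1
          refine (QuotientGroup.eq_one_iff _).2 ?_
          have hxC : x.1 ∈ Subgroup.centralizer ({z} : Set G) := e ▸ q.2
          have hqe : q = ⟨x.1, hxC⟩ := Subtype.ext e
          rw [hqe] at hq
          exact hq⟩
        invFun := fun y => ⟨((y.1 : (Subgroup.centralizer ({z} : Set G))) : G), ⟨⟨y.1.1, (QuotientGroup.eq_one_iff _).1 y.2, rfl⟩, y.1.2.1⟩⟩
        left_inv := fun _ => rfl
        right_inv := fun _ => rfl }
  have hEel : Cfsg.IsElementaryAbelian 2 E := by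
    subst hE
    have hsmem : ∀ x : (Subgroup.centralizer ({z} : Set G)), ((x : G) = 1 ∨ (x : G) = s) → x ∈ Q := by
      rintro x (h | h)
      · rw [show x = 1 from Subtype.ext h]; exact one_mem _
      · rw [show x = ⟨s, hsc⟩ from Subtype.ext h]; exact hsQ
    refine ⟨⟨⟨fun a b => Subtype.ext ?_⟩⟩, ?_⟩
    · obtain ⟨x, hx, ex⟩ := a.2
      obtain ⟨y, hy, ey⟩ := b.2
      rw [Subgroup.coe_mul, Subgroup.coe_mul, ← ex, ← ey, ← commutatorElement_eq_one_iff_mul_comm,
        ← map_commutatorElement]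
      exact (QuotientGroup.eq_one_iff _).2 (hsmem _ (DR.comm _ hx.1 _ hy.1))
    · rintro _ ⟨x, hx, rfl⟩
      rw [← map_pow]
      exact (QuotientGroup.eq_one_iff _).2 (hsmem _ (by rw [pow_two]; exact DR.sq hx.1))
  have hEX : E ≤ X := by
    subst hE hX
    refine Subgroup.map_mono fun x hx => ⟨x.2, ?_⟩
    exact Subgroup.mem_centralizer_singleton_iff.2 (DR.z_central _ hx.1)
  have hnorm : ∀ x ∈ X, ∀ y ∈ E, x * y * x⁻¹ ∈ E := by
    subst hE hX
    rintro _ ⟨x, hx, rfl⟩ _ ⟨y, hy, rfl⟩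
    refine ⟨x * y * x⁻¹, ⟨?_, ?_⟩, by simp⟩
    · exact DR.norm _ (Subgroup.mem_centralizer_singleton_iff.1 hx.2) _ hy.1
    · exact (x * y * x⁻¹).2
  haveI hnormal : (E.subgroupOf X).Normal := ⟨fun y hy x => hnorm _ x.2 _ hy⟩
  -- the vector
  set sQ : Q := ⟨_, hsQ⟩ with hsQdef
  have hv : OutForm.pr sQ ≠ 0 := by
    intro h
    have hc := Subgroup.mem_center_iff.1 (OutForm.pr_eq_zero.1 h)
    rcases D.cent s (by
      rintro _ ⟨q, hq, rfl⟩
      exact congrArg (fun a : Q => ((a : (Subgroup.centralizer ({z} : Set G))) : G)) (hc ⟨q, hq⟩)) with h' | h'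
    exacts [hs1' h', hs1 h']
  have hqv : OutForm.qf Q (OutForm.pr sQ) = 0 := by
    rw [OutForm.qf_apply, show sQ * sQ = 1 from Subtype.ext (Subtype.ext DR.z_sq), OutForm.eps_one]
  obtain ⟨hstabcard, f, hf, hfv⟩ := hstab _ hv hqv
  -- X is the stabiliser
  let ψ : (Subgroup.centralizer ({z} : Set G)) ⧸ Q →* (toGL Q).range := QuotientGroup.lift Q (toGL Q).rangeRestrict
    (by rw [MonoidHom.ker_rangeRestrict, hker])
  have hψb : Function.Bijective ψ := by
    refine ⟨(injective_iff_map_eq_one ψ).2 fun x hx => ?_, fun y => ?_⟩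
    · obtain ⟨c, rfl⟩ := QuotientGroup.mk_surjective x
      rw [QuotientGroup.eq_one_iff, ← hker, MonoidHom.mem_ker]
      exact congrArg Subtype.val hx
    · obtain ⟨c, hc⟩ := y.2
      exact ⟨QuotientGroup.mk c, Subtype.ext hc⟩
  have hXstab : ∀ x, x ∈ X ↔ ψ x ∈ MulAction.stabilizer (toGL Q).range (OutForm.pr sQ) := by
    intro x
    obtain ⟨c, rfl⟩ := QuotientGroup.mk_surjective x
    rw [MulAction.mem_stabilizer_iff]
    show _ ↔ toGL Q c (OutForm.pr sQ) = OutForm.pr sQ
    rw [toGL_pr, hX]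
    constructor
    · rintro ⟨d, hd, e⟩
      have hdc : toGL Q d = toGL Q c := by
        have := congrArg (fun w => (ψ w).1) e
        exact this
      have := LinearEquiv.congr_fun hdc (OutForm.pr sQ)
      rw [toGL_pr, toGL_pr] at this
      rw [← this]
      congr 1
      refine Subtype.ext (Subtype.ext ?_)
      show (d : G) * s * (d : G)⁻¹ = s
      have hds : (d : G) * s = s * (d : G) := Subgroup.mem_centralizer_singleton_iff.1 hd.2
      rw [hds, mul_inv_cancel_right]
    · intro h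
      obtain ⟨r, hr⟩ := exists_conj_of_pr (by rw [h]; exact hv) h
      refine ⟨(r : (Subgroup.centralizer ({z} : Set G))) * c, ⟨((r : (Subgroup.centralizer ({z} : Set G))) * c).2, Subgroup.mem_centralizer_singleton_iff.2 ?_⟩, ?_⟩
      · have h1 : ((r : (Subgroup.centralizer ({z} : Set G))) : G) * ((c : G) * s * (c : G)⁻¹) * ((r : (Subgroup.centralizer ({z} : Set G))) : G)⁻¹ = s :=
          congrArg (fun a : Q => ((a : (Subgroup.centralizer ({z} : Set G))) : G)) hr
        show ((r : (Subgroup.centralizer ({z} : Set G))) : G) * c * s = s * (((r : (Subgroup.centralizer ({z} : Set G))) : G) * c)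
        calc ((r : (Subgroup.centralizer ({z} : Set G))) : G) * c * s
            = ((r : (Subgroup.centralizer ({z} : Set G))) : G) * ((c : G) * s * (c : G)⁻¹) * ((r : (Subgroup.centralizer ({z} : Set G))) : G)⁻¹ * (((r : (Subgroup.centralizer ({z} : Set G))) : G) * c) := by group
          _ = _ := by rw [h1]
      · show QuotientGroup.mk ((r : (Subgroup.centralizer ({z} : Set G))) * c) = QuotientGroup.mk c
        rw [QuotientGroup.mk_mul, (QuotientGroup.eq_one_iff _).2 r.2, one_mul]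
  have hXcard : Nat.card X = Nat.card (MulAction.stabilizer (toGL Q).range (OutForm.pr sQ)) := by
    refine Nat.card_eq_of_bijective (fun x => ⟨ψ x.1, (hXstab _).1 x.2⟩) ⟨fun a b h => ?_, fun y => ?_⟩
    · exact Subtype.ext (hψb.1 (congrArg Subtype.val h))
    · obtain ⟨x, hx⟩ := hψb.2 y.1
      exact ⟨⟨x, (hXstab x).2 (hx ▸ y.2)⟩, Subtype.ext hx⟩
  -- the alternating group
  let e : (Subgroup.centralizer ({z} : Set G)) ⧸ Q ≃* (toGL Q).range := MulEquiv.ofBijective ψ hψb
  have hfX : ∀ π, e.symm (f π) ∈ X := fun π => by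
    rw [hXstab]
    show e (e.symm (f π)) ∈ _
    rw [e.apply_symm_apply, MulAction.mem_stabilizer_iff]
    exact hfv π
  let fX : alternatingGroup (Fin 6) →* X := (e.symm.toMonoidHom.comp f).codRestrict X hfX
  let φ : alternatingGroup (Fin 6) →* X ⧸ E.subgroupOf X := (QuotientGroup.mk' _).comp fX
  have hfXinj : Function.Injective fX := fun a b h => hf (e.symm.injective (congrArg Subtype.val h))
  have hφinj : Function.Injective φ := by
    haveI : IsSimpleGroup (alternatingGroup (Fin 6)) := alternatingGroup.isSimpleGroup (by simp)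
    rcases IsSimpleGroup.eq_bot_or_eq_top_of_normal φ.ker inferInstance with h | h
    · exact (MonoidHom.ker_eq_bot_iff φ).1 h
    · exfalso
      let π : alternatingGroup (Fin 6) :=
        ⟨Equiv.swap 0 1 * Equiv.swap 1 2, by rw [Equiv.Perm.mem_alternatingGroup]; decide⟩
      have hπ : π ∈ φ.ker := h ▸ Subgroup.mem_top π
      have hmem : (fX π).1 ∈ E :=
        Subgroup.mem_subgroupOf.1 ((QuotientGroup.eq_one_iff _).1 (MonoidHom.mem_ker.1 hπ))
      have h2 : fX π * fX π = 1 := Subtype.ext (by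
        have := hEel.2 _ hmem; rw [pow_two] at this; exact this)
      have h3 : fX π ^ 3 = 1 := by
        rw [← map_pow, show π ^ 3 = 1 from Subtype.ext (by decide), map_one]
      have := hfXinj ((eq_one_of_sq_cube h2 h3).trans (map_one fX).symm)
      exact absurd (congrArg Subtype.val this) (by decide)
  have hA6 : Nat.card (alternatingGroup (Fin 6)) = 360 := by
    rw [nat_card_alternatingGroup, Nat.card_eq_fintype_card, Fintype.card_fin]; rfl
  have hdiv : 360 ∣ Nat.card (X ⧸ E.subgroupOf X) := hA6 ▸ Subgroup.card_dvd_of_injective φ hφinj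
  have hmulX : Nat.card (X ⧸ E.subgroupOf X) * Nat.card E = Nat.card X := by
    rw [← Nat.card_congr (Subgroup.subgroupOfEquivOfLe hEX).toEquiv]
    exact (Subgroup.card_eq_card_quotient_mul_card_subgroup _).symm
  obtain ⟨i, hi, hIc⟩ := (Nat.dvd_prime_pow Nat.prime_two).1 (Dvd.intro _ hEcard)
  have hi7 : i ≤ 7 := by
    rw [hIc] at hIle; exact (Nat.pow_le_pow_iff_right (by norm_num)).1 hIle
  have hEc : Nat.card E = 2 ^ (12 - i) := by
    refine Nat.eq_of_mul_eq_mul_left (show 0 < 2 ^ i by positivity) ?_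
    rw [← pow_add, Nat.add_sub_cancel' hi, ← hIc, hEcard]
  have hdvd : 360 * 2 ^ (12 - i) ∣ Nat.card X := by
    rw [← hmulX, hEc]; exact Nat.mul_dvd_mul_right hdiv _
  rw [hXcard] at hdvd hmulX
  have hfin : i = 7 ∧ Nat.card (MulAction.stabilizer (toGL Q).range (OutForm.pr sQ)) = 11520 := by
    rcases hstabcard with h | h <;> rw [h] at hdvd ⊢
    · exfalso
      interval_cases i <;> norm_num at hdvd
    · refine ⟨?_, rfl⟩
      interval_cases i <;> first | rfl | norm_num at hdvd
  obtain ⟨rfl, hst⟩ := hfin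
  have hEc' : Nat.card E = 32 := hEc.trans (by norm_num)
  have hbij : Function.Bijective φ := by
    refine (Nat.bijective_iff_injective_and_card φ).2 ⟨hφinj, ?_⟩
    rw [hA6]
    rw [hEc', hst] at hmulX
    omega
  let iA := MulEquiv.ofBijective φ hbij
  have hback : ∀ x : MulAction.stabilizer (toGL Q).range (OutForm.pr sQ), e.symm x.1 ∈ X := fun x => by
    rw [hXstab]
    show e (e.symm x.1) ∈ _
    rw [e.apply_symm_apply]; exact x.2
  let toX : MulAction.stabilizer (toGL Q).range (OutForm.pr sQ) →* X :=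
    (e.symm.toMonoidHom.comp (MulAction.stabilizer (toGL Q).range (OutForm.pr sQ)).subtype).codRestrict X hback
  refine ⟨hv, hqv, hst, ⟨iA.symm.toMonoidHom.comp ((QuotientGroup.mk' _).comp toX), fun x hx => ?_⟩, hIel, hIc, hEX,
    hnorm, hEel, hEc', hnormal, ⟨iA.symm⟩⟩
  have hm : (toX x).1 ∈ E := Subgroup.mem_subgroupOf.1 ((QuotientGroup.eq_one_iff _).1
    (iA.symm.injective (hx.trans (map_one _).symm)))
  have h2 := hEel.2 _ hm
  rw [pow_two] at h2
  refine Subtype.ext (e.symm.injective ?_)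
  show e.symm (x.1 * x.1) = e.symm 1
  rw [map_mul, map_one]
  exact h2

end Cfsg.Agent.LargeFischer
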