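/-
The stabiliser of a non-central involution of Q for a group of large Fischer type.

* `stab_small`
-/
import Cfsg.Agent.Lib.LargeFischer.Central
import Cfsg.Agent.Lib.LargeFischer.Root

set_option autoImplicit false
open Cfsg

namespace Cfsg.Agent.LargeFischer

open LargeExtraspecial

universe u

theorem sides_codes : ∀ r : Fin 3, inSmall r.val 15 = true ∧ inSmall r.val 255 = false := by decide

theorem codes_singular : (cls (digits ⟨15, by norm_num⟩)).isSome = true ∧ (cls (digits ⟨255, by norm_num⟩)).isSome = true ∧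
    qn 15 = 0 ∧ qn 255 = 0 := by decide +kernel

variable {G : Type u} [Group G] [Finite G] {z : G} {Q : Subgroup (Subgroup.centralizer ({z} : Set G))}
  [Q.Normal] [Fact (Cfsg.IsExtraspecial 2 Q)]

set_option maxHeartbeats 800000 in
attribute [local irreducible] Frame.toModel in
/-- Stabilisers of order 51840 are orthogonal groups. -/
theorem stab_small (hF : Cfsg.IsOfLargeFischerTypeAt z Q)
    {w : OutForm.Vm Q} (hw : w ≠ 0) (hqw : OutForm.qf Q w = 0)
    (hwc : Nat.card (MulAction.stabilizer (toGL Q).range w) = 11520)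
    (φ : MulAction.stabilizer (toGL Q).range w →* alternatingGroup (Fin 6)) (hφ : ∀ x, φ x = 1 → x * x = 1)
    {v : OutForm.Vm Q} (hv : v ≠ 0) (hqv : OutForm.qf Q v = 0)
    (hvc : Nat.card (MulAction.stabilizer (toGL Q).range v) = 51840) :
    Nonempty (MulAction.stabilizer (toGL Q).range v ≃* Forms.preservingFun (F := ZMod 2) (⇑qW)) := by
  classical
  obtain ⟨-, hcard, n, g, ⟨F⟩, hnΓ, hn, hgΓ, hg7, hg1, hgn, hnorm⟩ := exists_frame hF
  have hnd := (Forms.nondegenerate_polarBilin_iff _).1 (OutForm.qf_nondegenerate (E := Q))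
  have hΓ : ∀ γ ∈ (toGL Q).range, ∀ v, OutForm.qf Q (γ v) = OutForm.qf Q v := by
    rintro _ ⟨c, rfl⟩ v; exact toGL_q c v
  obtain ⟨r, hrel, hst⟩ := F.orbit_structure hnd hΓ hcard hnΓ hn hgΓ hg7 hg1 hgn
  obtain ⟨-, horb⟩ := F.stab_data hnd hΓ hcard hnΓ hn hgΓ hg7 hg1 hgn
  have hsing : ∀ (x : ℕ) (hx : x < 4096), (qn x = 0) → x ≠ 0 →
      F.toModel.e x ≠ 0 ∧ OutForm.qf Q (F.toModel.e x) = 0 := fun x hx hq h0 =>
    ⟨fun e => h0 (F.toModel.inj x hx 0 (by norm_num) (e.trans F.toModel.zero.symm)),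
      by rw [F.toModel.q_e x hx, hq, Nat.cast_zero]⟩
  obtain ⟨h15, h255⟩ := sides_codes r
  have key : ∀ (x : ℕ) (hx : x < 4096), (cls (digits ⟨x, hx⟩)).isSome = true →
      Nat.card (MulAction.stabilizer (toGL Q).range (F.toModel.e x)) = if inSmall r.val x then 51840 else 11520 := by
    intro x hx hs
    rw [F.toModel_e ⟨x, hx⟩, hst _ hs, inSmall_side ⟨x, hx⟩ r]
  obtain ⟨a1, a2⟩ := hsing 15 (by norm_num) codes_singular.2.2.1 (by norm_num)
  obtain ⟨b1, b2⟩ := hsing 255 (by norm_num) codes_singular.2.2.2 (by norm_num)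
  have c15 := key 15 (by norm_num) codes_singular.1
  have c255 := key 255 (by norm_num) codes_singular.2.1
  rw [h15, if_pos rfl] at c15
  rw [h255, if_neg (by decide)] at c255
  obtain ⟨γ, hγ, hγe⟩ := horb _ _ b1 b2 hw hqw (c255.trans hwc.symm)
  obtain ⟨δ, hδ, hδe⟩ := horb _ _ hv hqv a1 a2 (hvc.trans c15.symm)
  let eW := MulAction.stabilizerEquivStabilizer (G := (toGL Q).range) (g := ⟨γ, hγ⟩)
    (a := F.toModel.e 255) (b := w) hγe.symm
  let eV := MulAction.stabilizerEquivStabilizer (G := (toGL Q).range) (g := ⟨δ, hδ⟩)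
    (a := v) (b := F.toModel.e 15) hδe.symm
  have hψ : ∀ x, (φ.comp eW.toMonoidHom) x = 1 → x * x = 1 := by
    intro x hx
    have h1 : φ (eW x) = 1 := (MonoidHom.comp_apply φ eW.toMonoidHom x).symm.trans hx
    have h2 := hφ (eW x) h1
    apply eW.injective
    rw [map_mul, map_one]
    exact h2
  have hno := F.not_tr hrel hΓ hn hnorm (φ.comp eW.toMonoidHom) hψ
  obtain ⟨i⟩ := F.exists_iso hrel hΓ hn hnorm c15 hno
  exact ⟨eV.trans i⟩

end Cfsg.Agent.LargeFischer
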