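/-
Coordinates and a lift of the scalar for a group of large Fischer type.

* `Setting`, `exists_setting`, `exists_commuting_lift`
-/
import Cfsg.Agent.Lib.LargeFischer.SylCore
import Cfsg.Agent.Lib.LargeFischer.ToSmall

set_option autoImplicit false
open Cfsg
open scoped commutatorElement

namespace Cfsg.Agent.LargeFischer

open LargeExtraspecial

universe u

variable {G : Type u} [Group G] [Finite G] {z : G} {Q : Subgroup (Subgroup.centralizer ({z} : Set G))}
  [Q.Normal] [Fact (Cfsg.IsExtraspecial 2 Q)]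

set_option maxHeartbeats 1000000 in
attribute [local irreducible] Frame.toModel in
/-- Adapted coordinates for a group of large Fischer type. -/
theorem exists_coord_of_type (hF : Cfsg.IsOfLargeFischerTypeAt z Q) :
    ∃ n : OutForm.Vm Q ≃ₗ[ZMod 2] OutForm.Vm Q, n ∈ (toGL Q).range ∧ n ^ 3 = 1 ∧ (∀ v, n v = v → v = 0) ∧
      ∃ C : Coord (OutForm.qf Q) (toGL Q).range n, ∀ x < 4096, x ≠ 0 → qn x = 0 →
        Nat.card (MulAction.stabilizer (toGL Q).range (C.M.e x)) = if inSmall 0 x then 51840 else 11520 := by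
  classical
  obtain ⟨g, ⟨hgC, hgQ⟩, hgz⟩ := hF.1.2.2.2.2
  obtain ⟨hw, hqw, hwc, ⟨φ, hφ⟩, -⟩ := central_facts hF rfl hgz hgC hgQ _ _ rfl rfl
  obtain ⟨-, hcard, n, g', ⟨F⟩, hnΓ, hn, hgΓ, hg7, hg1, hgn, hnorm⟩ := exists_frame hF
  have hnd := (Forms.nondegenerate_polarBilin_iff _).1 (OutForm.qf_nondegenerate (E := Q))
  have hΓ : ∀ γ ∈ (toGL Q).range, ∀ v, OutForm.qf Q (γ v) = OutForm.qf Q v := by
    rintro _ ⟨c, rfl⟩ v; exact toGL_q c v
  obtain ⟨r, hrel, hst⟩ := F.orbit_structure hnd hΓ hcard hnΓ hn hgΓ hg7 hg1 hgn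
  obtain ⟨-, horb⟩ := F.stab_data hnd hΓ hcard hnΓ hn hgΓ hg7 hg1 hgn
  have c255 : Nat.card (MulAction.stabilizer (toGL Q).range (F.toModel.e 255)) = 11520 := by
    rw [F.toModel_e ⟨255, by norm_num⟩, hst _ codes_singular.2.1, inSmall_side ⟨255, by norm_num⟩ r,
      (sides_codes r).2]
    rfl
  have b2 : OutForm.qf Q (F.toModel.e 255) = 0 := by
    rw [F.toModel.q_e 255 (by norm_num), codes_singular.2.2.2, Nat.cast_zero]
  have b1 : F.toModel.e 255 ≠ 0 := fun e => by
    have := F.toModel.inj 255 (by norm_num) 0 (by norm_num) (e.trans F.toModel.zero.symm)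
    norm_num at this
  obtain ⟨γ, hγ, hγe⟩ := horb _ _ b1 b2 hw hqw (c255.trans hwc.symm)
  let eW := MulAction.stabilizerEquivStabilizer (G := (toGL Q).range) (g := ⟨γ, hγ⟩) hγe.symm
  have hψ : ∀ x, (φ.comp eW.toMonoidHom) x = 1 → x * x = 1 := by
    intro x hx
    have h2 := hφ (eW x) ((MonoidHom.comp_apply φ eW.toMonoidHom x).symm.trans hx)
    apply eW.injective
    rw [map_mul, map_one]
    exact h2
  obtain ⟨C, hC⟩ := F.exists_coord hrel hΓ hn hnorm (F.not_tr hrel hΓ hn hnorm (φ.comp eW.toMonoidHom) hψ)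
  refine ⟨n, hnΓ, hn, F.n_fix, C, fun x hx hx0 hq => ?_⟩
  obtain ⟨h4, hqs, -, hinv, hsmall⟩ := sh_spec r hx
  have hs : (cls (digits ⟨_, h4⟩)).isSome = true := by
    refine (F.singular_iff _).1 ⟨?_, ?_⟩
    · rw [← F.toModel_e ⟨_, h4⟩, ← hC x]
      exact fun e => hx0 (C.M.inj x hx 0 (by norm_num) (e.trans C.M.zero.symm))
    · rw [← F.toModel_e ⟨_, h4⟩, ← hC x, C.M.q_e x hx, hq, Nat.cast_zero]
  rw [hC, F.toModel_e ⟨_, h4⟩, hst _ hs, inSmall_side ⟨_, h4⟩ r, hsmall]

theorem pr_conj (c : Subgroup.centralizer ({z} : Set G)) (x : Q) :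
    OutForm.pr (MulAut.conjNormal c x) = toGL Q c (OutForm.pr x) := (toGL_pr c x).symm

/-- The centre of Q consists of 1 and z. -/
theorem center_cases (hF : Cfsg.IsOfLargeFischerTypeAt z Q) {c : Q} (hc : c ∈ Subgroup.center Q) :
    ((c : Subgroup.centralizer ({z} : Set G)) : G) = 1 ∨ ((c : Subgroup.centralizer ({z} : Set G)) : G) = z :=
  (data_of_type hF).cent _ (by
    rintro _ ⟨q, hq, rfl⟩
    exact congrArg (fun a : Q => ((a : Subgroup.centralizer ({z} : Set G)) : G)) (Subgroup.mem_center_iff.1 hc ⟨q, hq⟩))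

theorem center_comm (hF : Cfsg.IsOfLargeFischerTypeAt z Q) {c : Q} (hc : c ∈ Subgroup.center Q)
    (h : Subgroup.centralizer ({z} : Set G)) : (c : Subgroup.centralizer ({z} : Set G)) * h = h * c := by
  refine Subtype.ext ?_
  show ((c : Subgroup.centralizer ({z} : Set G)) : G) * h = (h : G) * _
  rcases center_cases hF hc with e | e <;> rw [e]
  · simp
  · exact (Subgroup.mem_centralizer_singleton_iff.1 h.2).symm

/-- Elements commuting with `n` lift to elements commuting with a given lift of order three. -/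
theorem exists_commuting_lift (hF : Cfsg.IsOfLargeFischerTypeAt z Q) {n : OutForm.Vm Q ≃ₗ[ZMod 2] OutForm.Vm Q}
    (hfix : ∀ v, n v = v → v = 0) {x : Subgroup.centralizer ({z} : Set G)} (hx : toGL Q x = n) (hx3 : x * x * x = 1)
    {γ : OutForm.Vm Q ≃ₗ[ZMod 2] OutForm.Vm Q} (hγ : γ ∈ (toGL Q).range) (hγn : γ * n = n * γ) :
    ∃ k, toGL Q k = γ ∧ k * x = x * k := by
  obtain ⟨c, hc⟩ := hγ
  have hker : (toGL Q).ker = Q := (exists_frame hF).1
  set y := c * x * c⁻¹ with hy
  have hy3 : y * y * y = 1 := by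
    calc y * y * y = c * (x * x * x) * c⁻¹ := by simp [hy, mul_assoc]
      _ = 1 := by rw [hx3]; simp
  have hδ : y * x⁻¹ ∈ Q := by
    rw [← hker, MonoidHom.mem_ker, map_mul, map_inv, hy, map_mul, map_mul, map_inv, hc, hx, hγn]
    simp
  haveI : Finite (OutForm.Vm Q) := inferInstance
  let f : OutForm.Vm Q →+ OutForm.Vm Q :=
    { toFun := fun v => v + n v
      map_zero' := by simp
      map_add' := fun v w => by rw [map_add]; abel }
  have hfi : Function.Injective f := (injective_iff_map_eq_zero f).2 fun v hv => hfix v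
    ((eq_neg_of_add_eq_zero_right (show v + n v = 0 from hv)).trans (ZModModule.neg_eq_self v))
  obtain ⟨v, hv⟩ := Finite.injective_iff_surjective.1 hfi (OutForm.pr ⟨y * x⁻¹, hδ⟩)
  obtain ⟨q, rfl⟩ := OutForm.pr_surjective v
  have he : OutForm.pr (q * MulAut.conjNormal x q⁻¹) = OutForm.pr ⟨y * x⁻¹, hδ⟩ := by
    rw [OutForm.pr_mul, pr_conj, OutForm.pr_inv, hx]; exact hv
  obtain ⟨ζ, hζ, hζe⟩ := OutForm.eq_mul_center he
  have hζc := center_comm hF hζ
  have hqx : (q : Subgroup.centralizer ({z} : Set G)) * x * (q : Subgroup.centralizer ({z} : Set G))⁻¹ = y * ζ := by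
    have h := congrArg (fun a : Q => (a : Subgroup.centralizer ({z} : Set G))) hζe
    simp only [Subgroup.coe_mul, MulAut.conjNormal_apply, Subgroup.coe_inv] at h
    have h' := congrArg (· * x) h
    simp only [mul_assoc, inv_mul_cancel, mul_one] at h'
    rw [mul_assoc, h', hζc x, inv_mul_cancel_left]
  have hζ1 : (ζ : Subgroup.centralizer ({z} : Set G)) = 1 := by
    have e3 : (y * ζ) * (y * ζ) * (y * ζ) = 1 := by
      rw [← hqx]
      calc _ = (q : Subgroup.centralizer ({z} : Set G)) * (x * x * x) * (q : Subgroup.centralizer ({z} : Set G))⁻¹ := by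
            simp [mul_assoc]
        _ = 1 := by rw [hx3]; simp
    have e : ∀ a : Subgroup.centralizer ({z} : Set G), (ζ : Subgroup.centralizer ({z} : Set G)) * a = a * ζ := hζc
    have hz2 : (ζ : Subgroup.centralizer ({z} : Set G)) * ζ = 1 :=
      congrArg (fun a : Q => (a : Subgroup.centralizer ({z} : Set G))) (OutForm.sq_one_of_center hζ)
    calc (ζ : Subgroup.centralizer ({z} : Set G)) = (y * y * y) * ζ * ((ζ : Subgroup.centralizer ({z} : Set G)) * ζ) := by
          rw [hy3, hz2, one_mul, mul_one]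
      _ = (y * ζ) * (y * ζ) * (y * ζ) := by
          have hp := (Commute.symm (e y) : Commute y (ζ : Subgroup.centralizer ({z} : Set G))).mul_pow 3
          simp only [pow_succ, pow_zero, one_mul] at hp
          rw [hp, ← mul_assoc (y * y * y)]; simp only [mul_assoc]
      _ = 1 := e3
  rw [hζ1, mul_one] at hqx
  refine ⟨(q : Subgroup.centralizer ({z} : Set G))⁻¹ * c, ?_, ?_⟩
  · have h1 : toGL Q (q : Subgroup.centralizer ({z} : Set G)) = 1 := by rw [← MonoidHom.mem_ker, hker]; exact q.2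
    rw [map_mul, map_inv, hc, h1, inv_one, one_mul]
  · calc (q : Subgroup.centralizer ({z} : Set G))⁻¹ * c * x
        = (q : Subgroup.centralizer ({z} : Set G))⁻¹ * y * c := by rw [hy]; simp [mul_assoc]
      _ = _ := by rw [← hqx]; simp [mul_assoc]

/-- Coordinates together with an element of order three over the scalar. -/
structure Setting {G : Type u} [Group G] [Finite G] (z : G) (Q : Subgroup (Subgroup.centralizer ({z} : Set G)))
    [Q.Normal] [Fact (Cfsg.IsExtraspecial 2 Q)] where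
  /-- The scalar. -/
  n : OutForm.Vm Q ≃ₗ[ZMod 2] OutForm.Vm Q
  n_mem : n ∈ (toGL Q).range
  n_three : n ^ 3 = 1
  n_fix : ∀ v, n v = v → v = 0
  /-- The coordinates. -/
  C : Coord (OutForm.qf Q) (toGL Q).range n
  stab_card : ∀ x < 4096, x ≠ 0 → qn x = 0 →
    Nat.card (MulAction.stabilizer (toGL Q).range (C.M.e x)) = if inSmall 0 x then 51840 else 11520
  /-- The lift. -/
  x : Subgroup.centralizer ({z} : Set G)
  x_map : toGL Q x = n
  x_three : x * x * x = 1

theorem exists_setting (hF : Cfsg.IsOfLargeFischerTypeAt z Q) : Nonempty (Setting z Q) := by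
  obtain ⟨n, hnΓ, hn, hfix, C, hC⟩ := exists_coord_of_type hF
  obtain ⟨hker, -⟩ := exists_frame hF
  obtain ⟨c, hc⟩ := hnΓ
  refine ⟨⟨n, ⟨c, hc⟩, hn, hfix, C, hC, c ^ 4, by rw [map_pow, hc, pow_succ, hn, one_mul], ?_⟩⟩
  have h3 : c ^ 3 ∈ Q := by rw [← hker, MonoidHom.mem_ker, map_pow, hc, hn]
  have h1 := OutForm.sq_one_of_center (OutForm.sq_mem (⟨_, h3⟩ : Q))
  have h2 := congrArg (fun a : Q => (a : Subgroup.centralizer ({z} : Set G))) h1
  simp only [Subgroup.coe_mul, Subgroup.coe_one] at h2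
  rw [← h2]; group

end Cfsg.Agent.LargeFischer
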