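/-
The elementary abelian subgroup of order 2^11 with coordinates.

* `zH`, `sv`, `lift0`, `elA`, `groupA`, `sylT`
* `conj_sv`, `conj_lift` : the action of Q
* `sylow_facts` : the elementary abelian subgroup is the largest one in an overgroup of Q
-/
import Cfsg.Agent.Lib.LargeFischer.Setting

set_option autoImplicit false
open Cfsg
open scoped commutatorElement

namespace Cfsg.Agent.LargeFischer

open LargeExtraspecial

universe u

variable {G : Type u} [Group G] [Finite G] {z : G} {Q : Subgroup (Subgroup.centralizer ({z} : Set G))}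
  [Q.Normal] [Fact (Cfsg.IsExtraspecial 2 Q)]

local notation "HH" => Subgroup.centralizer (Singleton.singleton z : Set G)

/-- The central element. -/
noncomputable def zH (Q : Subgroup HH) [Finite Q] [Fact (Cfsg.IsExtraspecial 2 Q)] : HH :=
  ((OutForm.zeta Q : Q) : HH)

theorem zH_coe (hF : Cfsg.IsOfLargeFischerTypeAt z Q) : ((zH Q : HH) : G) = z :=
  (center_cases hF OutForm.zeta_mem).resolve_left fun h =>
    OutForm.zeta_ne (Subtype.ext (Subtype.ext h))

theorem zH_sq : zH Q * zH Q = 1 := congrArg (fun a : Q => (a : HH)) OutForm.zeta_sq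

theorem zH_comm (hF : Cfsg.IsOfLargeFischerTypeAt z Q) (h : HH) : zH Q * h = h * zH Q :=
  center_comm hF OutForm.zeta_mem h

theorem zH_pow (e : ℕ) : zH Q ^ e = zH Q ^ (e % 2) := by
  conv_lhs => rw [← Nat.mod_add_div e 2, pow_add, pow_mul, pow_two, zH_sq, one_pow, mul_one]

theorem zH_pow_comm (hF : Cfsg.IsOfLargeFischerTypeAt z Q) (e : ℕ) (h : HH) : zH Q ^ e * h = h * zH Q ^ e :=
  (Commute.pow_left (zH_comm hF h) e : Commute (zH Q ^ e) h)

theorem zH_xor (a b : ℕ) (ha : a < 2) (hb : b < 2) : zH Q ^ a * zH Q ^ b = zH Q ^ (a ^^^ b) := by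
  interval_cases a <;> interval_cases b <;> simp [zH_sq]

/-- The value of a central element. -/
theorem center_eq {c : Q} (hc : c ∈ Subgroup.center Q) : (c : HH) = zH Q ^ (OutForm.eps c).val := by
  rcases OutForm.zeta_cases hc with rfl | rfl
  · rw [OutForm.eps_one, ZMod.val_zero, pow_zero]; rfl
  · rw [OutForm.eps_zeta]
    show (OutForm.zeta Q : HH) = zH Q ^ (1 : ℕ)
    rw [pow_one]; rfl

/-- Conjugation inside Q. -/
theorem conj_Q (hF : Cfsg.IsOfLargeFischerTypeAt z Q) (p d : Q) :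
    (p : HH) * d * (p : HH)⁻¹ = d * zH Q ^ (QuadraticMap.polar (OutForm.qf Q) (OutForm.pr p) (OutForm.pr d)).val := by
  have hp : QuadraticMap.polar (OutForm.qf Q) (OutForm.pr p) (OutForm.pr d) = OutForm.eps ⁅p, d⁆ := OutForm.polar_pr p d
  rw [hp, ← center_eq (OutForm.comm_mem p d), ← center_comm hF (OutForm.comm_mem p d)]
  show _ = ((⁅p, d⁆ * d : Q) : HH)
  rw [commutatorElement_def, inv_mul_cancel_right]
  rfl

namespace Setting

variable (S : Setting z Q)
include S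

theorem sum_zero (v : OutForm.Vm Q) : v + S.n v + S.n (S.n v) = 0 := S.n_fix _ (by
  have h : S.n (S.n (S.n v)) = v := LinearEquiv.congr_fun S.n_three v
  rw [map_add, map_add, h]; abel)

theorem n_add (v : OutForm.Vm Q) : S.n v + S.n (S.n v) = v := by
  have h := S.sum_zero v
  rw [add_assoc] at h
  exact (eq_neg_of_add_eq_zero_right h).trans (ZModModule.neg_eq_self v)

theorem n_q (v : OutForm.Vm Q) : OutForm.qf Q (S.n v) = OutForm.qf Q v := by
  obtain ⟨c, hc⟩ := S.n_mem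
  rw [← hc]; exact toGL_q c v

theorem pr_x (d : Q) : OutForm.pr (MulAut.conjNormal S.x d) = S.n (OutForm.pr d) := by rw [pr_conj, S.x_map]

/-- The lift of a vector fixed up to the centre by the element of order three. -/
noncomputable def sv (v : OutForm.Vm Q) : Q :=
  (OutForm.pr_surjective (S.n v)).choose * MulAut.conjNormal S.x (OutForm.pr_surjective (S.n v)).choose

theorem sv_spec {v : OutForm.Vm Q} {d : Q} (hd : OutForm.pr d = S.n v) (hF : Cfsg.IsOfLargeFischerTypeAt z Q) :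
    S.sv v = d * MulAut.conjNormal S.x d := by
  unfold sv
  set d' := (OutForm.pr_surjective (S.n v)).choose
  obtain ⟨c, hc, e⟩ := OutForm.eq_mul_center ((OutForm.pr_surjective (S.n v)).choose_spec.trans hd.symm)
  rw [show d' = d * c from e, map_mul]
  have hcx : MulAut.conjNormal S.x c = c := Subtype.ext (by
    rw [MulAut.conjNormal_apply, ← center_comm hF hc, mul_inv_cancel_right])
  have hcc : ∀ y : Q, y * c = c * y := Subgroup.mem_center_iff.1 hc
  rw [hcx, mul_assoc d c, ← mul_assoc c, ← hcc, mul_assoc _ c c, OutForm.sq_one_of_center hc, mul_one]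

theorem pr_sv (v : OutForm.Vm Q) : OutForm.pr (S.sv v) = v := by
  unfold sv
  rw [OutForm.pr_mul, pr_x, (OutForm.pr_surjective (S.n v)).choose_spec, S.n_add]

theorem sv_zero (hF : Cfsg.IsOfLargeFischerTypeAt z Q) : S.sv 0 = 1 := by
  rw [S.sv_spec (d := 1) (by rw [map_zero]; exact OutForm.pr_eq_zero.2 (one_mem _)) hF]; simp

theorem x_sv (hF : Cfsg.IsOfLargeFischerTypeAt z Q) (v : OutForm.Vm Q) :
    S.x * (S.sv v : HH) * S.x⁻¹ = S.sv (S.n v) := by
  obtain ⟨d, hd⟩ := OutForm.pr_surjective (S.n v)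
  rw [S.sv_spec hd hF, S.sv_spec (d := MulAut.conjNormal S.x d) (by rw [pr_x, hd]) hF]
  simp [mul_assoc]

theorem lift_sv (hF : Cfsg.IsOfLargeFischerTypeAt z Q) {k : HH} (hk : k * S.x = S.x * k)
    (hkn : toGL Q k * S.n = S.n * toGL Q k) (v : OutForm.Vm Q) :
    k * (S.sv v : HH) * k⁻¹ = S.sv (toGL Q k v) := by
  obtain ⟨d, hd⟩ := OutForm.pr_surjective (S.n v)
  have hkd : OutForm.pr (MulAut.conjNormal k d) = S.n (toGL Q k v) := by
    rw [pr_conj, hd]; exact LinearEquiv.congr_fun hkn v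
  rw [S.sv_spec hd hF, S.sv_spec hkd hF]
  have hxi : S.x⁻¹ * k⁻¹ = k⁻¹ * S.x⁻¹ := by rw [← mul_inv_rev, hk, mul_inv_rev]
  simp only [Subgroup.coe_mul, MulAut.conjNormal_apply]
  calc k * ((d : HH) * (S.x * d * S.x⁻¹)) * k⁻¹ = (k * (d : HH) * k⁻¹) * ((k * S.x) * d * (S.x⁻¹ * k⁻¹)) := by
        simp [mul_assoc]
    _ = _ := by rw [hk, hxi]; simp [mul_assoc]

theorem W_n {v : OutForm.Vm Q} [DecidableEq (OutForm.Vm Q)] (hv : v ∈ wSet S.C.M) : S.n v ∈ wSet S.C.M := by
  rw [wSet_fix] at hv ⊢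
  rintro b ⟨a, ha, rfl⟩
  have := LinearEquiv.congr_fun (bR_n S.C.M ha) v
  exact this.trans (congrArg S.n (hv _ ⟨a, ha, rfl⟩))

/-- The subgroup over the fixed space. -/
noncomputable def groupD : Subgroup Q where
  carrier := {d | ∀ b ∈ baGroup S.C.M, b (OutForm.pr d) = OutForm.pr d}
  one_mem' b _ := by rw [OutForm.pr_eq_zero.2 (one_mem _), map_zero]
  mul_mem' {a c} ha hc b hb := by rw [OutForm.pr_mul, map_add, ha b hb, hc b hb]
  inv_mem' {a} ha b hb := by rw [OutForm.pr_inv]; exact ha b hb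

theorem mem_groupD [DecidableEq (OutForm.Vm Q)] {d : Q} : d ∈ S.groupD ↔ OutForm.pr d ∈ wSet S.C.M :=
  (wSet_fix S.C.M _).symm

theorem groupD_sq {d : Q} (hd : d ∈ S.groupD) : d * d = 1 := by
  classical
  refine OutForm.eps_inj (OutForm.sq_mem d) (one_mem _) ?_
  rw [← OutForm.qf_apply, wSet_singular S.C.M _ (S.mem_groupD.1 hd), OutForm.eps_one]

theorem groupD_comm {a b : Q} (ha : a ∈ S.groupD) (hb : b ∈ S.groupD) : a * b = b * a := by
  calc a * b = (a * b)⁻¹ := eq_inv_of_mul_eq_one_left (S.groupD_sq (mul_mem ha hb))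
    _ = _ := by rw [mul_inv_rev, inv_eq_of_mul_eq_one_left (S.groupD_sq ha), inv_eq_of_mul_eq_one_left (S.groupD_sq hb)]

theorem center_le_groupD {c : Q} (hc : c ∈ Subgroup.center Q) : c ∈ S.groupD := fun b _ => by
  rw [OutForm.pr_eq_zero.2 hc, map_zero]

theorem sv_mem {v : OutForm.Vm Q} [DecidableEq (OutForm.Vm Q)] (hv : v ∈ wSet S.C.M) : S.sv v ∈ S.groupD := by
  rw [mem_groupD, pr_sv]; exact hv

theorem sv_add [DecidableEq (OutForm.Vm Q)] (hF : Cfsg.IsOfLargeFischerTypeAt z Q) {v w : OutForm.Vm Q}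
    (hv : v ∈ wSet S.C.M) (hw : w ∈ wSet S.C.M) : S.sv (v + w) = S.sv v * S.sv w := by
  obtain ⟨d, hd⟩ := OutForm.pr_surjective (S.n v)
  obtain ⟨e, he⟩ := OutForm.pr_surjective (S.n w)
  have hde : OutForm.pr (d * e) = S.n (v + w) := by rw [OutForm.pr_mul, hd, he, map_add]
  rw [S.sv_spec hd hF, S.sv_spec he hF, S.sv_spec hde hF, map_mul]
  have hxd : MulAut.conjNormal S.x d ∈ S.groupD := S.mem_groupD.2 (by rw [pr_x, hd]; exact S.W_n (S.W_n hv))
  have hemem : e ∈ S.groupD := S.mem_groupD.2 (he ▸ S.W_n hw)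
  have hc := S.groupD_comm hemem hxd
  calc d * e * (MulAut.conjNormal S.x d * MulAut.conjNormal S.x e)
      = d * (e * MulAut.conjNormal S.x d) * MulAut.conjNormal S.x e := by simp only [mul_assoc]
    _ = _ := by rw [hc]; simp only [mul_assoc]

/-- Elements over 1 commuting with the lift are central. -/
theorem central_of_comm (hF : Cfsg.IsOfLargeFischerTypeAt z Q) {j : HH} (hj : toGL Q j = 1)
    (hjx : j * S.x = S.x * j) : ∃ c : Q, c ∈ Subgroup.center Q ∧ (c : HH) = j := by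
  have hjQ : j ∈ Q := by rw [← (exists_frame hF).1, MonoidHom.mem_ker]; exact hj
  refine ⟨⟨j, hjQ⟩, OutForm.pr_eq_zero.1 (S.n_fix _ ?_), rfl⟩
  rw [← S.x_map, ← pr_conj]
  congr 1
  exact Subtype.ext (by rw [MulAut.conjNormal_apply]; show S.x * j * S.x⁻¹ = j; rw [← hjx, mul_inv_cancel_right])

theorem lift_eq (hF : Cfsg.IsOfLargeFischerTypeAt z Q) {k k' : HH} (hk : k * S.x = S.x * k)
    (hk' : k' * S.x = S.x * k') (h : toGL Q k = toGL Q k') : k' = k ∨ k' = k * zH Q := by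
  obtain ⟨c, hc, e⟩ := S.central_of_comm hF (j := k⁻¹ * k') (by rw [map_mul, map_inv, h, inv_mul_cancel])
    (by rw [mul_assoc, hk', ← mul_assoc, ← mul_assoc]
        congr 1
        rw [inv_mul_eq_iff_eq_mul, ← mul_assoc, hk, mul_inv_cancel_right])
  rcases OutForm.zeta_cases hc with rfl | rfl
  · left; rw [← mul_inv_cancel_left k k', ← e]; simp
  · right; rw [← mul_inv_cancel_left k k', ← e]; rfl

variable (hF : Cfsg.IsOfLargeFischerTypeAt z Q)
include hF

theorem lift_comm_groupD {k : HH} (hkB : toGL Q k ∈ baGroup S.C.M) (hkx : k * S.x = S.x * k) {d : Q}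
    (hd : d ∈ S.groupD) : (d : HH) * k = k * d := by
  classical
  have hn : toGL Q k * S.n = S.n * toGL Q k := by
    obtain ⟨a, ha, e⟩ := hkB
    rw [e]; exact bR_n S.C.M ha
  have h := S.lift_sv hF hkx hn (OutForm.pr d)
  rw [(wSet_fix S.C.M _).1 (S.mem_groupD.1 hd) _ hkB] at h
  obtain ⟨c, hc, e⟩ := OutForm.eq_mul_center (S.pr_sv (OutForm.pr d)).symm
  rw [mul_inv_eq_iff_eq_mul] at h
  rw [e, Subgroup.coe_mul, mul_assoc, center_comm hF hc, ← mul_assoc, ← h, mul_assoc]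

theorem exists_lift0 {a : ℕ} (ha : a < 16) : ∃ k, toGL Q k = bR S.C.M a ∧ k * S.x = S.x * k :=
  by classical exact (exists_commuting_lift hF S.n_fix S.x_map S.x_three
    ((syl_facts S.C (exists_frame hF).2.1).1 ⟨a, ha, rfl⟩) (bR_n S.C.M ha))

theorem lift_sq {k : HH} (hkB : toGL Q k ∈ baGroup S.C.M) (hkx' : k * S.x = S.x * k) : k * k = 1 := by
  classical
  have hBsq := baGroup_sq S.C.M
  obtain ⟨-, htrans, -⟩ := syl_facts S.C (exists_frame hF).2.1
  have hone := fun j h1 h2 => S.central_of_comm hF (j := j) h1 h2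
  have hlift : ∀ b ∈ baGroup S.C.M, ∃ k, toGL Q k = b ∧ k * S.x = S.x * k := by
    rintro _ ⟨a, ha, rfl⟩; exact S.exists_lift0 hF ha
  have hB16 := baGroup_card S.C.M
  set x := S.x with hxdef
  set B := baGroup S.C.M
  have hfix := S.n_fix
  have hx := S.x_map
  have hx3 := S.x_three
  suffices hsq : ∀ k : HH, toGL Q k ∈ B → k * x = x * k → k * k = 1 from hsq k hkB hkx'
  have hsqc : ∀ k : HH, toGL Q k ∈ B → k * x = x * k → ∃ c : Q, c ∈ Subgroup.center Q ∧ (c : HH) = k * k := fun k hk hkx =>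
    hone _ (by rw [map_mul, hBsq _ hk]) (by rw [mul_assoc, hkx, ← mul_assoc, hkx, mul_assoc])
  have hsame : ∀ k k' : HH, toGL Q k ∈ B → k * x = x * k → toGL Q k' ∈ B → k' * x = x * k' →
      toGL Q k ≠ 1 → toGL Q k' ≠ 1 → k' * k' = k * k := by
    intro k k' hk hkx hk' hkx' h1 h1'
    obtain ⟨γ, hγ, hγn, hγe⟩ := htrans _ hk _ hk' h1 h1'
    obtain ⟨d, hd, hdx⟩ := exists_commuting_lift hF hfix hx hx3 hγ hγn
    have hdi : d⁻¹ * x = x * d⁻¹ := by rw [inv_mul_eq_iff_eq_mul, ← mul_assoc, hdx, mul_inv_cancel_right]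
    set k1 := d * k * d⁻¹ with hk1
    have hk1x : k1 * x = x * k1 := by
      rw [hk1]; simp only [mul_assoc]; rw [hdi, ← mul_assoc k, hkx, mul_assoc x, ← mul_assoc d, hdx, mul_assoc x]
    have hj : toGL Q (k1⁻¹ * k') = 1 := by
      rw [map_mul, map_inv, hk1, map_mul, map_mul, map_inv, hd, hγe, inv_mul_cancel]
    have hk1i : k1⁻¹ * x = x * k1⁻¹ := by rw [inv_mul_eq_iff_eq_mul, ← mul_assoc, hk1x, mul_inv_cancel_right]
    obtain ⟨c, hc, hce⟩ := hone _ hj (by rw [mul_assoc, hkx', ← mul_assoc, hk1i, mul_assoc])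
    have hk'e : k' = k1 * c := by rw [hce, mul_inv_cancel_left]
    have hc2 : (c : HH) * c = 1 := congrArg (fun a : Q => (a : HH)) (OutForm.sq_one_of_center hc)
    obtain ⟨c', hc', hce'⟩ := hsqc k hk hkx
    calc k' * k' = k1 * k1 * ((c : HH) * c) := by
          rw [hk'e]; simp only [mul_assoc]; rw [← mul_assoc (c : HH), center_comm hF hc, mul_assoc k1]
      _ = d * (k * k) * d⁻¹ := by rw [hc2, mul_one, hk1]; simp [mul_assoc]
      _ = _ := by rw [← hce', ← center_comm hF hc', mul_inv_cancel_right]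
  haveI := finite_equiv (V := OutForm.Vm Q)
  -- three independent elements
  obtain ⟨a, ha, ha1⟩ : ∃ a ∈ B, a ≠ (1 : OutForm.Vm Q ≃ₗ[ZMod 2] OutForm.Vm Q) := by
    by_contra! h
    have : Nat.card B ≤ 1 := Finite.card_le_one_iff_subsingleton.2 ⟨fun u v => Subtype.ext ((h _ u.2).trans (h _ v.2).symm)⟩
    omega
  obtain ⟨b, hb, hb1, hba⟩ : ∃ b ∈ B, b ≠ 1 ∧ b ≠ a := by
    by_contra! h
    have : Nat.card B ≤ 2 := by
      refine le_trans (Nat.card_le_card_of_surjective (fun i : Bool => if i then (⟨a, ha⟩ : B) else 1) fun v => ?_) (by simp)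
      by_cases hv : v.1 = 1
      · exact ⟨false, Subtype.ext (by simp [hv])⟩
      · exact ⟨true, Subtype.ext (by simp [h _ v.2 hv])⟩
    omega
  obtain ⟨c, hc, hc1, hca, hcb, hcab⟩ : ∃ c ∈ B, c ≠ 1 ∧ c ≠ a ∧ c ≠ b ∧ c ≠ a * b := by
    by_contra! h
    have : Nat.card B ≤ 4 := by
      refine le_trans (Nat.card_le_card_of_surjective
        (fun i : Fin 4 => (![1, ⟨a, ha⟩, ⟨b, hb⟩, ⟨a * b, mul_mem ha hb⟩] i : B)) fun v => ?_) (by simp)
      by_cases h1 : v.1 = 1
      · exact ⟨0, Subtype.ext h1.symm⟩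
      by_cases h2 : v.1 = a
      · exact ⟨1, Subtype.ext h2.symm⟩
      by_cases h3 : v.1 = b
      · exact ⟨2, Subtype.ext h3.symm⟩
      exact ⟨3, Subtype.ext (h _ v.2 h1 h2 h3).symm⟩
    omega
  obtain ⟨ka, hka, hkax⟩ := hlift a ha
  obtain ⟨kb, hkb, hkbx⟩ := hlift b hb
  obtain ⟨kc, hkc, hkcx⟩ := hlift c hc
  obtain ⟨ζ, hζ, hζe⟩ := hsqc ka (hka ▸ ha) hkax
  have hB1 : ∀ u v, u ∈ B → v ∈ B → u ≠ v → u * v ≠ 1 := fun u v hu hv huv h => huv (by
    rw [← mul_one u, ← hBsq v hv, ← mul_assoc, h, one_mul])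
  have hall : ∀ k : HH, toGL Q k ∈ B → k * x = x * k → toGL Q k ≠ 1 → k * k = (ζ : HH) := fun k hk hkx h1 =>
    (hsame ka k (hka ▸ ha) hkax hk hkx (hka ▸ ha1) h1).trans hζe.symm
  have hprodx : ∀ u v : HH, u * x = x * u → v * x = x * v → u * v * x = x * (u * v) := fun u v hu hv => by
    rw [mul_assoc, hv, ← mul_assoc, hu, mul_assoc]
  have hz2 : (ζ : HH) * ζ = 1 := congrArg (fun a : Q => (a : HH)) (OutForm.sq_one_of_center hζ)
  have hζc := center_comm hF hζ
  -- commutation of two lifts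
  have hcomm : ∀ u v : HH, toGL Q u ∈ B → toGL Q v ∈ B → u * x = x * u → v * x = x * v → toGL Q u ≠ 1 →
      toGL Q v ≠ 1 → toGL Q u ≠ toGL Q v → v * u = u * v * ζ := by
    intro u v hu hv hux hvx hu1 hv1 huv
    have h := hall (u * v) (by rw [map_mul]; exact mul_mem hu hv) (hprodx u v hux hvx)
      (by rw [map_mul]; exact hB1 _ _ hu hv huv)
    have eu := hall u hu hux hu1
    have ev := hall v hv hvx hv1
    calc v * u = u⁻¹ * ((u * v) * (u * v)) * v⁻¹ := by simp [mul_assoc]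
      _ = u⁻¹ * v⁻¹ * ζ := by rw [h, mul_assoc, hζc v⁻¹, mul_assoc]
      _ = (u * ζ) * (v * ζ) * ζ := by
        rw [show u * ζ = u⁻¹ by rw [← eu, eq_inv_iff_mul_eq_one]; calc u * (u * u) * u = (u * u) * (u * u) := by group
                                                                   _ = 1 := by rw [eu]; exact hz2,
          show v * ζ = v⁻¹ by rw [← ev, eq_inv_iff_mul_eq_one]; calc v * (v * v) * v = (v * v) * (v * v) := by group
                                                                   _ = 1 := by rw [ev]; exact hz2]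
      _ = u * v * ((ζ : HH) * ζ * ζ) := by
        rw [mul_assoc u, ← mul_assoc _ v, hζc v]; simp [mul_assoc]
      _ = _ := by rw [hz2, one_mul]
  have hζ1 : (ζ : HH) = 1 := by
    have hbc : toGL Q (kb * kc) = b * c := by rw [map_mul, hkb, hkc]
    have e1 := hcomm ka kb (hka ▸ ha) (hkb ▸ hb) hkax hkbx (hka ▸ ha1) (hkb ▸ hb1) (by rw [hka, hkb]; exact hba.symm)
    have e2 := hcomm ka kc (hka ▸ ha) (hkc ▸ hc) hkax hkcx (hka ▸ ha1) (hkc ▸ hc1) (by rw [hka, hkc]; exact hca.symm)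
    have e3 := hcomm ka (kb * kc) (hka ▸ ha) (hbc ▸ mul_mem hb hc) hkax (hprodx kb kc hkbx hkcx) (hka ▸ ha1)
      (hbc ▸ hB1 b c hb hc hcb.symm) (by
        rw [hka, hbc]; intro h
        apply hcab
        rw [h, mul_assoc]
        have : c * b = b * c := by
          calc c * b = (b * b) * (c * b) * (c * c) := by rw [hBsq b hb, hBsq c hc, one_mul, mul_one]
            _ = b * ((b * c) * (b * c)) * c := by simp [mul_assoc]
            _ = b * c := by rw [hBsq _ (mul_mem hb hc), mul_one]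
        rw [this, ← mul_assoc, hBsq b hb, one_mul])
    have e4 : kb * kc * ka = ka * (kb * kc) * ((ζ : HH) * ζ) := by
      rw [mul_assoc, e2, ← mul_assoc, ← mul_assoc, e1, mul_assoc (ka * kb), hζc kc]; simp [mul_assoc]
    rw [e3, hz2, mul_one, mul_eq_left] at e4
    exact e4
  intro k hk hkx
  by_cases h1 : toGL Q k = 1
  · obtain ⟨c, hc, rfl⟩ := hone k h1 hkx
    exact congrArg (fun a : Q => (a : HH)) (OutForm.sq_one_of_center hc)
  · rw [hall k hk hkx h1, hζ1]

end Setting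

end Cfsg.Agent.LargeFischer
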