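/-
The elementary abelian subgroup of order 2^11 in coordinates.

* `groupA`, `Lifts`, `elA`, `elA_bij`
* `conj_lift`, `conj_elA` : the action of Q
-/
import Cfsg.Agent.Lib.LargeFischer.ElemA

set_option autoImplicit false
set_option maxRecDepth 100000
open Cfsg
open scoped commutatorElement

namespace Cfsg.Agent.LargeFischer

open LargeExtraspecial

universe u

variable {G : Type u} [Group G] [Finite G] {z : G} {Q : Subgroup (Subgroup.centralizer ({z} : Set G))}
  [Q.Normal] [Fact (Cfsg.IsExtraspecial 2 Q)]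

local notation "HH" => Subgroup.centralizer (Singleton.singleton z : Set G)

namespace Setting

variable (S : Setting z Q)
include S

/-- The elementary abelian subgroup. -/
noncomputable def groupA : Subgroup HH :=
  (baGroup S.C.M).comap (toGL Q) ⊓ Subgroup.centralizer ((S.groupD.map Q.subtype : Subgroup HH) : Set HH)

theorem mem_groupA {c : HH} :
    c ∈ S.groupA ↔ toGL Q c ∈ baGroup S.C.M ∧ ∀ d ∈ S.groupD, (d : HH) * c = c * d := by
  refine ⟨fun h => ⟨h.1, fun d hd => Subgroup.mem_centralizer_iff.1 h.2 _ ⟨d, hd, rfl⟩⟩, fun h => ⟨h.1, ?_⟩⟩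
  refine Subgroup.mem_centralizer_iff.2 ?_
  rintro _ ⟨d, hd, rfl⟩; exact h.2 d hd

theorem groupD_of_mem {c : HH} (hc : c ∈ S.groupA) (hcQ : c ∈ Q) : (⟨c, hcQ⟩ : Q) ∈ S.groupD := by
  classical
  rw [mem_groupD]
  refine wSet_perp S.C.M _ fun w hw => ?_
  obtain ⟨d, rfl⟩ := OutForm.pr_surjective w
  show QuadraticMap.polar (OutForm.qfun (E := Q)) _ _ = 0
  rw [OutForm.polar_pr, commutatorElement_eq_one_iff_mul_comm.2
    (Subtype.ext ((S.mem_groupA.1 hc).2 d (S.mem_groupD.2 hw)).symm), OutForm.eps_one]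

theorem groupD_le {d : Q} (hd : d ∈ S.groupD) (hF : Cfsg.IsOfLargeFischerTypeAt z Q) : (d : HH) ∈ S.groupA :=
  S.mem_groupA.2 ⟨by
    rw [show toGL Q (d : HH) = 1 by rw [← MonoidHom.mem_ker, (exists_frame hF).1]; exact d.2]; exact one_mem _,
    fun e he => congrArg (fun a : Q => (a : HH)) (S.groupD_comm he hd)⟩

variable (hF : Cfsg.IsOfLargeFischerTypeAt z Q)
include hF

theorem lift_mem {k : HH} (hkB : toGL Q k ∈ baGroup S.C.M) (hkx : k * S.x = S.x * k) : k ∈ S.groupA :=
  S.mem_groupA.2 ⟨hkB, fun _ hd => S.lift_comm_groupD hF hkB hkx hd⟩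

theorem zH_mem : zH Q ∈ S.groupA := S.groupD_le (S.center_le_groupD OutForm.zeta_mem) hF

theorem groupA_dec {c : HH} (hc : c ∈ S.groupA) :
    ∃ k, ∃ d ∈ S.groupD, toGL Q k = toGL Q c ∧ k * S.x = S.x * k ∧ c = k * (d : HH) := by
  obtain ⟨a, ha, e⟩ := (S.mem_groupA.1 hc).1
  obtain ⟨k, hk, hkx⟩ := S.exists_lift0 hF ha
  have hkA : k ∈ S.groupA := S.lift_mem hF ⟨a, ha, hk⟩ hkx
  have hQ' : k⁻¹ * c ∈ Q := by
    rw [← (exists_frame hF).1, MonoidHom.mem_ker, map_mul, map_inv, hk, e, inv_mul_cancel]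
  exact ⟨k, ⟨_, hQ'⟩, S.groupD_of_mem (mul_mem (inv_mem hkA) hc) hQ', hk.trans e.symm, hkx, (mul_inv_cancel_left k c).symm⟩

theorem groupA_sq {c : HH} (hc : c ∈ S.groupA) : c * c = 1 := by
  obtain ⟨k, d, hd, hk, hkx, rfl⟩ := S.groupA_dec hF hc
  have hkB : toGL Q k ∈ baGroup S.C.M := hk ▸ (S.mem_groupA.1 hc).1
  calc k * (d : HH) * (k * d) = (k * k) * ((d : HH) * d) := by
        rw [mul_assoc, ← mul_assoc (d : HH), S.lift_comm_groupD hF hkB hkx hd]; simp [mul_assoc]
    _ = 1 := by rw [S.lift_sq hF hkB hkx, one_mul]; exact congrArg (fun a : Q => (a : HH)) (S.groupD_sq hd)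

theorem groupA_comm {a b : HH} (ha : a ∈ S.groupA) (hb : b ∈ S.groupA) : a * b = b * a := by
  calc a * b = (a * b)⁻¹ := eq_inv_of_mul_eq_one_left (S.groupA_sq hF (mul_mem ha hb))
    _ = b * a := by rw [mul_inv_rev, inv_eq_of_mul_eq_one_left (S.groupA_sq hF ha), inv_eq_of_mul_eq_one_left (S.groupA_sq hF hb)]

omit hF in
/-- A choice of lifts of the subgroup of order 16. -/
structure Lifts where
  /-- The lift of a position. -/
  f : ℕ → HH
  map : ∀ a < 16, toGL Q (f a) = bR S.C.M a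
  comm : ∀ a < 16, f a * S.x = S.x * f a
  zero : f 0 = 1

theorem exists_lifts : Nonempty S.Lifts := by
  classical
  choose k hk hkx using fun a : Fin 16 => S.exists_lift0 hF a.isLt
  refine ⟨⟨fun a => if h : a < 16 ∧ a ≠ 0 then k ⟨a, h.1⟩ else 1, fun a ha => ?_, fun a ha => ?_, by simp⟩⟩
  · by_cases h : a = 0
    · simp [h, bR_zero]
    · simp [ha, h, hk]
  · by_cases h : a = 0
    · simp [h]
    · simp [ha, h, hkx]

variable (L : S.Lifts)

omit hF in
/-- The element with given coordinates. -/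
noncomputable def elA (c : ℕ) : HH :=
  zH Q ^ (c % 2) * (S.sv (S.C.M.e (wv (c / 2 % 64))) : HH) * L.f (c / 128)

theorem lifts_mem {a : ℕ} (ha : a < 16) : L.f a ∈ S.groupA :=
  S.lift_mem hF (by rw [L.map a ha]; exact ⟨a, ha, rfl⟩) (L.comm a ha)

omit hF in
theorem wv_mem [DecidableEq (OutForm.Vm Q)] (m : ℕ) : S.C.M.e (wv (m % 64)) ∈ wSet S.C.M :=
  mem_wSet.2 ⟨_, Nat.mod_lt _ (by norm_num), rfl⟩

theorem elA_mem {c : ℕ} (hc : c < 2048) : S.elA L c ∈ S.groupA := by
  classical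
  exact mul_mem (mul_mem (pow_mem (S.zH_mem hF) _) (S.groupD_le (S.sv_mem (S.wv_mem (c / 2))) hF))
    (S.lifts_mem hF L (by omega))

theorem toGL_elA {c : ℕ} (hc : c < 2048) : toGL Q (S.elA L c) = bR S.C.M (c / 128) := by
  have hk : ∀ d : Q, toGL Q (d : HH) = 1 := fun d => by rw [← MonoidHom.mem_ker, (exists_frame hF).1]; exact d.2
  unfold elA
  rw [map_mul, map_mul, map_pow, hk, show toGL Q (zH Q) = 1 from hk _, one_pow, one_mul, one_mul, L.map _ (by omega)]

theorem elA_zero : S.elA L 0 = 1 := by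
  unfold elA
  rw [show wv (0 / 2 % 64) = 0 from ap_zero _ _, S.C.M.zero, S.sv_zero hF, show 0 / 128 = 0 from rfl, L.zero]
  simp

theorem elA_one : S.elA L 1 = zH Q := by
  unfold elA
  rw [show wv (1 / 2 % 64) = 0 from ap_zero _ _, S.C.M.zero, S.sv_zero hF, show 1 / 128 = 0 from rfl, L.zero]
  simp

theorem elA_inj {c d : ℕ} (hc : c < 2048) (hd : d < 2048) (h : S.elA L c = S.elA L d) : c = d := by
  classical
  have ha : c / 128 = d / 128 := bR_inj S.C.M (by omega) (by omega) (by rw [← S.toGL_elA hF L hc, ← S.toGL_elA hF L hd, h])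
  unfold elA at h
  rw [ha] at h
  have h1 := mul_right_cancel h
  have hpr : ∀ e : ℕ, OutForm.pr ((OutForm.zeta Q) ^ e) = 0 := fun e => OutForm.pr_eq_zero.2 (pow_mem OutForm.zeta_mem e)
  have h2 : (OutForm.zeta Q) ^ (c % 2) * S.sv (S.C.M.e (wv (c / 2 % 64))) =
      (OutForm.zeta Q) ^ (d % 2) * S.sv (S.C.M.e (wv (d / 2 % 64))) := Subtype.ext h1
  have h3 := congrArg OutForm.pr h2
  rw [OutForm.pr_mul, OutForm.pr_mul, hpr, hpr, zero_add, zero_add, pr_sv, pr_sv] at h3
  have hm := wv_inj (Nat.mod_lt _ (by norm_num)) (Nat.mod_lt _ (by norm_num)) (S.C.M.inj _ (wv_lt _) _ (wv_lt _) h3)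
  rw [hm] at h2
  have h4 := mul_right_cancel h2
  have he : c % 2 = d % 2 := by
    rcases Nat.mod_two_eq_zero_or_one c with e | e <;> rcases Nat.mod_two_eq_zero_or_one d with e' | e' <;>
      rw [e, e'] at h4 <;> simp only [pow_zero, pow_one] at h4
    · omega
    · exact absurd h4.symm OutForm.zeta_ne
    · exact absurd h4 OutForm.zeta_ne
    · omega
  omega

theorem elA_surj {a : HH} (ha : a ∈ S.groupA) : ∃ c < 2048, S.elA L c = a := by
  classical
  obtain ⟨k, d, hd, hk, hkx, rfl⟩ := S.groupA_dec hF ha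
  obtain ⟨i, hi, hie⟩ := (S.mem_groupA.1 ha).1
  obtain ⟨m, hm, hme⟩ := mem_wSet.1 (S.mem_groupD.1 hd)
  obtain ⟨c, hc, hde⟩ := OutForm.eq_mul_center (show OutForm.pr d = OutForm.pr (S.sv (S.C.M.e (wv m))) by rw [pr_sv, hme])
  have hke : ∃ e, k = zH Q ^ e * L.f i := by
    rcases S.lift_eq hF (L.comm i hi) hkx ((L.map i hi).trans (hie.symm.trans hk.symm)) with h | h
    · exact ⟨0, by rw [h, pow_zero, one_mul]⟩
    · exact ⟨1, by rw [h, pow_one, zH_comm hF]⟩
  obtain ⟨e, rfl⟩ := hke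
  refine ⟨128 * i + 2 * m + (e + (OutForm.eps c).val) % 2, by omega, ?_⟩
  unfold elA
  rw [show (128 * i + 2 * m + (e + (OutForm.eps c).val) % 2) % 2 = (e + (OutForm.eps c).val) % 2 by omega,
    show (128 * i + 2 * m + (e + (OutForm.eps c).val) % 2) / 2 % 64 = m by omega,
    show (128 * i + 2 * m + (e + (OutForm.eps c).val) % 2) / 128 = i by omega, ← zH_pow, pow_add, hde,
    Subgroup.coe_mul, center_eq hc]
  have hcomm := S.lift_comm_groupD hF (k := L.f i) (by rw [L.map i hi]; exact ⟨i, hi, rfl⟩) (L.comm i hi)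
    (S.sv_mem (mem_wSet.2 ⟨m, hm, rfl⟩))
  calc zH Q ^ e * zH Q ^ (OutForm.eps c).val * (S.sv (S.C.M.e (wv m)) : HH) * L.f i
      = zH Q ^ e * (zH Q ^ (OutForm.eps c).val * ((S.sv (S.C.M.e (wv m)) : HH) * L.f i)) := by simp only [mul_assoc]
    _ = zH Q ^ e * (((S.sv (S.C.M.e (wv m)) : HH) * L.f i) * zH Q ^ (OutForm.eps c).val) := by
        rw [show zH Q ^ (OutForm.eps c).val * ((S.sv (S.C.M.e (wv m)) : HH) * L.f i) =
          ((S.sv (S.C.M.e (wv m)) : HH) * L.f i) * zH Q ^ (OutForm.eps c).val from zH_pow_comm hF _ _]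
    _ = _ := by rw [hcomm]; simp only [mul_assoc]

theorem groupA_card : Nat.card S.groupA = 2 ^ 11 := by
  obtain ⟨L⟩ := S.exists_lifts hF
  rw [show 2 ^ 11 = Nat.card (Fin 2048) by simp]
  refine (Nat.card_eq_of_bijective (fun c : Fin 2048 => (⟨S.elA L c, S.elA_mem hF L c.isLt⟩ : S.groupA))
    ⟨fun c d h => Fin.ext (S.elA_inj hF L c.isLt d.isLt (congrArg Subtype.val h)), fun a => ?_⟩).symm
  obtain ⟨c, hc, e⟩ := S.elA_surj hF L a.2
  exact ⟨⟨c, hc⟩, Subtype.ext e⟩

/-- Conjugation of a lift by an element of Q. -/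
theorem conj_lift {a : ℕ} (ha : a < 16) (p : Q) {v : ℕ} (hv : v < 4096) (hp : OutForm.pr p = S.C.M.e v) :
    (p : HH) * L.f a * (p : HH)⁻¹ = zH Q ^ cv a v * (S.sv (S.C.M.e (tv a v)) : HH) * L.f a := by
  classical
  set M := S.C.M
  set T : OutForm.Vm Q → OutForm.Vm Q := fun w => w + bR M a w with hT
  have hTW : ∀ w, T w ∈ wSet M := by
    intro w
    refine wSet_perp M _ fun u hu => ?_
    have hfix := (wSet_fix M u).1 hu _ ⟨a, ha, rfl⟩
    have hb : bR M a ∈ (toGL Q).range := (syl_facts S.C (exists_frame hF).2.1).1 ⟨a, ha, rfl⟩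
    obtain ⟨c, hc⟩ := hb
    have hq : ∀ w, OutForm.qf Q (bR M a w) = OutForm.qf Q w := fun w => by rw [← hc]; exact toGL_q c w
    have hpol : QuadraticMap.polar (OutForm.qf Q) (bR M a w) u = QuadraticMap.polar (OutForm.qf Q) w u := by
      conv_lhs => rw [← hfix]
      unfold QuadraticMap.polar
      rw [← map_add, hq, hq, hq]
    rw [hT, QuadraticMap.polar_add_left, hpol, ← two_smul (ZMod 2), show (2 : ZMod 2) = 0 from by decide, zero_smul]
  have hkB : toGL Q (L.f a) ∈ baGroup M := by rw [L.map a ha]; exact ⟨a, ha, rfl⟩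
  -- the central component
  have hex : ∀ w, ∃ f : ZMod 2, ∀ r : Q, OutForm.pr r = w →
      (r : HH) * L.f a * (r : HH)⁻¹ = zH Q ^ f.val * (S.sv (T w) : HH) * L.f a := by
    intro w
    obtain ⟨r, rfl⟩ := OutForm.pr_surjective w
    set d : Q := r * MulAut.conjNormal (L.f a) r⁻¹ with hd
    have hdw : OutForm.pr d = OutForm.pr (S.sv (T (OutForm.pr r))) := by
      rw [pr_sv, hd, OutForm.pr_mul, pr_conj, OutForm.pr_inv, L.map a ha]
    obtain ⟨c, hc, e⟩ := OutForm.eq_mul_center hdw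
    refine ⟨OutForm.eps c, fun r' hr' => ?_⟩
    obtain ⟨c', hc', rfl⟩ := OutForm.eq_mul_center hr'
    have h1 := congrArg (fun a : Q => (a : HH)) e
    simp only [hd, Subgroup.coe_mul, MulAut.conjNormal_apply, Subgroup.coe_inv] at h1
    rw [center_eq hc] at h1
    rw [zH_pow_comm hF, ← h1, Subgroup.coe_mul, mul_inv_rev]
    have := center_comm hF hc' (L.f a)
    calc (r : HH) * c' * L.f a * ((c' : HH)⁻¹ * (r : HH)⁻¹)
        = (r : HH) * ((c' : HH) * L.f a * (c' : HH)⁻¹) * (r : HH)⁻¹ := by simp [mul_assoc]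
      _ = _ := by rw [this, mul_inv_cancel_right]; simp [mul_assoc]
  choose f hf using hex
  -- its quadratic nature
  have hsvm : ∀ w, S.sv (T w) ∈ S.groupD := fun w => S.sv_mem (hTW w)
  have hfadd : ∀ u w, f (u + w) = f u + f w + QuadraticMap.polar (OutForm.qf Q) u (T w) := by
    intro u w
    obtain ⟨r, rfl⟩ := OutForm.pr_surjective u
    obtain ⟨r', rfl⟩ := OutForm.pr_surjective w
    have h := hf _ (r * r') (OutForm.pr_mul r r')
    have hadd : T (OutForm.pr r + OutForm.pr r') = T (OutForm.pr r) + T (OutForm.pr r') := by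
      simp only [hT, map_add]; abel
    rw [hadd, S.sv_add hF (hTW _) (hTW _), Subgroup.coe_mul, Subgroup.coe_mul, mul_inv_rev] at h
    have hcz := fun (e : ℕ) (y : HH) => zH_pow_comm hF (Q := Q) e y
    have hcalc : (r : HH) * r' * L.f a * ((r' : HH)⁻¹ * (r : HH)⁻¹) =
        zH Q ^ ((f (OutForm.pr r)).val + (f (OutForm.pr r')).val +
          (QuadraticMap.polar (OutForm.qf Q) (OutForm.pr r) (T (OutForm.pr r'))).val) *
          ((S.sv (T (OutForm.pr r)) : HH) * (S.sv (T (OutForm.pr r')))) * L.f a := by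
      have hc := conj_Q hF r (S.sv (T (OutForm.pr r')))
      rw [pr_sv] at hc
      set e1 := (f (OutForm.pr r)).val
      set e2 := (f (OutForm.pr r')).val
      set e3 := (QuadraticMap.polar (OutForm.qf Q) (OutForm.pr r) (T (OutForm.pr r'))).val
      set P := zH Q ^ e2
      set R := zH Q ^ e3
      have hsc : (S.sv (T (OutForm.pr r')) : HH) * (S.sv (T (OutForm.pr r)) : HH) =
          (S.sv (T (OutForm.pr r)) : HH) * S.sv (T (OutForm.pr r')) :=
        congrArg (fun a : Q => (a : HH)) (S.groupD_comm (hsvm _) (hsvm _))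
      calc (r : HH) * r' * L.f a * ((r' : HH)⁻¹ * (r : HH)⁻¹)
          = (r : HH) * ((r' : HH) * L.f a * (r' : HH)⁻¹) * (r : HH)⁻¹ := by simp [mul_assoc]
        _ = (r : HH) * (P * (S.sv (T (OutForm.pr r')) : HH) * L.f a) * (r : HH)⁻¹ := by rw [hf _ r' rfl]
        _ = P * (((r : HH) * (S.sv (T (OutForm.pr r')) : HH) * (r : HH)⁻¹) * ((r : HH) * L.f a * (r : HH)⁻¹)) := by
            rw [mul_assoc P, ← mul_assoc (r : HH), show (r : HH) * P = P * r from (hcz e2 _).symm]; simp [mul_assoc]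
        _ = P * ((S.sv (T (OutForm.pr r')) : HH) * R * (zH Q ^ e1 * (S.sv (T (OutForm.pr r)) : HH) * L.f a)) := by
            rw [hc, hf _ r rfl]
        _ = P * (R * zH Q ^ e1) * ((S.sv (T (OutForm.pr r')) : HH) * (S.sv (T (OutForm.pr r)) : HH)) * L.f a := by
            rw [show (S.sv (T (OutForm.pr r')) : HH) * R = R * S.sv (T (OutForm.pr r')) from (hcz e3 _).symm,
              mul_assoc R, ← mul_assoc (S.sv (T (OutForm.pr r')) : HH), ← mul_assoc (S.sv (T (OutForm.pr r')) : HH),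
              show (S.sv (T (OutForm.pr r')) : HH) * zH Q ^ e1 = zH Q ^ e1 * S.sv (T (OutForm.pr r')) from (hcz e1 _).symm]
            simp [mul_assoc]
        _ = _ := by
            rw [hsc]
            congr 2
            show zH Q ^ e2 * (zH Q ^ e3 * zH Q ^ e1) = _
            rw [← pow_add, ← pow_add]; congr 1; omega
    rw [hcalc] at h
    have h2 := mul_right_cancel (mul_right_cancel h)
    rw [zH_pow] at h2
    have hval : ∀ x : ZMod 2, x.val < 2 := fun x => x.val_lt
    have hne : zH Q ≠ 1 := fun e => OutForm.zeta_ne (Subtype.ext e)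
    have hv2 := hval (f (OutForm.pr r + OutForm.pr r'))
    have key : ((f (OutForm.pr r)).val + (f (OutForm.pr r')).val +
          (QuadraticMap.polar (OutForm.qf Q) (OutForm.pr r) (T (OutForm.pr r'))).val) % 2 =
        (f (OutForm.pr r + OutForm.pr r')).val := by
      have : ∀ i j : ℕ, i < 2 → j < 2 → zH Q ^ i = zH Q ^ j → i = j := by
        intro i j hi hj e
        interval_cases i <;> interval_cases j <;> simp_all
      exact this _ _ (Nat.mod_lt _ (by norm_num)) hv2 h2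
    apply ZMod.val_injective 2
    rw [← key, ZMod.val_add, ZMod.val_add]; omega
  have hfn : ∀ w, f (S.n w) = f w := by
    intro w
    obtain ⟨r, rfl⟩ := OutForm.pr_surjective w
    have h := hf _ (MulAut.conjNormal S.x r) (S.pr_x r)
    have hTn : T (S.n (OutForm.pr r)) = S.n (T (OutForm.pr r)) := by
      simp only [hT, map_add]; congr 1; exact LinearEquiv.congr_fun (bR_n M ha) _
    rw [hTn, MulAut.conjNormal_apply, ← S.x_sv hF] at h
    have hxk : S.x⁻¹ * L.f a = L.f a * S.x⁻¹ := by rw [inv_mul_eq_iff_eq_mul, ← mul_assoc, ← L.comm a ha, mul_inv_cancel_right]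
    have hcalc : S.x * (r : HH) * S.x⁻¹ * L.f a * (S.x * (r : HH) * S.x⁻¹)⁻¹ =
        zH Q ^ (f (OutForm.pr r)).val * (S.x * (S.sv (T (OutForm.pr r)) : HH) * S.x⁻¹) * L.f a := by
      calc S.x * (r : HH) * S.x⁻¹ * L.f a * (S.x * (r : HH) * S.x⁻¹)⁻¹
          = S.x * (r : HH) * (S.x⁻¹ * L.f a * S.x) * (r : HH)⁻¹ * S.x⁻¹ := by simp [mul_assoc]
        _ = S.x * ((r : HH) * L.f a * (r : HH)⁻¹) * S.x⁻¹ := by rw [hxk, inv_mul_cancel_right]; simp [mul_assoc]
        _ = _ := by
          rw [hf _ r rfl, ← mul_assoc S.x, ← mul_assoc S.x, ← zH_pow_comm hF, mul_assoc, mul_assoc, ← hxk]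
          simp [mul_assoc]
    rw [hcalc] at h
    have h2 := mul_right_cancel (mul_right_cancel h)
    have hne : zH Q ≠ 1 := fun e => OutForm.zeta_ne (Subtype.ext e)
    apply ZMod.val_injective 2
    have a1 := (f (OutForm.pr r)).val_lt
    have a2 := (f (S.n (OutForm.pr r))).val_lt
    interval_cases (f (S.n (OutForm.pr r))).val <;> interval_cases (f (OutForm.pr r)).val <;> simp_all
  -- comparison with the explicit form
  have hbq : ∀ w, OutForm.qf Q (bR M a w) = OutForm.qf Q w := by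
    obtain ⟨c, hc⟩ := (syl_facts S.C (exists_frame hF).2.1).1 ⟨a, ha, rfl⟩
    intro w; rw [← hc]; exact toGL_q c w
  have hnq := S.n_q
  have hpn : ∀ u w, QuadraticMap.polar (OutForm.qf Q) (S.n u) (S.n w) = QuadraticMap.polar (OutForm.qf Q) u w := by
    intro u w; unfold QuadraticMap.polar; rw [← map_add, hnq, hnq, hnq]
  have hpb : ∀ u w, QuadraticMap.polar (OutForm.qf Q) (bR M a u) w = QuadraticMap.polar (OutForm.qf Q) u (bR M a w) := by
    intro u w
    have hbb : bR M a (bR M a w) = w := LinearEquiv.congr_fun (bR_sq M ha) w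
    conv_lhs => rw [← hbb]
    unfold QuadraticMap.polar; rw [← map_add, hbq, hbq, hbq]
  have hnb : ∀ w, S.n (bR M a w) = bR M a (S.n w) := fun w => (LinearEquiv.congr_fun (bR_n M ha) w).symm
  set g : OutForm.Vm Q → ZMod 2 := fun w => f w + QuadraticMap.polar (OutForm.qf Q) w (S.n (T w)) with hg
  have hTn : ∀ w, T (S.n w) = S.n (T w) := fun w => by simp only [hT, map_add, hnb]
  have hTadd : ∀ u w, T (u + w) = T u + T w := fun u w => by simp only [hT, map_add]; abel
  have hgadd : ∀ u w, g (u + w) = g u + g w := by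
    intro u w
    have hn3 : S.n (S.n (S.n u)) = u := LinearEquiv.congr_fun S.n_three u
    have e1 : QuadraticMap.polar (OutForm.qf Q) w (S.n (T u)) = QuadraticMap.polar (OutForm.qf Q) u (S.n (S.n (T w))) := by
      have hsym : ∀ x y, QuadraticMap.polar (OutForm.qf Q) (T x) y = QuadraticMap.polar (OutForm.qf Q) x (T y) := fun x y => by
        simp only [hT, QuadraticMap.polar_add_left, QuadraticMap.polar_add_right, hpb]
      have hn3' : S.n (S.n (S.n (T u))) = T u := LinearEquiv.congr_fun S.n_three (T u)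
      rw [← hpn w, ← hpn (S.n w), hn3', QuadraticMap.polar_comm, hsym, hTn, hTn]
    have e2 : QuadraticMap.polar (OutForm.qf Q) u (T w) =
        QuadraticMap.polar (OutForm.qf Q) u (S.n (T w)) + QuadraticMap.polar (OutForm.qf Q) u (S.n (S.n (T w))) := by
      rw [← QuadraticMap.polar_add_right, S.n_add]
    simp only [hg, hfadd, hTadd, map_add, QuadraticMap.polar_add_left, QuadraticMap.polar_add_right, e1, e2]
    generalize f u = A, f w = B, QuadraticMap.polar (OutForm.qf Q) u (S.n (T u)) = Cc,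
      QuadraticMap.polar (OutForm.qf Q) w (S.n (T w)) = D, QuadraticMap.polar (OutForm.qf Q) u (S.n (T w)) = E,
      QuadraticMap.polar (OutForm.qf Q) u (S.n (S.n (T w))) = F
    revert A B Cc D E F; decide
  have hgn : ∀ w, g (S.n w) = g w := fun w => by simp only [hg, hfn, hTn, hpn]
  have hg0 : ∀ w, g w = 0 := by
    intro w
    have h0 : g 0 = 0 := by have := hgadd 0 0; rw [add_zero] at this; revert this; generalize g 0 = A; revert A; decide
    have h := congrArg g (S.sum_zero w)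
    rw [hgadd, hgadd, hgn (S.n w), hgn, h0] at h
    revert h; generalize g w = A; revert A; decide
  have hcv : (f (S.C.M.e v)).val = cv a v := by
    have h := hg0 (M.e v)
    have hte : T (M.e v) = M.e (tv a v) := (bR_tv M ha hv).symm
    have ht : tv a v < 4096 := xor_lt_pow hv (fe_lt _ _)
    simp only [hg, hte, M.n_e _ ht, ← M.bn_polar hv (nmul_lt' ht)] at h
    have hc2 : cv a v < 2 := bn_lt _ _
    have hf2 : f (M.e v) = (cv a v : ZMod 2) := by
      rw [eq_neg_of_add_eq_zero_left h, ZModModule.neg_eq_self]; rfl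
    rw [hf2, ZMod.val_natCast, Nat.mod_eq_of_lt hc2]
  rw [hf _ p hp, hcv, show T (S.C.M.e v) = S.C.M.e (tv a v) from (bR_tv M ha hv).symm]

end Setting

end Cfsg.Agent.LargeFischer
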