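/-
The elementary abelian subgroup of order 2^11 of a Sylow 2-subgroup of the centraliser.

* `Setting.sylow_facts`, `exists_max`
-/
import Cfsg.Agent.Lib.LargeFischer.ElemB

set_option autoImplicit false
open Cfsg
open scoped commutatorElement

namespace Cfsg.Agent.LargeFischer

open LargeExtraspecial

universe u

variable {G : Type u} [Group G] [Finite G] {z : G} {Q : Subgroup (Subgroup.centralizer ({z} : Set G))}
  [Q.Normal] [Fact (Cfsg.IsExtraspecial 2 Q)]

local notation "HH" => Subgroup.centralizer (Singleton.singleton z : Set G)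

namespace Setting

variable (S : Setting z Q) (hF : Cfsg.IsOfLargeFischerTypeAt z Q)
include S hF

theorem card_split (J : Subgroup HH) :
    Nat.card J = Nat.card ↥(J.map (toGL Q)) * Nat.card ↥(J ⊓ Q) := by
  have hker := (exists_frame hF).1
  rw [Subgroup.card_eq_card_quotient_mul_card_subgroup ((toGL Q).comp J.subtype).ker,
    Nat.card_congr (QuotientGroup.quotientKerEquivRange _).toEquiv, MonoidHom.range_comp, Subgroup.range_subtype]
  congr 1
  exact Nat.card_congr
    { toFun := fun a => ⟨a.1.1, a.1.2, hker.le a.2⟩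
      invFun := fun a => ⟨⟨a.1, a.2.1⟩, hker.symm.le a.2.2⟩
      left_inv := fun _ => rfl
      right_inv := fun _ => rfl }

theorem groupA_map : S.groupA.map (toGL Q) = baGroup S.C.M := by
  refine le_antisymm ?_ fun b hb => ?_
  · rintro _ ⟨c, hc, rfl⟩; exact (S.mem_groupA.1 hc).1
  · obtain ⟨a, ha, rfl⟩ := hb
    obtain ⟨k, hk, hkx⟩ := S.exists_lift0 hF ha
    exact ⟨k, S.lift_mem hF ⟨a, ha, hk⟩ hkx, hk⟩

theorem groupA_inf : S.groupA ⊓ Q = S.groupD.map Q.subtype := by
  refine le_antisymm (fun c hc => ⟨⟨c, hc.2⟩, S.groupD_of_mem hc.1 hc.2, rfl⟩) ?_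
  rintro _ ⟨d, hd, rfl⟩
  exact ⟨S.groupD_le hd hF, d.2⟩

theorem groupA_inf_card : Nat.card ↥(S.groupA ⊓ Q) = 2 ^ 7 := by
  have h := S.card_split hF S.groupA
  rw [S.groupA_map hF, baGroup_card, S.groupA_card hF] at h
  omega

/-- Elements fixing the fixed space pointwise are involutions. -/
theorem fixW_sq [DecidableEq (OutForm.Vm Q)] {h : OutForm.Vm Q ≃ₗ[ZMod 2] OutForm.Vm Q}
    (hh : h ∈ (toGL Q).range) (hfix : ∀ w ∈ wSet S.C.M, h w = w) : h * h = 1 := by
  obtain ⟨c, hc⟩ := hh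
  have hq : ∀ v, OutForm.qf Q (h v) = OutForm.qf Q v := fun v => by rw [← hc]; exact toGL_q c v
  refine LinearEquiv.ext fun v => ?_
  have hd : h v + v ∈ wSet S.C.M := by
    refine wSet_perp S.C.M _ fun w hw => ?_
    have e : QuadraticMap.polar (OutForm.qf Q) (h v) w = QuadraticMap.polar (OutForm.qf Q) v w := by
      conv_lhs => rw [← hfix w hw]
      unfold QuadraticMap.polar
      rw [← map_add, hq, hq, hq]
    rw [QuadraticMap.polar_add_left, e, ← two_smul (ZMod 2), show (2 : ZMod 2) = 0 from by decide, zero_smul]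
  have h2 := hfix _ hd
  rw [map_add] at h2
  exact (add_left_inj (h v)).1 (h2.trans (add_comm _ _))

set_option maxHeartbeats 1000000 in
/-- An overgroup of Q of order 2^21 in which the subgroup is the largest elementary abelian one. -/
theorem sylow_facts : ∃ T : Subgroup HH, Nat.card T = 2 ^ 21 ∧ Q ≤ T ∧ S.groupA ≤ T ∧
    (∀ E ≤ T, (∀ a ∈ E, a * a = 1) → 2 ^ 11 ≤ Nat.card E → E = S.groupA) ∧
    ∀ g ∈ T, (∀ a ∈ S.groupA, a * g = g * a) → g ∈ S.groupA := by
  classical
  obtain ⟨hker, hcard, -⟩ := exists_frame hF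
  have hQ13 : Nat.card Q = 2 ^ 13 := hF.1.2.2.2.1
  obtain ⟨hBΓ, -, S0, hSΓ, hS, hBS, huniq⟩ := syl_facts S.C hcard
  have hB16 := baGroup_card S.C.M
  set T0 := S0.comap (toGL Q)
  set B := baGroup S.C.M
  set A := S.groupA
  let W := wSet S.C.M
  let D := S.groupD
  have hWfix := wSet_fix S.C.M
  have hAmem := fun {c : HH} => S.mem_groupA (c := c)
  have hW : W.card = 64 := wSet_card S.C.M
  have hcount := S.card_split hF
  have hfib : ∀ (J : Subgroup Q) (U : Finset (OutForm.Vm Q)), (∀ a ∈ Subgroup.center Q, a ∈ J) →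
      (∀ v, v ∈ U ↔ ∃ a ∈ J, OutForm.pr a = v) → Nat.card J = 2 * U.card := by
    intro J U hJ hU
    let f : J →* (Q ⧸ Subgroup.center Q) := (QuotientGroup.mk' _).comp J.subtype
    have h := Subgroup.card_eq_card_quotient_mul_card_subgroup f.ker
    rw [Nat.card_congr (QuotientGroup.quotientKerEquivRange f).toEquiv] at h
    have hk : Nat.card f.ker = 2 := by
      rw [← (Fact.out : Cfsg.IsExtraspecial 2 Q).2]
      exact Nat.card_congr
        { toFun := fun a => ⟨a.1.1, (QuotientGroup.eq_one_iff _).1 a.2⟩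
          invFun := fun c => ⟨⟨c.1, hJ _ c.2⟩, (QuotientGroup.eq_one_iff _).2 c.2⟩
          left_inv := fun _ => rfl
          right_inv := fun _ => rfl }
    have hr : Nat.card f.range = U.card := by
      rw [← Nat.card_eq_finsetCard]
      exact Nat.card_congr
        { toFun := fun v => ⟨Additive.ofMul v.1, (hU _).2 (by obtain ⟨a, ha⟩ := v.2; exact ⟨a.1, a.2, congrArg Additive.ofMul ha⟩)⟩
          invFun := fun v => ⟨Additive.toMul v.1, by
            obtain ⟨a, ha, e⟩ := (hU _).1 v.2; exact ⟨⟨a, ha⟩, congrArg Additive.toMul e⟩⟩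
          left_inv := fun _ => rfl
          right_inv := fun _ => rfl }
    rw [h, hk, hr, mul_comm]
  have hQT : Q ≤ T0 := fun c hc => by
    show toGL Q c ∈ S0
    rw [MonoidHom.mem_ker.1 (hker.symm.le hc)]; exact one_mem _
  have hTcard : Nat.card T0 = 2 ^ 21 := by
    rw [hcount, Subgroup.map_comap_eq, inf_eq_right.2 hSΓ, hS, inf_eq_right.2 hQT, hQ13]; norm_num
  have hAcard : Nat.card A = 2 ^ 11 := S.groupA_card hF
  refine ⟨T0, hTcard, hQT, fun c hc => hBS (hAmem.1 hc).1, fun E hE hEsq hEcard => ?_, fun g hg hgc => ?_⟩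
  rotate_left
  · -- elements centralising the subgroup
    let K : Subgroup (OutForm.Vm Q ≃ₗ[ZMod 2] OutForm.Vm Q) :=
      { carrier := {h | h ∈ S0 ∧ ∀ w ∈ W, h w = w}
        one_mem' := ⟨one_mem _, fun _ _ => rfl⟩
        mul_mem' := fun {a b} ha hb => ⟨mul_mem ha.1 hb.1, fun w hw => by
          show a (b w) = w
          rw [hb.2 w hw, ha.2 w hw]⟩
        inv_mem' := fun {a} ha => ⟨inv_mem ha.1, fun w hw => by
          show a.symm w = w
          rw [LinearEquiv.symm_apply_eq]; exact (ha.2 w hw).symm⟩ }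
    have hKsq : ∀ h ∈ K, h * h = 1 := fun h hh => S.fixW_sq hF (hSΓ hh.1) hh.2
    have hKB : K = B := by
      by_contra hne
      have h1024 := huniq K (fun h hh => hh.1) hKsq hne W (fun v hv b hb => hb.2 v hv) hW.le
      have hBK : B ≤ K := fun b hb => ⟨hBS hb, fun w hw => (hWfix w).1 hw b hb⟩
      haveI := finite_equiv (V := OutForm.Vm Q)
      have h16 := Subgroup.card_le_of_le hBK
      rw [hB16] at h16
      rw [hW] at h1024
      omega
    refine hAmem.2 ⟨?_, fun d hd => hgc _ (S.groupD_le hd hF)⟩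
    show toGL Q g ∈ B
    rw [← hKB]
    refine ⟨hg, fun w hw => ?_⟩
    rw [← S.pr_sv w, ← pr_conj]
    refine congrArg OutForm.pr (Subtype.ext ?_)
    rw [MulAut.conjNormal_apply, ← hgc _ (S.groupD_le (S.sv_mem hw) hF), mul_inv_cancel_right]
  -- adjoin the centre
  obtain ⟨zQ, hzQ, hzQc⟩ : ∃ zQ : Q, zQ ∈ Subgroup.center Q ∧ zQ ≠ 1 :=
    ⟨OutForm.zeta Q, OutForm.zeta_mem, OutForm.zeta_ne⟩
  let Z : Subgroup HH := (Subgroup.center Q).map Q.subtype
  let E' : Subgroup HH := E ⊔ Z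
  have hZn : Z.Normal := ⟨by
    rintro _ ⟨c, hc, rfl⟩ g
    refine ⟨c, hc, ?_⟩
    show (c : HH) = g * (c : HH) * g⁻¹
    rw [← center_comm hF hc, mul_inv_cancel_right]⟩
  have hE'sq : ∀ a ∈ E', a * a = 1 := by
    intro a ha
    obtain ⟨e, he, _, ⟨c, hc, rfl⟩, rfl⟩ := Subgroup.mem_sup_of_normal_right.1 ha
    calc e * (c : HH) * (e * c) = (e * e) * ((c : HH) * c) := by
          rw [mul_assoc, ← mul_assoc (c : HH), center_comm hF hc e]; simp [mul_assoc]
      _ = 1 := by rw [hEsq e he, one_mul]; exact congrArg (fun a : Q => (a : HH)) (OutForm.sq_one_of_center hc)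
  have hE'T : E' ≤ T0 := sup_le hE (by
    rintro _ ⟨c, hc, rfl⟩
    show toGL Q (c : HH) ∈ S0
    rw [MonoidHom.mem_ker.1 (hker.symm.le c.2)]; exact one_mem _)
  have hE'card : 2 ^ 11 ≤ Nat.card E' := hEcard.trans (Subgroup.card_le_of_le le_sup_left)
  have key : E' ≤ A := by
    let J : Subgroup Q := E'.comap Q.subtype
    haveI : Fintype (OutForm.Vm Q) := Fintype.ofFinite _
    let U : Finset (OutForm.Vm Q) := Finset.univ.filter fun v => ∃ a ∈ J, OutForm.pr a = v
    have hJsq : ∀ a ∈ J, a * a = 1 := fun a ha => Subtype.ext (hE'sq _ ha)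
    have hJc : Nat.card J = Nat.card ↥(E' ⊓ Q) :=
      Nat.card_congr
        { toFun := fun a => ⟨(a.1 : HH), a.2, a.1.2⟩
          invFun := fun a => ⟨⟨a.1, a.2.2⟩, a.2.1⟩
          left_inv := fun _ => rfl
          right_inv := fun _ => rfl }
    have hJ := hfib J U (fun a ha => (show (a : HH) ∈ E' from (le_sup_right : Z ≤ E') ⟨a, ha, rfl⟩)) (by simp [U])
    have hJle := card_elementary_le hQ13 J hJsq
    have hU64 : U.card ≤ 64 := by omega
    have hEcomm : ∀ a ∈ E', ∀ b ∈ E', a * b = b * a := fun a ha b hb => by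
      calc a * b = (a * b)⁻¹ := eq_inv_of_mul_eq_one_left (hE'sq _ (mul_mem ha hb))
        _ = b * a := by rw [mul_inv_rev, inv_eq_of_mul_eq_one_left (hE'sq a ha), inv_eq_of_mul_eq_one_left (hE'sq b hb)]
    have hUfix : ∀ v ∈ U, ∀ b ∈ E'.map (toGL Q), b v = v := by
      rintro v hv _ ⟨e, he, rfl⟩
      obtain ⟨a, ha, rfl⟩ := (Finset.mem_filter.1 hv).2
      rw [← pr_conj]
      refine congrArg OutForm.pr (Subtype.ext ?_)
      rw [MulAut.conjNormal_apply, hEcomm e he (a : Subgroup.centralizer ({z} : Set G)) ha, mul_inv_cancel_right]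
    have hBE : E'.map (toGL Q) = B := by
      by_contra hne
      have := huniq _ (Subgroup.map_le_iff_le_comap.2 hE'T) (by
        rintro _ ⟨e, he, rfl⟩; rw [← map_mul, hE'sq e he, map_one]) hne U hUfix hU64
      rw [hcount, ← hJc, hJ] at hE'card
      nlinarith
    have hUW : U = W := by
      refine Finset.eq_of_subset_of_card_le (fun v hv => (hWfix v).2 fun b hb => hUfix v hv b (hBE ▸ hb)) ?_
      rw [hcount, hBE, hB16, ← hJc, hJ] at hE'card
      omega
    intro e he
    refine hAmem.2 ⟨(show toGL Q e ∈ B by rw [← hBE]; exact ⟨e, he, rfl⟩), fun d hd => ?_⟩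
    have hdU : OutForm.pr d ∈ U := hUW ▸ S.mem_groupD.1 hd
    obtain ⟨a, ha, hae⟩ := (Finset.mem_filter.1 hdU).2
    obtain ⟨c, hc, rfl⟩ := OutForm.eq_mul_center hae.symm
    exact hEcomm _ (mul_mem (show (a : HH) ∈ E' from ha) ((le_sup_right : Z ≤ E') ⟨c, hc, rfl⟩)) _ he
  exact Subgroup.eq_of_le_of_card_ge (le_sup_left.trans key) (by rw [hAcard]; exact hEcard)

end Setting

/-- An overgroup of Q with image of order 256, and its elementary abelian subgroup of order 2^11. -/
theorem exists_max (hF : Cfsg.IsOfLargeFischerTypeAt z Q) :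
    ∃ T A : Subgroup HH, Nat.card T = 2 ^ 21 ∧ A ≤ T ∧
      (∀ a ∈ A, a * a = 1) ∧ Nat.card A = 2 ^ 11 ∧ Nat.card ↥(A ⊓ Q) = 2 ^ 7 ∧
      Nat.card ↥(A.map (QuotientGroup.mk' Q)) = 16 ∧
      ∀ E ≤ T, (∀ a ∈ E, a * a = 1) → 2 ^ 11 ≤ Nat.card E → E = A := by
  obtain ⟨S⟩ := exists_setting hF
  obtain ⟨T, hT, -, hAT, hmax, -⟩ := S.sylow_facts hF
  refine ⟨T, S.groupA, hT, hAT, fun a ha => S.groupA_sq hF ha, S.groupA_card hF, S.groupA_inf_card hF, ?_, hmax⟩
  refine Eq.trans ?_ (baGroup_card S.C.M)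
  have hker := (exists_frame hF).1
  let ψ : HH ⧸ Q →* (OutForm.Vm Q ≃ₗ[ZMod 2] OutForm.Vm Q) := QuotientGroup.lift Q (toGL Q) hker.symm.le
  have hψ : Function.Injective ψ := (injective_iff_map_eq_one ψ).2 fun a ha => by
    obtain ⟨c, rfl⟩ := QuotientGroup.mk_surjective a
    exact (QuotientGroup.eq_one_iff _).2 (hker.le ha)
  rw [Nat.card_congr (Subgroup.equivMapOfInjective _ ψ hψ).toEquiv, Subgroup.map_map,
    show ψ.comp (QuotientGroup.mk' Q) = toGL Q from rfl, S.groupA_map hF]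

end Cfsg.Agent.LargeFischer
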