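/-
Which elements of the subgroup of order 2^11 are conjugate to the central involution.

* `Zc`, `classes_uniform`, `classPred`
* `exists_mover`, `not_dvd_card_aut`, `classify_A`
-/
import Cfsg.Agent.Lib.LargeFischer.MaxElem

set_option autoImplicit false
set_option maxRecDepth 100000
open Cfsg
open scoped commutatorElement

namespace Cfsg.Agent.LargeFischer

open LargeExtraspecial

universe u

theorem bit_cases {x : ℕ} (h : x < 2) : x = 0 ∨ x = 1 := by omega

/-- The predicate for given values on the three kinds of classes. -/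
def classPred (b0 b1 bL : Bool) (c : ℕ) : Bool :=
  if Nat.beq c 0 then false
  else if Nat.blt c 128 then !isTc c
  else if isTc c then b0 else if isTc (Nat.xor c 1) then b1 else bL

theorem pred_counts :
    ((List.range 2048).filter (classPred false false false)).length = 91 ∧
    ((List.range 2048).filter (classPred false false true)).length = 1531 ∧
    ((List.range 2048).filter (classPred false true false)).length = 331 ∧
    ((List.range 2048).filter (classPred false true true)).length = 1771 ∧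
    ((List.range 2048).filter (classPred true true false)).length = 571 ∧
    ((List.range 2048).filter (classPred true true true)).length = 2011 ∧
    ((List.range 2048).all fun c => classPred false true true c == (!Nat.beq c 0 && !isTc c)) = true := by
  decide +kernel

theorem primes_avoid : ∀ p ∈ [13, 1531, 331, 571, 2011], Nat.Prime p ∧ ∀ k < 11, (2 ^ 11 - 2 ^ k) % p ≠ 0 := by
  intro p hp
  simp only [List.mem_cons, List.not_mem_nil, or_false] at hp
  rcases hp with rfl | rfl | rfl | rfl | rfl <;> exact ⟨by norm_num, by decide⟩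

/-- A prime with this property divides the order of no automorphism group of a group of order 2^11. -/
theorem not_dvd_card_aut {A : Type*} [Group A] [Finite A] (hA : Nat.card A = 2 ^ 11) (M : Subgroup (MulAut A))
    {p : ℕ} (hp : p ∈ [13, 1531, 331, 571, 2011]) : ¬ p ∣ Nat.card M := by
  obtain ⟨hpp, hk⟩ := primes_avoid p hp
  haveI : Fact p.Prime := ⟨hpp⟩
  haveI : Finite (MulAut A) := Finite.of_injective _ DFunLike.coe_injective
  intro hdvd
  obtain ⟨σ, hσ⟩ := exists_prime_orderOf_dvd_card' (G := M) p hdvd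
  have hσ' : orderOf (σ : MulAut A) = p := by rw [Subgroup.orderOf_coe]; exact hσ
  set P := Subgroup.zpowers (σ : MulAut A)
  have hP : IsPGroup p P := IsPGroup.of_card (n := 1) (by rw [Nat.card_zpowers, hσ', pow_one])
  have h := hP.card_modEq_card_fixedPoints (α := A)
  let Fx : Subgroup A :=
    { carrier := MulAction.fixedPoints P A
      one_mem' := fun g => map_one (g : MulAut A)
      mul_mem' := fun {a b} ha hb g => by
        have h1 : (g : MulAut A) a = a := ha g
        have h2 : (g : MulAut A) b = b := hb g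
        show (g : MulAut A) (a * b) = a * b
        rw [map_mul, h1, h2]
      inv_mem' := fun {a} ha g => by
        have h1 : (g : MulAut A) a = a := ha g
        show (g : MulAut A) a⁻¹ = a⁻¹
        rw [map_inv, h1] }
  have hd := Subgroup.card_subgroup_dvd_card Fx
  rw [hA] at hd
  obtain ⟨k, hk11, hkc⟩ := (Nat.dvd_prime_pow Nat.prime_two).1 hd
  rw [show Nat.card (MulAction.fixedPoints P A) = Nat.card Fx from rfl, hkc, hA] at h
  rcases Nat.lt_or_eq_of_le hk11 with hlt | rfl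
  · exact hk k hlt (Nat.sub_mod_eq_zero_of_mod_eq h)
  · have htop : Fx = ⊤ := Subgroup.eq_top_of_card_eq _ (by rw [hkc, hA])
    have hone : (σ : MulAut A) = 1 := MulEquiv.ext fun a => by
      have := (htop.symm ▸ Subgroup.mem_top a : a ∈ Fx) ⟨σ, Subgroup.mem_zpowers _⟩
      exact this
    rw [hone, orderOf_one] at hσ'
    exact hpp.one_lt.ne hσ'

variable {G : Type u} [Group G] [Finite G] {z : G} {Q : Subgroup (Subgroup.centralizer ({z} : Set G))}
  [Q.Normal] [Fact (Cfsg.IsExtraspecial 2 Q)]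

local notation "HH" => Subgroup.centralizer (Singleton.singleton z : Set G)

namespace Setting

variable (S : Setting z Q) (hF : Cfsg.IsOfLargeFischerTypeAt z Q)
include S hF

/-- The code is conjugate to the central involution. -/
def Zc (L : S.Lifts) (c : ℕ) : Prop := IsConj z ((S.elA L c : HH) : G)

omit S hF in
theorem isConj_conj (h a : HH) : IsConj z ((h * a * h⁻¹ : HH) : G) ↔ IsConj z (a : G) := by
  have e : IsConj (a : G) ((h * a * h⁻¹ : HH) : G) := isConj_iff.2 ⟨(h : G), rfl⟩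
  exact ⟨fun i => i.trans e.symm, fun i => i.trans e⟩

variable (L : S.Lifts)

theorem zc_conj (h : HH) {c d : ℕ} (e : h * S.elA L c * h⁻¹ = S.elA L d) : S.Zc L c ↔ S.Zc L d := by
  unfold Zc; rw [← e]; exact (isConj_conj h _).symm

theorem zc_D {m : ℕ} (hm : m < 64) (hm0 : m ≠ 0) {e : ℕ} (he : e < 2) : S.Zc L (e + 2 * m) ↔ inSmall 0 (wv m) = false := by
  classical
  set M := S.C.M
  have hpos : wv m ≠ 0 := fun h => hm0 (wv_inj hm (by norm_num) (h.trans (ap_zero 6 fixBasis).symm))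
  have hq : qn (wv m) = 0 := by
    have h := List.all_eq_true.1 ba_ok.2.2.2.1 m (List.mem_range.2 hm)
    simp only [Bool.and_eq_true, Nat.beq_eq] at h
    exact h.1
  set d : Q := OutForm.zeta Q ^ e * S.sv (M.e (wv m)) with hd
  have hel : S.elA L (e + 2 * m) = (d : HH) := by
    unfold elA
    rw [show (e + 2 * m) % 2 = e by omega, show (e + 2 * m) / 2 % 64 = m by omega, show (e + 2 * m) / 128 = 0 by omega,
      L.zero, mul_one]
    rfl
  have hpr : OutForm.pr d = M.e (wv m) := by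
    rw [hd, OutForm.pr_mul, pr_sv, OutForm.pr_eq_zero.2 (pow_mem OutForm.zeta_mem e), zero_add]
  have hne : M.e (wv m) ≠ 0 := fun h => hpos (M.inj _ (wv_lt m) 0 (by norm_num) (h.trans M.zero.symm))
  have hqe : OutForm.qf Q (M.e (wv m)) = 0 := by rw [M.q_e _ (wv_lt m), hq, Nat.cast_zero]
  have hst := S.stab_card _ (wv_lt m) hpos hq
  unfold Zc
  rw [hel]
  constructor
  · intro h
    obtain ⟨g, hg⟩ := isConj_iff.1 h
    have hne' : ((d : HH) : G) ≠ z := fun e' => by
      refine hne (hpr ▸ OutForm.pr_eq_zero.2 (Subgroup.mem_center_iff.2 fun y => Subtype.ext (Subtype.ext ?_)))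
      show ((y : HH) : G) * ((d : HH) : G) = ((d : HH) : G) * ((y : HH) : G)
      rw [e']; exact (Subgroup.mem_centralizer_singleton_iff.1 (y : HH).2)
    have hfacts := central_facts hF hg hne' (d : HH).2 d.2 _ _ rfl rfl
    have h3 : Nat.card (MulAction.stabilizer (toGL Q).range (OutForm.pr d)) = 11520 := hfacts.2.2.1
    rw [hpr, hst] at h3
    cases hb : inSmall 0 (wv m)
    · rfl
    · rw [hb] at h3; simp at h3
  · intro h
    rw [h, if_neg (by decide)] at hst
    obtain ⟨g, ⟨hgC, hgQ⟩, hgz⟩ := hF.1.2.2.2.2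
    obtain ⟨hw, hqw, hwc, -⟩ := central_facts hF rfl hgz hgC hgQ _ _ rfl rfl
    obtain ⟨γ, ⟨c, rfl⟩, hγ⟩ := (stab_type hF).2 _ _ hw hqw hne hqe (hwc.trans hst.symm)
    obtain ⟨k, hk⟩ := exists_conj_lift (x := ⟨_, hgQ⟩) (y := d) (by rw [hpr]; exact hne) (hγ.trans hpr.symm)
    rw [← hk, isConj_conj]
    exact isConj_iff.2 ⟨g, rfl⟩

theorem zc_q {a m e v m' : ℕ} (ha : a < 16) (hm : m < 64) (he : e < 2) (hv : v < 4096) (hm' : m' < 64)
    (hw : wv m' = tv a v) :
    S.Zc L (e + 2 * m + 128 * a) ↔ S.Zc L ((e + cv a v + bn v (wv m)) % 2 + 2 * (m ^^^ m') + 128 * a) := by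
  classical
  set M := S.C.M
  obtain ⟨p, hp⟩ := OutForm.pr_surjective (M.e v)
  refine S.zc_conj hF L (p : HH) ?_
  have hx : m ^^^ m' < 64 := Nat.xor_lt_two_pow (n := 6) hm hm'
  set E := (e + cv a v + bn v (wv m)) % 2 with hE
  unfold elA
  rw [show (e + 2 * m + 128 * a) % 2 = e by omega, show (e + 2 * m + 128 * a) / 2 % 64 = m by omega,
    show (e + 2 * m + 128 * a) / 128 = a by omega, show (E + 2 * (m ^^^ m') + 128 * a) % 2 = E by omega,
    show (E + 2 * (m ^^^ m') + 128 * a) / 2 % 64 = m ^^^ m' by omega,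
    show (E + 2 * (m ^^^ m') + 128 * a) / 128 = a by omega, wv_xor, hw,
    M.add _ (wv_lt m) _ (show tv a v < 4096 from xor_lt_pow hv (fe_lt _ _)),
    S.sv_add hF (mem_wSet.2 ⟨m, hm, rfl⟩) (mem_wSet.2 ⟨m', hm', by rw [hw]⟩), Subgroup.coe_mul, hE, ← zH_pow]
  have hc := conj_Q hF p (S.sv (M.e (wv m)))
  rw [pr_sv, hp, ← M.bn_polar hv (wv_lt m), ZMod.val_natCast, Nat.mod_eq_of_lt (bn_lt _ _)] at hc
  have hk := S.conj_lift hF L ha p hv hp
  set b := bn v (wv m)
  set w1 := (S.sv (M.e (wv m)) : HH)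
  set w2 := (S.sv (M.e (tv a v)) : HH)
  calc (p : HH) * (zH Q ^ e * w1 * L.f a) * (p : HH)⁻¹
      = zH Q ^ e * (((p : HH) * w1 * (p : HH)⁻¹) * ((p : HH) * L.f a * (p : HH)⁻¹)) := by
        rw [mul_assoc (zH Q ^ e), ← mul_assoc (p : HH), ← zH_pow_comm hF e (p : HH)]; simp [mul_assoc]
    _ = zH Q ^ e * ((w1 * zH Q ^ b) * (zH Q ^ cv a v * w2 * L.f a)) := by rw [hc, hk]
    _ = zH Q ^ e * (zH Q ^ b * zH Q ^ cv a v) * (w1 * w2) * L.f a := by
        rw [← zH_pow_comm hF b w1, mul_assoc (zH Q ^ b) w1, ← mul_assoc w1, ← mul_assoc w1, ← zH_pow_comm hF (cv a v) w1]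
        simp [mul_assoc]
    _ = _ := by rw [← pow_add, ← pow_add]; congr 3; omega

theorem zc_x {a m m' e : ℕ} (ha : a < 16) (hm : m < 64) (he : e < 2) (hm' : m' < 64) (hw : wv m' = nmul (wv m)) :
    S.Zc L (e + 2 * m + 128 * a) ↔ S.Zc L (e + 2 * m' + 128 * a) := by
  refine S.zc_conj hF L S.x ?_
  unfold elA
  rw [show (e + 2 * m + 128 * a) % 2 = e by omega, show (e + 2 * m + 128 * a) / 2 % 64 = m by omega,
    show (e + 2 * m + 128 * a) / 128 = a by omega, show (e + 2 * m' + 128 * a) % 2 = e by omega,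
    show (e + 2 * m' + 128 * a) / 2 % 64 = m' by omega, show (e + 2 * m' + 128 * a) / 128 = a by omega,
    hw, ← S.C.M.n_e _ (wv_lt m), ← S.x_sv hF]
  have hxk : L.f a * S.x⁻¹ = S.x⁻¹ * L.f a := by
    rw [eq_inv_mul_iff_mul_eq, ← mul_assoc, ← L.comm a ha, mul_inv_cancel_right]
  rw [← mul_assoc S.x, ← mul_assoc S.x, ← zH_pow_comm hF e S.x]
  simp only [mul_assoc]
  rw [hxk]

theorem zc_delta {k a m e : ℕ} (hk : k < 2) (ha : a < 16) (hm : m < 64) (he : e < 2) {m' : ℕ} (hm' : m' < 64)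
    (hw : wv m' = dN k (wv m)) :
    ∃ φ, ((S.Zc L (e + 2 * m + 128 * a)) ↔ S.Zc L ((e + φ) % 2 + 2 * m' + 128 * permPos k a)) ∧
      ((S.Zc L ((e + 1) % 2 + 2 * m + 128 * a)) ↔ S.Zc L ((e + 1 + φ) % 2 + 2 * m' + 128 * permPos k a)) := by
  classical
  obtain ⟨hker, hcard, -⟩ := exists_frame hF
  obtain ⟨δ, hδ, hδn, hδe, hδb⟩ := exists_delta S.C hcard hk
  obtain ⟨d, hd, hdx⟩ := exists_commuting_lift hF S.n_fix S.x_map S.x_three hδ hδn
  have ha' := permPos_lt hk ha
  have hconjx : d * L.f a * d⁻¹ * S.x = S.x * (d * L.f a * d⁻¹) := by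
    have hdi : d⁻¹ * S.x = S.x * d⁻¹ := by rw [inv_mul_eq_iff_eq_mul, ← mul_assoc, hdx, mul_inv_cancel_right]
    rw [mul_assoc _ _ S.x, hdi, ← mul_assoc, mul_assoc d, L.comm a ha, ← mul_assoc d, hdx]
    simp [mul_assoc]
  have hex : ∃ φ, d * L.f a * d⁻¹ = zH Q ^ φ * L.f (permPos k a) := by
    rcases S.lift_eq hF (L.comm _ ha') hconjx
      (by rw [L.map _ ha', map_mul, map_mul, map_inv, hd, L.map a ha, hδb a ha]) with h | h
    · exact ⟨0, by rw [h, pow_zero, one_mul]⟩
    · exact ⟨1, by rw [h, pow_one, zH_comm hF]⟩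
  obtain ⟨φ, hφ⟩ := hex
  have key : ∀ e < 2, S.Zc L (e + 2 * m + 128 * a) ↔ S.Zc L ((e + φ) % 2 + 2 * m' + 128 * permPos k a) := by
    intro e he
    refine S.zc_conj hF L d ?_
    unfold elA
    rw [show (e + 2 * m + 128 * a) % 2 = e by omega, show (e + 2 * m + 128 * a) / 2 % 64 = m by omega,
      show (e + 2 * m + 128 * a) / 128 = a by omega,
      show ((e + φ) % 2 + 2 * m' + 128 * permPos k a) % 2 = (e + φ) % 2 by omega,
      show ((e + φ) % 2 + 2 * m' + 128 * permPos k a) / 2 % 64 = m' by omega,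
      show ((e + φ) % 2 + 2 * m' + 128 * permPos k a) / 128 = permPos k a by omega, hw, ← hδe _ (wv_lt m), ← zH_pow]
    have hsv := S.lift_sv hF hdx (by rw [hd]; exact hδn) (S.C.M.e (wv m))
    rw [hd] at hsv
    rw [← hsv]
    calc d * (zH Q ^ e * (S.sv (S.C.M.e (wv m)) : HH) * L.f a) * d⁻¹
        = zH Q ^ e * ((d * (S.sv (S.C.M.e (wv m)) : HH) * d⁻¹) * (d * L.f a * d⁻¹)) := by
          rw [← mul_assoc d, ← mul_assoc d, ← zH_pow_comm hF e d]; simp [mul_assoc]
      _ = _ := by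
          rw [hφ, ← mul_assoc (d * _ * d⁻¹), ← zH_pow_comm hF φ (d * _ * d⁻¹), pow_add]; simp [mul_assoc]
  refine ⟨φ, key e he, ?_⟩
  have h := key ((e + 1) % 2) (Nat.mod_lt _ (by norm_num))
  rwa [show ((e + 1) % 2 + φ) % 2 = (e + 1 + φ) % 2 by omega] at h

theorem zc_kind {a : ℕ} (ha : a < 16) (ha0 : a ≠ 0) : cosetBase.getD a 0 < 64 ∧ ∀ k < 128,
    (isTc (k + 128 * a) = true → (S.Zc L (k + 128 * a) ↔ S.Zc L (128 * a))) ∧
    (isTc (k + 128 * a) = false → isTc (Nat.xor (k + 128 * a) 1) = true → (S.Zc L (k + 128 * a) ↔ S.Zc L (1 + 128 * a))) ∧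
    (isTc (k + 128 * a) = false → isTc (Nat.xor (k + 128 * a) 1) = false →
      (S.Zc L (k + 128 * a) ↔ S.Zc L (2 * cosetBase.getD a 0 + 128 * a))) := by
  classical
  obtain ⟨b, rfl⟩ : ∃ b, a = b + 1 := ⟨a - 1, by omega⟩
  have hb : b ∈ List.range 15 := List.mem_range.2 (by omega)
  have hco := List.all_eq_true.1 coset_ok b hb
  simp only [Bool.and_eq_true, decide_eq_true_eq, List.all_eq_true, Nat.beq_eq, List.mem_range] at hco
  obtain ⟨⟨⟨⟨hm0, hu⟩, htu⟩, hbu⟩, hrows⟩ := hco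
  set m0 := cosetBase.getD (b + 1) 0 with hm0def
  set u := flipWit.getD (b + 1) 0 with hudef
  have hT : ∀ k < 128, isTc (k + 128 * (b + 1)) = true →
      ∃ v < 4096, wv (k / 2) = tv (b + 1) v ∧ k % 2 = cv (b + 1) v := by
    intro k hk hT
    have h := List.all_eq_true.1 (List.all_eq_true.1 orb_ok.2 b hb) k (List.mem_range.2 hk)
    rw [hT] at h
    simp only [Bool.not_true, Bool.false_or, List.any_eq_true, Bool.and_eq_true, Nat.beq_eq] at h
    obtain ⟨i, -, h1, h2⟩ := h
    exact ⟨_, Nat.lt_succ_of_le Nat.and_le_right, h1, h2⟩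
  have hwv0 : wv 0 = 0 := ap_zero _ _
  have hbn0 : ∀ v, v < 4096 → bn v 0 = 0 := fun v hv => by
    show Nat.land (qn (v ^^^ 0) + (qn v + qn 0)) 1 = 0
    have h0 : qn 0 = 0 := by decide
    rw [Nat.xor_zero, h0, Nat.add_zero]
    have := qn_lt v
    interval_cases qn v <;> rfl
  have himg : ∀ e0 < 2, ∀ k < 128, ∀ v < 4096, wv (k / 2) = tv (b + 1) v → k % 2 = (e0 + cv (b + 1) v) % 2 →
      (S.Zc L (k + 128 * (b + 1)) ↔ S.Zc L (e0 + 128 * (b + 1))) := by
    intro e0 he0 k hk v hv hw hpar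
    have h := S.zc_q hF L (a := b + 1) (m := 0) (e := e0) (m' := k / 2) ha (by norm_num) he0 hv (by omega) hw
    simp only [hwv0, hbn0 v hv, Nat.add_zero, Nat.mul_zero, Nat.zero_xor] at h
    rw [← hpar, show k % 2 + 2 * (k / 2) = k by omega] at h
    exact h.symm
  have hflip : ∀ e < 2, S.Zc L (e + 2 * m0 + 128 * (b + 1)) ↔ S.Zc L ((e + 1) % 2 + 2 * m0 + 128 * (b + 1)) := by
    intro e he
    have h := S.zc_q hF L (a := b + 1) (m := m0) (e := e) (m' := 0) ha hm0 he hu (by norm_num) (hwv0.trans htu.symm)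
    have hc0 : cv (b + 1) u = 0 := by
      show bn u (nmul (tv (b + 1) u)) = 0
      rw [htu, show nmul 0 = 0 from rfl, hbn0 u hu]
    rw [hc0, hbu, Nat.xor_zero] at h
    simpa using h
  refine ⟨hm0, fun k hk => ⟨fun h => ?_, fun h h' => ?_, fun h h' => ?_⟩⟩
  · obtain ⟨v, hv, hw, hp⟩ := hT k hk h
    have := himg 0 (by norm_num) k hk v hv hw (by rw [Nat.zero_add, Nat.mod_eq_of_lt (show cv (b + 1) v < 2 from bn_lt _ _)]; exact hp)
    simpa using this
  · have hx : Nat.xor (k + 128 * (b + 1)) 1 = (Nat.xor k 1) + 128 * (b + 1) := by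
      have : ∀ k < 128, ∀ b < 15, Nat.xor (k + 128 * (b + 1)) 1 = Nat.xor k 1 + 128 * (b + 1) := by decide +kernel
      exact this k hk b (List.mem_range.1 hb)
    have hk1 : Nat.xor k 1 < 128 ∧ Nat.xor k 1 / 2 = k / 2 ∧ Nat.xor k 1 % 2 = 1 - k % 2 := by
      have : ∀ k < 128, Nat.xor k 1 < 128 ∧ Nat.xor k 1 / 2 = k / 2 ∧ Nat.xor k 1 % 2 = 1 - k % 2 := by decide +kernel
      exact this k hk
    obtain ⟨v, hv, hw, hp⟩ := hT _ hk1.1 (hx ▸ h')
    rw [hk1.2.1] at hw
    rw [hk1.2.2] at hp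
    refine himg 1 (by norm_num) k hk v hv hw ?_
    have : cv (b + 1) v < 2 := bn_lt _ _
    omega
  · have hrow := hrows (k / 2) (by omega)
    obtain ⟨ev, hev⟩ : ∃ ev, Nat.land (Nat.shiftRight (cosetWit.getD (b + 1) 0) (14 * (k / 2))) 16383 = ev := ⟨_, rfl⟩
    rw [hev] at hrow
    have hev4 : Nat.shiftRight ev 2 < 4096 := by
      have h14 : ev ≤ 16383 := hev ▸ Nat.and_le_right
      show ev >>> 2 < 4096
      rw [Nat.shiftRight_eq_div_pow]; omega
    obtain ⟨v, hv⟩ : ∃ v, Nat.shiftRight ev 2 = v := ⟨_, rfl⟩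
    rw [hv] at hrow hev4
    by_cases h3 : Nat.land ev 3 = 3
    · exfalso
      rw [if_pos h3] at hrow
      simp only [Bool.and_eq_true, bne_iff_ne] at hrow
      have hx : ∀ k < 128, ∀ b < 15, Nat.xor (k + 128 * (b + 1)) 1 = (if k % 2 = 0 then k + 1 + 128 * (b + 1) else k - 1 + 128 * (b + 1)) := by
        decide +kernel
      rw [hx k hk b (List.mem_range.1 hb)] at h'
      apply hrow.2
      rcases Nat.mod_two_eq_zero_or_one k with e | e
      · rw [if_pos e] at h'
        rw [show 2 * (k / 2) + 128 * (b + 1) = k + 128 * (b + 1) by omega,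
          show 2 * (k / 2) + 1 + 128 * (b + 1) = k + 1 + 128 * (b + 1) by omega, h, h']
      · rw [if_neg (by omega)] at h'
        rw [show 2 * (k / 2) + 128 * (b + 1) = k - 1 + 128 * (b + 1) by omega,
          show 2 * (k / 2) + 1 + 128 * (b + 1) = k + 128 * (b + 1) by omega, h, h']
    · rw [if_neg h3] at hrow
      simp only [Bool.and_eq_true, Nat.beq_eq] at hrow
      obtain ⟨⟨hw, -⟩, -⟩ := hrow
      set X := (if Nat.land ev 3 = 0 then wv m0 else
        if Nat.land ev 3 = 1 then nmul (wv m0) else nmul (nmul (wv m0))) with hX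
      have hmem : ∀ m < 64, ∃ m' < 64, wv m' = nmul (wv m) := fun m hm => by
        have h := S.W_n (v := S.C.M.e (wv m)) (mem_wSet.2 ⟨m, hm, rfl⟩)
        rw [S.C.M.n_e _ (wv_lt m)] at h
        obtain ⟨m', hm', e⟩ := mem_wSet.1 h
        exact ⟨m', hm', S.C.M.inj _ (wv_lt _) _ (nmul_lt' (wv_lt m)) e⟩
      have hX' : ∃ m1 < 64, wv m1 = X ∧ ∀ e < 2, S.Zc L (e + 2 * m1 + 128 * (b + 1)) ↔ S.Zc L (2 * m0 + 128 * (b + 1)) := by
        obtain ⟨m1, hm1, e1⟩ := hmem m0 hm0
        obtain ⟨m2, hm2, e2⟩ := hmem m1 hm1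
        have h0 : ∀ e < 2, S.Zc L (e + 2 * m0 + 128 * (b + 1)) ↔ S.Zc L (2 * m0 + 128 * (b + 1)) := by
          intro e he
          rcases bit_cases he with rfl | rfl
          · simp
          · simpa using hflip 1 (by norm_num)
        have h1 : ∀ e < 2, S.Zc L (e + 2 * m1 + 128 * (b + 1)) ↔ S.Zc L (2 * m0 + 128 * (b + 1)) := fun e he =>
          (S.zc_x hF L ha hm0 he hm1 e1).symm.trans (h0 e he)
        by_cases c0 : Nat.land ev 3 = 0
        · exact ⟨m0, hm0, by rw [hX, if_pos c0], h0⟩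
        by_cases c1 : Nat.land ev 3 = 1
        · exact ⟨m1, hm1, by rw [hX, if_neg c0, if_pos c1]; exact e1, h1⟩
        · exact ⟨m2, hm2, by rw [hX, if_neg c0, if_neg c1, e2, e1],
            fun e he => (S.zc_x hF L ha hm1 he hm2 e2).symm.trans (h1 e he)⟩
      obtain ⟨m1, hm1, hw1, hz⟩ := hX'
      set m3 := m1 ^^^ (k / 2) with hm3
      have hm3l : m3 < 64 := Nat.xor_lt_two_pow (n := 6) hm1 (by omega)
      have hw3 : wv m3 = tv (b + 1) v := by
        show wv (m1 ^^^ (k / 2)) = _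
        rw [wv_xor, hw1, hw]
        show X ^^^ (X ^^^ tv (b + 1) v) = _
        rw [← Nat.xor_assoc, Nat.xor_self, Nat.zero_xor]
      have hb2 := bn_lt v (wv m1)
      have hc2 : cv (b + 1) v < 2 := bn_lt _ _
      have h := S.zc_q hF L (a := b + 1) (m := m1) (e := (k % 2 + cv (b + 1) v + bn v (wv m1)) % 2) (m' := m3)
        ha hm1 (Nat.mod_lt _ (by norm_num)) hev4 hm3l hw3
      rw [show m1 ^^^ m3 = k / 2 by rw [hm3, ← Nat.xor_assoc, Nat.xor_self, Nat.zero_xor],
        show ((k % 2 + cv (b + 1) v + bn v (wv m1)) % 2 + cv (b + 1) v + bn v (wv m1)) % 2 = k % 2 by omega,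
        show k % 2 + 2 * (k / 2) = k by omega] at h
      exact h.symm.trans (hz _ (Nat.mod_lt _ (by norm_num)))

/-- The classes are given by three values. -/
theorem classes_uniform : ∃ (L' : S.Lifts) (b0 b1 bL : Bool), (b0 = true → b1 = true) ∧
    ∀ c < 2048, S.Zc L' c ↔ classPred b0 b1 bL c = true := by
  classical
  obtain ⟨L⟩ := S.exists_lifts hF
  -- choose lifts
  let f' : ℕ → HH := fun a => if a ≠ 0 ∧ a < 16 ∧ S.Zc L (128 * a) then zH Q * L.f a else L.f a
  have hf' : ∀ a < 16, toGL Q (f' a) = bR S.C.M a ∧ f' a * S.x = S.x * f' a := by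
    intro a ha
    show toGL Q (ite _ _ _) = _ ∧ _
    by_cases h : a ≠ 0 ∧ a < 16 ∧ S.Zc L (128 * a)
    · simp only [f', if_pos h]
      refine ⟨?_, by rw [mul_assoc, L.comm a ha, ← mul_assoc, zH_comm hF S.x, mul_assoc]⟩
      rw [map_mul, L.map a ha, show toGL Q (zH Q) = 1 by
        rw [← MonoidHom.mem_ker, (exists_frame hF).1]; exact (OutForm.zeta Q).2, one_mul]
    · simp only [f', if_neg h]; exact ⟨L.map a ha, L.comm a ha⟩
  let L' : S.Lifts := ⟨f', fun a ha => (hf' a ha).1, fun a ha => (hf' a ha).2, by simp [f', L.zero]⟩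
  have hne : ∀ {a}, a < 16 → a ≠ 0 → S.Zc L' (128 * a) → S.Zc L' (1 + 128 * a) := by
    intro a ha ha0 h
    have e0 : ∀ (M : S.Lifts) (e : ℕ), e < 2 → S.elA M (e + 128 * a) = zH Q ^ e * M.f a := fun M e he => by
      unfold elA
      rw [show (e + 128 * a) % 2 = e by omega, show (e + 128 * a) / 2 % 64 = 0 by omega,
        show (e + 128 * a) / 128 = a by omega, show wv 0 = 0 from ap_zero _ _, S.C.M.zero, S.sv_zero hF]
      simp
    have e00 : ∀ M : S.Lifts, S.elA M (128 * a) = M.f a := fun M => by simpa using e0 M 0 (by norm_num)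
    unfold Zc at h ⊢
    rw [e00] at h
    rw [e0 L' 1 (by norm_num)]
    by_cases hz : S.Zc L (128 * a)
    · have hL' : L'.f a = zH Q * L.f a := if_pos ⟨ha0, ha, hz⟩
      rw [hL', pow_one, ← mul_assoc, zH_sq, one_mul]
      unfold Zc at hz
      rwa [e00] at hz
    · exfalso
      have hL' : L'.f a = L.f a := if_neg fun c => hz c.2.2
      apply hz
      unfold Zc
      rw [e00, ← hL']; exact h
  let K0 : ℕ → Prop := fun a => S.Zc L' (128 * a)
  let K1 : ℕ → Prop := fun a => S.Zc L' (1 + 128 * a)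
  let KL : ℕ → Prop := fun a => S.Zc L' (2 * cosetBase.getD a 0 + 128 * a)
  have hperm0 : ∀ k < 2, ∀ a < 16, a ≠ 0 → permPos k a ≠ 0 := by decide +kernel
  have hstep : ∀ k < 2, ∀ a < 16, a ≠ 0 → ((K0 a ↔ K0 (permPos k a)) ∧ (K1 a ↔ K1 (permPos k a)) ∧ (KL a ↔ KL (permPos k a))) := by
    intro k hk a ha ha0
    have ha' := permPos_lt hk ha
    have hp0 := hperm0 k hk a ha ha0
    obtain ⟨φ, h1, h2⟩ := S.zc_delta hF L' (e := 0) hk ha (m := 0) (by norm_num) (by norm_num) (m' := 0) (by norm_num)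
      (by rw [show wv 0 = 0 from ap_zero _ _]; exact (ap_zero _ _).symm)
    simp only [Nat.zero_add, Nat.mul_zero, Nat.add_zero, Nat.one_mod] at h1 h2
    have i0 := hne ha ha0
    have i1 := hne ha' hp0
    obtain ⟨hm0, -⟩ := S.zc_kind hF L' ha ha0
    obtain ⟨-, hkind'⟩ := S.zc_kind hF L' ha' hp0
    refine ⟨?_, ?_, ?_⟩
    · show S.Zc L' (128 * a) ↔ S.Zc L' (128 * permPos k a)
      rcases Nat.mod_two_eq_zero_or_one φ with e | e <;> rw [e] at h1
      · simpa using h1
      · rw [show (1 + φ) % 2 = 0 by omega] at h2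
        simp only [Nat.zero_add] at h2
        exact ⟨fun h => h2.1 (i0 h), fun h => h1.2 (i1 h)⟩
    · show S.Zc L' (1 + 128 * a) ↔ S.Zc L' (1 + 128 * permPos k a)
      rcases Nat.mod_two_eq_zero_or_one φ with e | e <;> rw [e] at h1
      · rw [show (1 + φ) % 2 = 1 by omega] at h2; exact h2
      · rw [show (1 + φ) % 2 = 0 by omega] at h2
        simp only [Nat.zero_add] at h2
        exact ⟨fun h => i1 (h2.1 h), fun h => i0 (h1.2 h)⟩
    · show S.Zc L' (2 * cosetBase.getD a 0 + 128 * a) ↔ _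
      obtain ⟨a1, rfl⟩ : ∃ a1, a = a1 + 1 := ⟨a - 1, by omega⟩
      have hnb := List.all_eq_true.1 (List.all_eq_true.1 norm_base k (List.mem_range.2 hk)) a1 (List.mem_range.2 (by omega))
      simp only [Bool.and_eq_true, decide_eq_true_eq, List.any_eq_true, List.mem_range, Nat.beq_eq, Bool.not_eq_true'] at hnb
      obtain ⟨-, m', hm', ⟨hw, hf0⟩, hf1⟩ := hnb
      obtain ⟨φ', h1', -⟩ := S.zc_delta hF L' (e := 0) hk ha (m := cosetBase.getD (a1 + 1) 0) hm0 (by norm_num) hm' hw
      simp only [Nat.zero_add] at h1'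
      refine h1'.trans ?_
      set E := φ' % 2
      have hE : E < 2 := Nat.mod_lt _ (by norm_num)
      have hx : Nat.xor (E + 2 * m' + 128 * permPos k (a1 + 1)) 1 = (1 - E) + 2 * m' + 128 * permPos k (a1 + 1) := by
        have : ∀ e < 2, ∀ m < 64, ∀ a < 16, Nat.xor (e + 2 * m + 128 * a) 1 = (1 - e) + 2 * m + 128 * a := by decide +kernel
        exact this E hE m' hm' _ ha'
      have hboth : ∀ e < 2, isTc (e + 2 * m' + 128 * permPos k (a1 + 1)) = false := by
        intro e he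
        rcases bit_cases he with rfl | rfl
        · rw [Nat.zero_add]; exact hf0
        · rw [show 1 + 2 * m' + 128 * permPos k (a1 + 1) = 2 * m' + 1 + 128 * permPos k (a1 + 1) by omega]; exact hf1
      exact (hkind' (E + 2 * m') (by omega)).2.2 (hboth E hE) (by rw [hx]; exact hboth (1 - E) (by omega))
  have hw : sqWitness.1 < 16 ∧ sqWitness.1 ≠ 0 := by decide +kernel
  have huni : ∀ a < 16, a ≠ 0 →
      (K0 a ↔ K0 sqWitness.1) ∧ (K1 a ↔ K1 sqWitness.1) ∧ (KL a ↔ KL sqWitness.1) := by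
    intro a ha ha0
    exact (orbit_induction (P := fun a => a ≠ 0 ∧ (K0 a ↔ K0 sqWitness.1) ∧ (K1 a ↔ K1 sqWitness.1) ∧ (KL a ↔ KL sqWitness.1))
      ⟨hw.2, Iff.rfl, Iff.rfl, Iff.rfl⟩ (fun k hk a ha ⟨h0, p0, p1, pL⟩ => by
        obtain ⟨s0, s1, sL⟩ := hstep k hk a ha h0
        exact ⟨hperm0 k hk a ha h0, s0.symm.trans p0, s1.symm.trans p1, sL.symm.trans pL⟩) a ha ha0).2
  refine ⟨L', decide (K0 sqWitness.1), decide (K1 sqWitness.1), decide (KL sqWitness.1),
    fun h => decide_eq_true (hne hw.1 hw.2 (of_decide_eq_true h)), fun c hc => ?_⟩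
  by_cases h0 : c = 0
  · subst h0
    refine ⟨fun h => ?_, fun h => Bool.noConfusion h⟩
    exfalso
    unfold Zc at h
    rw [S.elA_zero hF] at h
    obtain ⟨g, hg⟩ := isConj_iff.1 h
    have hz1 : z = 1 := by
      have : g * z * g⁻¹ = 1 := hg
      exact conj_eq_one_iff.1 this
    have := hF.1.1
    rw [hz1, orderOf_one] at this
    norm_num at this
  have hb0 : Nat.beq c 0 = false := by rw [Bool.eq_false_iff]; exact fun e => h0 (Nat.eq_of_beq_eq_true e)
  unfold classPred
  rw [hb0]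
  simp only [Bool.false_eq_true, if_false]
  by_cases h128 : c < 128
  · rw [if_pos (show Nat.blt c 128 = true from Nat.ble_eq_true_of_le h128)]
    by_cases hc1 : c = 1
    · subst hc1
      refine ⟨fun _ => by decide +kernel, fun _ => ?_⟩
      unfold Zc
      rw [S.elA_one hF, zH_coe hF]
    · have hD := S.zc_D hF L' (m := c / 2) (by omega) (by omega) (e := c % 2) (Nat.mod_lt _ (by norm_num))
      rw [show c % 2 + 2 * (c / 2) = c by omega] at hD
      rw [hD]
      have hTc : isTc c = inSmall 0 (wv (c / 2)) := by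
        have h1 := beq_iff_eq.1 (List.all_eq_true.1 w_ok.1 (c / 2) (List.mem_range.2 (by omega)))
        have h2 := beq_iff_eq.1 (List.all_eq_true.1 w_ok.2 (c / 2) (List.mem_range.2 (by omega)))
        have hn : Nat.beq (c / 2) 0 = false := by
          rw [Bool.eq_false_iff]; exact fun e => by have := Nat.eq_of_beq_eq_true e; omega
        rw [hn, Bool.not_false, Bool.true_and] at h1
        rcases Nat.mod_two_eq_zero_or_one c with e | e
        · rw [← h1, show 2 * (c / 2) = c by omega]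
        · rw [← h1, ← h2, show 2 * (c / 2) + 1 = c by omega]
      rw [hTc, Bool.not_eq_true']
  · rw [if_neg (fun h : Nat.blt c 128 = true => h128 (Nat.le_of_ble_eq_true h))]
    have ha : c / 128 < 16 := by omega
    have ha0 : c / 128 ≠ 0 := by omega
    obtain ⟨-, hkind⟩ := S.zc_kind hF L' ha ha0
    obtain ⟨u0, u1, uL⟩ := huni _ ha ha0
    obtain ⟨kT, kF, kL⟩ := hkind (c % 128) (Nat.mod_lt _ (by norm_num))
    rw [show c % 128 + 128 * (c / 128) = c by omega] at kT kF kL
    cases hT : isTc c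
    · simp only [Bool.false_eq_true, if_false]
      cases hT' : isTc (Nat.xor c 1)
      · simp only [Bool.false_eq_true, if_false, decide_eq_true_eq]
        exact (kL hT hT').trans uL
      · simp only [if_true, decide_eq_true_eq]
        exact (kF hT hT').trans u1
    · simp only [if_true, decide_eq_true_eq]
      exact (kT hT).trans u0

end Setting

end Cfsg.Agent.LargeFischer
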