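/-
The conjugates of the central involution in the subgroup of order 2^11 are 1771 in number.

* `groupG`, `exists_conj_groupA`, `exists_mover`, `classify_A`
-/
import Cfsg.Agent.Lib.LargeFischer.ElemClass

set_option autoImplicit false
set_option maxRecDepth 100000
open Cfsg

namespace Cfsg.Agent.LargeFischer

open LargeExtraspecial

universe u

variable {G : Type u} [Group G] [Finite G] {z : G} {Q : Subgroup (Subgroup.centralizer ({z} : Set G))}
  [Q.Normal] [Fact (Cfsg.IsExtraspecial 2 Q)]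

local notation "HH" => Subgroup.centralizer (Singleton.singleton z : Set G)

/-- The orbit of an element of a subgroup under its normaliser, counted along an enumeration. -/
theorem card_orbit_eq {G : Type u} [Group G] (A : Subgroup G) (a₀ : A) (elt : ℕ → G) (N : ℕ) (P : ℕ → Bool)
    (hmem : ∀ c < N, elt c ∈ A) (hinj : ∀ c < N, ∀ d < N, elt c = elt d → c = d)
    (hsurj : ∀ a ∈ A, ∃ c < N, elt c = a)
    (hfwd : ∀ c < N, P c = true → ∃ y ∈ Subgroup.normalizer (A : Set G), y * (a₀ : G) * y⁻¹ = elt c)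
    (hback : ∀ c < N, ∀ y : G, y * (a₀ : G) * y⁻¹ = elt c → P c = true) :
    Nat.card (MulAction.orbit (A.normalizerMonoidHom).range a₀) = ((List.range N).filter P).length := by
  classical
  have hlen : ((List.range N).filter P).length = ((Finset.range N).filter fun c => P c = true).card := by
    rw [← List.toFinset_card_of_nodup (List.nodup_range.filter _)]
    congr 1
    ext; simp
  rw [hlen, ← Nat.card_eq_finsetCard]
  have hc : ∀ c : ((Finset.range N).filter fun c => P c = true), c.1 < N ∧ P c.1 = true := fun c =>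
    ⟨Finset.mem_range.1 (Finset.mem_filter.1 c.2).1, (Finset.mem_filter.1 c.2).2⟩
  refine (Nat.card_eq_of_bijective (fun c : ((Finset.range N).filter fun c => P c = true) =>
    (⟨⟨elt c.1, hmem c.1 (hc c).1⟩, ?_⟩ : MulAction.orbit (A.normalizerMonoidHom).range a₀)) ⟨fun c d e => ?_, fun w => ?_⟩).symm
  · obtain ⟨y, hy, hye⟩ := hfwd c.1 (hc c).1 (hc c).2
    exact ⟨⟨A.normalizerMonoidHom ⟨y, hy⟩, ⟨_, rfl⟩⟩, Subtype.ext hye⟩
  · exact Subtype.ext (hinj _ (hc c).1 _ (hc d).1 (congrArg (fun w => ((w.1 : A) : G)) e))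
  · obtain ⟨⟨w, hw⟩, ⟨⟨_, y, rfl⟩, hy⟩⟩ := w
    obtain ⟨c, hc', rfl⟩ := hsurj w hw
    exact ⟨⟨c, Finset.mem_filter.2 ⟨Finset.mem_range.2 hc', hback c hc' _ (congrArg Subtype.val hy)⟩⟩,
      Subtype.ext (Subtype.ext rfl)⟩

namespace Setting

variable (S : Setting z Q) (hF : Cfsg.IsOfLargeFischerTypeAt z Q)
include S

/-- The subgroup of order 2^11 inside the group. -/
noncomputable def groupG : Subgroup G := S.groupA.map (Subgroup.centralizer ({z} : Set G)).subtype

include hF

/-- Every elementary abelian subgroup of order at least 2^11 in the centraliser is conjugate to the given one. -/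
theorem exists_conj_groupA {E : Subgroup HH} (hsq : ∀ a ∈ E, a * a = 1) (hcard : 2 ^ 11 ≤ Nat.card E) :
    ∃ h : HH, E.map (MulAut.conj h).toMonoidHom = S.groupA := by
  classical
  obtain ⟨T₀, hT₀, -, -, huniq, -⟩ := S.sylow_facts hF
  obtain ⟨P, hP⟩ := (IsPGroup.of_card (p := 2) (n := 21) hT₀).exists_le_sylow
  have hPT : (P : Subgroup HH) = T₀ := by
    refine (Subgroup.eq_of_le_of_card_ge hP ?_).symm
    obtain ⟨k, hk⟩ := P.2.exists_card_eq
    rw [hk, hT₀]
    refine Nat.pow_le_pow_right (by norm_num) ?_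
    have hcardH : Nat.card HH = 2 ^ 21 * 76545 := by
      obtain ⟨hker, hr, -⟩ := exists_frame hF
      rw [Subgroup.card_eq_card_quotient_mul_card_subgroup (toGL Q).ker,
        Nat.card_congr (QuotientGroup.quotientKerEquivRange _).toEquiv, hr, hker, hF.1.2.2.2.1]
      norm_num
    have hd := Subgroup.card_subgroup_dvd_card (P : Subgroup HH)
    rw [hk, hcardH] at hd
    exact (Nat.pow_dvd_pow_iff_le_right one_lt_two).1
      (((Nat.Coprime.pow_left k (by norm_num : Nat.Coprime 2 76545))).dvd_of_dvd_mul_right hd)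
  have hE : IsPGroup 2 E := fun a => ⟨1, Subtype.ext (by rw [pow_one, pow_two]; exact hsq a a.2)⟩
  obtain ⟨R, hR⟩ := hE.exists_le_sylow
  obtain ⟨h, hh⟩ := MulAction.exists_smul_eq HH R P
  refine ⟨h, huniq _ ?_ ?_ ?_⟩
  · rw [← hPT, ← hh]
    exact Subgroup.map_mono hR
  · rintro _ ⟨a, ha, rfl⟩; rw [← map_mul, hsq a ha, map_one]
  · rwa [← Nat.card_congr (Subgroup.equivMapOfInjective E _ (MulAut.conj h).injective).toEquiv]

theorem mem_groupG {a : G} (L : S.Lifts) :
    a ∈ S.groupG ↔ ∃ c < 2048, ((S.elA L c : HH) : G) = a := by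
  constructor
  · rintro ⟨b, hb, rfl⟩
    obtain ⟨c, hc, rfl⟩ := S.elA_surj hF L hb
    exact ⟨c, hc, rfl⟩
  · rintro ⟨c, hc, rfl⟩
    exact ⟨_, S.elA_mem hF L hc, rfl⟩

theorem groupG_card : Nat.card S.groupG = 2 ^ 11 := by
  rw [groupG, Subgroup.card_subtype, S.groupA_card hF]

theorem groupG_comm {a b : G} (ha : a ∈ S.groupG) (hb : b ∈ S.groupG) : a * b = b * a := by
  obtain ⟨x, hx, rfl⟩ := ha
  obtain ⟨y, hy, rfl⟩ := hb
  exact congrArg Subtype.val (S.groupA_comm hF hx hy)

theorem z_mem_groupG : z ∈ S.groupG := ⟨_, S.zH_mem hF, zH_coe hF⟩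

/-- A conjugate of z in the subgroup is an image of z under the normaliser. -/
theorem exists_mover {s : G} (hs : s ∈ S.groupG) (h : IsConj z s) :
    ∃ y ∈ Subgroup.normalizer (S.groupG : Set G), y * z * y⁻¹ = s := by
  classical
  haveI : Fintype G := Fintype.ofFinite G
  obtain ⟨g, hg⟩ := isConj_iff.1 h
  have hle : S.groupG ≤ (Subgroup.centralizer ({z} : Set G)).map (MulAut.conj g).toMonoidHom := by
    intro a ha
    refine ⟨g⁻¹ * a * g, Subgroup.mem_centralizer_singleton_iff.2 ?_, by simp [mul_assoc]⟩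
    have hc := S.groupG_comm hF ha hs
    rw [← hg] at hc
    calc g⁻¹ * a * g * z = g⁻¹ * (a * (g * z * g⁻¹)) * g := by simp [mul_assoc]
      _ = z * (g⁻¹ * a * g) := by rw [hc]; simp [mul_assoc]
  let E : Subgroup HH := (S.groupG.map (MulAut.conj g⁻¹).toMonoidHom).subgroupOf (Subgroup.centralizer ({z} : Set G))
  have hEle : S.groupG.map (MulAut.conj g⁻¹).toMonoidHom ≤ Subgroup.centralizer ({z} : Set G) := by
    rintro _ ⟨a, ha, rfl⟩
    obtain ⟨b, hb, e⟩ := hle ha
    rw [← e]
    simpa [mul_assoc] using hb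
  have hEcard : Nat.card E = 2 ^ 11 := by
    rw [Nat.card_congr (Subgroup.subgroupOfEquivOfLe hEle).toEquiv,
      ← Nat.card_congr (Subgroup.equivMapOfInjective _ _ (MulAut.conj g⁻¹).injective).toEquiv, S.groupG_card hF]
  have hEsq : ∀ a ∈ E, a * a = 1 := by
    rintro a ha
    obtain ⟨b, ⟨c, hc, rfl⟩, e⟩ := Subgroup.mem_subgroupOf.1 ha
    refine Subtype.ext ?_
    rw [Subgroup.coe_mul, ← e, ← map_mul, show (Subgroup.centralizer ({z} : Set G)).subtype c * _ = _ from (map_mul _ c c).symm,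
      S.groupA_sq hF hc, map_one, map_one]
    rfl
  obtain ⟨k, hk⟩ := S.exists_conj_groupA hF hEsq hEcard.ge
  refine ⟨g * (k : G)⁻¹, ?_, ?_⟩
  · have e : S.groupG = S.groupG.map (MulAut.conj ((k : G) * g⁻¹)).toMonoidHom := by
      conv_lhs => rw [groupG, ← hk]
      rw [Subgroup.map_map, show (Subgroup.centralizer ({z} : Set G)).subtype.comp (MulAut.conj k).toMonoidHom =
        (MulAut.conj (k : G)).toMonoidHom.comp (Subgroup.centralizer ({z} : Set G)).subtype from MonoidHom.ext fun _ => rfl,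
        ← Subgroup.map_map, Subgroup.map_subgroupOf_eq_of_le hEle, Subgroup.map_map]
      congr 1
      exact MonoidHom.ext fun a => by simp [mul_assoc]
    have hN : (k : G) * g⁻¹ ∈ Subgroup.normalizer (S.groupG : Set G) := by
      refine Subgroup.mem_normalizer_fintype fun n hn => ?_
      show ((k : G) * g⁻¹) * n * ((k : G) * g⁻¹)⁻¹ ∈ S.groupG
      exact e.symm ▸ Subgroup.mem_map_of_mem _ hn
    have := inv_mem hN
    rwa [mul_inv_rev, inv_inv] at this
  · have hkz : (k : G) * z = z * (k : G) := Subgroup.mem_centralizer_singleton_iff.1 k.2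
    calc g * (k : G)⁻¹ * z * (g * (k : G)⁻¹)⁻¹ = g * ((k : G)⁻¹ * (z * (k : G))) * g⁻¹ := by simp [mul_assoc]
      _ = s := by rw [← hkz, inv_mul_cancel_left, hg]

/-- Exactly the noncentral class is left out. -/
theorem classify_A : ∃ L : S.Lifts, ∀ c < 2048, S.Zc L c ↔ (c ≠ 0 ∧ isTc c = false) := by
  classical
  obtain ⟨L₀⟩ := S.exists_lifts hF
  obtain ⟨L, b0, b1, bL, himp, hcl⟩ := S.classes_uniform hF
  refine ⟨L, fun c hc => ?_⟩
  obtain ⟨R, hR⟩ : ∃ R, R = (S.groupG.normalizerMonoidHom).range := ⟨_, rfl⟩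
  obtain ⟨zA, hzA⟩ : ∃ zA : S.groupG, (zA : G) = z := ⟨⟨z, S.z_mem_groupG hF⟩, rfl⟩
  have horb : Nat.card (MulAction.orbit R zA) = ((List.range 2048).filter (classPred b0 b1 bL)).length := by
    subst hR
    refine card_orbit_eq S.groupG zA (fun c => ((S.elA L c : HH) : G)) 2048 (classPred b0 b1 bL)
      (fun c hc => (S.mem_groupG hF L).2 ⟨c, hc, rfl⟩)
      (fun c hc d hd e => S.elA_inj hF L hc hd (Subtype.ext e)) (fun a ha => (S.mem_groupG hF L).1 ha) ?_ ?_
    · intro c hc hP
      rw [hzA]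
      exact S.exists_mover hF ((S.mem_groupG hF L).2 ⟨c, hc, rfl⟩) ((hcl c hc).2 hP)
    · intro c hc y hy
      rw [hzA] at hy
      exact (hcl c hc).1 (isConj_iff.2 ⟨y, hy⟩)
  have hdvd : Nat.card (MulAction.orbit R zA) ∣ Nat.card R := by
    rw [Nat.card_congr (MulAction.orbitEquivQuotientStabilizer R zA)]
    exact Subgroup.card_quotient_dvd_card _
  rw [horb] at hdvd
  obtain ⟨n1, n2, n3, n4, n5, n6, hpred⟩ := pred_counts
  have hno := fun p (hp : p ∈ [13, 1531, 331, 571, 2011]) => not_dvd_card_aut (S.groupG_card hF) R hp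
  have hvals : b0 = false ∧ b1 = true ∧ bL = true := by
    cases b0 <;> cases b1 <;> cases bL
    · rw [n1] at hdvd; exact absurd (dvd_trans (by norm_num) hdvd) (hno 13 (by simp))
    · rw [n2] at hdvd; exact absurd hdvd (hno 1531 (by simp))
    · rw [n3] at hdvd; exact absurd hdvd (hno 331 (by simp))
    · exact ⟨rfl, rfl, rfl⟩
    · exact Bool.noConfusion (himp rfl)
    · exact Bool.noConfusion (himp rfl)
    · rw [n5] at hdvd; exact absurd hdvd (hno 571 (by simp))
    · rw [n6] at hdvd; exact absurd hdvd (hno 2011 (by simp))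
  obtain ⟨rfl, rfl, rfl⟩ := hvals
  rw [hcl c hc, beq_iff_eq.1 (List.all_eq_true.1 hpred c (List.mem_range.2 hc)), Bool.and_eq_true,
    Bool.not_eq_true', Bool.not_eq_true']
  exact and_congr_left' ⟨fun h e => by subst e; exact Bool.noConfusion h,
    fun h => Bool.eq_false_iff.2 fun e => h (Nat.eq_of_beq_eq_true e)⟩

end Setting

end Cfsg.Agent.LargeFischer
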