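/-
Multiplication in the subgroup of order 2^11, in coordinates.

* `exists_delta_lift`, `eps_values`, `elA_mul`, `exists_linear`
-/
import Cfsg.Agent.Lib.LargeFischer.ElemMover

set_option autoImplicit false
set_option maxRecDepth 100000
open Cfsg

namespace Cfsg.Agent.LargeFischer

open LargeExtraspecial

universe u

theorem code_low : ∀ p < 128, ∀ q < 128, ∀ e < 2,
    Nat.xor (Nat.xor p q) e < 128 ∧ Nat.xor (Nat.xor p q) e % 2 = (p % 2 + q % 2 + e) % 2 ∧
      Nat.xor (Nat.xor p q) e / 2 = Nat.xor (p / 2) (q / 2) := by decide +kernel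

theorem pos_facts : (∀ a < 16, ∀ b < 16, posMul a b = posMul b a ∧ posMul a (posMul a b) = b) ∧
    (∀ k < 2, ∀ a < 16, ∀ b < 16, permPos k (posMul a b) = posMul (permPos k a) (permPos k b)) ∧
    (∀ a < 16, a ≠ 0 → isTc (128 * a) = true ∧ isTc (1 + 128 * a) = false) ∧
    ∀ k < 2, permPos k 0 = 0 := by decide +kernel

theorem dN_three : ((List.range 2).all fun k => (List.range 4096).all fun x =>
    Nat.beq (dN k (dN k (dN k x))) x) = true := by decide +kernel

theorem dN_fix : ((List.range 2).all fun k => (List.range 64).all fun m =>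
    (List.range 64).any fun m' => Nat.beq (wv m') (dN k (wv m))) = true := by decide +kernel

theorem cmul_spec {x y : ℕ} (hx : x < 2) (hy : y < 2) {c d : ℕ} (hc : c < 2048) (hd : d < 2048) :
    cmul x y c d < 2048 ∧
    cmul x y c d % 2 = (c % 2 + d % 2 + epsW x y (c / 128) (d / 128)) % 2 ∧
    cmul x y c d / 2 % 64 = Nat.xor (c / 2 % 64) (d / 2 % 64) ∧
    cmul x y c d / 128 = posMul (c / 128) (d / 128) := by
  have he : epsW x y (c / 128) (d / 128) < 2 := by unfold epsW; split_ifs <;> omega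
  have hp := (posMul_spec (a := c / 128) (b := d / 128) (by omega) (by omega)).1
  obtain ⟨h1, h2, h3⟩ := code_low (c % 128) (Nat.mod_lt _ (by norm_num)) (d % 128) (Nat.mod_lt _ (by norm_num)) _ he
  have hcd : Nat.land (Nat.xor c d) 127 = Nat.xor (c % 128) (d % 128) := by
    show (c ^^^ d) &&& (2 ^ 7 - 1) = (c % 128) ^^^ (d % 128)
    rw [Nat.and_two_pow_sub_one_eq_mod, Nat.xor_mod_two_pow]
  have e : cmul x y c d =
      Nat.xor (Nat.xor (c % 128) (d % 128)) (epsW x y (c / 128) (d / 128)) + 128 * posMul (c / 128) (d / 128) := by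
    have hc' : cpos c = c / 128 := Nat.shiftRight_eq_div_pow c 7
    have hd' : cpos d = d / 128 := Nat.shiftRight_eq_div_pow d 7
    show Nat.xor (Nat.land (Nat.xor c d) 127) (epsW x y (cpos c) (cpos d)) +
      (posMul (cpos c) (cpos d)) <<< 7 = _
    rw [hcd, hc', hd', Nat.shiftLeft_eq]
    omega
  rw [e]
  set K := Nat.xor (Nat.xor (c % 128) (d % 128)) (epsW x y (c / 128) (d / 128))
  rw [show c % 128 % 2 = c % 2 by omega, show d % 128 % 2 = d % 2 by omega] at h2
  rw [show c % 128 / 2 = c / 2 % 64 by omega, show d % 128 / 2 = d / 2 % 64 by omega] at h3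
  refine ⟨by omega, by omega, ?_, by omega⟩
  rw [← h3]; omega

variable {G : Type u} [Group G] [Finite G] {z : G} {Q : Subgroup (Subgroup.centralizer ({z} : Set G))}
  [Q.Normal] [Fact (Cfsg.IsExtraspecial 2 Q)]

local notation "HH" => Subgroup.centralizer (Singleton.singleton z : Set G)

namespace Setting

variable (S : Setting z Q) (hF : Cfsg.IsOfLargeFischerTypeAt z Q) (L : S.Lifts)
include S hF

omit S hF in
theorem zH_ne : zH Q ≠ 1 := fun e => OutForm.zeta_ne (Subtype.ext e)

omit S hF in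
theorem zH_pow_inj {i j : ℕ} (hi : i < 2) (hj : j < 2) (e : zH Q ^ i = zH Q ^ j) : i = j := by
  have hne : zH Q ≠ 1 := fun e => OutForm.zeta_ne (Subtype.ext e)
  interval_cases i <;> interval_cases j <;> simp_all

theorem elA_f (a : ℕ) (e : ℕ) (he : e < 2) : S.elA L (e + 128 * a) = zH Q ^ e * L.f a := by
  unfold elA
  rw [show (e + 128 * a) % 2 = e by omega, show (e + 128 * a) / 2 % 64 = 0 by omega,
    show (e + 128 * a) / 128 = a by omega, show wv 0 = 0 from ap_zero _ _, S.C.M.zero, S.sv_zero hF]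
  simp

/-- The cocycle of the chosen lifts. -/
theorem exists_eps {a b : ℕ} (ha : a < 16) (hb : b < 16) :
    ∃ e < 2, L.f a * L.f b = zH Q ^ e * L.f (posMul a b) := by
  have hp := (posMul_spec ha hb).1
  rcases S.lift_eq hF (L.comm _ hp)
    (show L.f a * L.f b * S.x = S.x * (L.f a * L.f b) by
      rw [mul_assoc, L.comm b hb, ← mul_assoc, L.comm a ha, mul_assoc])
    (by rw [L.map _ hp, map_mul, L.map a ha, L.map b hb, bR_mul S.C.M ha hb]) with h | h
  · exact ⟨0, by norm_num, by rw [h, pow_zero, one_mul]⟩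
  · exact ⟨1, by norm_num, by rw [h, pow_one, zH_comm hF]⟩

variable (hL : ∀ c < 2048, S.Zc L c ↔ (c ≠ 0 ∧ isTc c = false))
include hL

/-- The lifts of the two normalising elements permute the lifts. -/
theorem exists_delta_lift {k : ℕ} (hk : k < 2) :
    ∃ δ d, (∀ a < 16, δ * bR S.C.M a * δ⁻¹ = bR S.C.M (permPos k a)) ∧ δ * S.n = S.n * δ ∧
      toGL Q d = δ ∧ δ * δ * δ = 1 ∧ (∀ a < 16, d * L.f a * d⁻¹ = L.f (permPos k a)) ∧
      ∀ c ∈ S.groupA, d * c * d⁻¹ ∈ S.groupA := by
  classical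
  obtain ⟨hker, hcard, -⟩ := exists_frame hF
  obtain ⟨δ, hδ, hδn, hδe, hδb⟩ := exists_delta S.C hcard hk
  obtain ⟨d, hd, hdx⟩ := exists_commuting_lift hF S.n_fix S.x_map S.x_three hδ hδn
  have hexact : ∀ a < 16, d * L.f a * d⁻¹ = L.f (permPos k a) := by
    intro a ha
    have ha' := permPos_lt hk ha
    by_cases h0 : a = 0
    · subst h0; rw [(pos_facts.2.2.2) k hk, L.zero]; simp
    have hconjx : d * L.f a * d⁻¹ * S.x = S.x * (d * L.f a * d⁻¹) := by
      have hdi : d⁻¹ * S.x = S.x * d⁻¹ := by rw [inv_mul_eq_iff_eq_mul, ← mul_assoc, hdx, mul_inv_cancel_right]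
      rw [mul_assoc _ _ S.x, hdi, ← mul_assoc, mul_assoc d, L.comm a ha, ← mul_assoc d, hdx]
      simp [mul_assoc]
    rcases S.lift_eq hF (L.comm _ ha') hconjx
      (by rw [L.map _ ha', map_mul, map_mul, map_inv, hd, L.map a ha, hδb a ha]) with h | h
    · exact h
    · exfalso
      have hp0 : permPos k a ≠ 0 := by
        have : ∀ k < 2, ∀ a < 16, a ≠ 0 → permPos k a ≠ 0 := by decide +kernel
        exact this k hk a ha h0
      obtain ⟨-, -, hbase, -⟩ := pos_facts
      have h1 : ¬ S.Zc L (128 * a) := fun hz => by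
        have := ((hL _ (by omega)).1 hz).2
        rw [(hbase a ha h0).1] at this
        exact Bool.noConfusion this
      have h2 : S.Zc L (1 + 128 * permPos k a) := (hL _ (by omega)).2 ⟨by omega, (hbase _ ha' hp0).2⟩
      refine h1 ((S.zc_conj hF L d ?_).2 h2)
      have e0 := S.elA_f hF L a 0 (by norm_num)
      rw [Nat.zero_add, pow_zero, one_mul] at e0
      rw [e0, S.elA_f hF L _ 1 (by norm_num), h, pow_one, zH_comm hF]
  have h3 : δ * δ * δ = 1 := LinearEquiv.ext fun v => by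
    obtain ⟨x, hx, rfl⟩ := S.C.M.surj v
    show δ (δ (δ (S.C.M.e x))) = S.C.M.e x
    rw [hδe x hx, hδe _ (dN_lt _ _), hδe _ (dN_lt _ _),
      Nat.eq_of_beq_eq_true (List.all_eq_true.1 (List.all_eq_true.1 dN_three k (List.mem_range.2 hk)) x (List.mem_range.2 hx))]
  refine ⟨δ, d, hδb, hδn, hd, h3, hexact, fun c hc => ?_⟩
  obtain ⟨c, hc', rfl⟩ := S.elA_surj hF L hc
  obtain ⟨m', hm', hw⟩ : ∃ m' < 64, wv m' = dN k (wv (c / 2 % 64)) := by
    have h := List.all_eq_true.1 (List.all_eq_true.1 dN_fix k (List.mem_range.2 hk)) (c / 2 % 64)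
      (List.mem_range.2 (Nat.mod_lt _ (by norm_num)))
    simpa [List.any_eq_true] using h
  have hsv := S.lift_sv hF hdx (by rw [hd]; exact hδn) (S.C.M.e (wv (c / 2 % 64)))
  rw [hd, hδe _ (wv_lt _), ← hw] at hsv
  have e : d * S.elA L c * d⁻¹ =
      zH Q ^ (c % 2) * (S.sv (S.C.M.e (wv m')) : HH) * L.f (permPos k (c / 128)) := by
    rw [← hsv, ← hexact _ (by omega)]
    unfold elA
    rw [← mul_assoc d, ← mul_assoc d, ← zH_pow_comm hF (c % 2) d]
    simp [mul_assoc]
  rw [e]
  exact mul_mem (mul_mem (pow_mem (S.zH_mem hF) _) (S.groupD_le (S.sv_mem (mem_wSet.2 ⟨m', hm', rfl⟩)) hF))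
    (S.lifts_mem hF L (permPos_lt hk (by omega)))

/-- The cocycle has two values. -/
theorem eps_values : ∃ x < 2, ∃ y < 2, ∀ a < 16, ∀ b < 16,
    L.f a * L.f b = zH Q ^ epsW x y a b * L.f (posMul a b) := by
  classical
  have hex : ∀ a b, ∃ e, a < 16 → b < 16 → e < 2 ∧ L.f a * L.f b = zH Q ^ e * L.f (posMul a b) := by
    intro a b
    by_cases h : a < 16 ∧ b < 16
    · obtain ⟨e, he, h'⟩ := S.exists_eps hF L h.1 h.2
      exact ⟨e, fun _ _ => ⟨he, h'⟩⟩
    · exact ⟨0, fun ha hb => absurd ⟨ha, hb⟩ h⟩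
  choose E hE using hex
  obtain ⟨hpos, hperm, -, -⟩ := pos_facts
  have huniq : ∀ {a b e}, a < 16 → b < 16 → e < 2 → L.f a * L.f b = zH Q ^ e * L.f (posMul a b) → E a b = e :=
    fun ha hb he h => zH_pow_inj (hE _ _ ha hb).1 he (mul_right_cancel ((hE _ _ ha hb).2.symm.trans h))
  have hA : ∀ {a}, a < 16 → L.f a ∈ S.groupA := fun ha => S.lifts_mem hF L ha
  have hsym : ∀ a b, a < 16 → b < 16 → E a b = E b a := fun a b ha hb =>
    huniq ha hb (hE b a hb ha).1 (by
      rw [S.groupA_comm hF (hA ha) (hA hb), (hE b a hb ha).2, (hpos b hb a ha).1])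
  have hline : ∀ a b, a < 16 → b < 16 → E a (posMul a b) = E a b := by
    intro a b ha hb
    refine huniq ha (posMul_spec ha hb).1 (hE a b ha hb).1 ?_
    rw [(hpos a ha b hb).2]
    have h := (hE a b ha hb).2
    have h2 : L.f (posMul a b) = zH Q ^ E a b * (L.f a * L.f b) := by
      rw [h, ← mul_assoc, ← pow_add, zH_pow, show (E a b + E a b) % 2 = 0 by omega, pow_zero, one_mul]
    rw [h2, ← mul_assoc, ← zH_pow_comm hF, mul_assoc, ← mul_assoc (L.f a), S.groupA_sq hF (hA ha), one_mul]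
  have hdelta : ∀ k, k < 2 → ∀ a b, a < 16 → b < 16 → E (permPos k a) (permPos k b) = E a b := by
    intro k hk a b ha hb
    obtain ⟨δ, d, -, -, -, -, hd, -⟩ := S.exists_delta_lift hF L hL hk
    refine huniq (permPos_lt hk ha) (permPos_lt hk hb) (hE a b ha hb).1 ?_
    rw [← hperm k hk a ha b hb, ← hd a ha, ← hd b hb, ← hd _ (posMul_spec ha hb).1]
    calc d * L.f a * d⁻¹ * (d * L.f b * d⁻¹) = d * (L.f a * L.f b) * d⁻¹ := by simp [mul_assoc]
      _ = d * (zH Q ^ E a b * L.f (posMul a b)) * d⁻¹ := by rw [(hE a b ha hb).2]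
      _ = _ := by rw [← mul_assoc d, ← zH_pow_comm hF (E a b) d]; simp [mul_assoc]
  obtain ⟨hsteps, hcov⟩ := pairs_ok
  simp only [List.all_eq_true, List.mem_range] at hsteps
  set x := E 1 2
  set y := E 1 6
  have hx : x < 2 := (hE 1 2 (by norm_num) (by norm_num)).1
  have hy : y < 2 := (hE 1 6 (by norm_num) (by norm_num)).1
  have hl16 : ∀ p, Nat.land p 15 < 16 := fun p => Nat.lt_succ_of_le Nat.and_le_right
  have key : ∀ j < 210,
      E (Nat.land (pairSteps.getD j 0) 15) (Nat.land (Nat.shiftRight (pairSteps.getD j 0) 4) 15) =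
        if Nat.beq (pairO (Nat.land (pairSteps.getD j 0) 15) (Nat.land (Nat.shiftRight (pairSteps.getD j 0) 4) 15)) 0
          then x else y := by
    intro j
    induction j using Nat.strong_induction_on with
    | _ j ih =>
      intro hj
      have h := hsteps j hj
      obtain ⟨p, hp⟩ : ∃ p, pairSteps.getD j 0 = p := ⟨_, rfl⟩
      rw [hp] at h ⊢
      obtain ⟨a, ha⟩ : ∃ a, Nat.land p 15 = a := ⟨_, rfl⟩
      obtain ⟨b, hb⟩ : ∃ b, Nat.land (Nat.shiftRight p 4) 15 = b := ⟨_, rfl⟩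
      obtain ⟨i, hi⟩ : ∃ i, Nat.land (Nat.shiftRight p 8) 255 = i := ⟨_, rfl⟩
      obtain ⟨k, hk⟩ : ∃ k, Nat.shiftRight p 16 = k := ⟨_, rfl⟩
      have ha16 : a < 16 := ha ▸ hl16 _
      have hb16 : b < 16 := hb ▸ hl16 _
      rw [ha, hb, hi, hk] at h
      rw [ha, hb]
      by_cases h4 : k = 4
      · rw [if_pos (by rw [h4]; rfl)] at h
        simp only [Bool.or_eq_true, Bool.and_eq_true, Nat.beq_eq] at h
        rcases h with ⟨⟨rfl, rfl⟩, h0⟩ | ⟨⟨rfl, rfl⟩, h0⟩
        · rw [if_pos (by rw [h0]; rfl)]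
        · rw [if_neg (by rw [h0]; exact Bool.false_ne_true)]
      · rw [if_neg (fun e => h4 (Nat.eq_of_beq_eq_true e))] at h
        rw [Bool.and_eq_true, Bool.and_eq_true, decide_eq_true_eq, Nat.beq_eq] at h
        obtain ⟨⟨hij, hO⟩, hmove⟩ := h
        have hprev := ih i hij (by omega)
        obtain ⟨a', ha'⟩ : ∃ a', Nat.land (pairSteps.getD i 0) 15 = a' := ⟨_, rfl⟩
        obtain ⟨b', hb'⟩ : ∃ b', Nat.land (Nat.shiftRight (pairSteps.getD i 0) 4) 15 = b' := ⟨_, rfl⟩
        have ha16' : a' < 16 := ha' ▸ hl16 _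
        have hb16' : b' < 16 := hb' ▸ hl16 _
        rw [ha', hb'] at hprev hO hmove
        rw [hO, ← hprev]
        by_cases h2 : k = 2
        · rw [if_pos (by rw [h2]; rfl), Bool.and_eq_true, Nat.beq_eq, Nat.beq_eq] at hmove
          rw [hmove.1, hmove.2]; exact hsym _ _ hb16' ha16'
        rw [if_neg (fun e => h2 (Nat.eq_of_beq_eq_true e))] at hmove
        by_cases h3 : k = 3
        · rw [if_pos (by rw [h3]; rfl), Bool.and_eq_true, Nat.beq_eq, Nat.beq_eq] at hmove
          rw [hmove.1, hmove.2]; exact hline _ _ ha16' hb16'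
        rw [if_neg (fun e => h3 (Nat.eq_of_beq_eq_true e)), Bool.and_eq_true, Bool.and_eq_true, decide_eq_true_eq,
          Nat.beq_eq, Nat.beq_eq] at hmove
        obtain ⟨⟨hk2, e1⟩, e2⟩ := hmove
        rw [e1, e2]; exact hdelta k hk2 a' b' ha16' hb16'
  refine ⟨x, hx, y, hy, fun a ha b hb => ?_⟩
  suffices h : E a b = epsW x y a b by rw [← h]; exact (hE a b ha hb).2
  unfold epsW
  by_cases h0 : (Nat.beq a 0 || Nat.beq b 0 || Nat.beq a b) = true
  · rw [if_pos h0]
    simp only [Bool.or_eq_true, Nat.beq_eq] at h0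
    refine huniq ha hb (by norm_num) ?_
    rw [pow_zero, one_mul]
    rcases h0 with (rfl | rfl) | rfl
    · rw [L.zero, one_mul, (posMul_self hb).2.1]
    · rw [L.zero, mul_one, (posMul_self ha).2.2]
    · rw [S.groupA_sq hF (hA ha), (posMul_self ha).1, L.zero]
  · rw [if_neg h0]
    simp only [Bool.or_eq_true, Nat.beq_eq, not_or] at h0
    obtain ⟨⟨ha0, hb0⟩, hab⟩ := h0
    obtain ⟨a1, rfl⟩ : ∃ a1, a = a1 + 1 := ⟨a - 1, by omega⟩
    obtain ⟨b1, rfl⟩ : ∃ b1, b = b1 + 1 := ⟨b - 1, by omega⟩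
    have h := List.all_eq_true.1 (List.all_eq_true.1 hcov a1 (List.mem_range.2 (by omega))) b1
      (List.mem_range.2 (by omega))
    simp only [Bool.or_eq_true, Nat.beq_eq, List.any_eq_true, Bool.and_eq_true] at h
    rcases h with h | ⟨p, hp, e1, e2⟩
    · omega
    · obtain ⟨j, hj, rfl⟩ := List.getElem_of_mem hp
      have hlen : pairSteps.length = 210 := by decide +kernel
      have := key j (hlen ▸ hj)
      rwa [List.getD_eq_getElem _ _ hj, e1, e2] at this

/-- The product of two elements in coordinates. -/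
theorem elA_mul {x y : ℕ} (hx : x < 2) (hy : y < 2)
    (heps : ∀ a < 16, ∀ b < 16, L.f a * L.f b = zH Q ^ epsW x y a b * L.f (posMul a b)) {c d : ℕ}
    (hc : c < 2048) (hd : d < 2048) : S.elA L c * S.elA L d = S.elA L (cmul x y c d) := by
  classical
  obtain ⟨-, h2, h3, h4⟩ := cmul_spec hx hy hc hd
  unfold elA
  rw [h2, h3, h4, ← zH_pow (c % 2 + d % 2 + epsW x y (c / 128) (d / 128)), pow_add, pow_add]
  set A1 := L.f (c / 128)
  set A2 := L.f (d / 128)
  set w1 := S.C.M.e (wv (c / 2 % 64))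
  set w2 := S.C.M.e (wv (d / 2 % 64))
  have hw : S.sv (S.C.M.e (wv (Nat.xor (c / 2 % 64) (d / 2 % 64)))) = S.sv w1 * S.sv w2 := by
    rw [show Nat.xor (c / 2 % 64) (d / 2 % 64) = (c / 2 % 64) ^^^ (d / 2 % 64) from rfl, wv_xor,
      S.C.M.add _ (wv_lt _) _ (wv_lt _), S.sv_add hF (S.wv_mem _) (S.wv_mem _)]
  rw [hw, Subgroup.coe_mul]
  have hm1 : (S.sv w1 : HH) ∈ S.groupA := S.groupD_le (S.sv_mem (S.wv_mem _)) hF
  have hm2 : (S.sv w2 : HH) ∈ S.groupA := S.groupD_le (S.sv_mem (S.wv_mem _)) hF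
  have hA1 : A1 ∈ S.groupA := S.lifts_mem hF L (by omega)
  calc zH Q ^ (c % 2) * (S.sv w1 : HH) * A1 * (zH Q ^ (d % 2) * (S.sv w2 : HH) * A2)
      = zH Q ^ (c % 2) * ((S.sv w1 : HH) * A1) * (zH Q ^ (d % 2) * ((S.sv w2 : HH) * A2)) := by
        simp only [mul_assoc]
    _ = zH Q ^ (c % 2) * zH Q ^ (d % 2) * ((S.sv w1 : HH) * (A1 * (S.sv w2 : HH)) * A2) := by
        rw [mul_assoc (zH Q ^ (c % 2)), ← mul_assoc ((S.sv w1 : HH) * A1), ← zH_pow_comm hF (d % 2)]
        simp only [mul_assoc]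
    _ = zH Q ^ (c % 2) * zH Q ^ (d % 2) * (((S.sv w1 : HH) * (S.sv w2 : HH)) * (A1 * A2)) := by
        rw [S.groupA_comm hF hA1 hm2]; simp only [mul_assoc]
    _ = _ := by
        rw [heps _ (by omega) _ (by omega), ← mul_assoc ((S.sv w1 : HH) * (S.sv w2 : HH)),
          ← zH_pow_comm hF (epsW x y (c / 128) (d / 128)) ((S.sv w1 : HH) * (S.sv w2 : HH))]
        simp only [mul_assoc]

set_option maxHeartbeats 1000000 in
/-- The coordinates are linear after a change. -/
theorem exists_linear : ∃ ℓ : ℕ → G,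
    (∀ y < 2048, ℓ y ∈ S.groupG) ∧ (∀ a ∈ S.groupG, ∃ y < 2048, ℓ y = a) ∧
    (∀ y < 2048, ∀ y' < 2048, ℓ y = ℓ y' → y = y') ∧
    (∀ y < 2048, ∀ y' < 2048, ℓ (Nat.xor y y') = ℓ y * ℓ y') ∧
    ∀ y < 2048, isTL y = true ↔ y ≠ 0 ∧ ¬ IsConj z (ℓ y) := by
  classical
  obtain ⟨x, hx, y, hy, heps⟩ := S.eps_values hF L hL
  have hmul := fun {c d} (hc : c < 2048) (hd : d < 2048) => S.elA_mul hF L hL hx hy heps hc hd
  have hT : ∀ c < 2048, isTc c = true ↔ c ≠ 0 ∧ ¬ S.Zc L c := by
    intro c hc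
    rw [hL c hc]
    refine ⟨fun h => ⟨fun e => ?_, fun h' => ?_⟩, fun ⟨h0, h⟩ => ?_⟩
    · rw [e, class_sizes.2.1] at h; exact Bool.noConfusion h
    · rw [h] at h'; exact Bool.noConfusion h'.2
    · cases hb : isTc c
      · exact absurd ⟨h0, hb⟩ h
      · rfl
  -- the values of the cocycle
  have hxy : x = 0 ∧ y = 1 := by
    obtain ⟨g, hg, hgz⟩ := S.exists_mover hF ((S.mem_groupG hF L).2 ⟨129, by norm_num, rfl⟩)
      ((hL 129 (by norm_num)).2 ⟨by norm_num, by decide +kernel⟩)
    have hex : ∀ c, ∃ c' < 2048, c < 2048 → ((S.elA L c' : HH) : G) = g * ((S.elA L c : HH) : G) * g⁻¹ := by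
      intro c
      by_cases hc : c < 2048
      · obtain ⟨c', hc', e⟩ := (S.mem_groupG hF L).1
          ((Subgroup.mem_normalizer_iff.1 hg _).1 ((S.mem_groupG hF L).2 ⟨c, hc, rfl⟩))
        exact ⟨c', hc', fun _ => e⟩
      · exact ⟨0, by norm_num, fun h => absurd h hc⟩
    choose σ hσlt hσ using hex
    have hz : ∀ c < 2048, S.Zc L (σ c) ↔ S.Zc L c := fun c hc => by
      unfold Zc
      rw [hσ c hc]
      exact ⟨fun h => h.trans (isConj_iff.2 ⟨g, rfl⟩ : IsConj _ (g * ((S.elA L c : HH) : G) * g⁻¹)).symm,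
        fun h => h.trans (isConj_iff.2 ⟨g, rfl⟩)⟩
    have hinj : ∀ c < 2048, ∀ d < 2048, σ c = σ d → c = d := by
      intro c hc d hd e
      refine S.elA_inj hF L hc hd (Subtype.ext ?_)
      have h := hσ c hc
      rw [e, hσ d hd] at h
      exact (mul_left_cancel (mul_right_cancel h)).symm
    have h0 : σ 0 = 0 := S.elA_inj hF L (hσlt 0) (by norm_num) (Subtype.ext (by
      rw [hσ 0 (by norm_num), S.elA_zero hF]; simp))
    have hTσ : ∀ c < 2048, isTc (σ c) = isTc c := by
      intro c hc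
      have : isTc (σ c) = true ↔ isTc c = true := by
        rw [hT c hc, hT _ (hσlt c), hz c hc]
        refine and_congr_left' ⟨fun h e => h (e ▸ h0), fun h e => h (hinj c hc 0 (by norm_num) (e.trans h0.symm))⟩
      exact Bool.eq_iff_iff.2 this
    have hprod : ∀ c < 2048, σ (cmul x y c 1) = cmul x y (σ c) 129 := by
      intro c hc
      have hlt := (cmul_spec hx hy hc (d := 1) (by norm_num)).1
      have hlt' := (cmul_spec hx hy (hσlt c) (d := 129) (by norm_num)).1
      refine S.elA_inj hF L (hσlt _) hlt' (Subtype.ext ?_)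
      rw [hσ _ hlt, ← hmul hc (by norm_num), ← hmul (hσlt c) (by norm_num), Subgroup.coe_mul, Subgroup.coe_mul,
        hσ c hc, S.elA_one hF, zH_coe hF, ← hgz]
      simp [mul_assoc]
    have hcount : cnt x y 1 = cnt x y 129 := by
      have hlen : ∀ u, cnt x y u = ((Finset.range 2048).filter fun c => (isTc c && isTc (cmul x y c u)) = true).card := by
        intro u
        unfold cnt
        rw [← List.toFinset_card_of_nodup (List.nodup_range.filter _)]
        congr 1
        ext; simp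
      rw [hlen, hlen]
      refine Finset.card_bij (fun c _ => σ c) (fun c hc => ?_) (fun c hc d hd e => ?_) fun b hb => ?_
      · obtain ⟨h1, h2⟩ := Finset.mem_filter.1 hc
        refine Finset.mem_filter.2 ⟨Finset.mem_range.2 (hσlt c), ?_⟩
        have hc' := Finset.mem_range.1 h1
        rw [hTσ c hc', ← hprod c hc', hTσ _ (cmul_spec hx hy hc' (d := 1) (by norm_num)).1]
        exact h2
      · exact hinj c (Finset.mem_range.1 (Finset.mem_filter.1 hc).1) d (Finset.mem_range.1 (Finset.mem_filter.1 hd).1) e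
      · obtain ⟨h1, h2⟩ := Finset.mem_filter.1 hb
        have hsurj := Finset.surjOn_of_injOn_of_card_le (s := Finset.range 2048) (t := Finset.range 2048) σ
          (fun c _ => Finset.mem_range.2 (hσlt c))
          (fun c hc d hd e => hinj c (Finset.mem_range.1 hc) d (Finset.mem_range.1 hd) e) le_rfl
        obtain ⟨c, hc, rfl⟩ := hsurj h1
        have hc' := Finset.mem_range.1 hc
        refine ⟨c, Finset.mem_filter.2 ⟨hc, ?_⟩, rfl⟩
        rwa [hTσ c hc', ← hprod c hc', hTσ _ (cmul_spec hx hy hc' (d := 1) (by norm_num)).1] at h2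
    obtain ⟨-, k00, k10, k11⟩ := counts_kill
    rcases bit_cases hx with rfl | rfl <;> rcases bit_cases hy with rfl | rfl
    · exact absurd hcount k00
    · exact ⟨rfl, rfl⟩
    · exact absurd hcount k10
    · exact absurd hcount k11
  obtain ⟨rfl, rfl⟩ := hxy
  obtain ⟨hlin1, hlin2⟩ := lin_ok
  simp only [List.all_eq_true, List.mem_range, Bool.and_eq_true, decide_eq_true_eq, Nat.beq_eq, beq_iff_eq] at hlin1 hlin2
  have hk : ∀ k ≤ 11, ∀ u, evalC k u < 2048 := by
    intro k
    induction k with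
    | zero => intro _ u; exact Nat.zero_lt_succ _
    | succ k ih =>
      intro hk u
      show (if _ then _ else _ : ℕ) < 2048
      have hp : (1 : ℕ) <<< k < 2048 := by
        rw [Nat.shiftLeft_eq, one_mul]
        exact lt_of_le_of_lt (Nat.pow_le_pow_right (by norm_num) (show k ≤ 10 by omega)) (by norm_num)
      split
      · exact (cmul_spec (by norm_num) (by norm_num) (ih (by omega) u) hp).1
      · exact ih (by omega) u
  have hA : ∀ k ≤ 11, ∀ u, S.elA L (evalC k u) ∈ S.groupA := fun k hk' u => S.elA_mem hF L (hk k hk' u)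
  have hhom : ∀ k ≤ 11, ∀ u v, S.elA L (evalC k (Nat.xor u v)) = S.elA L (evalC k u) * S.elA L (evalC k v) := by
    intro k
    induction k with
    | zero => intro _ u v; show S.elA L 0 = _ * S.elA L 0; rw [S.elA_zero hF, mul_one]; exact (S.elA_zero hF L).symm
    | succ k ih =>
      intro hk' u v
      have hp : Nat.shiftLeft 1 k < 2048 := by
        show (1 : ℕ) <<< k < 2048
        rw [Nat.shiftLeft_eq, one_mul]
        exact lt_of_le_of_lt (Nat.pow_le_pow_right (by norm_num) (show k ≤ 10 by omega)) (by norm_num)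
      have hP := S.elA_mem hF L hp
      have hstep : ∀ w, S.elA L (evalC (k + 1) w) =
          S.elA L (evalC k w) * (if w.testBit k then S.elA L (Nat.shiftLeft 1 k) else 1) := by
        intro w
        have hb : Nat.beq (Nat.land (Nat.shiftRight w k) 1) 1 = w.testBit k := by
          have e : Nat.land (Nat.shiftRight w k) 1 = (w.testBit k).toNat := by
            rw [Nat.toNat_testBit]
            show (w >>> k) &&& 1 = _
            rw [Nat.and_one_is_mod, Nat.shiftRight_eq_div_pow]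
          rw [e]; cases w.testBit k <;> rfl
        show S.elA L (if Nat.beq (Nat.land (Nat.shiftRight w k) 1) 1 = true then _ else _) = _
        rw [hb]
        cases w.testBit k
        · simp
        · simp only [if_true]
          exact (hmul (hk k (by omega) w) hp).symm
      rw [hstep, hstep u, hstep v, ih (by omega), show (Nat.xor u v).testBit k = (u.testBit k ^^ v.testBit k) from
        Nat.testBit_xor u v k]
      set eu := S.elA L (evalC k u)
      set ev := S.elA L (evalC k v)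
      set P := S.elA L (Nat.shiftLeft 1 k)
      have hc : P * ev = ev * P := S.groupA_comm hF hP (hA k (by omega) v)
      cases u.testBit k <;> cases v.testBit k <;>
        simp only [Bool.xor_false, Bool.xor_true, Bool.not_true, Bool.not_false, if_true, if_false,
          Bool.false_eq_true, mul_one]
      · rw [mul_assoc]
      · rw [mul_assoc, ← hc]; simp only [mul_assoc]
      · rw [mul_assoc eu P, ← mul_assoc P ev, hc, mul_assoc ev P P, S.groupA_sq hF hP, mul_one]
  refine ⟨fun u => ((S.elA L (evalC 11 u) : HH) : G), fun u _ => (S.mem_groupG hF L).2 ⟨_, hk 11 le_rfl u, rfl⟩,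
    fun a ha => ?_, fun u hu v hv e => ?_, fun u _ v _ => ?_, fun u hu => ?_⟩
  · obtain ⟨c, hc, rfl⟩ := (S.mem_groupG hF L).1 ha
    exact ⟨toLin c, (hlin1 c hc).1.1, by show ((S.elA L (evalC 11 (toLin c)) : HH) : G) = _; rw [(hlin1 c hc).1.2]⟩
  · have h := S.elA_inj hF L (hk 11 le_rfl u) (hk 11 le_rfl v) (Subtype.ext e)
    rw [← (hlin2 u hu).2, h, (hlin2 v hv).2]
  · show ((S.elA L (evalC 11 (Nat.xor u v)) : HH) : G) = _
    rw [hhom 11 le_rfl]; rfl
  · have hc := hk 11 le_rfl u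
    have h := (hlin1 _ hc).2
    rw [(hlin2 u hu).2] at h
    rw [h, hT _ hc]
    refine and_congr_left' ⟨fun h0 e => h0 ?_, fun h0 e => h0 ?_⟩
    · rw [e]; decide +kernel
    · have := (hlin2 u hu).2
      rw [e] at this
      rw [← this]; decide +kernel

end Setting

end Cfsg.Agent.LargeFischer
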