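/-
The normaliser of the subgroup of order 2^11: order, and self-centralisation.

* `AData`, `exists_adata`
-/
import Cfsg.Agent.Lib.LargeFischer.ElemMul

set_option autoImplicit false
set_option maxRecDepth 100000
open Cfsg

namespace Cfsg.Agent.LargeFischer

open LargeExtraspecial

universe u

theorem zclass_count : ((List.range 2048).filter fun c => !Nat.beq c 0 && !isTc c).length = 1771 := by
  decide +kernel

theorem word_five : permPos 0 1 ≠ 1 ∧ (fun a => permPos 0 (permPos 1 a))^[5] 1 = 1 ∧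
    permPos 0 (permPos 1 1) ≠ 1 := by decide +kernel

/-- Linear coordinates on a self-centralising subgroup of order 2^11 with its class of conjugates of z. -/
structure AData {G : Type u} [Group G] (z : G) (A : Subgroup G) where
  /-- The element with given coordinates. -/
  el : ℕ → G
  mem : ∀ y < 2048, el y ∈ A
  surj : ∀ a ∈ A, ∃ y < 2048, el y = a
  inj : ∀ y < 2048, ∀ y' < 2048, el y = el y' → y = y'
  add : ∀ y < 2048, ∀ y' < 2048, el (Nat.xor y y') = el y * el y'
  cls : ∀ y < 2048, isTL y = true ↔ y ≠ 0 ∧ ¬ IsConj z (el y)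
  mover : ∀ a ∈ A, IsConj z a → ∀ b ∈ A, IsConj z b →
    ∃ m ∈ Subgroup.normalizer (A : Set G), m * a * m⁻¹ = b
  cent : ∀ g, (∀ a ∈ A, a * g = g * a) → g ∈ A
  big : 2 ^ 21 * 45 * 1771 ∣ Nat.card (Subgroup.normalizer (A : Set G))

variable {G : Type u} [Group G] [Finite G] {z : G} {Q : Subgroup (Subgroup.centralizer ({z} : Set G))}
  [Q.Normal] [Fact (Cfsg.IsExtraspecial 2 Q)]

local notation "HH" => Subgroup.centralizer (Singleton.singleton z : Set G)

namespace Setting

variable (S : Setting z Q) (hF : Cfsg.IsOfLargeFischerTypeAt z Q)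
include S hF

theorem mem_normalizer_A {h : HH} (hh : ∀ c ∈ S.groupA, h * c * h⁻¹ ∈ S.groupA) :
    h ∈ Subgroup.normalizer (S.groupA : Set HH) := by
  haveI : Fintype HH := Fintype.ofFinite _
  exact Subgroup.mem_normalizer_fintype fun c hc => hh c hc

theorem x_normalizes (L : S.Lifts) : ∀ c ∈ S.groupA, S.x * c * S.x⁻¹ ∈ S.groupA := by
  classical
  intro c hc
  obtain ⟨c, hc', rfl⟩ := S.elA_surj hF L hc
  have hcomm := L.comm (c / 128) (by omega)
  have e : S.x * S.elA L c * S.x⁻¹ =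
      zH Q ^ (c % 2) * (S.sv (S.n (S.C.M.e (wv (c / 2 % 64)))) : HH) * L.f (c / 128) := by
    rw [← S.x_sv hF]
    unfold elA
    rw [← mul_assoc S.x, ← mul_assoc S.x, ← zH_pow_comm hF (c % 2) S.x]
    have hxk : L.f (c / 128) * S.x⁻¹ = S.x⁻¹ * L.f (c / 128) := by
      rw [eq_inv_mul_iff_mul_eq, ← mul_assoc, ← hcomm, mul_inv_cancel_right]
    simp only [mul_assoc]
    rw [hxk]
  rw [e]
  exact mul_mem (mul_mem (pow_mem (S.zH_mem hF) _) (S.groupD_le (S.sv_mem (S.W_n (S.wv_mem _))) hF))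
    (S.lifts_mem hF L (by omega))

variable (L : S.Lifts) (hL : ∀ c < 2048, S.Zc L c ↔ (c ≠ 0 ∧ isTc c = false))
include hL

/-- The order of the normaliser inside the centraliser. -/
theorem card_normalizer_A : 2 ^ 21 * 45 ∣ Nat.card (Subgroup.normalizer (S.groupA : Set HH)) := by
  classical
  haveI := finite_equiv (V := OutForm.Vm Q)
  obtain ⟨T, hT, hQT, hAT, huniq, -⟩ := S.sylow_facts hF
  set NH := Subgroup.normalizer (S.groupA : Set HH)
  have hTN : T ≤ NH := by
    intro t ht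
    refine S.mem_normalizer_A hF fun c hc => ?_
    have e := huniq (S.groupA.map (MulAut.conj t).toMonoidHom)
      (by rintro _ ⟨a, ha, rfl⟩; exact mul_mem (mul_mem ht (hAT ha)) (inv_mem ht))
      (by rintro _ ⟨a, ha, rfl⟩; rw [← map_mul, S.groupA_sq hF ha, map_one])
      (by rw [← Nat.card_congr (Subgroup.equivMapOfInjective _ _ (MulAut.conj t).injective).toEquiv, S.groupA_card hF])
    exact e ▸ Subgroup.mem_map_of_mem (MulAut.conj t).toMonoidHom hc
  have hsplit := S.card_split hF NH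
  rw [inf_eq_right.2 (hQT.trans hTN), hF.1.2.2.2.1] at hsplit
  set M' := NH.map (toGL Q)
  have h256 : 256 ∣ Nat.card M' := by
    have h := Subgroup.card_dvd_of_le hTN
    rw [hT, hsplit, show (2 : ℕ) ^ 21 = 256 * 2 ^ 13 by norm_num] at h
    exact (Nat.mul_dvd_mul_iff_right (by norm_num)).1 h
  obtain ⟨δ₀, d₀, hδb₀, hδn₀, hd₀, h3₀, -, hnorm₀⟩ := S.exists_delta_lift hF L hL (k := 0) (by norm_num)
  obtain ⟨δ₁, d₁, hδb₁, -, hd₁, -, -, hnorm₁⟩ := S.exists_delta_lift hF L hL (k := 1) (by norm_num)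
  have hδM₀ : δ₀ ∈ M' := ⟨d₀, S.mem_normalizer_A hF hnorm₀, hd₀⟩
  have hδM₁ : δ₁ ∈ M' := ⟨d₁, S.mem_normalizer_A hF hnorm₁, hd₁⟩
  have hnM : S.n ∈ M' := ⟨S.x, S.mem_normalizer_A hF (S.x_normalizes hF L), S.x_map⟩
  haveI : Fact (Nat.Prime 3) := ⟨by norm_num⟩
  have hn1 : S.n ≠ 1 := fun e => by
    have h := S.n_fix (S.C.M.e 1) (LinearEquiv.congr_fun e _)
    exact absurd (S.C.M.inj 1 (by norm_num) 0 (by norm_num) (h.trans S.C.M.zero.symm)) (by norm_num)
  obtain ⟨hp1, hp5, hp51⟩ := word_five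
  have hmove : δ₀ * bR S.C.M 1 ≠ bR S.C.M 1 * δ₀ := fun e => by
    have h := hδb₀ 1 (by norm_num)
    rw [e, mul_inv_cancel_right] at h
    exact hp1 (bR_inj S.C.M (permPos_lt (by norm_num) (by norm_num)) (by norm_num) h.symm)
  have hon : orderOf S.n = 3 := orderOf_eq_prime S.n_three hn1
  have hoδ : orderOf δ₀ = 3 := orderOf_eq_prime (by rw [pow_succ, pow_two]; exact h3₀)
    (fun e => hmove (by rw [e, one_mul, mul_one]))
  have h9 : 9 ∣ Nat.card M' := by
    let f := MonoidHom.noncommCoprod (Subgroup.zpowers S.n).subtype (Subgroup.zpowers δ₀).subtype (by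
      rintro ⟨a, ha⟩ ⟨b, hb⟩
      obtain ⟨i, rfl⟩ := Subgroup.mem_zpowers_iff.1 ha
      obtain ⟨j, rfl⟩ := Subgroup.mem_zpowers_iff.1 hb
      exact (Commute.zpow_zpow (show Commute S.n δ₀ from hδn₀.symm) i j))
    have hf : Function.Injective f := by
      refine (injective_iff_map_eq_one f).2 fun p hp => ?_
      obtain ⟨⟨a, ha⟩, ⟨b, hb⟩⟩ := p
      have hab : a * b = 1 := hp
      have hb1 : b = 1 := by
        by_contra hb1
        have hbn : b ∈ Subgroup.zpowers S.n := by rw [eq_inv_of_mul_eq_one_right hab]; exact inv_mem ha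
        have hzb : Subgroup.zpowers b = Subgroup.zpowers δ₀ := by
          refine Subgroup.eq_of_le_of_card_ge (Subgroup.zpowers_le.2 hb) ?_
          have hd := Subgroup.orderOf_dvd_natCard _ hb
          rw [Nat.card_zpowers, hoδ] at hd
          rw [Nat.card_zpowers, Nat.card_zpowers, hoδ,
            ((Nat.dvd_prime (by norm_num)).1 hd).resolve_left (fun e => hb1 (orderOf_eq_one_iff.1 e))]
        have hδn : δ₀ ∈ Subgroup.zpowers S.n :=
          (Subgroup.zpowers_le.2 hbn) (hzb.symm ▸ Subgroup.mem_zpowers δ₀)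
        obtain ⟨i, hi⟩ := Subgroup.mem_zpowers_iff.1 hδn
        refine hmove ?_
        rw [← hi]
        exact (Commute.zpow_left (show Commute S.n (bR S.C.M 1) from (bR_n S.C.M (by norm_num)).symm) i).eq
      subst hb1
      rw [mul_one] at hab
      subst hab
      rfl
    have hle : f.range ≤ M' := by
      rintro _ ⟨⟨⟨a, ha⟩, ⟨b, hb⟩⟩, rfl⟩
      exact mul_mem ((Subgroup.zpowers_le.2 hnM) ha) ((Subgroup.zpowers_le.2 hδM₀) hb)
    have h := Subgroup.card_dvd_of_le hle
    rwa [← Nat.card_congr (MonoidHom.ofInjective hf).toEquiv, Nat.card_prod, Nat.card_zpowers, Nat.card_zpowers,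
      hon, hoδ] at h
  have h5 : 5 ∣ Nat.card M' := by
    set γ := δ₀ * δ₁
    set F : ℕ → ℕ := fun a => permPos 0 (permPos 1 a)
    have hconj : ∀ k, F^[k] 1 < 16 ∧ γ ^ k * bR S.C.M 1 * (γ ^ k)⁻¹ = bR S.C.M (F^[k] 1) := by
      intro k
      induction k with
      | zero => exact ⟨by simp, by simp⟩
      | succ k ih =>
        obtain ⟨hlt, he⟩ := ih
        rw [Function.iterate_succ_apply' F k 1]
        have h1 := permPos_lt (k := 1) (by norm_num) hlt
        refine ⟨permPos_lt (by norm_num) h1, ?_⟩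
        show _ = bR S.C.M (permPos 0 (permPos 1 (F^[k] 1)))
        rw [← hδb₀ _ h1, ← hδb₁ _ hlt, ← he, pow_succ']
        simp [γ, mul_assoc]
    have ho : Function.IsPeriodicPt F (orderOf γ) 1 := by
      obtain ⟨hlt, he⟩ := hconj (orderOf γ)
      rw [pow_orderOf_eq_one, inv_one, mul_one, one_mul] at he
      exact (bR_inj S.C.M (by norm_num) hlt he).symm
    have hg := (show Function.IsPeriodicPt F 5 1 from hp5).gcd ho
    rcases (Nat.dvd_prime (by norm_num : Nat.Prime 5)).1 (Nat.gcd_dvd_left 5 (orderOf γ)) with e | e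
    · rw [e] at hg; exact absurd hg hp51
    · have : 5 ∣ orderOf γ := e ▸ Nat.gcd_dvd_right 5 (orderOf γ)
      exact this.trans (Subgroup.orderOf_dvd_natCard _ (mul_mem hδM₀ hδM₁))
  have h45 := Nat.Coprime.mul_dvd_of_dvd_of_dvd (by norm_num) h256 (Nat.Coprime.mul_dvd_of_dvd_of_dvd (by norm_num) h9 h5)
  rw [hsplit, show 2 ^ 21 * 45 = 256 * (9 * 5) * 2 ^ 13 by norm_num]
  exact Nat.mul_dvd_mul_right h45 _

/-- The subgroup is its own centraliser. -/
theorem cent_groupG (g : G) (hg : ∀ a ∈ S.groupG, a * g = g * a) : g ∈ S.groupG := by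
  classical
  obtain ⟨hker, hcard, -⟩ := exists_frame hF
  have hgH : g ∈ Subgroup.centralizer ({z} : Set G) :=
    Subgroup.mem_centralizer_singleton_iff.2 (hg z (S.z_mem_groupG hF)).symm
  set gH : HH := ⟨g, hgH⟩
  have hc : ∀ a ∈ S.groupA, a * gH = gH * a := fun a ha => Subtype.ext (hg _ ⟨a, ha, rfl⟩)
  suffices h : gH ∈ S.groupA from ⟨gH, h, rfl⟩
  have hfix : ∀ w ∈ wSet S.C.M, toGL Q gH w = w := by
    intro w hw
    rw [← S.pr_sv w, ← pr_conj]
    refine congrArg OutForm.pr (Subtype.ext ?_)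
    rw [MulAut.conjNormal_apply, ← hc _ (S.groupD_le (S.sv_mem hw) hF), mul_inv_cancel_right]
  have h2 : gH * gH ∈ S.groupA := by
    refine S.mem_groupA.2 ⟨?_, fun d hd => ?_⟩
    · rw [map_mul, S.fixW_sq hF ⟨gH, rfl⟩ hfix]; exact one_mem _
    · have := hc _ (S.groupD_le hd hF)
      rw [← mul_assoc, this, mul_assoc, this, ← mul_assoc]
  have hPA : IsPGroup 2 S.groupA := IsPGroup.of_card (n := 11) (S.groupA_card hF)
  have hPg : IsPGroup 2 (Subgroup.zpowers gH) := by
    have h4 : gH ^ 2 ^ 2 = 1 := by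
      rw [show (2 : ℕ) ^ 2 = 2 + 2 from rfl, pow_add, pow_two]
      exact S.groupA_sq hF h2
    intro a
    obtain ⟨i, hi⟩ := Subgroup.mem_zpowers_iff.1 a.2
    refine ⟨2, Subtype.ext ?_⟩
    rw [SubmonoidClass.coe_pow, ← hi, ← zpow_natCast, ← zpow_mul, mul_comm, zpow_mul, zpow_natCast, h4, one_zpow]
    rfl
  have hJ : IsPGroup 2 (Subgroup.zpowers gH ⊔ S.groupA : Subgroup HH) := by
    refine IsPGroup.to_sup_of_normal_right' hPg hPA (Subgroup.zpowers_le.2 (S.mem_normalizer_A hF fun a ha => ?_))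
    rw [← hc a ha, mul_inv_cancel_right]
    exact ha
  obtain ⟨R, hR⟩ := hJ.exists_le_sylow
  obtain ⟨T, hT, -, hAT, huniq, hcent⟩ := S.sylow_facts hF
  obtain ⟨P, hP⟩ := (IsPGroup.of_card (p := 2) (n := 21) hT).exists_le_sylow
  have hPT : (P : Subgroup HH) = T := by
    refine (Subgroup.eq_of_le_of_card_ge hP ?_).symm
    obtain ⟨k, hk⟩ := P.2.exists_card_eq
    rw [hk, hT]
    refine Nat.pow_le_pow_right (by norm_num) ?_
    have hcardH : Nat.card HH = 2 ^ 21 * 76545 := by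
      rw [Subgroup.card_eq_card_quotient_mul_card_subgroup (toGL Q).ker,
        Nat.card_congr (QuotientGroup.quotientKerEquivRange _).toEquiv, hcard, hker, hF.1.2.2.2.1]
      norm_num
    have hd := Subgroup.card_subgroup_dvd_card (P : Subgroup HH)
    rw [hk, hcardH] at hd
    exact (Nat.pow_dvd_pow_iff_le_right one_lt_two).1
      (((Nat.Coprime.pow_left k (by norm_num : Nat.Coprime 2 76545))).dvd_of_dvd_mul_right hd)
  obtain ⟨h, hh⟩ := MulAction.exists_smul_eq HH R P
  have hmap : ∀ a ∈ (R : Subgroup HH), h * a * h⁻¹ ∈ T := by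
    intro a ha
    rw [← hPT, ← hh]
    exact Subgroup.mem_map_of_mem (MulAut.conj h).toMonoidHom ha
  have e := huniq (S.groupA.map (MulAut.conj h).toMonoidHom)
    (by rintro _ ⟨a, ha, rfl⟩; exact hmap a (hR ((le_sup_right : S.groupA ≤ _) ha)))
    (by rintro _ ⟨a, ha, rfl⟩; rw [← map_mul, S.groupA_sq hF ha, map_one])
    (by rw [← Nat.card_congr (Subgroup.equivMapOfInjective _ _ (MulAut.conj h).injective).toEquiv, S.groupA_card hF])
  have hg' : h * gH * h⁻¹ ∈ S.groupA := by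
    refine hcent _ (hmap gH (hR ((le_sup_left : Subgroup.zpowers gH ≤ _) (Subgroup.mem_zpowers gH)))) fun a ha => ?_
    obtain ⟨b, hb, rfl⟩ : a ∈ S.groupA.map (MulAut.conj h).toMonoidHom := by rw [e]; exact ha
    show MulAut.conj h b * MulAut.conj h gH = MulAut.conj h gH * MulAut.conj h b
    rw [← map_mul, hc b hb, map_mul]
  obtain ⟨b, hb, hbe⟩ : h * gH * h⁻¹ ∈ S.groupA.map (MulAut.conj h).toMonoidHom := by rw [e]; exact hg'
  have hbg : b = gH := (MulAut.conj h).injective hbe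
  exact hbg ▸ hb

/-- The order of the normaliser. -/
theorem card_normalizer_G : 2 ^ 21 * 45 * 1771 ∣ Nat.card (Subgroup.normalizer (S.groupG : Set G)) := by
  classical
  set N := Subgroup.normalizer (S.groupG : Set G) with hN
  set K := (Subgroup.centralizer ({z} : Set G)).subgroupOf N
  have hmem : ∀ h : HH, (h : G) ∈ N ↔ h ∈ Subgroup.normalizer (S.groupA : Set HH) := by
    intro h
    rw [hN, Subgroup.mem_normalizer_iff, Subgroup.mem_normalizer_iff]
    have hg : ∀ c : HH, (c : G) ∈ S.groupG ↔ c ∈ S.groupA := fun c =>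
      Subgroup.mem_map_iff_mem (Subgroup.centralizer ({z} : Set G)).subtype_injective
    constructor
    · intro hh c
      rw [← hg, ← hg]
      exact hh (c : G)
    · intro hh a
      constructor
      · rintro ⟨c, hc, rfl⟩
        exact ⟨_, (hh c).1 hc, rfl⟩
      · rintro ⟨c, hc, e⟩
        refine ⟨h⁻¹ * c * h, (hh _).2 (by simpa [mul_assoc] using hc), ?_⟩
        show (h : G)⁻¹ * (c : G) * (h : G) = a
        rw [show (c : G) = (h : G) * a * (h : G)⁻¹ from e]
        simp [mul_assoc]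
  have hK : Nat.card K = Nat.card (Subgroup.normalizer (S.groupA : Set HH)) :=
    Nat.card_congr
      { toFun := fun g => ⟨⟨g.1.1, g.2⟩, (hmem ⟨g.1.1, g.2⟩).1 g.1.2⟩
        invFun := fun h => ⟨⟨h.1.1, (hmem h.1).2 h.2⟩, h.1.2⟩
        left_inv := fun _ => rfl
        right_inv := fun _ => rfl }
  have hidx : K.index = 1771 := by
    rw [← zclass_count, ← List.toFinset_card_of_nodup (List.nodup_range.filter _), ← Nat.card_eq_finsetCard,
      Subgroup.index]
    have hex : ∀ c : ((List.range 2048).filter fun c => !Nat.beq c 0 && !isTc c).toFinset,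
        ∃ y : N, (y : G) * z * (y : G)⁻¹ = ((S.elA L c.1 : HH) : G) := by
      intro c
      have hc := List.mem_filter.1 (List.mem_toFinset.1 c.2)
      rw [List.mem_range, Bool.and_eq_true, Bool.not_eq_true', Bool.not_eq_true'] at hc
      obtain ⟨y, hy, e⟩ := S.exists_mover hF ((S.mem_groupG hF L).2 ⟨c.1, hc.1, rfl⟩)
        ((hL c.1 hc.1).2 ⟨fun e => by rw [e] at hc; exact Bool.noConfusion hc.2.1, hc.2.2⟩)
      exact ⟨⟨y, hy⟩, e⟩
    choose y hy using hex
    refine (Nat.card_eq_of_bijective (fun c => (QuotientGroup.mk (y c) : N ⧸ K)) ⟨fun c d e => ?_, fun q => ?_⟩).symm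
    · have hk := QuotientGroup.eq.1 e
      have hk' : ((y c : G)⁻¹ * (y d : G)) * z = z * ((y c : G)⁻¹ * (y d : G)) :=
        Subgroup.mem_centralizer_singleton_iff.1 hk
      have he : (y d : G) * z * (y d : G)⁻¹ = (y c : G) * z * (y c : G)⁻¹ := by
        calc (y d : G) * z * (y d : G)⁻¹ = (y c : G) * (((y c : G)⁻¹ * (y d : G)) * z) * (y d : G)⁻¹ := by
              simp [mul_assoc]
          _ = _ := by rw [hk']; simp [mul_assoc]
      rw [hy c, hy d] at he
      have hc := List.mem_filter.1 (List.mem_toFinset.1 c.2)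
      have hd := List.mem_filter.1 (List.mem_toFinset.1 d.2)
      exact Subtype.ext (S.elA_inj hF L (List.mem_range.1 hd.1) (List.mem_range.1 hc.1) (Subtype.ext he)).symm
    · obtain ⟨w, rfl⟩ := QuotientGroup.mk_surjective q
      obtain ⟨c, hc, e⟩ := (S.mem_groupG hF L).1 ((Subgroup.mem_normalizer_iff.1 w.2 z).1 (S.z_mem_groupG hF))
      obtain ⟨h0, hT⟩ := (hL c hc).1 (isConj_iff.2 ⟨(w : G), e.symm⟩)
      have hb : Nat.beq c 0 = false := Bool.eq_false_iff.2 fun e => h0 (Nat.eq_of_beq_eq_true e)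
      let cc : ((List.range 2048).filter fun c => !Nat.beq c 0 && !isTc c).toFinset :=
        ⟨c, List.mem_toFinset.2 (List.mem_filter.2 ⟨List.mem_range.2 hc, by rw [hb, hT]; rfl⟩)⟩
      refine ⟨cc, QuotientGroup.eq.2 (Subgroup.mem_centralizer_singleton_iff.2 ?_)⟩
      have h1 : (y cc : G) * z * (y cc : G)⁻¹ = (w : G) * z * (w : G)⁻¹ := (hy cc).trans e
      show ((y cc : G)⁻¹ * (w : G)) * z = z * ((y cc : G)⁻¹ * (w : G))
      calc ((y cc : G)⁻¹ * (w : G)) * z = (y cc : G)⁻¹ * ((w : G) * z * (w : G)⁻¹) * (w : G) := by simp [mul_assoc]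
        _ = _ := by rw [← h1]; simp [mul_assoc]
  rw [← Subgroup.card_mul_index K, hK, hidx]
  exact Nat.mul_dvd_mul_right (S.card_normalizer_A hF L hL) _

end Setting

/-- The data exist, together with an overgroup of order 2^21 where the subgroup is the largest elementary abelian one. -/
theorem exists_adata (hF : Cfsg.IsOfLargeFischerTypeAt z Q) : ∃ (A T : Subgroup G),
    Nonempty (AData z A) ∧ Nat.card T = 2 ^ 21 ∧ A ≤ T ∧ Nat.card A = 2 ^ 11 ∧
      (∀ a ∈ A, a * a = 1) ∧ ∀ E ≤ T, (∀ a ∈ E, a * a = 1) → 2 ^ 11 ≤ Nat.card E → E = A := by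
  classical
  obtain ⟨S⟩ := exists_setting hF
  obtain ⟨L, hL⟩ := S.classify_A hF
  obtain ⟨el, hmem, hsurj, hinj, hadd, hcls⟩ := S.exists_linear hF L hL
  obtain ⟨T, hT, -, hAT, huniq, -⟩ := S.sylow_facts hF
  refine ⟨S.groupG, T.map (Subgroup.centralizer ({z} : Set G)).subtype,
    ⟨⟨el, hmem, hsurj, hinj, hadd, hcls, fun a ha ia b hb ib => ?_, S.cent_groupG hF L hL,
      S.card_normalizer_G hF L hL⟩⟩, by rw [Subgroup.card_subtype, hT], Subgroup.map_mono hAT, S.groupG_card hF,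
    ?_, fun E hE hsq hcard => ?_⟩
  · obtain ⟨y₁, hy₁, e₁⟩ := S.exists_mover hF ha ia
    obtain ⟨y₂, hy₂, e₂⟩ := S.exists_mover hF hb ib
    refine ⟨y₂ * y₁⁻¹, mul_mem hy₂ (inv_mem hy₁), ?_⟩
    rw [← e₁, ← e₂]; simp [mul_assoc]
  · rintro _ ⟨a, ha, rfl⟩
    rw [← map_mul, S.groupA_sq hF ha, map_one]
  · have hle : E ≤ Subgroup.centralizer ({z} : Set G) := hE.trans (Subgroup.map_subtype_le T)
    have h := huniq (E.subgroupOf (Subgroup.centralizer ({z} : Set G)))
      (fun a ha => by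
        obtain ⟨b, hb, e⟩ := hE (Subgroup.mem_subgroupOf.1 ha)
        rwa [Subtype.coe_injective e] at hb)
      (fun a ha => Subtype.ext (hsq _ (Subgroup.mem_subgroupOf.1 ha)))
      (by rwa [Nat.card_congr (Subgroup.subgroupOfEquivOfLe hle).toEquiv])
    rw [Setting.groupG, ← h, Subgroup.map_subgroupOf_eq_of_le hle]

end Cfsg.Agent.LargeFischer
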