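/-
The 24 points in the linear coordinates: kernel checks and linear algebra.

* `tauI`, `tauAug`, `pairV`, `augSum`
-/
import Cfsg.Agent.Lib.LargeFischer.ElemFacts
import Cfsg.Agent.Lib.LargeFischer.SylModel
import Cfsg.Agent.Lib.Golay.Perm

set_option autoImplicit false
set_option maxRecDepth 100000
set_option Elab.async false
open scoped Pointwise
open Cfsg

namespace Cfsg.Agent.LargeFischer

open Golay

/-- The value of a point. -/
def tauI (i : ℕ) : ℕ := tauList.getD i 0

/-- The values with a parity bit. -/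
def tauAug : List ℕ := tauList.map fun t => t + 2048

/-- The value of two points. -/
def pairV (p q : GolayPt) : ℕ := Nat.xor (tauI (idx p)) (tauI (idx q))

/-- The augmented sum over a set of points. -/
def augSum (s : Finset GolayPt) : ℕ := encAux tauAug (maskOf s)

theorem tau_basic : (∀ i < 24, tauI i < 2048 ∧ encAux tauAug (2 ^ i) = tauI i + 2048 ∧ (tauI i + 2048).testBit 11 = true) ∧
    tauI 23 = 0 ∧
    (∀ i < 24, ∀ j < 24, Nat.xor (Nat.xor (tauI i) (tauI j)) (tauI j + 2048) = tauI i + 2048) := by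
  decide +kernel

theorem code_aug : (∀ r ∈ rows, encAux tauAug r = 0) ∧
    (∀ i < 24, isCode (Nat.xor (2 ^ i) (encAux secList (encAux tauAug (2 ^ i)))) = true) ∧
    (∀ k < 12, encAux tauAug (encAux secList (2 ^ k)) = 2 ^ k) ∧ (∀ s ∈ secList, s < 2 ^ 24) := by
  decide +kernel

theorem pair_distinct : ((List.range 24).all fun i => (List.range i).all fun j => (List.range 24).all fun k =>
    (List.range k).all fun l => (Nat.beq i k && Nat.beq j l) || !Nat.beq (pairL i j) (pairL k l)) = true := by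
  decide +kernel

/-- Two pairs of points are the same pair. -/
def SamePair {α : Type*} (p q r s : α) : Prop := (p = r ∧ q = s) ∨ (p = s ∧ q = r)

/-- Two pairs of points have exactly one common point. -/
def MeetPair {α : Type*} (p q r s : α) : Prop := (p = r ∨ p = s ∨ q = r ∨ q = s) ∧ ¬ SamePair p q r s

theorem pairV_comm (p q : GolayPt) : pairV p q = pairV q p := Nat.xor_comm _ _

theorem pairV_lt (p q : GolayPt) : pairV p q < 2048 :=
  Nat.xor_lt_two_pow (n := 11) (tau_basic.1 _ (idx_lt p)).1 (tau_basic.1 _ (idx_lt q)).1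

theorem pairV_isTL {p q : GolayPt} (h : p ≠ q) : isTL (pairV p q) = true := by
  have key : ∀ i j, i < 24 → j < i → isTL (pairL i j) = true := fun i j hi hj => by
    have h := List.all_eq_true.1 tau_ok.1 i (List.mem_range.2 hi)
    rw [Bool.and_eq_true, List.all_eq_true] at h
    exact h.2 j (List.mem_range.2 hj)
  rcases lt_or_gt_of_ne (fun e => h (idx_injective e)) with e | e
  · rw [pairV_comm]; exact key _ _ (idx_lt q) e
  · exact key _ _ (idx_lt p) e

theorem pairV_surj {y : ℕ} (hy : y < 2048) (h : isTL y = true) : ∃ p q : GolayPt, p ≠ q ∧ pairV p q = y := by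
  have h' := List.all_eq_true.1 tau_ok.2.2.1 y (List.mem_range.2 hy)
  simp only [h, Bool.not_true, Bool.false_or, List.any_eq_true, List.mem_range, Nat.beq_eq] at h'
  obtain ⟨i, hi, j, hj, e⟩ := h'
  refine ⟨pt i, pt j, fun c => ?_, ?_⟩
  · have := congrArg idx c
    rw [idx_pt hi, idx_pt (by omega)] at this
    omega
  · unfold pairV
    rw [idx_pt hi, idx_pt (by omega)]
    exact e

theorem pairV_inj {p q r s : GolayPt} (h : p ≠ q) (h' : r ≠ s) (e : pairV p q = pairV r s) : SamePair p q r s := by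
  have key : ∀ i j k l, i < 24 → j < i → k < 24 → l < k → pairL i j = pairL k l → i = k ∧ j = l := by
    intro i j k l hi hj hk hl e
    have h := List.all_eq_true.1 (List.all_eq_true.1 (List.all_eq_true.1 (List.all_eq_true.1 pair_distinct i
      (List.mem_range.2 hi)) j (List.mem_range.2 hj)) k (List.mem_range.2 hk)) l (List.mem_range.2 hl)
    rw [Bool.or_eq_true, Bool.and_eq_true, Nat.beq_eq, Nat.beq_eq, Bool.not_eq_true'] at h
    refine h.resolve_right fun hb => ?_
    rw [e] at hb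
    have : Nat.beq (pairL k l) (pairL k l) = true := by rw [Nat.beq_eq]
    rw [this] at hb
    exact Bool.noConfusion hb
  rcases lt_or_gt_of_ne (fun c => h (idx_injective c)) with e1 | e1 <;>
    rcases lt_or_gt_of_ne (fun c => h' (idx_injective c)) with e2 | e2
  · obtain ⟨a, b⟩ := key _ _ _ _ (idx_lt q) e1 (idx_lt s) e2 ((Nat.xor_comm _ _).trans (e.trans (Nat.xor_comm _ _)))
    exact Or.inl ⟨idx_injective b, idx_injective a⟩
  · obtain ⟨a, b⟩ := key _ _ _ _ (idx_lt q) e1 (idx_lt r) e2 ((Nat.xor_comm _ _).trans e)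
    exact Or.inr ⟨idx_injective b, idx_injective a⟩
  · obtain ⟨a, b⟩ := key _ _ _ _ (idx_lt p) e1 (idx_lt s) e2 (e.trans (Nat.xor_comm _ _))
    exact Or.inr ⟨idx_injective a, idx_injective b⟩
  · obtain ⟨a, b⟩ := key _ _ _ _ (idx_lt p) e1 (idx_lt r) e2 e
    exact Or.inl ⟨idx_injective a, idx_injective b⟩

theorem meet_idx {i j k l : ℕ} (hi : i < 24) (hj : j < 24) (hk : k < 24) (hl : l < 24) (hij : i ≠ j) (hkl : k ≠ l) :
    isTL (Nat.xor (pairL i j) (pairL k l)) = true ↔ MeetPair i j k l := by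
  have key : ∀ i j k l, i < 24 → j < i → k < 24 → l < k →
      (isTL (Nat.xor (pairL i j) (pairL k l)) = true ↔ MeetPair i j k l) := by
    intro i j k l hi hj hk hl
    have h := beq_iff_eq.1 (List.all_eq_true.1 (List.all_eq_true.1 (List.all_eq_true.1 (List.all_eq_true.1 tau_ok.2.2.2 i
      (List.mem_range.2 hi)) j (List.mem_range.2 hj)) k (List.mem_range.2 hk)) l (List.mem_range.2 hl))
    rw [h]
    simp only [Bool.and_eq_true, Bool.or_eq_true, Nat.beq_eq, Bool.not_eq_true', Bool.and_eq_false_iff,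
      MeetPair, SamePair]
    constructor
    · rintro ⟨h1, h2⟩
      refine ⟨by omega, ?_⟩
      rintro (⟨rfl, rfl⟩ | ⟨rfl, rfl⟩)
      · rcases h2 with h2 | h2 <;> (rw [Bool.eq_false_iff, Ne, Nat.beq_eq] at h2; exact h2 rfl)
      · omega
    · rintro ⟨h1, h2⟩
      refine ⟨by omega, ?_⟩
      by_cases e : i = k
      · right; rw [Bool.eq_false_iff]; exact fun c => h2 (Or.inl ⟨e, Nat.eq_of_beq_eq_true c⟩)
      · left; rw [Bool.eq_false_iff]; exact fun c => e (Nat.eq_of_beq_eq_true c)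
  have hc : ∀ a b, pairL a b = pairL b a := fun a b => Nat.xor_comm _ _
  have hm : MeetPair i j k l ↔ MeetPair j i k l := by unfold MeetPair SamePair; omega
  have hm' : MeetPair i j k l ↔ MeetPair i j l k := by unfold MeetPair SamePair; omega
  have hm'' : MeetPair i j k l ↔ MeetPair j i l k := by unfold MeetPair SamePair; omega
  rcases lt_or_gt_of_ne hij with e1 | e1 <;> rcases lt_or_gt_of_ne hkl with e2 | e2
  · rw [hc i j, hc k l, key j i l k hj e1 hl e2, hm'']
  · rw [hc i j, key j i k l hj e1 hk e2, hm]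
  · rw [hc k l, key i j l k hi e1 hl e2, hm']
  · exact key i j k l hi e1 hk e2

theorem pairV_meet {p q r s : GolayPt} (h : p ≠ q) (h' : r ≠ s) :
    isTL (Nat.xor (pairV p q) (pairV r s)) = true ↔ MeetPair p q r s := by
  refine (meet_idx (idx_lt p) (idx_lt q) (idx_lt r) (idx_lt s) (fun e => h (idx_injective e))
    (fun e => h' (idx_injective e))).trans ?_
  simp only [MeetPair, SamePair, idx_injective.eq_iff]

/-- Four pairwise meeting pairs have a common point. -/
theorem exists_star {ι α : Type*} [DecidableEq ι] (X : Finset ι) (hX : 4 ≤ X.card) (R S : ι → α)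
    (hne : ∀ i ∈ X, R i ≠ S i) (hmeet : ∀ i ∈ X, ∀ j ∈ X, i ≠ j → MeetPair (R i) (S i) (R j) (S j)) :
    ∃ a, ∀ i ∈ X, R i = a ∨ S i = a := by
  obtain ⟨i₀, h₀, i₁, h₁, h01⟩ := Finset.one_lt_card.1 (show 1 < X.card by omega)
  obtain ⟨⟨hm, hs⟩, n0, n1⟩ := And.intro (hmeet i₀ h₀ i₁ h₁ h01) (And.intro (hne i₀ h₀) (hne i₁ h₁))
  obtain ⟨a, b, c, ha0, hb0, hbc⟩ : ∃ a b c, ((R i₀ = a ∧ S i₀ = b) ∨ (R i₀ = b ∧ S i₀ = a)) ∧
      ((R i₁ = a ∧ S i₁ = c) ∨ (R i₁ = c ∧ S i₁ = a)) ∧ b ≠ c := by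
    rcases hm with e | e | e | e
    · exact ⟨R i₀, S i₀, S i₁, Or.inl ⟨rfl, rfl⟩, Or.inl ⟨e.symm, rfl⟩, fun c => hs (Or.inl ⟨e, c⟩)⟩
    · exact ⟨R i₀, S i₀, R i₁, Or.inl ⟨rfl, rfl⟩, Or.inr ⟨rfl, e.symm⟩, fun c => hs (Or.inr ⟨e, c⟩)⟩
    · exact ⟨S i₀, R i₀, S i₁, Or.inr ⟨rfl, rfl⟩, Or.inl ⟨e.symm, rfl⟩, fun c => hs (Or.inr ⟨c, e⟩)⟩
    · exact ⟨S i₀, R i₀, R i₁, Or.inr ⟨rfl, rfl⟩, Or.inr ⟨rfl, e.symm⟩, fun c => hs (Or.inl ⟨c, e⟩)⟩
  refine ⟨a, fun i hi => ?_⟩
  by_contra hno
  push Not at hno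
  have hi0 : i ≠ i₀ := by rintro rfl; rcases ha0 with ⟨e, -⟩ | ⟨-, e⟩; exacts [hno.1 e, hno.2 e]
  have hi1 : i ≠ i₁ := by rintro rfl; rcases hb0 with ⟨e, -⟩ | ⟨-, e⟩; exacts [hno.1 e, hno.2 e]
  obtain ⟨j, hj⟩ : ((((X.erase i).erase i₀).erase i₁)).Nonempty := by
    rw [← Finset.card_pos, Finset.card_erase_of_mem, Finset.card_erase_of_mem, Finset.card_erase_of_mem hi]
    · omega
    · exact Finset.mem_erase.2 ⟨hi0.symm, h₀⟩
    · exact Finset.mem_erase.2 ⟨h01.symm, Finset.mem_erase.2 ⟨hi1.symm, h₁⟩⟩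
  simp only [Finset.mem_erase] at hj
  obtain ⟨hj1, hj0, hji, hjX⟩ := hj
  obtain ⟨m0, t0⟩ := hmeet i₀ h₀ i hi hi0.symm
  obtain ⟨m1, t1⟩ := hmeet i₁ h₁ i hi hi1.symm
  obtain ⟨q0, u0⟩ := hmeet i₀ h₀ j hjX hj0.symm
  obtain ⟨q1, u1⟩ := hmeet i₁ h₁ j hjX hj1.symm
  obtain ⟨q2, u2⟩ := hmeet i hi j hjX hji.symm
  have nj := hne j hjX
  have ni := hne i hi
  simp only [SamePair] at *
  grind

/-! ### Sums over sets of points -/

theorem pts_single (p : GolayPt) : pts (2 ^ idx p) = {p} := by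
  ext q
  rw [mem_pts, Nat.testBit_two_pow, decide_eq_true_eq, Finset.mem_singleton]
  exact ⟨fun e => (idx_injective e).symm, fun e => by rw [e]⟩

theorem maskOf_insert {p : GolayPt} {s : Finset GolayPt} (h : p ∉ s) :
    maskOf (insert p s) = (2 ^ idx p) ^^^ maskOf s := by
  refine pts_injOn (maskOf_lt _) (Nat.xor_lt_two_pow (Nat.pow_lt_pow_right (by norm_num) (idx_lt p)) (maskOf_lt _)) ?_
  rw [pts_xor, pts_maskOf, pts_maskOf, pts_single]
  ext q
  simp only [Finset.mem_insert, Finset.mem_symmDiff, Finset.mem_singleton]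
  constructor
  · rintro (rfl | hq)
    · exact Or.inl ⟨rfl, h⟩
    · exact Or.inr ⟨hq, fun e => h (e ▸ hq)⟩
  · rintro (⟨e, -⟩ | ⟨hq, -⟩)
    · exact Or.inl e
    · exact Or.inr hq

theorem maskOf_empty : maskOf (∅ : Finset GolayPt) = 0 :=
  pts_injOn (maskOf_lt _) (by norm_num) (by rw [pts_maskOf, pts_zero])

theorem augSum_insert {p : GolayPt} {s : Finset GolayPt} (h : p ∉ s) :
    augSum (insert p s) = (tauI (idx p) + 2048) ^^^ augSum s := by
  unfold augSum
  rw [maskOf_insert h, encAux_xor, (tau_basic.1 _ (idx_lt p)).2.1]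

theorem augSum_empty : augSum ∅ = 0 := by rw [augSum, maskOf_empty, encAux_zero]

theorem augSum_lt (s : Finset GolayPt) : augSum s < 4096 := by
  refine encAux_lt tauAug 12 (fun g hg => ?_) _
  obtain ⟨t, ht, rfl⟩ := List.mem_map.1 hg
  obtain ⟨i, hi, rfl⟩ := List.getElem_of_mem ht
  have := (tau_basic.1 i (by simpa [tauList] using hi)).1
  unfold tauI at this
  rw [List.getD_eq_getElem _ _ hi] at this
  omega

theorem isCode_xor {a b : ℕ} (ha : isCode a = true) (hb : isCode b = true) : isCode (a ^^^ b) = true := by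
  obtain ⟨x, -, rfl⟩ := isCode_iff.1 ha
  obtain ⟨y, -, rfl⟩ := isCode_iff.1 hb
  rw [← enc_xor]; exact isCode_enc _

theorem code_sum_zero {s : Finset GolayPt} (h : s ∈ supports (golayCode : Set (GolayPt → ZMod 2))) : augSum s = 0 := by
  rw [mem_supports_iff] at h
  obtain ⟨x, -, hx⟩ := isCode_iff.1 h
  rw [augSum, ← hx]
  have key : ∀ gs : List ℕ, (∀ g ∈ gs, encAux tauAug g = 0) → ∀ x, encAux tauAug (encAux gs x) = 0 := by
    intro gs
    induction gs with
    | nil => intro _ x; exact encAux_zero _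
    | cons g gs ih =>
      intro hg x
      show encAux tauAug ((if x % 2 = 1 then g else 0) ^^^ encAux gs (x / 2)) = 0
      rw [encAux_xor, ih (fun a ha => hg a (List.mem_cons_of_mem _ ha))]
      split <;> simp [hg g List.mem_cons_self, encAux_zero]
  exact key rows code_aug.1 x

theorem mem_supports_of_sum_zero {s : Finset GolayPt} (h : augSum s = 0) :
    s ∈ supports (golayCode : Set (GolayPt → ZMod 2)) := by
  have key : ∀ s : Finset GolayPt, isCode (maskOf s ^^^ encAux secList (augSum s)) = true := by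
    intro s
    induction s using Finset.induction_on with
    | empty => rw [maskOf_empty, augSum_empty, encAux_zero]; decide +kernel
    | insert p s hp ih =>
      rw [maskOf_insert hp, augSum_insert hp, encAux_xor]
      have h1 : isCode ((2 ^ idx p) ^^^ encAux secList (tauI (idx p) + 2048)) = true := by
        rw [← (tau_basic.1 _ (idx_lt p)).2.1]; exact code_aug.2.1 _ (idx_lt p)
      have := isCode_xor h1 ih
      convert this using 2
      ac_rfl
  have h' := key s
  rw [h, encAux_zero, Nat.xor_zero] at h'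
  exact mem_supports_iff.2 h'

theorem exists_sum {Y : ℕ} (hY : Y < 4096) : ∃ s : Finset GolayPt, augSum s = Y := by
  refine ⟨pts (encAux secList Y), ?_⟩
  rw [augSum, maskOf_pts (encAux_lt secList 24 code_aug.2.2.2 Y)]
  exact ext_two (f := fun Y => encAux tauAug (encAux secList Y)) (g := fun Y => Y)
    (fun a _ b _ => by simp only [encAux_xor]) (fun _ _ _ _ => rfl) (fun k hk => code_aug.2.2.1 k hk) Y hY

end Cfsg.Agent.LargeFischer
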