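/-
The normaliser of the subgroup of order 2^11 acts on 24 points as the Mathieu group.

* `AData.pointHom`, `AData.quot_iso`, `AData.fusion`, `AData.stab_iso`, `AData.conj`
-/
import Cfsg.Agent.Lib.LargeFischer.ElemNorm
import Cfsg.Agent.Lib.LargeFischer.PointFacts
import Cfsg.Agent.Lib.Golay.Mathieu

set_option autoImplicit false
set_option maxRecDepth 100000
open scoped Pointwise
open Cfsg

namespace Cfsg.Agent.LargeFischer

open Golay

universe u

variable {G : Type u} [Group G] {z : G} {A : Subgroup G} (D : AData z A)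

namespace AData

theorem el_zero : D.el 0 = 1 := by
  have h := D.add 0 (by norm_num) 0 (by norm_num)
  rw [show Nat.xor 0 0 = 0 from rfl] at h
  exact left_eq_mul.1 h

include D in
theorem sq_one {a : G} (ha : a ∈ A) : a * a = 1 := by
  obtain ⟨y, hy, rfl⟩ := D.surj a ha
  rw [← D.add y hy y hy, show Nat.xor y y = 0 from Nat.xor_self y, D.el_zero]

include D in
theorem comm {a b : G} (ha : a ∈ A) (hb : b ∈ A) : a * b = b * a := by
  calc a * b = (a * b)⁻¹ := eq_inv_of_mul_eq_one_left (D.sq_one (mul_mem ha hb))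
    _ = b * a := by
      rw [mul_inv_rev, inv_eq_of_mul_eq_one_left (D.sq_one ha), inv_eq_of_mul_eq_one_left (D.sq_one hb)]

theorem isTL_iff {y : ℕ} (hy : y < 2048) : isTL y = true ↔ D.el y ≠ 1 ∧ ¬ IsConj z (D.el y) := by
  rw [D.cls y hy]
  refine and_congr_left' ⟨fun h e => h (D.inj y hy 0 (by norm_num) (e.trans D.el_zero.symm)), fun h e => ?_⟩
  exact h (e ▸ D.el_zero)

/-- The element of a pair of points. -/
def pairEl (p q : GolayPt) : G := D.el (pairV p q)

theorem pairEl_comm (p q : GolayPt) : D.pairEl p q = D.pairEl q p := by rw [pairEl, pairV_comm]; rfl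

theorem pairEl_mem (p q : GolayPt) : D.pairEl p q ∈ A := D.mem _ (pairV_lt p q)

theorem pairEl_inj {p q r s : GolayPt} (h : p ≠ q) (h' : r ≠ s) (e : D.pairEl p q = D.pairEl r s) :
    SamePair p q r s :=
  pairV_inj h h' (D.inj _ (pairV_lt p q) _ (pairV_lt r s) e)

theorem pairEl_noncentral {p q : GolayPt} (h : p ≠ q) : D.pairEl p q ≠ 1 ∧ ¬ IsConj z (D.pairEl p q) :=
  (D.isTL_iff (pairV_lt p q)).1 (pairV_isTL h)

theorem exists_pair {a : G} (ha : a ∈ A) (h1 : a ≠ 1) (hz : ¬ IsConj z a) : ∃ p q, p ≠ q ∧ D.pairEl p q = a := by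
  obtain ⟨y, hy, rfl⟩ := D.surj a ha
  obtain ⟨p, q, hpq, e⟩ := pairV_surj hy ((D.isTL_iff hy).2 ⟨h1, hz⟩)
  exact ⟨p, q, hpq, by rw [pairEl, e]⟩

theorem mul_pairEl (p q r s : GolayPt) :
    D.pairEl p q * D.pairEl r s = D.el (Nat.xor (pairV p q) (pairV r s)) :=
  (D.add _ (pairV_lt p q) _ (pairV_lt r s)).symm

theorem meet_iff {p q r s : GolayPt} (h : p ≠ q) (h' : r ≠ s) :
    MeetPair p q r s ↔ D.pairEl p q * D.pairEl r s ≠ 1 ∧ ¬ IsConj z (D.pairEl p q * D.pairEl r s) := by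
  rw [mul_pairEl]
  exact (pairV_meet h h').symm.trans (D.isTL_iff (Nat.xor_lt_two_pow (n := 11) (pairV_lt p q) (pairV_lt r s)))

theorem class_conj (g a : G) : IsConj z (g * a * g⁻¹) ↔ IsConj z a := by
  have e : IsConj a (g * a * g⁻¹) := isConj_iff.2 ⟨g, rfl⟩
  exact ⟨fun i => i.trans e.symm, fun i => i.trans e⟩

variable {g : G} (hg : g ∈ Subgroup.normalizer (A : Set G))
include hg

theorem exists_image {p q : GolayPt} (h : p ≠ q) :
    ∃ r s, r ≠ s ∧ g * D.pairEl p q * g⁻¹ = D.pairEl r s := by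
  obtain ⟨h1, h2⟩ := D.pairEl_noncentral h
  obtain ⟨r, s, hrs, e⟩ := D.exists_pair ((Subgroup.mem_normalizer_iff.1 hg _).1 (D.pairEl_mem p q))
    (fun e => h1 (conj_eq_one_iff.1 e)) (fun e => h2 ((class_conj g _).1 e))
  exact ⟨r, s, hrs, e.symm⟩

theorem exists_centre (p : GolayPt) : ∃ a, ∀ q, q ≠ p → ∃ x, a ≠ x ∧ g * D.pairEl p q * g⁻¹ = D.pairEl a x := by
  classical
  have hex : ∀ q, ∃ r s, q ≠ p → r ≠ s ∧ g * D.pairEl p q * g⁻¹ = D.pairEl r s := by
    intro q
    by_cases h : q = p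
    · exact ⟨p, p, fun h' => absurd h h'⟩
    · obtain ⟨r, s, hrs⟩ := D.exists_image hg (Ne.symm h)
      exact ⟨r, s, fun _ => hrs⟩
  choose R S hRS using hex
  obtain ⟨a, ha⟩ := exists_star (Finset.univ.erase p)
    (by rw [Finset.card_erase_of_mem (Finset.mem_univ p), Finset.card_univ]; decide)
    R S (fun q hq => (hRS q (Finset.ne_of_mem_erase hq)).1) (fun q hq q' hq' hne => by
      obtain ⟨h1, e1⟩ := hRS q (Finset.ne_of_mem_erase hq)
      obtain ⟨h2, e2⟩ := hRS q' (Finset.ne_of_mem_erase hq')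
      have hp := (Finset.ne_of_mem_erase hq).symm
      have hp' := (Finset.ne_of_mem_erase hq').symm
      have hm : MeetPair p q p q' := ⟨Or.inl rfl, by
        rintro (⟨-, e⟩ | ⟨e, -⟩)
        · exact hne e
        · exact hp' e⟩
      obtain ⟨n1, n2⟩ := (D.meet_iff hp hp').1 hm
      rw [D.meet_iff h1 h2, ← e1, ← e2, show g * D.pairEl p q * g⁻¹ * (g * D.pairEl p q' * g⁻¹) =
        g * (D.pairEl p q * D.pairEl p q') * g⁻¹ by simp [mul_assoc]]
      exact ⟨fun e => n1 (conj_eq_one_iff.1 e), fun e => n2 ((class_conj g _).1 e)⟩)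
  refine ⟨a, fun q hq => ?_⟩
  obtain ⟨h1, e1⟩ := hRS q hq
  rcases ha q (Finset.mem_erase.2 ⟨hq, Finset.mem_univ q⟩) with e | e
  · exact ⟨S q, e ▸ h1, e ▸ e1⟩
  · exact ⟨R q, e ▸ h1.symm, by rw [e1, ← e, pairEl_comm]⟩

/-- A normalising element permutes the points. -/
theorem exists_perm : ∃ σ : Equiv.Perm GolayPt,
    ∀ p q, p ≠ q → g * D.pairEl p q * g⁻¹ = D.pairEl (σ p) (σ q) := by
  classical
  choose f hf using fun p => D.exists_centre hg p
  have hinj : Function.Injective f := by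
    intro p q e
    by_contra hpq
    obtain ⟨b, hb⟩ := D.exists_centre (inv_mem hg) (f p)
    have hback : ∀ p', f p' = f p → ∀ r, r ≠ p' → b = p' ∨ b = r := by
      intro p' hp' r hr
      obtain ⟨x, hx, e1⟩ := hf p' r hr
      rw [hp'] at hx e1
      obtain ⟨w, hw, e2⟩ := hb x hx.symm
      rw [← e1] at e2
      simp only [inv_inv, mul_assoc, inv_mul_cancel_left, inv_mul_cancel, mul_one] at e2
      rcases D.pairEl_inj hr.symm hw e2 with ⟨c, -⟩ | ⟨-, c⟩
      · exact Or.inl c.symm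
      · exact Or.inr c.symm
    obtain ⟨r, hr, r', hr', hrr⟩ := Finset.one_lt_card.1
      (show 1 < ((Finset.univ.erase p).erase q).card by
        rw [Finset.card_erase_of_mem (Finset.mem_erase.2 ⟨Ne.symm hpq, Finset.mem_univ q⟩),
          Finset.card_erase_of_mem (Finset.mem_univ p), Finset.card_univ]
        decide)
    simp only [Finset.mem_erase, Finset.mem_univ, and_true] at hr hr'
    have key : ∀ r, r ≠ p → r ≠ q → b = r := fun r h1 h2 => by
      rcases hback p rfl r h1 with c | c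
      · rcases hback q e.symm r h2 with d | d
        · exact absurd (c.symm.trans d) hpq
        · exact d
      · exact c
    exact hrr ((key r hr.2 hr.1).symm.trans (key r' hr'.2 hr'.1))
  refine ⟨Equiv.ofBijective f ⟨hinj, Finite.injective_iff_surjective.1 hinj⟩, fun p q hpq => ?_⟩
  obtain ⟨x, hx, e⟩ := hf p q hpq.symm
  obtain ⟨x', hx', e'⟩ := hf q p hpq
  rw [D.pairEl_comm q p, e] at e'
  show _ = D.pairEl (f p) (f q)
  rw [e]
  rcases D.pairEl_inj hx hx' e' with ⟨c, -⟩ | ⟨-, c⟩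
  · exact absurd (hinj c) hpq
  · rw [c]

omit hg

theorem perm_unique {g : G} {σ τ : Equiv.Perm GolayPt}
    (hσ : ∀ p q, p ≠ q → g * D.pairEl p q * g⁻¹ = D.pairEl (σ p) (σ q))
    (hτ : ∀ p q, p ≠ q → g * D.pairEl p q * g⁻¹ = D.pairEl (τ p) (τ q)) : σ = τ := by
  refine Equiv.ext fun p => ?_
  by_contra hne
  have h : ∀ q, q ≠ p → τ q = σ p := fun q hq => by
    rcases D.pairEl_inj (σ.injective.ne hq.symm) (τ.injective.ne hq.symm)
      ((hσ p q hq.symm).symm.trans (hτ p q hq.symm)) with ⟨c, -⟩ | ⟨c, -⟩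
    · exact absurd c hne
    · exact c.symm
  obtain ⟨q, hq, q', hq', hqq⟩ := Finset.one_lt_card.1 (show 1 < (Finset.univ.erase p).card by
    rw [Finset.card_erase_of_mem (Finset.mem_univ p), Finset.card_univ]; decide)
  exact hqq (τ.injective ((h q (Finset.ne_of_mem_erase hq)).trans (h q' (Finset.ne_of_mem_erase hq')).symm))

/-- The action on the points. -/
noncomputable def pointHom : Subgroup.normalizer (A : Set G) →* Equiv.Perm GolayPt where
  toFun g := (D.exists_perm g.2).choose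
  map_one' := D.perm_unique (D.exists_perm (one_mem _)).choose_spec fun p q _ => by simp
  map_mul' g h := D.perm_unique (D.exists_perm (g * h).2).choose_spec fun p q hpq => by
    have h1 := (D.exists_perm h.2).choose_spec p q hpq
    have h2 := (D.exists_perm g.2).choose_spec _ _ ((D.exists_perm h.2).choose.injective.ne hpq)
    rw [Equiv.Perm.mul_apply, Equiv.Perm.mul_apply, ← h2, ← h1]
    simp [mul_assoc]

theorem pointHom_spec (g : Subgroup.normalizer (A : Set G)) {p q : GolayPt} (h : p ≠ q) :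
    (g : G) * D.pairEl p q * (g : G)⁻¹ = D.pairEl (D.pointHom g p) (D.pointHom g q) :=
  (D.exists_perm g.2).choose_spec p q h

/-- The linear map on augmented coordinates. -/
theorem exists_aug (g : Subgroup.normalizer (A : Set G)) : ∃ Φ : ℕ → ℕ, Φ 0 = 0 ∧
    (∀ s : Finset GolayPt, augSum (D.pointHom g • s) = Φ (augSum s)) ∧
    (∀ y < 2048, Φ y < 2048 ∧ D.el (Φ y) = (g : G) * D.el y * (g : G)⁻¹) := by
  classical
  have hex : ∀ y, ∃ y' < 2048, y < 2048 → D.el y' = (g : G) * D.el y * (g : G)⁻¹ := by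
    intro y
    by_cases hy : y < 2048
    · obtain ⟨y', hy', e⟩ := D.surj _ ((Subgroup.mem_normalizer_iff.1 g.2 _).1 (D.mem y hy))
      exact ⟨y', hy', fun _ => e⟩
    · exact ⟨0, by norm_num, fun h => absurd h hy⟩
  choose φ hφlt hφ using hex
  have hφadd : ∀ y < 2048, ∀ y' < 2048, φ (Nat.xor y y') = Nat.xor (φ y) (φ y') := fun y hy y' hy' => by
    refine D.inj _ (hφlt _) _ (Nat.xor_lt_two_pow (n := 11) (hφlt _) (hφlt _)) ?_
    rw [hφ (Nat.xor y y') (Nat.xor_lt_two_pow (n := 11) hy hy'), D.add _ (hφlt _) _ (hφlt _), hφ y hy, hφ y' hy', D.add y hy y' hy']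
    simp [mul_assoc]
  have hφ0 : φ 0 = 0 := D.inj _ (hφlt 0) 0 (by norm_num) (by rw [hφ 0 (by norm_num), D.el_zero]; simp)
  obtain ⟨hb, h23, hx⟩ := tau_basic
  set σ := D.pointHom g
  set c := tauI (idx (σ (pt 23))) + 2048
  let Φ : ℕ → ℕ := fun Y => φ (Y % 2048) ^^^ (if Y.testBit 11 then c else 0)
  have hΦadd : ∀ Y Y', Φ (Y ^^^ Y') = Φ Y ^^^ Φ Y' := fun Y Y' => by
    simp only [Φ]
    rw [show (2048 : ℕ) = 2 ^ 11 from rfl, Nat.xor_mod_two_pow, Nat.testBit_xor]
    rw [show (Y % 2 ^ 11) ^^^ (Y' % 2 ^ 11) = Nat.xor (Y % 2 ^ 11) (Y' % 2 ^ 11) from rfl,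
      hφadd (Y % 2 ^ 11) (Nat.mod_lt _ (by norm_num)) (Y' % 2 ^ 11) (Nat.mod_lt _ (by norm_num))]
    show (φ (Y % 2 ^ 11) ^^^ φ (Y' % 2 ^ 11)) ^^^ _ = _
    cases Y.testBit 11 <;> cases Y'.testBit 11 <;>
      simp [Nat.xor_assoc, Nat.xor_left_comm, Nat.xor_comm]
  have hΦtau : ∀ p, Φ (tauI (idx p) + 2048) = tauI (idx (σ p)) + 2048 := by
    intro p
    obtain ⟨hlt, -, hbit⟩ := hb _ (idx_lt p)
    simp only [Φ, hbit, if_true, show (tauI (idx p) + 2048) % 2048 = tauI (idx p) by omega]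
    have hp : φ (tauI (idx p)) = Nat.xor (tauI (idx (σ p))) (tauI (idx (σ (pt 23)))) := by
      by_cases e : p = pt 23
      · rw [e, idx_pt (by norm_num), h23, hφ0]; exact (Nat.xor_self _).symm
      · refine D.inj _ (hφlt _) _ (pairV_lt _ _) ?_
        rw [hφ _ hlt]
        have h := D.pointHom_spec g e
        unfold pairEl pairV at h
        rw [idx_pt (by norm_num : 23 < 24), h23, show Nat.xor (tauI (idx p)) 0 = tauI (idx p) from Nat.xor_zero _] at h
        exact h
    rw [hp]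
    exact hx _ (idx_lt _) _ (idx_lt _)
  have hΦlow : ∀ y < 2048, Φ y = φ y := fun y hy => by
    simp only [Φ, Nat.testBit_lt_two_pow (show y < 2 ^ 11 from hy), Nat.mod_eq_of_lt hy]
    simp
  refine ⟨Φ, by rw [hΦlow 0 (by norm_num), hφ0], fun s => ?_, fun y hy => ?_⟩
  · induction s using Finset.induction_on with
    | empty => rw [Finset.smul_finset_empty, augSum_empty, hΦlow 0 (by norm_num), hφ0]
    | insert p s hp ih =>
      rw [smul_eq_image, Finset.image_insert, augSum_insert (fun h => hp ?_), augSum_insert hp, hΦadd, hΦtau,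
        ← smul_eq_image, ih]
      obtain ⟨q, hq, e⟩ := Finset.mem_image.1 h
      exact σ.injective e ▸ hq
  · rw [hΦlow y hy]; exact ⟨hφlt y, hφ y hy⟩

theorem pointHom_mem (g : Subgroup.normalizer (A : Set G)) : D.pointHom g ∈ M24 := by
  obtain ⟨Φ, h0, hΦ, -⟩ := D.exists_aug g
  exact mem_M24_iff.2 fun s hs => mem_supports_of_sum_zero (by rw [hΦ, code_sum_zero hs, h0])

/-- The action as a map to the Mathieu group. -/
noncomputable def mathieuHom : Subgroup.normalizer (A : Set G) →* ↥M24 :=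
  D.pointHom.codRestrict M24 D.pointHom_mem

theorem mathieuHom_ker : D.mathieuHom.ker = A.subgroupOf (Subgroup.normalizer (A : Set G)) := by
  ext g
  rw [MonoidHom.mem_ker, Subgroup.mem_subgroupOf]
  constructor
  · intro h
    refine D.cent _ fun a ha => ?_
    obtain ⟨y, hy, rfl⟩ := D.surj a ha
    obtain ⟨Φ, -, hΦ, hlow⟩ := D.exists_aug g
    obtain ⟨s, hs⟩ := exists_sum (show y < 4096 by omega)
    have h1 : D.pointHom g = 1 := congrArg Subtype.val h
    have hfix := hΦ s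
    rw [h1, one_smul, hs] at hfix
    obtain ⟨-, e⟩ := hlow y hy
    rw [← hfix, eq_mul_inv_iff_mul_eq] at e
    exact e
  · intro h
    refine Subtype.ext (D.perm_unique (D.exists_perm g.2).choose_spec fun p q _ => ?_)
    rw [D.comm h (D.pairEl_mem p q), mul_inv_cancel_right]
    rfl

include D in
theorem card_A : Nat.card A = 2 ^ 11 := by
  rw [show 2 ^ 11 = Nat.card (Fin 2048) by simp]
  refine (Nat.card_eq_of_bijective (fun y : Fin 2048 => (⟨D.el y, D.mem y y.isLt⟩ : A)) ⟨fun y y' h => ?_, fun a => ?_⟩).symm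
  · exact Fin.ext (D.inj y y.isLt y' y'.isLt (congrArg Subtype.val h))
  · obtain ⟨y, hy, e⟩ := D.surj a a.2
    exact ⟨⟨y, hy⟩, Subtype.ext e⟩

theorem mathieuHom_surjective [Finite G] : Function.Surjective D.mathieuHom := by
  classical
  set R := D.mathieuHom.range
  have hcard := Subgroup.card_eq_card_quotient_mul_card_subgroup D.mathieuHom.ker
  rw [Nat.card_congr (QuotientGroup.quotientKerEquivRange _).toEquiv, mathieuHom_ker,
    Nat.card_congr (Subgroup.subgroupOfEquivOfLe (Subgroup.le_normalizer : A ≤ _)).toEquiv, D.card_A] at hcard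
  have hdvd : 2 ^ 10 * 45 * 1771 ∣ Nat.card R := by
    have h := D.big
    rw [hcard, show 2 ^ 21 * 45 * 1771 = 2 ^ 10 * 45 * 1771 * 2 ^ 11 by norm_num] at h
    exact (Nat.mul_dvd_mul_iff_right (by norm_num)).1 h
  have hidx := Subgroup.card_mul_index R
  rw [Golay.natCard_M24] at hidx
  have h3 : R.index ≤ 3 := by
    obtain ⟨k, hk⟩ := hdvd
    rw [hk] at hidx
    have hk0 : 1 ≤ k := by rcases Nat.eq_zero_or_pos k with rfl | h <;> omega
    nlinarith
  haveI := Golay.isSimpleGroup_m24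
  have htop : R = ⊤ := by
    by_contra hne
    have hcore : R.normalCore = ⊥ := (IsSimpleGroup.eq_bot_or_eq_top_of_normal _ inferInstance).resolve_right
      fun h => hne (top_le_iff.1 (h ▸ Subgroup.normalCore_le R))
    have hinj : Function.Injective (MulAction.toPermHom ↥M24 (↥M24 ⧸ R)) := by
      rw [← MonoidHom.ker_eq_bot_iff, ← Subgroup.normalCore_eq_ker, hcore]
    have h := Nat.card_le_card_of_injective _ hinj
    rw [Nat.card_perm, Golay.natCard_M24, ← Subgroup.index] at h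
    have := Nat.factorial_le h3
    have h6 : Nat.factorial 3 = 6 := rfl
    omega
  exact MonoidHom.range_eq_top.1 htop

include D in
theorem quot_iso [Finite G] : ∃ _ : (A.subgroupOf (Subgroup.normalizer (A : Set G))).Normal,
    Nonempty (↥(Subgroup.normalizer (A : Set G)) ⧸ A.subgroupOf (Subgroup.normalizer (A : Set G)) ≃* ↥M24) :=
  ⟨inferInstance, ⟨(QuotientGroup.quotientMulEquivOfEq D.mathieuHom_ker.symm).trans
    (QuotientGroup.quotientKerEquivOfSurjective _ D.mathieuHom_surjective)⟩⟩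

theorem exists_pointHom [Finite G] {π : Equiv.Perm GolayPt} (hπ : π ∈ M24) :
    ∃ g : Subgroup.normalizer (A : Set G), D.pointHom g = π := by
  obtain ⟨g, hg⟩ := D.mathieuHom_surjective ⟨π, hπ⟩
  exact ⟨g, congrArg Subtype.val hg⟩

theorem exists_two_map {p q r s : GolayPt} (h : p ≠ q) (h' : r ≠ s) : ∃ π ∈ M24, π p = r ∧ π q = s := by
  obtain ⟨π, hπ, e⟩ := Golay.exists_map_of_le_five (n := 2) (by norm_num)
    ⟨![p, q], by intro i j hij; fin_cases i <;> fin_cases j <;> simp_all [eq_comm]⟩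
    ⟨![r, s], by intro i j hij; fin_cases i <;> fin_cases j <;> simp_all [eq_comm]⟩
  exact ⟨π, hπ, e 0, e 1⟩

include D in
theorem orbit_noncentral [Finite G] {a b : G} (ha : a ∈ A) (hb : b ∈ A) (ha1 : a ≠ 1) (hb1 : b ≠ 1)
    (haz : ¬ IsConj z a) (hbz : ¬ IsConj z b) : ∃ m ∈ Subgroup.normalizer (A : Set G), m * a * m⁻¹ = b := by
  obtain ⟨p, q, hpq, rfl⟩ := D.exists_pair ha ha1 haz
  obtain ⟨r, s, hrs, rfl⟩ := D.exists_pair hb hb1 hbz
  obtain ⟨π, hπ, e1, e2⟩ := exists_two_map hpq hrs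
  obtain ⟨g, hg⟩ := D.exists_pointHom hπ
  exact ⟨g, g.2, by rw [D.pointHom_spec g hpq, hg, e1, e2]⟩

include D in
theorem orbit_class [Finite G] {a b : G} (ha : a ∈ A) (hb : b ∈ A) (ha1 : a ≠ 1) (hb1 : b ≠ 1)
    (h : IsConj z a ↔ IsConj z b) : ∃ m ∈ Subgroup.normalizer (A : Set G), m * a * m⁻¹ = b := by
  by_cases haz : IsConj z a
  · exact D.mover a ha haz b hb (h.1 haz)
  · exact D.orbit_noncentral ha hb ha1 hb1 haz (fun e => haz (h.2 e))

include D in
theorem fusion [Finite G] {a g : G} (ha : a ∈ A) (hg : g * a * g⁻¹ ∈ A) :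
    ∃ m ∈ Subgroup.normalizer (A : Set G), m * a * m⁻¹ = g * a * g⁻¹ := by
  by_cases h1 : a = 1
  · exact ⟨1, one_mem _, by simp [h1]⟩
  · exact D.orbit_class ha hg h1 (fun e => h1 (conj_eq_one_iff.1 e)) (class_conj g a).symm

include D in
/-- The stabiliser of a noncentral involution. -/
theorem stab_iso [Finite G] {t : G} (htA : t ∈ A) (ht1 : t ≠ 1) (htz : ¬ IsConj z t) :
    ∃ _ : (A.subgroupOf (Subgroup.normalizer (A : Set G) ⊓ Subgroup.centralizer ({t} : Set G))).Normal,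
      Nonempty (↥(Subgroup.normalizer (A : Set G) ⊓ Subgroup.centralizer ({t} : Set G)) ⧸
          A.subgroupOf (Subgroup.normalizer (A : Set G) ⊓ Subgroup.centralizer ({t} : Set G)) ≃*
        ↥(M24 ⊓ MulAction.stabilizer (Equiv.Perm GolayPt) ({none, some 0} : Set GolayPt))) := by
  classical
  obtain ⟨p, q, hpq, rfl⟩ := D.exists_pair htA ht1 htz
  obtain ⟨τ, hτ, e1, e2⟩ := exists_two_map hpq (show (none : GolayPt) ≠ some 0 by simp)
  set L := Subgroup.normalizer (A : Set G) ⊓ Subgroup.centralizer ({D.pairEl p q} : Set G)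
  have hfix : ∀ g : Subgroup.normalizer (A : Set G), (g : G) * D.pairEl p q = D.pairEl p q * (g : G) ↔
      τ * D.pointHom g * τ⁻¹ ∈ MulAction.stabilizer (Equiv.Perm GolayPt) ({none, some 0} : Set GolayPt) := by
    intro g
    rw [MulAction.mem_stabilizer_iff, ← e1, ← e2]
    have himg : (τ * D.pointHom g * τ⁻¹) • ({τ p, τ q} : Set GolayPt) =
        {τ (D.pointHom g p), τ (D.pointHom g q)} := by
      rw [Set.smul_set_insert, Set.smul_set_singleton]
      simp [Equiv.Perm.smul_def]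
    rw [himg, Set.pair_eq_pair_iff, τ.injective.eq_iff, τ.injective.eq_iff, τ.injective.eq_iff, τ.injective.eq_iff,
      ← mul_inv_eq_iff_eq_mul, D.pointHom_spec g hpq]
    refine ⟨fun h => D.pairEl_inj ((D.pointHom g).injective.ne hpq) hpq h, ?_⟩
    rintro (⟨a, b⟩ | ⟨a, b⟩) <;> rw [a, b]
    exact D.pairEl_comm q p
  let ι : L →* Subgroup.normalizer (A : Set G) := Subgroup.inclusion inf_le_left
  let f : L →* ↥(M24 ⊓ MulAction.stabilizer (Equiv.Perm GolayPt) ({none, some 0} : Set GolayPt)) :=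
    ((MulAut.conj τ).toMonoidHom.comp (D.pointHom.comp ι)).codRestrict _ fun g =>
      ⟨mul_mem (mul_mem hτ (D.pointHom_mem (ι g))) (M24.inv_mem hτ),
        (hfix (ι g)).1 (Subgroup.mem_centralizer_singleton_iff.1 g.2.2)⟩
  have hker : f.ker = A.subgroupOf L := by
    ext g
    have h : D.pointHom (ι g) = 1 ↔ (g : G) ∈ A := by
      have := SetLike.ext_iff.1 D.mathieuHom_ker (ι g)
      rw [MonoidHom.mem_ker, Subgroup.mem_subgroupOf] at this
      exact ⟨fun h => this.1 (Subtype.ext h), fun h => congrArg Subtype.val (this.2 h)⟩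
    rw [MonoidHom.mem_ker, Subgroup.mem_subgroupOf, ← h, Subtype.ext_iff]
    exact conj_eq_one_iff
  have hsurj : Function.Surjective f := by
    rintro ⟨π, hπ, hst⟩
    obtain ⟨g, hg⟩ := D.exists_pointHom (mul_mem (mul_mem (M24.inv_mem hτ) hπ) hτ)
    have he : τ * D.pointHom g * τ⁻¹ = π := by rw [hg]; simp [mul_assoc]
    exact ⟨⟨g, g.2, Subgroup.mem_centralizer_singleton_iff.2 ((hfix g).2 (by rw [he]; exact hst))⟩, Subtype.ext he⟩
  haveI hn : (A.subgroupOf L).Normal := hker ▸ inferInstance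
  exact ⟨hn, ⟨(QuotientGroup.quotientMulEquivOfEq hker.symm).trans (QuotientGroup.quotientKerEquivOfSurjective f hsurj)⟩⟩

include D in
/-- The data for a conjugate subgroup. -/
theorem conj [Finite G] (k : G) : Nonempty (AData z (A.map (MulAut.conj k).toMonoidHom)) := by
  set A' := A.map (MulAut.conj k).toMonoidHom
  have hN : Subgroup.normalizer (A' : Set G) = (Subgroup.normalizer (A : Set G)).map (MulAut.conj k).toMonoidHom :=
    (Subgroup.map_equiv_normalizer_eq A (MulAut.conj k)).symm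
  refine ⟨⟨fun y => k * D.el y * k⁻¹, fun y hy => ⟨_, D.mem y hy, rfl⟩, ?_, fun y hy y' hy' e =>
    D.inj y hy y' hy' (mul_left_cancel (mul_right_cancel e)), fun y hy y' hy' => ?_, fun y hy => ?_, ?_, ?_, ?_⟩⟩
  · rintro _ ⟨a, ha, rfl⟩
    obtain ⟨y, hy, rfl⟩ := D.surj a ha
    exact ⟨y, hy, rfl⟩
  · show k * D.el (Nat.xor y y') * k⁻¹ = _
    rw [D.add y hy y' hy']; simp [mul_assoc]
  · rw [D.cls y hy, class_conj k]
  · rintro _ ⟨a, ha, rfl⟩ hza _ ⟨b, hb, rfl⟩ hzb
    obtain ⟨m, hm, e⟩ := D.mover a ha ((class_conj k a).1 hza) b hb ((class_conj k b).1 hzb)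
    refine ⟨MulAut.conj k m, hN ▸ Subgroup.mem_map_of_mem _ hm, ?_⟩
    show MulAut.conj k m * MulAut.conj k a * (MulAut.conj k m)⁻¹ = MulAut.conj k b
    rw [← map_inv, ← map_mul, ← map_mul, e]
  · intro g hg
    refine ⟨k⁻¹ * g * k, D.cent _ fun a ha => ?_, by simp [mul_assoc]⟩
    have h := hg (k * a * k⁻¹) ⟨a, ha, rfl⟩
    calc a * (k⁻¹ * g * k) = k⁻¹ * (k * a * k⁻¹ * g) * k := by simp [mul_assoc]
      _ = _ := by rw [h]; simp [mul_assoc]
  · rw [hN, ← Nat.card_congr (Subgroup.equivMapOfInjective _ _ (MulAut.conj k).injective).toEquiv]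
    exact D.big

end AData

end Cfsg.Agent.LargeFischer
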