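/-
The conjugates of z in the subgroup of order 2^11.

* `AData.card_zclass`, `exists_adata_at`
-/
import Cfsg.Agent.Lib.LargeFischer.ElemNorm

set_option autoImplicit false
set_option maxRecDepth 100000
open Cfsg

namespace Cfsg.Agent.LargeFischer

universe u

theorem isTL_count : ((List.range 2048).filter fun y => !Nat.beq y 0 && !isTL y).length = 1771 ∧
    ((List.range 2048).filter fun y => isTL y).length = 276 := by
  decide +kernel

variable {G : Type u} [Group G] {z : G} {A : Subgroup G}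

theorem AData.el_one (D : AData z A) : D.el 0 = 1 := by
  have h := D.add 0 (by norm_num) 0 (by norm_num)
  rw [show Nat.xor 0 0 = 0 from rfl] at h
  exact left_eq_mul.1 h

/-- Exactly 1771 elements of A are conjugate to z. -/
theorem AData.card_zclass (D : AData z A) (hz : z ≠ 1) : {a | a ∈ A ∧ IsConj z a}.ncard = 1771 := by
  classical
  have e : {a | a ∈ A ∧ IsConj z a} =
      D.el '' ↑((List.range 2048).filter fun y => !Nat.beq y 0 && !isTL y).toFinset := by
    ext a
    simp only [Set.mem_ofPred_eq, Set.mem_image, Finset.mem_coe, List.mem_toFinset, List.mem_filter, List.mem_range,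
      Bool.and_eq_true, Bool.not_eq_true']
    constructor
    · rintro ⟨ha, hc⟩
      obtain ⟨y, hy, rfl⟩ := D.surj a ha
      have hy0 : y ≠ 0 := fun e => hz (isConj_one_left.1 (by rw [← D.el_one, ← e]; exact hc))
      refine ⟨y, ⟨hy, Bool.eq_false_iff.2 fun h => hy0 (Nat.eq_of_beq_eq_true h), ?_⟩, rfl⟩
      exact Bool.eq_false_iff.2 fun h => ((D.cls y hy).1 h).2 hc
    · rintro ⟨y, ⟨hy, hy0, hT⟩, rfl⟩
      refine ⟨D.mem y hy, by_contra fun h => ?_⟩
      rw [(D.cls y hy).2 ⟨fun e => by rw [e] at hy0; exact Bool.noConfusion hy0, h⟩] at hT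
      exact Bool.noConfusion hT
  rw [e, Set.InjOn.ncard_image, Set.ncard_coe_finset,
    List.toFinset_card_of_nodup (List.nodup_range.filter _), isTL_count.1]
  intro y hy y' hy' h
  simp only [Finset.mem_coe, List.mem_toFinset, List.mem_filter, List.mem_range] at hy hy'
  exact D.inj y hy.1 y' hy'.1 h

/-- The data can be taken inside the centraliser of z, with z in A. -/
theorem exists_adata_at [Finite G] {Q : Subgroup (Subgroup.centralizer ({z} : Set G))} [Q.Normal]
    (hF : Cfsg.IsOfLargeFischerTypeAt z Q) : ∃ A : Subgroup G, Nonempty (AData z A) ∧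
      A ≤ Subgroup.centralizer ({z} : Set G) ∧ z ∈ A ∧ Nat.card A = 2 ^ 11 := by
  classical
  haveI : Fact (Cfsg.IsExtraspecial 2 Q) := ⟨hF.1.2.2.1⟩
  obtain ⟨S⟩ := exists_setting hF
  obtain ⟨L, hL⟩ := S.classify_A hF
  obtain ⟨el, hmem, hsurj, hinj, hadd, hcls⟩ := S.exists_linear hF L hL
  refine ⟨S.groupG, ⟨⟨el, hmem, hsurj, hinj, hadd, hcls, fun a ha ia b hb ib => ?_, S.cent_groupG hF L hL,
    S.card_normalizer_G hF L hL⟩⟩, ?_, S.z_mem_groupG hF, S.groupG_card hF⟩
  · obtain ⟨y₁, hy₁, e₁⟩ := S.exists_mover hF ha ia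
    obtain ⟨y₂, hy₂, e₂⟩ := S.exists_mover hF hb ib
    refine ⟨y₂ * y₁⁻¹, mul_mem hy₂ (inv_mem hy₁), ?_⟩
    rw [← e₁, ← e₂]; simp [mul_assoc]
  · exact Subgroup.map_subtype_le _

end Cfsg.Agent.LargeFischer
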