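/-
Codes near the point of the all-one code: pairs, constants, and the two tests on small vectors.

* `cadd`, `pair`, `cst`, `smallC`
* `exists_pair`, `all_pairs`
-/
import Cfsg.Agent.Lib.LargeFischer.Mono

set_option autoImplicit false
set_option maxRecDepth 100000

namespace Cfsg.Agent.LargeFischer

/-- Addition of codes. -/
def cadd (a b : Code) : Code := fun k => add4 (a k) (b k)

/-- The code with one value on two coordinates. -/
def pair (c : Fin 4) (i j : Fin 6) : Code := fun k => if k = i ∨ k = j then c else 0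

/-- A constant code. -/
def cst (c : Fin 4) : Code := fun _ => c

/-- The vectors of the small orbit, the all-one code being in the large one. -/
def smallC (δ : Fin 3) (a : Code) : Bool := wt a == 2 || (wt a == 6 && tot a == δ.val)

theorem add4_facts : (∀ x : Fin 4, add4 x x = 0 ∧ add4 x 0 = x ∧ add4 0 x = x) ∧
    (∀ x y : Fin 4, add4 x y = add4 y x ∧ add4 x (add4 x y) = y ∧ (add4 x y = 0 → x = y)) ∧
    ∀ x y l : Fin 4, add4 (add4 x y) l = add4 x (add4 y l) := by decide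

theorem cadd_self (a : Code) : cadd a a = 0 := funext fun _ => (add4_facts.1 _).1

theorem cadd_zero (a : Code) : cadd a 0 = a := funext fun _ => (add4_facts.1 _).2.1

theorem rot_add4 : ∀ (w : ZMod 3) (x y : Fin 4), rot w (add4 x y) = add4 (rot w x) (rot w y) := by decide

theorem rot_cases : ∀ c d : Fin 4, c ≠ 0 → d ≠ 0 → ∃ w : ZMod 3, rot w c = d := by decide

theorem mono_pair (w : ZMod 3) (c : Fin 4) (i j : Fin 6) :
    mono (fun _ => w) 1 (pair c i j) = pair (rot w c) i j := by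
  funext k
  show rot w (if k = i ∨ k = j then c else 0) = if k = i ∨ k = j then rot w c else 0
  split_ifs
  · rfl
  · exact rot_right_zero w

theorem comp_add (a b : Code) (π : Equiv.Perm (Fin 6)) : cadd a b ∘ π = cadd (a ∘ π) (b ∘ π) := rfl

theorem others : ∀ i j : Fin 6, i ≠ j → ∃ k l m : Fin 6,
    k ≠ i ∧ k ≠ j ∧ l ≠ i ∧ l ≠ j ∧ m ≠ i ∧ m ≠ j ∧ k ≠ l ∧ k ≠ m ∧ l ≠ m := by decide

theorem others_two : ∀ i j k : Fin 6, ∃ m n : Fin 6,
    m ≠ i ∧ m ≠ j ∧ m ≠ k ∧ n ≠ i ∧ n ≠ j ∧ n ≠ k ∧ m ≠ n := by decide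

theorem pair_comm (c : Fin 4) (i j : Fin 6) : pair c i j = pair c j i := by
  funext k; simp only [pair, or_comm]

theorem pair_add (c : Fin 4) {i j k : Fin 6} (hij : i ≠ j) (hik : i ≠ k) (hjk : j ≠ k) :
    cadd (pair c i j) (pair c j k) = pair c i k := by
  funext m
  simp only [cadd, pair]
  by_cases h1 : m = i
  · subst h1; simp [hij, hik, (add4_facts.1 c).2.1]
  by_cases h2 : m = j
  · subst h2; simp [h1, hjk, (add4_facts.1 c).1]
  by_cases h3 : m = k
  · subst h3; simp [h1, h2, (add4_facts.1 c).2.2]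
  simp [h1, h2, h3, (add4_facts.1 0).1]

theorem pair_same (c : Fin 4) (i : Fin 6) : cadd (pair c i i) (pair c i i) = 0 := cadd_self _

theorem pair_plus (c d : Fin 4) (i j : Fin 6) : cadd (pair c i j) (pair d i j) = pair (add4 c d) i j := by
  funext k
  simp only [cadd, pair]
  split_ifs
  · rfl
  · exact (add4_facts.1 0).1

theorem cst_eq : ∀ c : Fin 4, cst c = cadd (pair c 0 1) (cadd (pair c 2 3) (pair c 4 5)) := by decide

/-- An element and its image under a double transposition. -/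
theorem add_comp_two (a : Code) {i j k l : Fin 6} (hij : i ≠ j) (hik : i ≠ k) (hil : i ≠ l) (hjk : j ≠ k)
    (hjl : j ≠ l) (hkl : k ≠ l) :
    cadd a (a ∘ ⇑(Equiv.swap i j * Equiv.swap k l)) =
      cadd (pair (add4 (a i) (a j)) i j) (pair (add4 (a k) (a l)) k l) := by
  funext m
  simp only [cadd, pair, Function.comp_apply, Equiv.Perm.mul_apply]
  by_cases h1 : m = i
  · subst h1
    simp [Equiv.swap_apply_of_ne_of_ne hik hil, hik, hil, (add4_facts.1 _).2.1]
  by_cases h2 : m = j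
  · subst h2
    simp [Equiv.swap_apply_of_ne_of_ne hjk hjl, hjk, hjl, (add4_facts.1 _).2.1, (add4_facts.2.1 (a i) (a m)).1]
  by_cases h3 : m = k
  · subst h3
    simp [Equiv.swap_apply_of_ne_of_ne hil.symm hjl.symm, h1, h2, (add4_facts.1 _).2.2]
  by_cases h4 : m = l
  · subst h4
    simp [Equiv.swap_apply_of_ne_of_ne hik.symm hjk.symm, h1, h2, (add4_facts.1 _).2.2,
      (add4_facts.2.1 (a k) (a m)).1]
  simp [Equiv.swap_apply_of_ne_of_ne h3 h4, Equiv.swap_apply_of_ne_of_ne h1 h2, h1, h2, h3, h4,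
    (add4_facts.1 _).1]

/-- The second double transposition isolates one pair. -/
theorem add_comp_again (d d' : Fin 4) {i j k l m : Fin 6} (hij : i ≠ j) (hki : k ≠ i) (hkj : k ≠ j) (hli : l ≠ i)
    (hlj : l ≠ j) (hmi : m ≠ i) (hmj : m ≠ j) (hkl : k ≠ l) (hkm : k ≠ m) (hlm : l ≠ m) :
    cadd (cadd (pair d i j) (pair d' k l))
      (cadd (pair d i j) (pair d' k l) ∘ ⇑(Equiv.swap i j * Equiv.swap k m)) = pair d' k m := by
  rw [add_comp_two _ hij hki.symm hmi.symm hkj.symm hmj.symm hkm]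
  funext x
  simp only [cadd, pair]
  simp [hij, hij.symm, hki, hki.symm, hkj, hkj.symm, hli, hli.symm, hlj, hlj.symm, hmi, hmj, hkl, hkm.symm, hlm.symm,
    (add4_facts.1 _).1, (add4_facts.1 _).2.1, (add4_facts.1 _).2.2]

theorem pair_move (c : Fin 4) {i j k m n : Fin 6} (hij : i ≠ j) (hik : i ≠ k) (hjk : j ≠ k) (hmi : m ≠ i)
    (hmj : m ≠ j) (hmk : m ≠ k) (hni : n ≠ i) (hnj : n ≠ j) (hnk : n ≠ k) :
    pair c i j ∘ ⇑(Equiv.swap i k * Equiv.swap m n) = pair c k j := by
  funext x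
  simp only [pair, Function.comp_apply, Equiv.Perm.mul_apply]
  by_cases h1 : x = i
  · subst h1
    simp [Equiv.swap_apply_of_ne_of_ne hmi.symm hni.symm, hik, hik.symm, hij, hjk.symm]
  by_cases h2 : x = k
  · subst h2
    simp [Equiv.swap_apply_of_ne_of_ne hmk.symm hnk.symm]
  by_cases h3 : x = j
  · subst h3
    simp [Equiv.swap_apply_of_ne_of_ne hmj.symm hnj.symm, Equiv.swap_apply_of_ne_of_ne h1 h2]
  by_cases h4 : x = m
  · subst h4
    simp [Equiv.swap_apply_of_ne_of_ne hni hnk, hni, hnj, hmk, hmj]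
  by_cases h5 : x = n
  · subst h5
    simp [Equiv.swap_apply_of_ne_of_ne hmi hmk, hmi, hmj, hnk, hnj]
  simp [Equiv.swap_apply_of_ne_of_ne h4 h5, Equiv.swap_apply_of_ne_of_ne h1 h2, h1, h2, h3]

/-- The double transpositions. -/
def IsDT (τ : Equiv.Perm (Fin 6)) : Prop :=
  ∃ i j k l : Fin 6, i ≠ j ∧ i ≠ k ∧ i ≠ l ∧ j ≠ k ∧ j ≠ l ∧ k ≠ l ∧ τ = Equiv.swap i j * Equiv.swap k l

theorem isDT_sign {τ : Equiv.Perm (Fin 6)} (h : IsDT τ) : τ ∈ alternatingGroup (Fin 6) := by
  obtain ⟨i, j, k, l, hij, -, -, -, -, hkl, rfl⟩ := h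
  rw [Equiv.Perm.mem_alternatingGroup, map_mul, Equiv.Perm.sign_swap hij, Equiv.Perm.sign_swap hkl]
  rfl

/-- A set of codes closed under `a ↦ a + a∘τ` contains a pair as soon as it has a code that is not constant. -/
theorem exists_pair (S : Code → Prop) (hS : ∀ a τ, IsDT τ → S a → S (cadd a (a ∘ ⇑τ))) {a : Code} (ha : S a)
    (hne : ∃ i j, a i ≠ a j) : ∃ c i j, c ≠ 0 ∧ i ≠ j ∧ S (pair c i j) := by
  obtain ⟨i, j, hne⟩ := hne
  have hij : i ≠ j := fun e => hne (by rw [e])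
  obtain ⟨k, l, m, hki, hkj, hli, hlj, hmi, hmj, hkl, hkm, hlm⟩ := others i j hij
  have hb := hS a _ ⟨i, j, k, l, hij, hki.symm, hli.symm, hkj.symm, hlj.symm, hkl, rfl⟩ ha
  rw [add_comp_two a hij hki.symm hli.symm hkj.symm hlj.symm hkl] at hb
  by_cases h0 : add4 (a k) (a l) = 0
  · refine ⟨_, i, j, fun e => hne ((add4_facts.2.1 _ _).2.2 e), hij, ?_⟩
    have : pair (add4 (a k) (a l)) k l = 0 := funext fun x => by simp [pair, h0]
    rwa [this, cadd_zero] at hb
  · refine ⟨_, k, m, h0, hkm, ?_⟩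
    have h2 := hS _ (Equiv.swap i j * Equiv.swap k m) ⟨i, j, k, m, hij, hki.symm, hmi.symm, hkj.symm, hmj.symm, hkm, rfl⟩ hb
    rwa [add_comp_again _ _ hij hki hkj hli hlj hmi hmj hkl hkm hlm] at h2

/-- A set of codes closed under double transpositions containing a pair contains all of that value. -/
theorem all_pairs (S : Code → Prop) (hS : ∀ a τ, IsDT τ → S a → S (a ∘ ⇑τ)) {c : Fin 4} {i j : Fin 6}
    (hij : i ≠ j) (h : S (pair c i j)) : ∀ k l, k ≠ l → S (pair c k l) := by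
  have step : ∀ i j k : Fin 6, i ≠ j → k ≠ j → S (pair c i j) → S (pair c k j) := by
    intro i j k hij hkj h
    by_cases hik : i = k
    · rwa [← hik]
    obtain ⟨m, n, hmi, hmj, hmk, hni, hnj, hnk, hmn⟩ := others_two i j k
    have := hS _ (Equiv.swap i k * Equiv.swap m n) ⟨i, k, m, n, hik, hmi.symm, hni.symm, hmk.symm, hnk.symm, hmn, rfl⟩ h
    rwa [pair_move c hij hik hkj.symm hmi hmj hmk hni hnj hnk] at this
  intro k l hkl
  by_cases hlj : l = j
  · subst hlj; exact step i l k hij hkl h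
  · -- move the first coordinate to l
    have h1 : S (pair c l j) := step i j l hij hlj h
    rw [pair_comm] at h1
    exact step j l k (Ne.symm hlj) hkl h1

theorem small_test : ∀ δ : Fin 3, δ ≠ 0 → ∀ c : Fin 4, c ≠ 0 →
    smallC δ (pair c 0 1) = true ∧ (smallC δ (cadd (pair c 0 1) (cst 1)) = true ↔ c.val = δ.val + 1) := by
  decide +kernel

/-- The code used against the transvection. -/
def testC : Code := ![1, 2, 0, 0, 0, 0]

theorem transvection_test : ∀ δ : Fin 3, δ ≠ 0 →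
    smallC δ testC = true ∧ smallC δ (cadd testC (cst 3)) = false := by decide +kernel

/-- The parity at one coordinate. -/
def qc (x : Fin 4) : ZMod 2 := if x = 0 then 0 else 1

/-- The polar form at one coordinate. -/
def bc (x y : Fin 4) : ZMod 2 := qc (add4 x y) + qc x + qc y

theorem bc_facts : (∀ d x y : Fin 4, bc d (add4 x y) = bc d x + bc d y) ∧
    (∀ x : Fin 4, (bc 1 x = 0 ∧ bc 2 x = 0) ↔ x = 0) ∧
    (∀ x : Fin 4, (∀ d : Fin 4, bc d x = 0) → x = 0) ∧ (∀ d : Fin 4, bc d 0 = 0) ∧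
    ∀ x y : Fin 4, bc x y = bc y x := by decide

theorem wt_cast (a : Code) : (wt a : ZMod 2) = ∑ k, qc (a k) := by
  rw [wt, Finset.card_filter, Nat.cast_sum]
  refine Finset.sum_congr rfl fun k _ => ?_
  by_cases h : a k = 0 <;> simp [qc, h]

/-- The sum of the coordinates. -/
def s4 (a : Code) : Fin 4 := add4 (a 0) (add4 (a 1) (add4 (a 2) (add4 (a 3) (add4 (a 4) (a 5)))))

theorem sum_bc_cst (d : Fin 4) (a : Code) : ∑ k, bc d (a k) = bc d (s4 a) := by
  simp [Fin.sum_univ_six, s4, bc_facts.1, add_assoc]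

end Cfsg.Agent.LargeFischer
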