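/-
Coordinates adapted to a vector of the large orbit: it becomes the all-one code, the stabiliser contains the
pure even permutations, and the small orbit is given by `smallC 2`.

* `Point`, `Frame.exists_point`
-/
import Cfsg.Agent.Lib.LargeFischer.SixCode
import Cfsg.Agent.Lib.LargeFischer.Stab

set_option autoImplicit false
set_option maxRecDepth 100000

namespace Cfsg.Agent.LargeFischer

variable {V : Type*} [AddCommGroup V] [Module (ZMod 2) V] [Finite V]

/-- Coordinates at a vector of the large orbit. -/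
structure Point (q : QuadraticForm (ZMod 2) V) (Γ : Subgroup (V ≃ₗ[ZMod 2] V)) (m : V ≃ₗ[ZMod 2] V) (v : V) where
  /-- Vectors by coordinates. -/
  φ : Code → V
  bij : Function.Bijective φ
  φ_zero : φ 0 = 0
  φ_add : ∀ a b, φ a + φ b = φ (cadd a b)
  q_φ : ∀ a, q (φ a) = (wt a : ZMod 2)
  m_φ : ∀ a, m (φ a) = φ (mono (fun _ => 1) 1 a)
  φ_one : φ (cst 1) = v
  small : ∀ a, (cls a).isSome = true →
    (Nat.card (MulAction.stabilizer Γ (φ a)) = 51840 ↔ smallC 2 a = true)
  shift : ∀ w : Fin 6 → ZMod 3, ∑ k, w k = 0 → ∃ γ ∈ Γ, ∀ a, γ (φ a) = φ (mono w 1 a)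
  /-- The even permutations. -/
  perm : alternatingGroup (Fin 6) →* Γ
  perm_φ : ∀ π a, (perm π).1 (φ a) = φ (a ∘ ⇑((π : Equiv.Perm (Fin 6))⁻¹))

theorem wt_mono (w : Fin 6 → ZMod 3) (a : Code) : wt (mono w 1 a) = wt a := by
  unfold wt
  congr 1
  exact Finset.filter_congr fun k _ => not_congr (mono_eq_zero k)

theorem side_two : ∀ (r : Fin 3) (x : ZMod 3) (i : Fin 5), i.val = (x + ((r.val + 1 : ℕ) : ZMod 3)).val + 2 →
    side r (some i) = decide (x = 2) := by decide

theorem side_small : ∀ r : Fin 3, side r (some 0) = true ∧ side r (some 1) = false := fun r =>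
  ⟨(side_sizes r).2.2.1, (side_sizes r).2.2.2⟩

theorem tot_two : ∀ m : Fin 3, decide ((((m : ℕ)) : ZMod 3) = 2) = (m.val == (2 : Fin 3).val) := by decide

namespace Frame

variable {q : QuadraticForm (ZMod 2) V} {Γ : Subgroup (V ≃ₗ[ZMod 2] V)} {n : V ≃ₗ[ZMod 2] V} (F : Frame q Γ n)
include F

theorem exists_point {r : Fin 3}
    (hrel : ∀ a b : Code, (cls a).isSome = true → (cls b).isSome = true →
      (F.Rel a b ↔ side r (cls a) = side r (cls b)))
    (hst : ∀ a : Code, (cls a).isSome = true →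
      Nat.card (MulAction.stabilizer Γ (F.psi a)) = if side r (cls a) then 51840 else 11520)
    {v : V} (hv : v ≠ 0) (hqv : q v = 0) (hvc : Nat.card (MulAction.stabilizer Γ v) = 11520)
    (hΓ : ∀ γ ∈ Γ, ∀ v, q (γ v) = q v) :
    ∃ γ ∈ Γ, Nonempty (Point q Γ (γ * n * γ⁻¹) v) := by
  classical
  obtain ⟨b, rfl⟩ := F.bij.2 v
  have hb := (F.singular_iff b).1 ⟨hv, hqv⟩
  have hbs : side r (cls b) = false := by
    cases h : side r (cls b)
    · rfl
    · rw [hst b hb, h] at hvc; norm_num at hvc
  set t : ZMod 3 := ((r.val + 1 : ℕ) : ZMod 3) with htdef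
  obtain ⟨h0, ht⟩ := fullCode_spec t
  have hts : side r (cls (fullCode t)) = false := by
    rw [cls_full h0, side_two r 0 _ (by rw [zero_add, ← htdef]; simp only [ht])]
    decide
  obtain ⟨γ, hγ, hγe⟩ := (hrel _ _ (by rw [cls_full h0]; rfl) hb).2 (hts.trans hbs.symm)
  refine ⟨γ, hγ, ?_⟩
  set w : Fin 6 → ZMod 3 := fun k => ((fullCode t k : ℕ) : ZMod 3) - 1 with hwdef
  have hone : mono w 1 (cst 1) = fullCode t := funext fun k => by
    show rot (w k) 1 = fullCode t k
    refine rot_eq (w k) 1 (fullCode t k) (h0 k) (by decide) ?_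
    simp [hwdef]
  have hwsum : ∑ k, w k = t := by
    simp only [hwdef, Finset.sum_sub_distrib, ← tot_cast, ht, Finset.sum_const, Finset.card_univ, Fintype.card_fin]
    rw [show (6 : ℕ) • (1 : ZMod 3) = 0 from by decide, sub_zero]
  let φ : Code → V := fun a => γ (F.psi (mono w 1 a))
  have hinv : ∀ (x : Fin 6 → ZMod 3) a, mono x 1 (mono w 1 a) = mono w 1 (mono x 1 a) := fun x a => by
    rw [mono_mono, mono_mono]
    congr 1
    funext k
    simp [add_comm]
  have hbij : Function.Bijective φ := by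
    refine γ.bijective.comp (F.bij.comp (Function.bijective_iff_has_inverse.2 ⟨mono (-w) 1, fun a => ?_, fun a => ?_⟩))
    · funext k; simp [mono, rot_rot, rot_zero]
    · funext k; simp [mono, rot_rot, rot_zero]
  have hperm : ∀ π : alternatingGroup (Fin 6), ∃ δ ∈ Γ, ∀ a, δ (φ a) = φ (a ∘ ⇑((π : Equiv.Perm (Fin 6))⁻¹)) := by
    intro π
    set p := (π : Equiv.Perm (Fin 6))⁻¹ with hp
    obtain ⟨c, ⟨g, hg, hgc⟩, hcs⟩ := F.exists_mono hrel (π := p) (inv_mem π.2)
    obtain ⟨s, hs, hsc⟩ := F.shift (fun k => w k - w (p k) - c k) (by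
      simp only [Finset.sum_sub_distrib, hcs, sub_zero]
      rw [Equiv.sum_comp p w, sub_self])
    refine ⟨γ * (s * g) * γ⁻¹, mul_mem (mul_mem hγ (mul_mem hs hg)) (inv_mem hγ), fun a => ?_⟩
    show γ (s (g (γ.symm (γ (F.psi (mono w 1 a)))))) = γ (F.psi (mono w 1 (a ∘ ⇑p)))
    rw [γ.symm_apply_apply, hgc, hsc, mono_mono, mono_mono]
    congr 2
    funext k
    simp only [mono, one_mul, mul_one, Function.comp_apply, Equiv.Perm.one_apply]
    congr 1
    ring
  choose δ hδ hδe using hperm
  have huniq : ∀ g g' : V ≃ₗ[ZMod 2] V, (∀ a, g (φ a) = g' (φ a)) → g = g' := fun g g' h =>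
    LinearEquiv.ext fun x => by obtain ⟨a, rfl⟩ := hbij.2 x; exact h a
  refine ⟨{
    φ := φ
    bij := hbij
    φ_zero := by
      show γ (F.psi (mono w 1 0)) = 0
      rw [show mono w 1 (0 : Code) = 0 from funext fun k => rot_right_zero _, F.psi_zero, map_zero]
    φ_add := fun a b => by
      show γ _ + γ _ = γ _
      rw [← map_add, F.psi_add]
      congr 2
      funext k
      exact (rot_add4 _ _ _).symm
    q_φ := fun a => by
      show q (γ (F.psi _)) = _
      rw [hΓ γ hγ, F.q_psi, wt_mono]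
    m_φ := fun a => by
      show γ (n (γ.symm (γ (F.psi _)))) = γ (F.psi _)
      rw [γ.symm_apply_apply, F.n_psi]
      exact congrArg (fun x => γ (F.psi x)) (hinv (fun _ => 1) a)
    φ_one := by show γ (F.psi (mono w 1 (cst 1))) = F.psi b; rw [hone, hγe]
    small := fun a ha => by
      have hw : (cls (mono w 1 a)).isSome = true := by
        rw [cls_isSome, wt_mono, Ne, ← wt_eq_zero, wt_mono, wt_eq_zero]; exact (cls_isSome a).1 ha
      have hside : side r (cls (mono w 1 a)) = smallC 2 a := by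
        by_cases h6 : wt a = 6
        · have hn : ∀ k, a k ≠ 0 := by
            have : (Finset.univ.filter fun k => a k ≠ 0) = Finset.univ :=
              Finset.eq_univ_of_card _ (by rw [Fintype.card_fin]; exact h6)
            intro k
            exact (Finset.mem_filter.1 (this.symm ▸ Finset.mem_univ k : k ∈ Finset.univ.filter fun k => a k ≠ 0)).2
          have hn' : ∀ k, mono w 1 a k ≠ 0 := fun k e => hn _ ((mono_eq_zero k).1 e)
          rw [cls_full hn']
          rw [side_two r ((tot a : ℕ) : ZMod 3) _ (by simp only [tot_mono w 1 hn, hwsum, htdef])]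
          have e : smallC 2 a = (tot a == (2 : Fin 3).val) := by simp [smallC, h6]
          rw [e]
          exact tot_two ⟨tot a, Nat.mod_lt _ (by norm_num)⟩
        · unfold cls at hw ⊢
          rw [wt_mono] at hw ⊢
          split_ifs at hw ⊢ with h2 h4
          · simp [smallC, h2, (side_small r).1]
          · simp [smallC, h4, (side_small r).2]
          · exact absurd hw (by simp)
      rw [show Nat.card (MulAction.stabilizer Γ (φ a)) = Nat.card (MulAction.stabilizer Γ (F.psi (mono w 1 a))) from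
        (Nat.card_congr (MulAction.stabilizerEquivStabilizer (G := Γ) (g := ⟨γ, hγ⟩)
          (a := F.psi (mono w 1 a)) (b := φ a) rfl).toEquiv).symm, hst _ hw, hside]
      cases smallC 2 a <;> simp
    shift := fun x hx => by
      obtain ⟨s, hs, hsc⟩ := F.shift x hx
      refine ⟨γ * s * γ⁻¹, mul_mem (mul_mem hγ hs) (inv_mem hγ), fun a => ?_⟩
      show γ (s (γ.symm (γ (F.psi _)))) = γ (F.psi _)
      rw [γ.symm_apply_apply, hsc, hinv]
    perm := MonoidHom.mk' (fun π => ⟨δ π, hδ π⟩) fun π π' => Subtype.ext (huniq _ _ fun a => by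
      show δ (π * π') (φ a) = δ π (δ π' (φ a))
      rw [hδe, hδe, hδe]
      congr 1)
    perm_φ := fun π a => hδe π a }⟩

end Frame

end Cfsg.Agent.LargeFischer
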