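/-
The stabiliser of a vector of the large orbit, seen through an invariant singular subgroup: no transvection,
and no invariant subgroup without fixed elements.

* `Point.Adm`, `Point.Tame`
* `Point.eq_one_of_fix`, `Point.exists_not_commute`, `Point.eq_zero_of_invariant`
-/
import Cfsg.Agent.Lib.LargeFischer.SixPoint

set_option autoImplicit false
set_option maxRecDepth 100000

namespace Cfsg.Agent.LargeFischer

/-- The code with one value at one coordinate. -/
def sgl (d : Fin 4) (i : Fin 6) : Code := fun k => if k = i then d else 0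

theorem s4_zero_last : ∀ x0 x1 x2 x3 x4 x5 : Fin 4, add4 x0 (add4 x1 (add4 x2 (add4 x3 (add4 x4 x5)))) = 0 →
    x5 = add4 x0 (add4 x1 (add4 x2 (add4 x3 x4))) := by decide +kernel

theorem decomp_pairs {a : Code} (h : s4 a = 0) :
    a = cadd (pair (a 0) 0 5) (cadd (pair (a 1) 1 5) (cadd (pair (a 2) 2 5) (cadd (pair (a 3) 3 5) (pair (a 4) 4 5)))) := by
  have h5 := s4_zero_last _ _ _ _ _ _ h
  funext k
  fin_cases k <;> simp [cadd, pair, (add4_facts.1 _).2.1, (add4_facts.1 _).2.2, ← h5]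

theorem decomp_sgl (a : Code) :
    a = cadd (sgl (a 0) 0) (cadd (sgl (a 1) 1) (cadd (sgl (a 2) 2) (cadd (sgl (a 3) 3) (cadd (sgl (a 4) 4) (sgl (a 5) 5))))) := by
  funext k
  fin_cases k <;> simp [cadd, sgl, (add4_facts.1 _).2.1, (add4_facts.1 _).2.2]

theorem sgl_facts : (∀ d : Fin 4, ∀ i j : Fin 6, i ≠ j → cadd (sgl d i) (sgl d j) = pair d i j) ∧
    (∀ e : Fin 4, (wt (cadd (sgl 1 0) (cst e)) : ZMod 2) = (wt (sgl 1 0) : ZMod 2) → e = 0 ∨ e = 1) ∧
    cadd (sgl 1 0) (sgl 2 1) = testC ∧ (cls testC).isSome = true ∧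
    (∀ i j k l : Fin 6, pair 3 k l ≠ cadd (pair 3 i j) (cst 1)) ∧
    cst 3 = cadd (pair 3 0 5) (cadd (pair 3 1 5) (cadd (pair 3 2 5) (cadd (pair 3 3 5) (pair 3 4 5)))) ∧
    (cls (pair 3 0 1)).isSome = true := by decide +kernel

theorem cst_add (c d : Fin 4) : cadd (cst c) (cst d) = cst (add4 c d) := rfl

theorem mono_cst (w : ZMod 3) (c : Fin 4) : mono (fun _ => w) 1 (cst c) = cst (rot w c) := rfl

theorem mono_sgl (w : ZMod 3) (d : Fin 4) (i : Fin 6) : mono (fun _ => w) 1 (sgl d i) = sgl (rot w d) i := by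
  funext k
  show rot w (if k = i then d else 0) = if k = i then rot w d else 0
  split_ifs
  · rfl
  · exact rot_right_zero w

theorem cst_three : ∀ c : Fin 4, c = 0 ∨ c = 1 ∨ c = 3 ∨ c = add4 1 3 := by decide

theorem pair_comp (c : Fin 4) (i j : Fin 6) (p : Equiv.Perm (Fin 6)) :
    pair c i j ∘ ⇑p = pair c (p⁻¹ i) (p⁻¹ j) := by
  funext k
  simp only [pair, Function.comp_apply]
  refine if_congr (or_congr ?_ ?_) rfl rfl <;> constructor <;> intro h
  · rw [← h]; simp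
  · rw [h]; simp
  · rw [← h]; simp
  · rw [h]; simp

theorem dt_inv {τ : Equiv.Perm (Fin 6)} (h : IsDT τ) : τ⁻¹ = τ := by
  obtain ⟨i, j, k, l, -, hik, hil, hjk, hjl, -, rfl⟩ := h
  rw [mul_inv_rev, Equiv.swap_inv, Equiv.swap_inv]
  refine Equiv.ext fun x => ?_
  simp only [Equiv.Perm.mul_apply]
  by_cases h1 : x = i
  · subst h1
    simp [Equiv.swap_apply_of_ne_of_ne hik hil, Equiv.swap_apply_of_ne_of_ne hjk hjl]
  by_cases h2 : x = j
  · subst h2
    simp [Equiv.swap_apply_of_ne_of_ne hik hil, Equiv.swap_apply_of_ne_of_ne hjk hjl]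
  rw [Equiv.swap_apply_of_ne_of_ne h1 h2]
  by_cases h3 : x = k
  · subst h3
    simp [Equiv.swap_apply_of_ne_of_ne hil.symm hjl.symm]
  by_cases h4 : x = l
  · subst h4
    simp [Equiv.swap_apply_of_ne_of_ne hik.symm hjk.symm]
  rw [Equiv.swap_apply_of_ne_of_ne h3 h4, Equiv.swap_apply_of_ne_of_ne h1 h2]

variable {V : Type*} [AddCommGroup V] [Module (ZMod 2) V] [Finite V] {q : QuadraticForm (ZMod 2) V}
  {Γ : Subgroup (V ≃ₗ[ZMod 2] V)} {m : V ≃ₗ[ZMod 2] V} {v : V}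

namespace Point

variable (P : Point q Γ m v)
include P

theorem mpow : ∀ (k : ℕ) (a : Code), (m ^ k) (P.φ a) = P.φ (mono (fun _ => (k : ZMod 3)) 1 a)
  | 0, a => by rw [pow_zero, Nat.cast_zero]; exact congrArg P.φ (mono_zero a).symm
  | k + 1, a => by
    rw [pow_succ']
    show m ((m ^ k) (P.φ a)) = _
    rw [mpow k a, P.m_φ, mono_mono]
    congr 2
    funext x
    push_cast
    exact add_comm _ _

theorem commute_pow {γ : V ≃ₗ[ZMod 2] V} (hc : γ * m = m * γ) (k : ℕ) (x : V) :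
    γ ((m ^ k) x) = (m ^ k) (γ x) :=
  LinearEquiv.congr_fun ((Commute.pow_right hc k).eq) x

theorem exists_pow {c d : Fin 4} (hc : c ≠ 0) (hd : d ≠ 0) :
    ∃ k : ℕ, (∀ i j, (m ^ k) (P.φ (pair c i j)) = P.φ (pair d i j)) ∧ (m ^ k) (P.φ (cst c)) = P.φ (cst d) := by
  obtain ⟨w, hw⟩ := rot_cases c d hc hd
  refine ⟨w.val, fun i j => ?_, ?_⟩
  · rw [P.mpow, ZMod.natCast_zmod_val, mono_pair, hw]
  · rw [P.mpow, ZMod.natCast_zmod_val, mono_cst, hw]

theorem polar_φ (a b : Code) : QuadraticMap.polar q (P.φ a) (P.φ b) = ∑ k, bc (a k) (b k) := by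
  unfold QuadraticMap.polar
  rw [P.φ_add, P.q_φ, P.q_φ, P.q_φ, wt_cast, wt_cast, wt_cast, ← Finset.sum_sub_distrib, ← Finset.sum_sub_distrib]
  refine Finset.sum_congr rfl fun k _ => ?_
  rw [CharTwo.sub_eq_add, CharTwo.sub_eq_add]
  rfl

theorem polar_cst (d : Fin 4) (a : Code) : QuadraticMap.polar q (P.φ (cst d)) (P.φ a) = bc d (s4 a) := by
  rw [P.polar_φ]; exact sum_bc_cst d a

theorem v_ne : v ≠ 0 := fun h => by
  have e : cst 1 = (0 : Code) := P.bij.1 (P.φ_one.trans (h.trans P.φ_zero.symm))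
  exact absurd (congrFun e 0) (by decide)

theorem fix_cst {γ : V ≃ₗ[ZMod 2] V} (hv : γ v = v) (hc : γ * m = m * γ) (c : Fin 4) :
    γ (P.φ (cst c)) = P.φ (cst c) := by
  by_cases h0 : c = 0
  · subst h0
    rw [show cst 0 = (0 : Code) from rfl, P.φ_zero, map_zero]
  obtain ⟨k, -, hk⟩ := P.exists_pow (show (1 : Fin 4) ≠ 0 by decide) h0
  rw [← hk, P.commute_pow hc, P.φ_one, hv]

theorem perm_v (π : alternatingGroup (Fin 6)) : (P.perm π).1 v = v := by
  have e := P.perm_φ π (cst 1)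
  rw [show cst 1 ∘ ⇑((π : Equiv.Perm (Fin 6))⁻¹) = cst 1 from rfl, P.φ_one] at e
  exact e

theorem add_v (a : Code) : P.φ a + v = P.φ (cadd a (cst 1)) := by
  have e := P.φ_add a (cst 1)
  rwa [P.φ_one] at e

theorem pow_v (w : ZMod 3) : (m ^ w.val) v = P.φ (cst (rot w 1)) := by
  have e := P.mpow w.val (cst 1)
  rw [P.φ_one, ZMod.natCast_zmod_val, mono_cst] at e
  exact e

theorem perm_commute (π : alternatingGroup (Fin 6)) : (P.perm π).1 * m = m * (P.perm π).1 := by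
  refine LinearEquiv.ext fun x => ?_
  obtain ⟨a, rfl⟩ := P.bij.2 x
  show (P.perm π).1 (m (P.φ a)) = m ((P.perm π).1 (P.φ a))
  rw [P.m_φ, P.perm_φ, P.perm_φ, P.m_φ]
  rfl

theorem smallC_eq {γ : V ≃ₗ[ZMod 2] V} (hγ : γ ∈ Γ) {a b : Code} (h : γ (P.φ a) = P.φ b)
    (ha : (cls a).isSome = true) (hb : (cls b).isSome = true) : smallC 2 a = smallC 2 b := by
  have e : Nat.card (MulAction.stabilizer Γ (P.φ a)) = Nat.card (MulAction.stabilizer Γ (P.φ b)) :=
    Nat.card_congr (MulAction.stabilizerEquivStabilizer (G := Γ) (g := ⟨γ, hγ⟩) (a := P.φ a) (b := P.φ b) h.symm).toEquiv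
  rw [Bool.eq_iff_iff, ← P.small a ha, ← P.small b hb, e]

/-- The commutator of a permutation and a shift, twice, gives the element of order three. -/
theorem exists_commutators : ∃ π₁ π₂ : alternatingGroup (Fin 6), ∃ s₁ ∈ Γ, ∃ s₂ ∈ Γ,
    s₁ * m = m * s₁ ∧ s₂ * m = m * s₂ ∧
    (P.perm π₁).1 * s₁ * (P.perm π₁).1⁻¹ * s₁⁻¹ * ((P.perm π₂).1 * s₂ * (P.perm π₂).1⁻¹ * s₂⁻¹) = m := by
  let τ₁ : Equiv.Perm (Fin 6) := Equiv.swap 0 1 * Equiv.swap 2 3
  let τ₂ : Equiv.Perm (Fin 6) := Equiv.swap 1 4 * Equiv.swap 3 5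
  have h₁ : IsDT τ₁ := ⟨0, 1, 2, 3, by decide, by decide, by decide, by decide, by decide, by decide, rfl⟩
  have h₂ : IsDT τ₂ := ⟨1, 4, 3, 5, by decide, by decide, by decide, by decide, by decide, by decide, rfl⟩
  let w₁ : Fin 6 → ZMod 3 := ![0, 1, 0, 1, 0, 1]
  let w₂ : Fin 6 → ZMod 3 := ![1, 1, 0, 1, 0, 0]
  obtain ⟨s₁, hs₁, he₁⟩ := P.shift w₁ (by decide)
  obtain ⟨s₂, hs₂, he₂⟩ := P.shift w₂ (by decide)
  have hcomm : ∀ (s : V ≃ₗ[ZMod 2] V) (w : Fin 6 → ZMod 3), (∀ a, s (P.φ a) = P.φ (mono w 1 a)) → s * m = m * s := by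
    intro s w h
    refine LinearEquiv.ext fun x => ?_
    obtain ⟨a, rfl⟩ := P.bij.2 x
    show s (m (P.φ a)) = m (s (P.φ a))
    rw [P.m_φ, h, h, P.m_φ, mono_mono, mono_mono]
    congr 2
    funext k
    exact add_comm _ _
  have hK : ∀ (π : alternatingGroup (Fin 6)) (s : V ≃ₗ[ZMod 2] V) (w : Fin 6 → ZMod 3),
      (∀ a, s (P.φ a) = P.φ (mono w 1 a)) → ∀ a,
      ((P.perm π).1 * s * (P.perm π).1⁻¹ * s⁻¹) (P.φ a) =
        P.φ (mono (fun k => w ((π : Equiv.Perm (Fin 6))⁻¹ k) - w k) 1 a) := by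
    intro π s w h a
    have hsi : s⁻¹ (P.φ a) = P.φ (mono (-w) 1 a) := by
      show s.symm (P.φ a) = _
      rw [LinearEquiv.symm_apply_eq, h, mono_mono]
      congr 1
      funext k
      simp [mono, rot_zero]
    show (P.perm π).1 (s ((P.perm π).1⁻¹ (s⁻¹ (P.φ a)))) = _
    rw [hsi, show ((P.perm π).1)⁻¹ = (P.perm π⁻¹).1 from by rw [map_inv]; rfl, P.perm_φ, h, P.perm_φ]
    congr 1
    funext k
    simp [mono, rot_rot, sub_eq_add_neg]
  refine ⟨⟨τ₁, isDT_sign h₁⟩, ⟨τ₂, isDT_sign h₂⟩, s₁, hs₁, s₂, hs₂, hcomm _ _ he₁, hcomm _ _ he₂, ?_⟩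
  refine LinearEquiv.ext fun x => ?_
  obtain ⟨a, rfl⟩ := P.bij.2 x
  rw [P.m_φ]
  show ((P.perm ⟨τ₁, isDT_sign h₁⟩).1 * s₁ * (P.perm ⟨τ₁, isDT_sign h₁⟩).1⁻¹ * s₁⁻¹)
    (((P.perm ⟨τ₂, isDT_sign h₂⟩).1 * s₂ * (P.perm ⟨τ₂, isDT_sign h₂⟩).1⁻¹ * s₂⁻¹) (P.φ a)) = _
  rw [hK _ _ _ he₂, hK _ _ _ he₁, mono_mono]
  congr 2
  funext k
  show (w₁ (τ₁⁻¹ k) - w₁ k) + (w₂ (τ₂⁻¹ ((1 : Equiv.Perm (Fin 6)) k)) - w₂ ((1 : Equiv.Perm (Fin 6)) k)) = 1
  rw [dt_inv h₁, dt_inv h₂]
  revert k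
  decide

/-- The singular subgroups that occur. -/
structure Adm (A : AddSubgroup V) : Prop where
  v_mem : v ∈ A
  card : 4 < Nat.card A
  inv : ∀ π, ∀ x ∈ A, (P.perm π).1 x ∈ A
  sing : ∀ x ∈ A, q x = 0
  swap : ∀ a, P.φ a ∈ A → P.φ a ≠ 0 → P.φ a ≠ v → smallC 2 a = smallC 2 (cadd a (cst 1))

variable {A : AddSubgroup V}

omit [Finite V] in
theorem comp_mem (hA : P.Adm A) {a : Code} (ha : P.φ a ∈ A) {τ : Equiv.Perm (Fin 6)} (hτ : IsDT τ) :
    P.φ (a ∘ ⇑τ) ∈ A := by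
  have := hA.inv ⟨τ, isDT_sign hτ⟩ _ ha
  rwa [P.perm_φ, dt_inv hτ] at this

theorem pair_mem (hA : P.Adm A) : ∀ i j, i ≠ j → P.φ (pair 3 i j) ∈ A := by
  classical
  obtain ⟨a, ha, hne⟩ : ∃ a, P.φ a ∈ A ∧ ∃ i j, a i ≠ a j := by
    by_contra! h
    have hf : Function.Surjective (fun c : {c : Fin 4 // P.φ (cst c) ∈ A} => (⟨P.φ (cst c.1), c.2⟩ : A)) := by
      rintro ⟨x, hx⟩
      obtain ⟨a, rfl⟩ := P.bij.2 x
      have e : a = cst (a 0) := funext fun k => h a hx k 0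
      exact ⟨⟨a 0, by rwa [← e]⟩, Subtype.ext (congrArg P.φ e.symm)⟩
    have h1 := Nat.card_le_card_of_surjective _ hf
    have h2 : Nat.card {c : Fin 4 // P.φ (cst c) ∈ A} ≤ 4 :=
      (Nat.card_le_card_of_injective Subtype.val Subtype.val_injective).trans (by simp)
    have := hA.card
    omega
  obtain ⟨c, i, j, hc, hij, hS⟩ := exists_pair (fun a => P.φ a ∈ A)
    (fun a τ hτ ha => by rw [← P.φ_add]; exact add_mem ha (P.comp_mem hA ha hτ)) ha hne
  have hall := all_pairs (fun a => P.φ a ∈ A) (fun a τ hτ ha => P.comp_mem hA ha hτ) hij hS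
  suffices c = 3 by subst this; exact hall
  have h01 := hall 0 1 (by decide)
  obtain ⟨hs, hs'⟩ := small_test 2 (by decide) c hc
  have hne0 : P.φ (pair c 0 1) ≠ 0 := fun e => by
    have := congrFun (P.bij.1 (e.trans P.φ_zero.symm)) 0
    exact hc (by simpa [pair] using this)
  have hnev : P.φ (pair c 0 1) ≠ v := fun e => by
    have := congrFun (P.bij.1 (e.trans P.φ_one.symm)) 2
    simp [pair, cst] at this
  have := hA.swap _ h01 hne0 hnev
  rw [hs] at this
  exact Fin.ext (hs'.1 this.symm)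

theorem cst_mem (hA : P.Adm A) (c : Fin 4) : P.φ (cst c) ∈ A := by
  have h3 : P.φ (cst 3) ∈ A := by
    rw [cst_eq, ← P.φ_add, ← P.φ_add]
    exact add_mem (P.pair_mem hA _ _ (by decide)) (add_mem (P.pair_mem hA _ _ (by decide)) (P.pair_mem hA _ _ (by decide)))
  have h1 : P.φ (cst 1) ∈ A := by rw [P.φ_one]; exact hA.v_mem
  rcases cst_three c with rfl | rfl | rfl | rfl
  · rw [show cst 0 = (0 : Code) from rfl, P.φ_zero]; exact zero_mem A
  · exact h1
  · exact h3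
  · rw [← cst_add, ← P.φ_add]; exact add_mem h1 h3

/-- The subgroup is not invariant under the element of order three. -/
theorem exists_not_mem (hA : P.Adm A) : ∃ x ∈ A, ∀ k : ℕ, ¬ k % 3 = 0 → (m ^ k) x ∉ A := by
  refine ⟨_, P.pair_mem hA 0 1 (by decide), fun k hk h => ?_⟩
  rw [P.mpow, mono_pair] at h
  have hk' : (k : ZMod 3) ≠ 0 := by
    rw [Ne, ZMod.natCast_eq_zero_iff]
    omega
  set c := rot (k : ZMod 3) 3 with hc
  have h0 : c ≠ 0 := fun e => by
    have := ((rot_spec (k : ZMod 3) 3).1).1 e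
    exact absurd this (by decide)
  have hnev : P.φ (pair c 0 1) ≠ v := fun e => by
    have := congrFun (P.bij.1 (e.trans P.φ_one.symm)) 2
    simp [pair, cst] at this
  have hne0 : P.φ (pair c 0 1) ≠ 0 := fun e => by
    have := congrFun (P.bij.1 (e.trans P.φ_zero.symm)) 0
    exact h0 (by simpa [pair] using this)
  obtain ⟨hs, hs'⟩ := small_test 2 (by decide) c h0
  have e := hA.swap _ h hne0 hnev
  rw [hs] at e
  have : c = 3 := Fin.ext (hs'.1 e.symm)
  have key : ∀ w : ZMod 3, rot w 3 = 3 → w = 0 := by decide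
  exact hk' (key _ this)

/-- An element fixing `v` and the cosets of `v` in the subgroup. -/
def Tame (_P : Point q Γ m v) (A : AddSubgroup V) (γ : V ≃ₗ[ZMod 2] V) : Prop :=
  γ ∈ Γ ∧ γ v = v ∧ ∀ x ∈ A, γ x = x ∨ γ x = x + v

theorem eq_one_of_fix (hΓ : ∀ γ ∈ Γ, ∀ x, q (γ x) = q x) {γ : V ≃ₗ[ZMod 2] V} (hγ : γ ∈ Γ) (hc : γ * m = m * γ)
    (hfix : ∀ i j, i ≠ j → γ (P.φ (pair 3 i j)) = P.φ (pair 3 i j)) : γ = 1 := by
  have hpair : ∀ d i j, i ≠ j → γ (P.φ (pair d i j)) = P.φ (pair d i j) := by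
    intro d i j hij
    by_cases h0 : d = 0
    · subst h0
      rw [show pair 0 i j = (0 : Code) from funext fun k => by simp [pair], P.φ_zero, map_zero]
    obtain ⟨k, hk, -⟩ := P.exists_pow (show (3 : Fin 4) ≠ 0 by decide) h0
    rw [← hk, P.commute_pow hc, hfix i j hij]
  have hpol : ∀ x y, QuadraticMap.polar q (γ x) (γ y) = QuadraticMap.polar q x y := fun x y => by
    unfold QuadraticMap.polar
    rw [← map_add, hΓ γ hγ, hΓ γ hγ, hΓ γ hγ]
  -- displacement of a single coordinate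
  have hdisp : ∀ d i, ∃ e, γ (P.φ (sgl d i)) = P.φ (cadd (sgl d i) (cst e)) := by
    intro d i
    obtain ⟨b, hb⟩ := P.bij.2 (P.φ (sgl d i) + γ (P.φ (sgl d i)))
    refine ⟨b 0, ?_⟩
    have hconst : b = cst (b 0) := funext fun k => by
      show b k = b 0
      by_contra hne
      have hk : k ≠ 0 := fun e => hne (by rw [e])
      refine hne ((add4_facts.2.1 _ _).2.2 (bc_facts.2.2.1 _ fun d' => ?_))
      have h1 : QuadraticMap.polar q (P.φ (pair d' k 0)) (P.φ b) = 0 := by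
        rw [hb, QuadraticMap.polar_add_right]
        nth_rw 2 [← hpair d' k 0 hk]
        rw [hpol]
        exact CharTwo.add_self_eq_zero _
      rw [P.polar_φ] at h1
      have h2 : ∑ x, bc (pair d' k 0 x) (b x) = ∑ x ∈ ({k, 0} : Finset (Fin 6)), bc d' (b x) := by
        rw [← Finset.sum_subset (Finset.subset_univ ({k, 0} : Finset (Fin 6)))]
        · refine Finset.sum_congr rfl fun x hx => ?_
          simp only [Finset.mem_insert, Finset.mem_singleton] at hx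
          simp [pair, hx]
        · intro x _ hx
          simp only [Finset.mem_insert, Finset.mem_singleton] at hx
          simp only [pair, hx, if_false]
          rw [bc_facts.2.2.2.2, bc_facts.2.2.2.1]
      rw [h2, Finset.sum_pair hk] at h1
      rw [bc_facts.1]
      exact h1
    rw [← P.φ_add, ← hconst, hb, ← add_assoc, ZModModule.add_self, zero_add]
  choose e he using hdisp
  have he_indep : ∀ d i j, e d i = e d j := by
    intro d i j
    by_cases hij : i = j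
    · rw [hij]
    have h1 := hpair d i j hij
    rw [← sgl_facts.1 d i j hij, ← P.φ_add, map_add, he, he, ← P.φ_add, ← P.φ_add] at h1
    have h2 : P.φ (cst (e d i)) + P.φ (cst (e d j)) = 0 := by
      have h3 := congrArg (fun y => y - (P.φ (sgl d i) + P.φ (sgl d j))) h1
      simp only [sub_self] at h3
      rw [← h3]; abel
    rw [P.φ_add, cst_add, ← P.φ_zero] at h2
    exact (add4_facts.2.1 _ _).2.2 (congrFun (P.bij.1 h2) 0)
  have h01 : e 1 0 = 0 ∨ e 1 0 = 1 := sgl_facts.2.1 _ (by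
    rw [← P.q_φ, ← P.q_φ, ← he, hΓ γ hγ])
  have hrot : ∀ (w : ZMod 3), e (rot w 1) 0 = rot w (e 1 0) := by
    intro w
    have h1 := P.commute_pow hc w.val (P.φ (sgl 1 0))
    rw [P.mpow, ZMod.natCast_zmod_val, mono_sgl, he, he, P.mpow, ZMod.natCast_zmod_val] at h1
    have h2 := congrFun (P.bij.1 h1) 1
    simp [cadd, sgl, mono, cst, (add4_facts.1 _).2.2] at h2
    exact h2
  rcases h01 with h | h
  · refine LinearEquiv.ext fun x => ?_
    obtain ⟨a, rfl⟩ := P.bij.2 x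
    have hs : ∀ d i, γ (P.φ (sgl d i)) = P.φ (sgl d i) := by
      intro d i
      by_cases h0 : d = 0
      · subst h0
        rw [show sgl 0 i = (0 : Code) from funext fun k => by simp [sgl], P.φ_zero, map_zero]
      obtain ⟨w, hw⟩ := rot_cases 1 d (by decide) h0
      rw [he, he_indep d i 0, ← hw, hrot, h, rot_right_zero, show cst 0 = (0 : Code) from rfl, cadd_zero]
    show γ (P.φ a) = P.φ a
    rw [decomp_sgl a]
    simp only [← P.φ_add, map_add, hs]
  · exfalso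
    have h2 : e 2 0 = 2 := by
      have := hrot 1
      rw [h] at this
      exact this
    have himg : γ (P.φ testC) = P.φ (cadd testC (cst 3)) := by
      rw [← sgl_facts.2.2.1, ← P.φ_add, map_add, he, he, he_indep 2 1 0, h, h2, P.φ_add]
      exact congrArg P.φ (by decide)
    have ht := sgl_facts.2.2.2.1
    have hb : (cls (cadd testC (cst 3))).isSome = true := by decide
    obtain ⟨t1, t2⟩ := transvection_test 2 (by decide)
    have := P.smallC_eq hγ himg ht hb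
    rw [t1, t2] at this
    exact Bool.noConfusion this

/-- A tame element commuting with the permutations is trivial. -/
theorem eq_one_of_commute_perm (hA : P.Adm A) (hΓ : ∀ γ ∈ Γ, ∀ x, q (γ x) = q x) {γ : V ≃ₗ[ZMod 2] V}
    (ht : P.Tame A γ) (hc : γ * m = m * γ) (hp : ∀ π, γ * (P.perm π).1 = (P.perm π).1 * γ) : γ = 1 := by
  obtain ⟨hγ, hv, hA'⟩ := ht
  refine P.eq_one_of_fix hΓ hγ hc ?_
  have all : ∀ ε, γ (P.φ (pair 3 0 1)) = P.φ (pair 3 0 1) + ε → (∀ π, (P.perm π).1 ε = ε) →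
      ∀ i j, i ≠ j → γ (P.φ (pair 3 i j)) = P.φ (pair 3 i j) + ε := by
    intro ε h hfix
    exact all_pairs (fun a => γ (P.φ a) = P.φ a + ε) (fun a τ hτ ha => by
      have e := LinearEquiv.congr_fun (hp ⟨τ, isDT_sign hτ⟩) (P.φ a)
      simp only [LinearEquiv.mul_apply, P.perm_φ, dt_inv hτ] at e
      rw [e, ha, map_add, P.perm_φ, dt_inv hτ, hfix]) (show (0 : Fin 6) ≠ 1 by decide) h
  intro i j hij
  rcases hA' _ (P.pair_mem hA 0 1 (by decide)) with h | h
  · have := all 0 (by rw [add_zero]; exact h) (fun π => map_zero _) i j hij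
    rwa [add_zero] at this
  · exfalso
    have hall := all v h P.perm_v
    have e02 := hall 0 2 (by decide)
    rw [← pair_add 3 (show (0 : Fin 6) ≠ 1 by decide) (show (0 : Fin 6) ≠ 2 by decide) (show (1 : Fin 6) ≠ 2 by decide),
      ← P.φ_add, map_add, hall 0 1 (by decide), hall 1 2 (by decide)] at e02
    rw [show P.φ (pair 3 0 1) + v + (P.φ (pair 3 1 2) + v) = P.φ (pair 3 0 1) + P.φ (pair 3 1 2) + (v + v) by abel,
      ZModModule.add_self, add_zero, left_eq_add] at e02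
    exact P.v_ne e02

/-- Too many tame elements cannot all commute with the element of order three. -/
theorem exists_not_commute (hA : P.Adm A) (hΓ : ∀ γ ∈ Γ, ∀ x, q (γ x) = q x) (E : Subgroup (V ≃ₗ[ZMod 2] V))
    (hE : ∀ γ ∈ E, P.Tame A γ) (hcard : 16 < Nat.card E) : ∃ γ ∈ E, ¬ γ * m = m * γ := by
  classical
  by_contra! hall
  let f : E → Fin 4 → Bool := fun γ k =>
    decide (γ.1 (P.φ (pair 3 (Fin.castLE (by norm_num) k) 5)) = P.φ (pair 3 (Fin.castLE (by norm_num) k) 5))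
  have hne : ∀ k : Fin 4, (Fin.castLE (by norm_num) k : Fin 6) ≠ 5 := by decide
  have hf : Function.Injective f := by
    intro γ γ' h
    have hfix : ∀ k : Fin 4, (γ'⁻¹ * γ).1 (P.φ (pair 3 (Fin.castLE (by norm_num) k) 5)) =
        P.φ (pair 3 (Fin.castLE (by norm_num) k) 5) := by
      intro k
      have hk := decide_eq_decide.1 (congrFun h k)
      have hm := P.pair_mem hA _ _ (hne k)
      show γ'.1.symm (γ.1 _) = _
      rw [LinearEquiv.symm_apply_eq]
      rcases (hE _ γ.2).2.2 _ hm with h1 | h1 <;> rcases (hE _ γ'.2).2.2 _ hm with h2 | h2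
      · rw [h1, h2]
      · rw [h1]; exact (hk.1 h1).symm
      · rw [h2]; exact hk.2 h2
      · rw [h1, h2]
    set δ := (γ'⁻¹ * γ) with hδ
    have hδm := hall _ δ.2
    have h5 : δ.1 (P.φ (pair 3 4 5)) = P.φ (pair 3 4 5) := by
      have hc := P.fix_cst (hE _ δ.2).2.1 hδm 3
      rw [sgl_facts.2.2.2.2.2.1] at hc
      simp only [← P.φ_add, map_add] at hc
      have a0 := hfix 0; have a1 := hfix 1; have a2 := hfix 2; have a3 := hfix 3
      simp only [show (Fin.castLE (by norm_num) (0 : Fin 4) : Fin 6) = 0 from rfl] at a0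
      simp only [show (Fin.castLE (by norm_num) (1 : Fin 4) : Fin 6) = 1 from rfl] at a1
      simp only [show (Fin.castLE (by norm_num) (2 : Fin 4) : Fin 6) = 2 from rfl] at a2
      simp only [show (Fin.castLE (by norm_num) (3 : Fin 4) : Fin 6) = 3 from rfl] at a3
      rw [a0, a1, a2, a3] at hc
      simpa using hc
    have h5' : ∀ i, i ≠ (5 : Fin 6) → δ.1 (P.φ (pair 3 i 5)) = P.φ (pair 3 i 5) := by
      intro i hi
      fin_cases i
      · exact hfix 0
      · exact hfix 1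
      · exact hfix 2
      · exact hfix 3
      · exact h5
      · exact absurd rfl hi
    have h1 : δ.1 = 1 := P.eq_one_of_fix hΓ (hE _ δ.2).1 hδm fun i j hij => by
      by_cases hi : i = 5
      · subst hi; rw [pair_comm]; exact h5' j hij.symm
      by_cases hj : j = 5
      · subst hj; exact h5' i hij
      rw [← pair_add 3 hi hij (fun e => hj e.symm), ← P.φ_add, map_add, h5' i hi, pair_comm 3 5 j, h5' j hj]
    exact (inv_mul_eq_one.1 (show γ'⁻¹ * γ = 1 from Subtype.ext h1)).symm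
  have := Nat.card_le_card_of_injective f hf
  simp at this
  omega

/-- A tame permutation is trivial. -/
theorem perm_eq_one (hA : P.Adm A) {π : alternatingGroup (Fin 6)} (ht : P.Tame A (P.perm π).1) : π = 1 := by
  have hset : ∀ i j, i ≠ j → ({(π : Equiv.Perm (Fin 6)) i, (π : Equiv.Perm (Fin 6)) j} : Set (Fin 6)) = {i, j} := by
    intro i j hij
    have hm := P.pair_mem hA i j hij
    rcases ht.2.2 _ hm with h | h <;> rw [P.perm_φ, pair_comp, inv_inv] at h
    · have e := P.bij.1 h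
      ext k
      have := congrFun e k
      simp only [pair] at this
      simp only [Set.mem_insert_iff, Set.mem_singleton_iff]
      constructor <;> intro hk
      · by_contra h'
        rw [if_pos hk, if_neg h'] at this
        exact absurd this (by decide)
      · by_contra h'
        rw [if_pos hk, if_neg h'] at this
        exact absurd this (by decide)
    · rw [P.add_v] at h
      exact absurd (P.bij.1 h) (sgl_facts.2.2.2.2.1 _ _ _ _)
  refine Subtype.ext (Equiv.ext fun i => ?_)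
  show (π : Equiv.Perm (Fin 6)) i = i
  by_contra hi
  obtain ⟨k, -, -, hk1, hk2, -, -, -, -, -, -, -⟩ := others i ((π : Equiv.Perm (Fin 6)) i) (Ne.symm hi)
  have h1 : (π : Equiv.Perm (Fin 6)) i ∈ ({i, k} : Set (Fin 6)) := by
    rw [← hset i k hk1.symm]; exact Or.inl rfl
  rcases h1 with h1 | h1
  · exact hi h1
  · exact hk2 h1.symm

omit [Finite V] in
/-- Sums along a double transposition. -/
theorem s4_comp {a : Code} (τ : Equiv.Perm (Fin 6)) (h : s4 a = 0) : s4 (a ∘ ⇑τ) = 0 := by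
  refine bc_facts.2.2.1 _ fun d => ?_
  rw [← sum_bc_cst]
  show ∑ k, bc d (a (τ k)) = 0
  rw [Equiv.sum_comp τ (fun k => bc d (a k)), sum_bc_cst, h]
  exact bc_facts.2.2.2.1 d

/-- Tame elements commuting with the element of order three are trivial on `U` modulo the constants. -/
theorem tame_U (hA : P.Adm A) {γ : V ≃ₗ[ZMod 2] V} (ht : P.Tame A γ) (hc : γ * m = m * γ) {a : Code}
    (ha : s4 a = 0) : ∃ e, γ (P.φ a) = P.φ (cadd a (cst e)) := by
  have hp : ∀ d i j, i ≠ j → ∃ e, γ (P.φ (pair d i j)) = P.φ (pair d i j) + P.φ (cst e) := by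
    intro d i j hij
    by_cases h0 : d = 0
    · subst h0
      exact ⟨0, by rw [show pair 0 i j = (0 : Code) from funext fun k => by simp [pair],
        show cst 0 = (0 : Code) from rfl, P.φ_zero, map_zero, add_zero]⟩
    obtain ⟨w, hw⟩ := rot_cases 3 d (by decide) h0
    have hk : P.φ (pair d i j) = (m ^ w.val) (P.φ (pair 3 i j)) := by
      rw [P.mpow, ZMod.natCast_zmod_val, mono_pair, hw]
    rw [hk, P.commute_pow hc]
    rcases ht.2.2 _ (P.pair_mem hA i j hij) with h | h <;> rw [h]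
    · exact ⟨0, by rw [show cst 0 = (0 : Code) from rfl, P.φ_zero, add_zero]⟩
    · refine ⟨rot w 1, ?_⟩
      rw [map_add, P.pow_v]
  obtain ⟨e0, h0⟩ := hp (a 0) 0 5 (by decide)
  obtain ⟨e1, h1⟩ := hp (a 1) 1 5 (by decide)
  obtain ⟨e2, h2⟩ := hp (a 2) 2 5 (by decide)
  obtain ⟨e3, h3⟩ := hp (a 3) 3 5 (by decide)
  obtain ⟨e4, h4⟩ := hp (a 4) 4 5 (by decide)
  refine ⟨add4 e0 (add4 e1 (add4 e2 (add4 e3 e4))), ?_⟩
  rw [← P.φ_add, ← cst_add, ← cst_add, ← cst_add, ← cst_add]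
  conv_lhs => rw [decomp_pairs ha]
  conv_rhs => rw [decomp_pairs ha]
  simp only [← P.φ_add, map_add, h0, h1, h2, h3, h4]
  abel

/-- A set of elements covering the double transpositions modulo tame elements. -/
def Covers (P : Point q Γ m v) (A : AddSubgroup V) (L : Set (V ≃ₗ[ZMod 2] V)) : Prop :=
  (∀ l ∈ L, l ∈ Γ ∧ l v = v ∧ l * m = m * l) ∧
    ∀ τ, IsDT τ → ∃ l ∈ L, ∃ e, P.Tame A e ∧ e * m = m * e ∧ ∀ a, l (P.φ a) = e (P.φ (a ∘ ⇑τ))

theorem no_cst {L : Set (V ≃ₗ[ZMod 2] V)} (hL : P.Covers A L) {B : AddSubgroup V}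
    (hfix : ∀ b ∈ B, (∀ l ∈ L, l b = b) → b = 0) {c : Fin 4} (h : P.φ (cst c) ∈ B) : c = 0 := by
  have e := hfix _ h fun l hl => P.fix_cst (hL.1 l hl).2.1 (hL.1 l hl).2.2 c
  exact congrFun (P.bij.1 (e.trans P.φ_zero.symm)) 0

theorem no_pair (hA : P.Adm A) {L : Set (V ≃ₗ[ZMod 2] V)} (hL : P.Covers A L) {B : AddSubgroup V}
    (hinv : ∀ l ∈ L, ∀ b ∈ B, l b ∈ B) (hfix : ∀ b ∈ B, (∀ l ∈ L, l b = b) → b = 0) {i j : Fin 6} (hij : i ≠ j)
    {e : Fin 4} : P.φ (cadd (pair 3 i j) (cst e)) ∉ B := by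
  intro h
  let T : Code → Prop := fun a => P.φ a ∈ A ∧ ∃ b ∈ B, b = P.φ a ∨ b = P.φ a + v
  have hadd : ∀ a b, T a → T b → T (cadd a b) := by
    rintro a b ⟨ha, x, hx, hx'⟩ ⟨hb, y, hy, hy'⟩
    refine ⟨by rw [← P.φ_add]; exact add_mem ha hb, x + y, add_mem hx hy, ?_⟩
    rw [← P.φ_add]
    rcases hx' with rfl | rfl <;> rcases hy' with rfl | rfl
    · exact Or.inl rfl
    · exact Or.inr (by abel)
    · exact Or.inr (by abel)
    · refine Or.inl ?_
      rw [show P.φ a + v + (P.φ b + v) = P.φ a + P.φ b + (v + v) by abel, ZModModule.add_self, add_zero]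
  have hτ : ∀ a τ, IsDT τ → T a → T (a ∘ ⇑τ) := by
    rintro a τ hτ ⟨ha, x, hx, hx'⟩
    obtain ⟨l, hl, γ, ht, -, hle⟩ := hL.2 τ hτ
    have ha' := P.comp_mem hA ha hτ
    refine ⟨ha', l x, hinv l hl x hx, ?_⟩
    rcases hx' with rfl | rfl
    · rw [hle]; exact ht.2.2 _ ha'
    · rw [map_add, hle, (hL.1 l hl).2.1]
      rcases ht.2.2 _ ha' with h' | h' <;> rw [h']
      · exact Or.inr rfl
      · exact Or.inl (by rw [add_assoc, ZModModule.add_self, add_zero])
  have hT0 : T (cadd (pair 3 i j) (cst e)) :=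
    ⟨by rw [← P.φ_add]; exact add_mem (P.pair_mem hA i j hij) (P.cst_mem hA e), _, h, Or.inl rfl⟩
  have hall : ∀ k l, k ≠ l → T (cadd (pair 3 k l) (cst e)) :=
    all_pairs (fun a => T (cadd a (cst e))) (fun a τ hd ha => hτ _ τ hd ha) hij hT0
  have e02 : T (pair 3 0 2) := by
    have := hadd _ _ (hall 0 1 (by decide)) (hall 1 2 (by decide))
    rwa [show cadd (cadd (pair 3 0 1) (cst e)) (cadd (pair 3 1 2) (cst e)) = cadd (pair 3 0 1) (pair 3 1 2) from
      P.bij.1 (by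
        simp only [← P.φ_add]
        rw [show P.φ (pair 3 0 1) + P.φ (cst e) + (P.φ (pair 3 1 2) + P.φ (cst e)) =
          P.φ (pair 3 0 1) + P.φ (pair 3 1 2) + (P.φ (cst e) + P.φ (cst e)) by abel, ZModModule.add_self, add_zero]),
      pair_add 3 (by decide) (by decide) (by decide)] at this
  have hp : ∀ k l, k ≠ l → T (pair 3 k l) := all_pairs T hτ (show (0 : Fin 6) ≠ 2 by decide) e02
  obtain ⟨-, b, hb, hb'⟩ : T (cst 3) := by
    rw [cst_eq]
    exact hadd _ _ (hp _ _ (by decide)) (hadd _ _ (hp _ _ (by decide)) (hp _ _ (by decide)))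
  rcases hb' with rfl | rfl
  · exact absurd (P.no_cst hL hfix hb) (by decide)
  · rw [P.add_v, cst_add] at hb
    exact absurd (P.no_cst hL hfix hb) (by decide)

/-- An invariant subgroup without fixed elements is trivial. -/
theorem eq_zero_of_invariant (hA : P.Adm A) (hΓ : ∀ γ ∈ Γ, ∀ x, q (γ x) = q x) {L : Set (V ≃ₗ[ZMod 2] V)}
    (hL : P.Covers A L) {B : AddSubgroup V}
    (hinv : ∀ l ∈ L, ∀ b ∈ B, l b ∈ B) (hfix : ∀ b ∈ B, (∀ l ∈ L, l b = b) → b = 0) : ∀ b ∈ B, b = 0 := by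
  suffices hU : ∀ a, s4 a = 0 → P.φ a ∈ B → a = 0 by
    intro b hb
    refine hfix b hb fun l hl => ?_
    obtain ⟨hlΓ, hlv, hlm⟩ := hL.1 l hl
    obtain ⟨a, rfl⟩ := P.bij.2 b
    obtain ⟨a', ha'⟩ := P.bij.2 (l (P.φ a) + P.φ a)
    have hz : s4 a' = 0 := by
      refine bc_facts.2.2.1 _ fun d => ?_
      rw [← P.polar_cst, ha', QuadraticMap.polar_add_right]
      nth_rw 1 [← P.fix_cst hlv hlm d]
      rw [show QuadraticMap.polar q (l (P.φ (cst d))) (l (P.φ a)) = QuadraticMap.polar q (P.φ (cst d)) (P.φ a) by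
        unfold QuadraticMap.polar
        rw [← map_add, hΓ l hlΓ, hΓ l hlΓ, hΓ l hlΓ]]
      exact CharTwo.add_self_eq_zero _
    have h0 := hU a' hz (by rw [ha']; exact add_mem (hinv l hl _ hb) hb)
    rw [h0, P.φ_zero] at ha'
    rw [← add_left_inj (P.φ a), ← ha', ZModModule.add_self]
  intro a ha hab
  by_contra hne
  have hnc : ∃ i j, a i ≠ a j := by
    by_contra! h
    have e : a = cst (a 0) := funext fun k => h k 0
    rw [e] at hab
    have h0 := P.no_cst hL hfix hab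
    exact hne (e.trans (by rw [h0]; rfl))
  let S : Code → Prop := fun a => s4 a = 0 ∧ ∃ e, P.φ (cadd a (cst e)) ∈ B
  obtain ⟨c, i, j, hc, hij, -, e, he⟩ := exists_pair S (by
    rintro a τ hτ ⟨hsa, e, he⟩
    obtain ⟨l, hl, γ, ht, htm, hle⟩ := hL.2 τ hτ
    obtain ⟨f, hf⟩ := P.tame_U hA ht htm (P.s4_comp τ hsa)
    refine ⟨bc_facts.2.2.1 _ fun d => ?_, f, ?_⟩
    · rw [← sum_bc_cst]
      simp only [cadd, bc_facts.1, Finset.sum_add_distrib, sum_bc_cst, hsa, P.s4_comp τ hsa]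
      simp [bc_facts.2.2.2.1]
    · have h2 := add_mem he (hinv l hl _ he)
      have e1 : l (P.φ (cadd a (cst e))) = P.φ (a ∘ ⇑τ) + P.φ (cst f) + P.φ (cst e) := by
        rw [hle, comp_add, show cst e ∘ ⇑τ = cst e from rfl, ← P.φ_add, map_add, hf,
          P.fix_cst ht.2.1 htm, ← P.φ_add]
      rw [e1] at h2
      simp only [← P.φ_add] at h2 ⊢
      have : P.φ a + P.φ (a ∘ ⇑τ) + P.φ (cst f) =
          P.φ a + P.φ (cst e) + (P.φ (a ∘ ⇑τ) + P.φ (cst f) + P.φ (cst e)) := by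
        rw [show P.φ a + P.φ (cst e) + (P.φ (a ∘ ⇑τ) + P.φ (cst f) + P.φ (cst e)) =
          P.φ a + P.φ (a ∘ ⇑τ) + P.φ (cst f) + (P.φ (cst e) + P.φ (cst e)) by abel, ZModModule.add_self, add_zero]
      rwa [this]) (show S a from ⟨ha, 0, by rw [show cst 0 = (0 : Code) from rfl, cadd_zero]; exact hab⟩) hnc
  obtain ⟨w, hw⟩ := rot_cases c 3 hc (by decide)
  -- the image of B under a power of the element of order three
  let M : V →+ V := (m ^ w.val).toLinearMap.toAddMonoidHom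
  have hM : ∀ l ∈ L, ∀ x, l (M x) = M (l x) := fun l hl x => P.commute_pow (hL.1 l hl).2.2 _ x
  refine P.no_pair hA hL (B := B.map M) ?_ ?_ hij (e := rot w e) ⟨_, he, ?_⟩
  · rintro l hl _ ⟨b, hb, rfl⟩
    exact ⟨l b, hinv l hl b hb, (hM l hl b).symm⟩
  · rintro _ ⟨b, hb, rfl⟩ h
    rw [hfix b hb fun l hl => (m ^ w.val).injective ((hM l hl b).symm.trans (h l hl)), map_zero]
  · show (m ^ w.val) (P.φ (cadd (pair c i j) (cst e))) = _
    rw [← P.φ_add, map_add, P.mpow, P.mpow, ZMod.natCast_zmod_val, mono_pair, mono_cst, hw, P.φ_add]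

end Point

end Cfsg.Agent.LargeFischer
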