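/-
A conjugate of the central involution in Q: the singular subgroup, the elementary group above it, and the
coordinates adapted to it.

* `secA`, `secE`, `exists_chain`, `exists_point_at`
-/
import Cfsg.Agent.Lib.LargeFischer.Central
import Cfsg.Agent.Lib.LargeFischer.SixLocal
import Cfsg.Agent.Lib.Unitary.Simple

set_option autoImplicit false
open Cfsg
open scoped commutatorElement

namespace Cfsg.Agent.LargeFischer

open LargeExtraspecial

universe u

variable {G : Type u} [Group G] [Finite G] {z : G} {Q : Subgroup (Subgroup.centralizer ({z} : Set G))}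
  [Q.Normal] [Fact (Cfsg.IsExtraspecial 2 Q)]

/-- The elements of Q in a conjugate of Q. -/
def secI (Q : Subgroup (Subgroup.centralizer ({z} : Set G))) (g : G) : Subgroup Q :=
  (conjS g (Q.map (Subgroup.centralizer ({z} : Set G)).subtype)).comap ((Subgroup.centralizer ({z} : Set G)).subtype.comp Q.subtype)

/-- Their image in the space. -/
noncomputable def secA (Q : Subgroup (Subgroup.centralizer ({z} : Set G))) [Q.Normal] (g : G) :
    AddSubgroup (OutForm.Vm Q) :=
  ((secI Q g).map (QuotientGroup.mk' (Subgroup.center Q))).toAddSubgroup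

/-- The image of the part of a conjugate of Q in the centraliser. -/
noncomputable def secE (Q : Subgroup (Subgroup.centralizer ({z} : Set G))) [Q.Normal]
    [Fact (Cfsg.IsExtraspecial 2 Q)] (g : G) : Subgroup (OutForm.Vm Q ≃ₗ[ZMod 2] OutForm.Vm Q) :=
  ((conjS g (Q.map (Subgroup.centralizer ({z} : Set G)).subtype)).subgroupOf (Subgroup.centralizer ({z} : Set G))).map (toGL Q)

theorem mem_secA {g : G} {x : OutForm.Vm Q} :
    x ∈ secA Q g ↔ ∃ a : Q, ((a : (Subgroup.centralizer ({z} : Set G))) : G) ∈ conjS g (Q.map (Subgroup.centralizer ({z} : Set G)).subtype) ∧ OutForm.pr a = x := by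
  constructor
  · rintro ⟨a, ha, e⟩; exact ⟨a, ha, e⟩
  · rintro ⟨a, ha, rfl⟩; exact ⟨a, ha, rfl⟩

/-- The chain of normal subgroups. -/
theorem exists_chain (hF : Cfsg.IsOfLargeFischerTypeAt z Q) :
    ∃ (N M : Subgroup (Subgroup.centralizer ({z} : Set G))) (K : Type) (_ : Field K) (_ : Fintype K) (ψ : M →* PSU 4 K 3),
      N.Normal ∧ M.Normal ∧ Q ≤ N ∧ N ≤ M ∧ Nat.card N = 3 * Nat.card Q ∧ M.index = 2 ∧
      Fintype.card K = 9 ∧ Function.Surjective ψ ∧ (∀ m : M, ψ m = 1 ↔ (m : (Subgroup.centralizer ({z} : Set G))) ∈ N) ∧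
      IsSimpleGroup (PSU 4 K 3) ∧ Nat.card (PSU 4 K 3) = 3265920 ∧
      ∀ P : Subgroup (Subgroup.centralizer ({z} : Set G)), P.Normal → Q ≤ P → Nat.card P = 3 * Nat.card Q → P = N := by
  classical
  obtain ⟨-, N, M, hNn, hMn, hQN, hNM, hNc, ⟨K, _, _, hK, ⟨e⟩⟩, hidx⟩ := hF
  have hK2 : Fintype.card K = 3 ^ 2 := by rw [hK]; norm_num
  have hsimp : IsSimpleGroup (PSU 4 K 3) := Unitary.isSimpleGroup_PSU hK2 (Or.inl le_rfl)
  have hcard : Nat.card (PSU 4 K 3) = 3265920 := by
    obtain ⟨iso⟩ := StabCert.nonempty_range_permHom (n := 4) (p := 3) hK2 (by norm_num)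
    rw [← Nat.card_congr iso.toEquiv]
    exact MultiplierUFourThree.natCard_PU hK2
  let ψ : M →* PSU 4 K 3 := e.toMonoidHom.comp (QuotientGroup.mk' (N.subgroupOf M))
  have hψs : Function.Surjective ψ := e.surjective.comp (QuotientGroup.mk'_surjective _)
  have hψk : ∀ m : M, ψ m = 1 ↔ (m : (Subgroup.centralizer ({z} : Set G))) ∈ N := fun m => by
    show e (QuotientGroup.mk' _ m) = 1 ↔ _
    rw [EmbeddingLike.map_eq_one_iff, QuotientGroup.mk'_apply, QuotientGroup.eq_one_iff,
      Subgroup.mem_subgroupOf]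
  refine ⟨N, M, K, inferInstance, inferInstance, ψ, hNn, hMn, hQN, hNM, hNc, hidx, hK, hψs, hψk, hsimp, hcard,
    fun P hPn hQP hPc => ?_⟩
  -- P lies in M: its index over Q is odd
  have hQpos : 0 < Nat.card Q := Nat.card_pos
  have hPM : P ≤ M := by
    intro p hp
    have h1 : (Q.subgroupOf P).index = 3 := by
      have h := (Q.subgroupOf P).card_mul_index
      rw [Nat.card_congr (Subgroup.subgroupOfEquivOfLe hQP).toEquiv, hPc, mul_comm 3] at h
      exact Nat.eq_of_mul_eq_mul_left hQpos h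
    have hn3 : (⟨p, hp⟩ : P) ^ (Q.subgroupOf P).index ∈ Q.subgroupOf P :=
      Subgroup.pow_index_mem _ _
    rw [h1, Subgroup.mem_subgroupOf] at hn3
    have h3 : p ^ 3 ∈ M := hNM (hQN hn3)
    have h2 : p ^ 2 ∈ M := by
      have := Subgroup.pow_index_mem M p
      rwa [hidx] at this
    have := mul_mem (inv_mem h2) h3
    rwa [show (p ^ 2)⁻¹ * p ^ 3 = p by group] at this
  let R : Subgroup (PSU 4 K 3) := (P.subgroupOf M).map ψ
  have hRn : R.Normal := (Subgroup.Normal.map (hPn.subgroupOf M) ψ hψs)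
  have hle : P ≤ N := by
    rcases hRn.eq_bot_or_eq_top with h | h
    · intro p hp
      refine (hψk ⟨p, hPM hp⟩).1 ?_
      rw [← Subgroup.mem_bot, ← h]
      exact ⟨⟨p, hPM hp⟩, hp, rfl⟩
    · exfalso
      have h1 : Nat.card R ∣ Nat.card (P.subgroupOf M) := Subgroup.card_map_dvd (P.subgroupOf M) ψ
      rw [h, Subgroup.card_top, hcard, Nat.card_congr (Subgroup.subgroupOfEquivOfLe hPM).toEquiv, hPc] at h1
      have hQc : Nat.card Q ∣ 2 ^ Nat.card Q := by
        obtain ⟨k, hk⟩ := (IsPGroup.iff_card (p := 2)).1 (Fact.out : Cfsg.IsExtraspecial 2 Q).1.1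
        rw [hk]
        exact pow_dvd_pow 2 Nat.lt_two_pow_self.le
      have h5 : (5 : ℕ) ∣ 3 * 2 ^ Nat.card Q := dvd_trans (dvd_trans (by norm_num) h1) (Nat.mul_dvd_mul_left 3 hQc)
      have hp5 : Nat.Prime 5 := by norm_num
      rcases hp5.dvd_mul.1 h5 with h | h
      · norm_num at h
      · exact absurd (hp5.dvd_of_dvd_pow h) (by norm_num)
  exact Subgroup.eq_of_le_of_card_ge hle (by rw [hPc, hNc])

variable (hF : Cfsg.IsOfLargeFischerTypeAt z Q)
include hF

/-- A lift fixing the conjugate exactly. -/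
theorem lift_stab {s : Q} (hs : OutForm.pr s ≠ 0) {γ : OutForm.Vm Q ≃ₗ[ZMod 2] OutForm.Vm Q}
    (hγ : γ ∈ (toGL Q).range) (hv : γ (OutForm.pr s) = OutForm.pr s) :
    ∃ d : (Subgroup.centralizer ({z} : Set G)), toGL Q d = γ ∧ (d : G) * ((s : (Subgroup.centralizer ({z} : Set G))) : G) = ((s : (Subgroup.centralizer ({z} : Set G))) : G) * (d : G) := by
  obtain ⟨c, rfl⟩ := hγ
  rw [toGL_pr] at hv
  obtain ⟨r, hr⟩ := exists_conj_of_pr (by rw [hv]; exact hs) hv
  refine ⟨(r : (Subgroup.centralizer ({z} : Set G))) * c, ?_, ?_⟩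
  · rw [map_mul, show toGL Q (r : (Subgroup.centralizer ({z} : Set G))) = 1 from (show (r : (Subgroup.centralizer ({z} : Set G))) ∈ (toGL Q).ker by rw [(exists_frame hF).1]; exact r.2),
      one_mul]
  · have h1 : ((r : (Subgroup.centralizer ({z} : Set G))) : G) * ((c : G) * ((s : (Subgroup.centralizer ({z} : Set G))) : G) * (c : G)⁻¹) * ((r : (Subgroup.centralizer ({z} : Set G))) : G)⁻¹ = ((s : (Subgroup.centralizer ({z} : Set G))) : G) :=
      congrArg (fun a : Q => ((a : (Subgroup.centralizer ({z} : Set G))) : G)) hr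
    show ((r : (Subgroup.centralizer ({z} : Set G))) : G) * c * ((s : (Subgroup.centralizer ({z} : Set G))) : G) = ((s : (Subgroup.centralizer ({z} : Set G))) : G) * (((r : (Subgroup.centralizer ({z} : Set G))) : G) * c)
    calc ((r : (Subgroup.centralizer ({z} : Set G))) : G) * c * ((s : (Subgroup.centralizer ({z} : Set G))) : G)
        = ((r : (Subgroup.centralizer ({z} : Set G))) : G) * ((c : G) * ((s : (Subgroup.centralizer ({z} : Set G))) : G) * (c : G)⁻¹) * ((r : (Subgroup.centralizer ({z} : Set G))) : G)⁻¹ * (((r : (Subgroup.centralizer ({z} : Set G))) : G) * c) := by group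
      _ = _ := by rw [h1]

/-- The large orbit is the one of the conjugates of the central involution. -/
theorem large_iff {g : G} {s : Q} (hs : ((s : (Subgroup.centralizer ({z} : Set G))) : G) = g * z * g⁻¹) (hsz : g * z * g⁻¹ ≠ z) {a : Q}
    (ha : OutForm.pr a ≠ 0) (hqa : OutForm.qf Q (OutForm.pr a) = 0) :
    Nat.card (MulAction.stabilizer (toGL Q).range (OutForm.pr a)) = 11520 ↔ IsConj z ((a : (Subgroup.centralizer ({z} : Set G))) : G) := by
  obtain ⟨hv, hqv, hcv, -⟩ := central_facts hF rfl hsz (hs ▸ (s : (Subgroup.centralizer ({z} : Set G))).2)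
    (by rw [show (⟨_, _⟩ : (Subgroup.centralizer ({z} : Set G))) = (s : (Subgroup.centralizer ({z} : Set G))) from Subtype.ext hs.symm]; exact s.2) _ _ rfl rfl
  have hsQ : (⟨⟨g * z * g⁻¹, hs ▸ (s : (Subgroup.centralizer ({z} : Set G))).2⟩, by
      rw [show (⟨_, _⟩ : (Subgroup.centralizer ({z} : Set G))) = (s : (Subgroup.centralizer ({z} : Set G))) from Subtype.ext hs.symm]; exact s.2⟩ : Q) = s :=
    Subtype.ext (Subtype.ext hs.symm)
  rw [hsQ] at hv hqv hcv
  constructor
  · intro hc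
    obtain ⟨_, ⟨c, rfl⟩, hce⟩ := (stab_type hF).2 _ _ hv hqv ha hqa (hcv.trans hc.symm)
    obtain ⟨d, hd⟩ := exists_conj_lift ha hce
    refine isConj_iff.2 ⟨(d : G) * g, ?_⟩
    rw [← congrArg Subtype.val hd, Subgroup.coe_mul, Subgroup.coe_mul, Subgroup.coe_inv, hs]
    group
  · intro hc
    obtain ⟨k, hk⟩ := isConj_iff.1 hc
    have haz : ((a : (Subgroup.centralizer ({z} : Set G))) : G) ≠ z := by
      intro e
      refine ha (OutForm.pr_eq_zero.2 (Subgroup.mem_center_iff.2 fun y => Subtype.ext (Subtype.ext ?_)))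
      show ((y : (Subgroup.centralizer ({z} : Set G))) : G) * ((a : (Subgroup.centralizer ({z} : Set G))) : G) = ((a : (Subgroup.centralizer ({z} : Set G))) : G) * ((y : (Subgroup.centralizer ({z} : Set G))) : G)
      rw [e]
      exact Subgroup.mem_centralizer_singleton_iff.1 (y : (Subgroup.centralizer ({z} : Set G))).2
    exact (central_facts hF hk haz (a : (Subgroup.centralizer ({z} : Set G))).2 a.2 _ _ rfl rfl).2.2.1

/-- The numbers for a conjugate in Q. -/
theorem sec_facts {g : G} {s : Q} (hs : ((s : (Subgroup.centralizer ({z} : Set G))) : G) = g * z * g⁻¹) (hsz : g * z * g⁻¹ ≠ z) :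
    OutForm.pr s ≠ 0 ∧ OutForm.qf Q (OutForm.pr s) = 0 ∧
    Nat.card (MulAction.stabilizer (toGL Q).range (OutForm.pr s)) = 11520 ∧
    Cfsg.IsElementaryAbelian 2 ((Q.map (Subgroup.centralizer ({z} : Set G)).subtype) ⊓ conjS g (Q.map (Subgroup.centralizer ({z} : Set G)).subtype) : Subgroup G) ∧
    Nat.card ((Q.map (Subgroup.centralizer ({z} : Set G)).subtype) ⊓ conjS g (Q.map (Subgroup.centralizer ({z} : Set G)).subtype) : Subgroup G) = 2 ^ 7 ∧
    Nat.card (secE Q g) = 32 ∧ IsPGroup 2 (secE Q g) := by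
  classical
  have hsc : g * z * g⁻¹ ∈ (Subgroup.centralizer ({z} : Set G)) := hs ▸ (s : (Subgroup.centralizer ({z} : Set G))).2
  have hsQ : (⟨g * z * g⁻¹, hsc⟩ : (Subgroup.centralizer ({z} : Set G))) ∈ Q := by
    rw [show (⟨g * z * g⁻¹, hsc⟩ : (Subgroup.centralizer ({z} : Set G))) = (s : (Subgroup.centralizer ({z} : Set G))) from Subtype.ext hs.symm]; exact s.2
  obtain ⟨hv, hqv, hcv, -, hel, hI, -, -, -, hE, -⟩ := central_facts hF rfl hsz hsc hsQ _ _ rfl rfl
  have e : (⟨⟨g * z * g⁻¹, hsc⟩, hsQ⟩ : Q) = s := Subtype.ext (Subtype.ext hs.symm)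
  rw [e] at hv hqv hcv
  have hE2 : Nat.card (secE Q g) = 32 := by
    have hS : (conjS g (Q.map (Subgroup.centralizer ({z} : Set G)).subtype) ⊓ (Subgroup.centralizer ({z} : Set G))).subgroupOf (Subgroup.centralizer ({z} : Set G)) = (conjS g (Q.map (Subgroup.centralizer ({z} : Set G)).subtype)).subgroupOf (Subgroup.centralizer ({z} : Set G)) :=
      Subgroup.inf_subgroupOf_right _ _
    rw [← hE]
    have h1 := Subgroup.index_ker ((toGL Q).comp ((conjS g (Q.map (Subgroup.centralizer ({z} : Set G)).subtype)).subgroupOf (Subgroup.centralizer ({z} : Set G))).subtype)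
    have h2 := Subgroup.index_ker ((QuotientGroup.mk' Q).comp ((conjS g (Q.map (Subgroup.centralizer ({z} : Set G)).subtype)).subgroupOf (Subgroup.centralizer ({z} : Set G))).subtype)
    have hk : ((toGL Q).comp ((conjS g (Q.map (Subgroup.centralizer ({z} : Set G)).subtype)).subgroupOf (Subgroup.centralizer ({z} : Set G))).subtype).ker =
        ((QuotientGroup.mk' Q).comp ((conjS g (Q.map (Subgroup.centralizer ({z} : Set G)).subtype)).subgroupOf (Subgroup.centralizer ({z} : Set G))).subtype).ker := by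
      rw [← MonoidHom.comap_ker, ← MonoidHom.comap_ker, QuotientGroup.ker_mk', (exists_frame hF).1]
    rw [hk, h2, MonoidHom.range_comp, Subgroup.range_subtype, MonoidHom.range_comp, Subgroup.range_subtype] at h1
    rw [secE, ← h1]
    rw [hS]
  exact ⟨hv, hqv, hcv, hel, hI, hE2, IsPGroup.of_card (n := 5) (by rw [hE2]; norm_num)⟩

/-- The elementary group lies in the stabiliser and is invariant under it. -/
theorem secE_normal {g : G} {s : Q} (hs : ((s : (Subgroup.centralizer ({z} : Set G))) : G) = g * z * g⁻¹) (hsz : g * z * g⁻¹ ≠ z) :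
    (∀ e ∈ secE Q g, e ∈ (toGL Q).range ∧ e (OutForm.pr s) = OutForm.pr s) ∧
    ∀ γ ∈ (toGL Q).range, γ (OutForm.pr s) = OutForm.pr s → ∀ e ∈ secE Q g, γ * e * γ⁻¹ ∈ secE Q g := by
  have DR := (data_of_type hF).conjugate g
  obtain ⟨hv, -⟩ := sec_facts hF hs hsz
  constructor
  · rintro _ ⟨r, hr, rfl⟩
    refine ⟨⟨r, rfl⟩, ?_⟩
    rw [toGL_pr]
    congr 1
    refine Subtype.ext (Subtype.ext ?_)
    show (r : G) * ((s : (Subgroup.centralizer ({z} : Set G))) : G) * (r : G)⁻¹ = ((s : (Subgroup.centralizer ({z} : Set G))) : G)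
    rw [hs, DR.z_central _ (Subgroup.mem_subgroupOf.1 hr), mul_inv_cancel_right]
  · intro γ hγ hγv e he
    obtain ⟨d, rfl, hd⟩ := lift_stab hF hv hγ hγv
    obtain ⟨r, hr, rfl⟩ := he
    refine ⟨d * r * d⁻¹, ?_, by rw [map_mul, map_mul, map_inv]⟩
    rw [hs] at hd
    exact Subgroup.mem_subgroupOf.2 (DR.norm (d : G) hd _ (Subgroup.mem_subgroupOf.1 hr))

omit hF in
theorem zpowers_commute {A : Type*} [Group A] {n m γ : A} (h : Subgroup.zpowers m = Subgroup.zpowers n) :
    γ * m = m * γ ↔ γ * n = n * γ := by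
  constructor <;> intro hc
  · obtain ⟨k, hk⟩ := Subgroup.mem_zpowers_iff.1 (show n ∈ Subgroup.zpowers m by rw [h]; exact Subgroup.mem_zpowers n)
    rw [← hk]; exact (Commute.zpow_right hc k).eq
  · obtain ⟨k, hk⟩ := Subgroup.mem_zpowers_iff.1 (show m ∈ Subgroup.zpowers n by rw [← h]; exact Subgroup.mem_zpowers m)
    rw [← hk]; exact (Commute.zpow_right hc k).eq

/-- Coordinates at a conjugate, adapted to its singular subgroup. -/
theorem exists_point_at {n : OutForm.Vm Q ≃ₗ[ZMod 2] OutForm.Vm Q}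
    (hn : n ∈ (toGL Q).range) (hn3 : orderOf n = 3)
    (hnorm : ∀ γ ∈ (toGL Q).range, γ * n * γ⁻¹ ∈ Subgroup.zpowers n)
    {g : G} {s : Q} (hs : ((s : (Subgroup.centralizer ({z} : Set G))) : G) = g * z * g⁻¹) (hsz : g * z * g⁻¹ ≠ z) :
    ∃ (m : OutForm.Vm Q ≃ₗ[ZMod 2] OutForm.Vm Q)
      (P : Point (OutForm.qf Q) (toGL Q).range m (OutForm.pr s)),
      Subgroup.zpowers m = Subgroup.zpowers n ∧ P.Adm (secA Q g) ∧ ∀ e ∈ secE Q g, P.Tame (secA Q g) e := by
  classical
  haveI : Finite (OutForm.Vm Q ≃ₗ[ZMod 2] OutForm.Vm Q) := Finite.of_injective _ DFunLike.coe_injective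
  obtain ⟨hv, hqv, hcv, hel, hI, hEc, -⟩ := sec_facts hF hs hsz
  have D := data_of_type hF
  have DR := D.conjugate g
  have hΓ : ∀ γ ∈ (toGL Q).range, ∀ v, OutForm.qf Q (γ v) = OutForm.qf Q v := by
    rintro _ ⟨c, rfl⟩ v; exact toGL_q c v
  -- orbit structure needs an element of order seven
  obtain ⟨-, hcard, n', g7, ⟨F'⟩, hn'Γ, hn', hg7Γ, hg7, hg71, hg7n, hnorm'⟩ := exists_frame hF
  have hnd := (Forms.nondegenerate_polarBilin_iff _).1 (OutForm.qf_nondegenerate (E := Q))
  obtain ⟨r, hrel, hst⟩ := F'.orbit_structure hnd hΓ hcard hn'Γ hn' hg7Γ hg7 hg71 hg7n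
  obtain ⟨γ, hγ, ⟨P⟩⟩ := F'.exists_point hrel hst hv hqv hcv hΓ
  have hn'z : Subgroup.zpowers n' = Subgroup.zpowers n := by
    have hn'3 : orderOf n' = 3 := by
      refine orderOf_eq_prime hn' fun e => ?_
      have := F'.n_fix _ (LinearEquiv.congr_fun e (OutForm.pr s))
      exact hv this
    -- the element of order three commutes with n' up to inversion
    obtain ⟨N, M, K, _, _, ψ, hNn, hMn, hQN, hNM, hNc, -, -, -, -, -, -, huni⟩ := exists_chain hF
    have hker := (exists_frame hF).1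
    have key : ∀ a : OutForm.Vm Q ≃ₗ[ZMod 2] OutForm.Vm Q, a ∈ (toGL Q).range → orderOf a = 3 →
        (∀ γ ∈ (toGL Q).range, γ * a * γ⁻¹ ∈ Subgroup.zpowers a) →
        (Subgroup.zpowers a).comap (toGL Q) = N := by
      intro a ha ha3 han
      refine huni _ ?_ ?_ ?_
      · refine ⟨fun p hp h => ?_⟩
        rw [Subgroup.mem_comap, map_mul, map_mul, map_inv]
        obtain ⟨k, hk⟩ := Subgroup.mem_zpowers_iff.1 (Subgroup.mem_comap.1 hp)
        rw [← hk, show toGL Q h * a ^ k * (toGL Q h)⁻¹ = (toGL Q h * a * (toGL Q h)⁻¹) ^ k from (conj_zpow).symm]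
        exact zpow_mem (han _ ⟨h, rfl⟩) k
      · intro x hx
        rw [Subgroup.mem_comap, show toGL Q x = 1 from (show x ∈ (toGL Q).ker by rw [hker]; exact hx)]
        exact one_mem _
      · have hle : Subgroup.zpowers a ≤ (toGL Q).range := Subgroup.zpowers_le.2 ha
        have h1 := Subgroup.index_comap (Subgroup.zpowers a) (toGL Q)
        have h2 := ((Subgroup.zpowers a).comap (toGL Q)).card_mul_index
        rw [h1, Subgroup.relIndex] at h2
        have h3 := ((Subgroup.zpowers a).subgroupOf (toGL Q).range).card_mul_index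
        rw [Nat.card_congr (Subgroup.subgroupOfEquivOfLe hle).toEquiv, Nat.card_zpowers, ha3] at h3
        have h4 := (toGL Q).ker.card_mul_index
        rw [Subgroup.index_ker, ← h3, hker] at h4
        have hpos : 0 < ((Subgroup.zpowers a).subgroupOf (toGL Q).range).index :=
          Nat.pos_of_ne_zero Subgroup.index_ne_zero_of_finite
        refine Nat.eq_of_mul_eq_mul_right hpos ?_
        rw [h2, ← h4]; ring
    have e1 := key n hn hn3 hnorm
    have e2 := key n' hn'Γ hn'3 hnorm'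
    have h := e2.trans e1.symm
    have := congrArg (Subgroup.map (toGL Q)) h
    rwa [Subgroup.map_comap_eq, Subgroup.map_comap_eq, inf_eq_right.2 (Subgroup.zpowers_le.2 hn'Γ),
      inf_eq_right.2 (Subgroup.zpowers_le.2 hn)] at this
  have hmz : Subgroup.zpowers (γ * n' * γ⁻¹) = Subgroup.zpowers n := by
    have h3 : γ * n * γ⁻¹ ∈ Subgroup.zpowers n := hnorm γ hγ
    obtain ⟨k, hk⟩ := Subgroup.mem_zpowers_iff.1 (show n' ∈ Subgroup.zpowers n by
      rw [← hn'z]; exact Subgroup.mem_zpowers n')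
    have hle : Subgroup.zpowers (γ * n' * γ⁻¹) ≤ Subgroup.zpowers n := by
      rw [Subgroup.zpowers_le, ← hk, ← conj_zpow]; exact zpow_mem h3 k
    refine Subgroup.eq_of_le_of_card_ge hle (le_of_eq ?_)
    rw [← hn'z, Nat.card_zpowers, Nat.card_zpowers, ← (MulAut.conj γ).orderOf_eq n']
    rfl
  have hsR : ((s : (Subgroup.centralizer ({z} : Set G))) : G) ∈ conjS g (Q.map (Subgroup.centralizer ({z} : Set G)).subtype) := by rw [hs]; exact ⟨z, D.z_mem, rfl⟩
  have hA : P.Adm (secA Q g) := by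
    refine ⟨mem_secA.2 ⟨s, hsR, rfl⟩, ?_, ?_, ?_, ?_⟩
    · have hIc : Nat.card (secI Q g) = 2 ^ 7 := by
        rw [← hI]
        exact Nat.card_congr
          { toFun := fun x => ⟨((x.1 : (Subgroup.centralizer ({z} : Set G))) : G), ⟨(x.1 : (Subgroup.centralizer ({z} : Set G))), x.1.2, rfl⟩, x.2⟩
            invFun := fun y => ⟨⟨⟨y.1, by obtain ⟨a, ha, e⟩ := y.2.1; exact e ▸ a.2⟩, by
              obtain ⟨a, ha, e⟩ := y.2.1
              exact (Subtype.ext e : a = ⟨y.1, e ▸ a.2⟩) ▸ ha⟩, y.2.2⟩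
            left_inv := fun _ => rfl
            right_inv := fun _ => rfl }
      let f := (QuotientGroup.mk' (Subgroup.center Q)).comp (secI Q g).subtype
      have hk : Nat.card f.ker ≤ 2 := by
        rw [← (Fact.out : Cfsg.IsExtraspecial 2 Q).2]
        exact Nat.card_le_card_of_injective
          (fun x => (⟨x.1.1, (QuotientGroup.eq_one_iff _).1 x.2⟩ : Subgroup.center Q))
          fun x y h => Subtype.ext (Subtype.ext (congrArg Subtype.val h :))
      have h := f.ker.card_mul_index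
      rw [Subgroup.index_ker, hIc, MonoidHom.range_comp, Subgroup.range_subtype] at h
      have hA : Nat.card (secA Q g) = Nat.card ((secI Q g).map (QuotientGroup.mk' (Subgroup.center Q))) := rfl
      rw [hA]
      nlinarith
    · intro π x hx
      obtain ⟨a, ha, rfl⟩ := mem_secA.1 hx
      obtain ⟨d, hd, hds⟩ := lift_stab hF hv (P.perm π).2 (P.perm_v π)
      rw [← hd, toGL_pr]
      refine mem_secA.2 ⟨_, ?_, rfl⟩
      show (d : G) * ((a : (Subgroup.centralizer ({z} : Set G))) : G) * (d : G)⁻¹ ∈ conjS g (Q.map (Subgroup.centralizer ({z} : Set G)).subtype)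
      rw [hs] at hds
      exact DR.norm _ hds _ ha
    · intro x hx
      obtain ⟨a, ha, rfl⟩ := mem_secA.1 hx
      rw [OutForm.qf_apply]
      have h2 := hel.2 _ (⟨⟨(a : (Subgroup.centralizer ({z} : Set G))), a.2, rfl⟩, ha⟩ : ((a : (Subgroup.centralizer ({z} : Set G))) : G) ∈ (Q.map (Subgroup.centralizer ({z} : Set G)).subtype) ⊓ conjS g (Q.map (Subgroup.centralizer ({z} : Set G)).subtype))
      rw [pow_two] at h2
      rw [show a * a = 1 from Subtype.ext (Subtype.ext h2), OutForm.eps_one]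
    · intro c hc hc0 hcv'
      obtain ⟨a, ha, hae⟩ := mem_secA.1 hc
      have hel' : ∀ b : Q, ((b : (Subgroup.centralizer ({z} : Set G))) : G) ∈ conjS g (Q.map (Subgroup.centralizer ({z} : Set G)).subtype) → OutForm.qf Q (OutForm.pr b) = 0 := fun b hb => by
        rw [OutForm.qf_apply]
        have h2 := hel.2 _ (⟨⟨(b : (Subgroup.centralizer ({z} : Set G))), b.2, rfl⟩, hb⟩ : ((b : (Subgroup.centralizer ({z} : Set G))) : G) ∈ (Q.map (Subgroup.centralizer ({z} : Set G)).subtype) ⊓ conjS g (Q.map (Subgroup.centralizer ({z} : Set G)).subtype))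
        rw [pow_two] at h2
        rw [show b * b = 1 from Subtype.ext (Subtype.ext h2), OutForm.eps_one]
      have has : ((a * s : Q) : (Subgroup.centralizer ({z} : Set G))).1 ∈ conjS g (Q.map (Subgroup.centralizer ({z} : Set G)).subtype) := mul_mem ha hsR
      have hsum : OutForm.pr (a * s) = P.φ (cadd c (cst 1)) := by
        rw [OutForm.pr_mul, hae, P.add_v]
      have hne : OutForm.pr (a * s) ≠ 0 := by
        rw [OutForm.pr_mul, hae]
        intro e
        refine hcv' ?_
        rw [← add_left_inj (OutForm.pr s), e, ZModModule.add_self]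
      have hconj : IsConj z ((a : (Subgroup.centralizer ({z} : Set G))) : G) ↔ IsConj z (((a * s : Q) : (Subgroup.centralizer ({z} : Set G))) : G) := by
        obtain ⟨t, -, ht⟩ := DR.exists_conj_eq (s := ((a : (Subgroup.centralizer ({z} : Set G))) : G)) ha (fun e => hc0 (by
            rw [← hae, show a = 1 from Subtype.ext (Subtype.ext e)]; rfl)) (fun e => hcv' (by
            rw [← hae, show a = s from Subtype.ext (Subtype.ext (e.trans hs.symm))]))
        have hc' : IsConj ((a : (Subgroup.centralizer ({z} : Set G))) : G) (((a * s : Q) : (Subgroup.centralizer ({z} : Set G))) : G) := isConj_iff.2 ⟨t, by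
          rw [ht]; show _ = ((a : (Subgroup.centralizer ({z} : Set G))) : G) * ((s : (Subgroup.centralizer ({z} : Set G))) : G); rw [hs]⟩
        exact ⟨fun h => h.trans hc', fun h => h.trans hc'.symm⟩
      have hcls : ∀ b : Code, P.φ b ≠ 0 → OutForm.qf Q (P.φ b) = 0 → (cls b).isSome = true := fun b h1 h2 => by
        rw [cls_isSome]
        exact ⟨by rw [← P.q_φ]; exact h2, fun e => h1 (by rw [e, P.φ_zero])⟩
      have key : ∀ (b : Q) (e : Code), ((b : (Subgroup.centralizer ({z} : Set G))) : G) ∈ conjS g (Q.map (Subgroup.centralizer ({z} : Set G)).subtype) → OutForm.pr b = P.φ e → P.φ e ≠ 0 →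
          (smallC 2 e = true ↔ ¬ IsConj z ((b : (Subgroup.centralizer ({z} : Set G))) : G)) := by
        intro b e hb hbe he
        have hq0 := hel' b hb
        rw [← large_iff hF hs hsz (by rw [hbe]; exact he) hq0, hbe]
        rw [hbe] at hq0
        rw [← P.small e (hcls e he hq0)]
        rcases ((stab_type hF).1 _ he hq0).1 with h | h <;> rw [h] <;> norm_num
      rw [Bool.eq_iff_iff, key a c ha hae hc0, key (a * s) _ has hsum (by rw [← hsum]; exact hne), hconj]
  refine ⟨_, P, hmz, hA, fun e he => ⟨((secE_normal hF hs hsz).1 e he).1, ((secE_normal hF hs hsz).1 e he).2, ?_⟩⟩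
  intro x hx
  obtain ⟨a, ha, rfl⟩ := mem_secA.1 hx
  obtain ⟨w, hw, rfl⟩ := he
  rw [toGL_pr]
  have hw' := Subgroup.mem_subgroupOf.1 hw
  rcases DR.comm _ hw' _ ha with h | h
  · left
    congr 1
    refine Subtype.ext (Subtype.ext ?_)
    show (w : G) * ((a : (Subgroup.centralizer ({z} : Set G))) : G) * (w : G)⁻¹ = ((a : (Subgroup.centralizer ({z} : Set G))) : G)
    rw [commutatorElement_eq_one_iff_mul_comm.1 h, mul_inv_cancel_right]
  · right
    rw [← OutForm.pr_mul]
    congr 1
    refine Subtype.ext (Subtype.ext ?_)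
    show (w : G) * ((a : (Subgroup.centralizer ({z} : Set G))) : G) * (w : G)⁻¹ = ((a : (Subgroup.centralizer ({z} : Set G))) : G) * ((s : (Subgroup.centralizer ({z} : Set G))) : G)
    rw [hs, DR.z_central _ ha, ← h, commutatorElement_def, inv_mul_cancel_right]

end Cfsg.Agent.LargeFischer
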