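/-
A totally singular six-space W through v, a map n of order three without fixed points, and 32 isometries
fixing v which move W only into v.

* `Line.nv_mem`, `Line.exists_invert` : n v lies in W, and some of the isometries inverts n
* `Line.move_small` : those commuting with n move the orthogonal of v, n v into {0, v, n v, v + n v}
* `Line.inter` : W meets its image under n in that set
-/
import Cfsg.Agent.EqLemmas
import Mathlib.LinearAlgebra.QuadraticForm.Basic
import Mathlib.LinearAlgebra.BilinearForm.Orthogonal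
import Mathlib.LinearAlgebra.FiniteDimensional.Lemmas
import Mathlib.Algebra.Module.ZMod
import Mathlib.Algebra.CharP.Two
import Mathlib.Data.ZMod.Basic

set_option autoImplicit false

namespace Cfsg.Agent.LargeFischer

variable {V : Type*} [AddCommGroup V] [Module (ZMod 2) V]

theorem two_cases' : ∀ a : ZMod 2, a = 0 ∨ a = 1 := by decide

/-- The four vectors of the line. -/
def InL (n : V ≃ₗ[ZMod 2] V) (v x : V) : Prop := x = 0 ∨ x = v ∨ x = n v ∨ x = v + n v

/-- The setting. -/
structure Line (q : QuadraticForm (ZMod 2) V) (n : V ≃ₗ[ZMod 2] V) (v : V) (W : Submodule (ZMod 2) V)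
    (E : Set (V ≃ₗ[ZMod 2] V)) : Prop where
  fin : Finite V
  nd : ∀ x, (∀ y, QuadraticMap.polar q x y = 0) → x = 0
  n_q : ∀ x, q (n x) = q x
  n_sum : ∀ x, n (n x) = x + n x
  n_fix : ∀ x, n x = x → x = 0
  v_ne : v ≠ 0
  v_sing : q v = 0
  v_mem : v ∈ W
  iso : ∀ a ∈ W, ∀ b ∈ W, QuadraticMap.polar q a b = 0
  W_sing : ∀ a ∈ W, q a = 0
  cardW : Nat.card W = 64
  cardV : Nat.card V = 4096
  E_q : ∀ e ∈ E, ∀ x, q (e x) = q x
  E_v : ∀ e ∈ E, e v = v
  E_W : ∀ e ∈ E, ∀ w ∈ W, e w = w ∨ e w = w + v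
  E_perp : ∀ e ∈ E, ∀ x, QuadraticMap.polar q x v = 0 → e x + x ∈ W
  E_fix : ∀ w ∈ W, (∀ e ∈ E, e w = w) → w = 0 ∨ w = v
  E_faith : ∀ e ∈ E, (∀ w ∈ W, e w = w) → e = 1
  E_mul : ∀ e ∈ E, ∀ e' ∈ E, e * e' ∈ E
  E_sq : ∀ e ∈ E, e * e = 1
  E_card : E.ncard = 32
  E_n : ∀ e ∈ E, (∀ x, e (n x) = n (e x)) ∨ ∀ x, e (n x) = n (n (e x))

namespace Line

variable {q : QuadraticForm (ZMod 2) V} {n : V ≃ₗ[ZMod 2] V} {v : V} {W : Submodule (ZMod 2) V}
  {E : Set (V ≃ₗ[ZMod 2] V)}

/-- The isometries commuting with n. -/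
def E0 (n : V ≃ₗ[ZMod 2] V) (E : Set (V ≃ₗ[ZMod 2] V)) : Set (V ≃ₗ[ZMod 2] V) :=
  {e | e ∈ E ∧ ∀ x, e (n x) = n (e x)}

theorem add_self (x : V) : x + x = 0 := by
  rw [← two_smul (ZMod 2) x, show (2 : ZMod 2) = 0 from rfl, zero_smul]

theorem add_cancel (x y : V) : x + (x + y) = y := by rw [← add_assoc, add_self, zero_add]

section
variable (Λ : Line q n v W E)
include Λ

theorem polar_n (x y : V) : QuadraticMap.polar q (n x) (n y) = QuadraticMap.polar q x y := by
  unfold QuadraticMap.polar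
  rw [← map_add, Λ.n_q, Λ.n_q, Λ.n_q]

theorem n_three (x : V) : n (n (n x)) = x := by
  rw [Λ.n_sum x, map_add, Λ.n_sum, add_comm, add_assoc, add_self, add_zero]

theorem polar_E {e : V ≃ₗ[ZMod 2] V} (he : e ∈ E) (x y : V) :
    QuadraticMap.polar q (e x) (e y) = QuadraticMap.polar q x y := by
  unfold QuadraticMap.polar
  rw [← map_add, Λ.E_q e he, Λ.E_q e he, Λ.E_q e he]

theorem polar_v_nv : QuadraticMap.polar q v (n v) = 0 := by
  have h : q (v + n v) = 0 := by rw [← Λ.n_sum, Λ.n_q, Λ.n_q, Λ.v_sing]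
  unfold QuadraticMap.polar
  rw [h, Λ.n_q, Λ.v_sing]
  simp

theorem nv_ne : n v ≠ 0 ∧ n v ≠ v :=
  ⟨fun h => Λ.v_ne (n.map_eq_zero_iff.1 h), fun h => Λ.v_ne (Λ.n_fix v h)⟩

theorem n2v_ne : n (n v) ≠ 0 ∧ n (n v) ≠ v ∧ n (n v) ≠ n v :=
  ⟨fun h => Λ.nv_ne.1 (n.map_eq_zero_iff.1 h), fun h => Λ.nv_ne.2 (by
    have h2 := congrArg n h
    rw [Λ.n_three] at h2
    exact h2.symm), fun h => Λ.nv_ne.2 (n.injective h)⟩

/-- The orthogonal of the line is invariant under n. -/
theorem perp_n {x : V} (h1 : QuadraticMap.polar q x v = 0) (h2 : QuadraticMap.polar q x (n v) = 0) :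
    QuadraticMap.polar q (n x) v = 0 ∧ QuadraticMap.polar q (n x) (n v) = 0 := by
  refine ⟨?_, by rw [Λ.polar_n]; exact h1⟩
  conv_lhs => rw [← Λ.n_three v]
  rw [Λ.polar_n, Λ.n_sum, QuadraticMap.polar_add_right, h1, h2, add_zero]

theorem E0_card : 16 ≤ (E0 n E).ncard := by
  haveI := Λ.fin
  haveI : Finite (V ≃ₗ[ZMod 2] V) := Finite.of_injective _ DFunLike.coe_injective
  by_cases h : ∃ e ∈ E, e ∉ E0 n E
  · obtain ⟨e₁, he₁, hn₁⟩ := h
    have h1 : ∀ x, e₁ (n x) = n (n (e₁ x)) := (Λ.E_n e₁ he₁).resolve_left fun h => hn₁ ⟨he₁, h⟩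
    have hmaps : ∀ e ∈ E \ E0 n E, e * e₁ ∈ E0 n E := by
      rintro e ⟨he, hn⟩
      have h2 : ∀ x, e (n x) = n (n (e x)) := (Λ.E_n e he).resolve_left fun h => hn ⟨he, h⟩
      refine ⟨Λ.E_mul e he e₁ he₁, fun x => ?_⟩
      show e (e₁ (n x)) = n (e (e₁ x))
      rw [h1, h2, h2, Λ.n_three]
    have hle : (E \ E0 n E).ncard ≤ (E0 n E).ncard :=
      Set.ncard_le_ncard_of_injOn (· * e₁) hmaps (fun a _ b _ h => mul_right_cancel h) (Set.toFinite _)
    have := Set.ncard_sdiff_add_ncard_of_subset (show E0 n E ⊆ E from fun e he => he.1)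
    rw [Λ.E_card] at this
    omega
  · push Not at h
    have : E ⊆ E0 n E := h
    have := Set.ncard_le_ncard this (Set.toFinite _)
    rw [Λ.E_card] at this
    omega

/-- A vector of W whose orbit under n lies in W and is moved by E₀ only into v lies on the line. -/
theorem orbit_fix {y : V} (h : ∀ e ∈ E0 n E, e y = y) (h0 : y ∈ W) (h1 : n y ∈ W) : InL n v y := by
  have h2 : n (n y) ∈ W := by rw [Λ.n_sum]; exact add_mem h0 h1
  have hn : ∀ e ∈ E0 n E, e (n y) = n y := fun e he => by rw [he.2, h e he]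
  have hnn : ∀ e ∈ E0 n E, e (n (n y)) = n (n y) := fun e he => by rw [he.2, hn e he]
  -- one of the three is fixed by all of E
  have key : (∀ e ∈ E, e y = y) ∨ (∀ e ∈ E, e (n y) = n y) ∨ ∀ e ∈ E, e (n (n y)) = n (n y) := by
    by_cases hall : ∀ e ∈ E, e ∈ E0 n E
    · exact Or.inl fun e he => h e (hall e he)
    push Not at hall
    obtain ⟨e₁, he₁, hn₁⟩ := hall
    have inv : ∀ x, (∀ e ∈ E0 n E, e x = x) → e₁ x = x → ∀ e ∈ E, e x = x := by
      intro x hx h1x e he
      by_cases hen : e ∈ E0 n E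
      · exact hx e hen
      have h2 : ∀ a, e (n a) = n (n (e a)) := (Λ.E_n e he).resolve_left fun h => hen ⟨he, h⟩
      have h1 : ∀ a, e₁ (n a) = n (n (e₁ a)) := (Λ.E_n e₁ he₁).resolve_left fun h => hn₁ ⟨he₁, h⟩
      have hm : e * e₁ ∈ E0 n E := ⟨Λ.E_mul e he e₁ he₁, fun a => by
        show e (e₁ (n a)) = n (e (e₁ a))
        rw [h1, h2, h2, Λ.n_three]⟩
      calc e x = e (e₁ x) := by rw [h1x]
        _ = x := hx _ hm
    rcases Λ.E_W e₁ he₁ y h0 with a | a
    · exact Or.inl (inv y h a)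
    rcases Λ.E_W e₁ he₁ (n y) h1 with b | b
    · exact Or.inr (Or.inl (inv _ hn b))
    refine Or.inr (Or.inr (inv _ hnn ?_))
    rw [Λ.n_sum, map_add, a, b, show y + v + (n y + v) = y + n y + (v + v) by abel, add_self, add_zero]
  rcases key with k | k | k
  · rcases Λ.E_fix y h0 k with r | r
    exacts [Or.inl r, Or.inr (Or.inl r)]
  · rcases Λ.E_fix _ h1 k with r | r
    · exact Or.inl (n.map_eq_zero_iff.1 r)
    · right; right; right
      rw [← Λ.n_sum]
      have := congrArg (fun a => n (n a)) r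
      simpa only [Λ.n_three] using this
  · rcases Λ.E_fix _ h2 k with r | r
    · exact Or.inl (n.map_eq_zero_iff.1 (n.map_eq_zero_iff.1 r))
    · right; right; left
      have := congrArg n r
      rwa [Λ.n_three] at this

theorem fixed_E0 {w : V} (hw : w ∈ W) (h1 : n w ∈ W) {e : V ≃ₗ[ZMod 2] V} (he : e ∈ E0 n E) : e w = w := by
  rcases Λ.E_W e he.1 w hw with a | a
  · exact a
  rcases Λ.E_W e he.1 (n w) h1 with b | b
  all_goals rw [he.2, a, map_add] at b
  · exact absurd (add_eq_left.1 b) Λ.nv_ne.1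
  · exact absurd (add_left_cancel b) Λ.nv_ne.2

/-- W meets its image under n on the line. -/
theorem inter {w : V} (h0 : w ∈ W) (h1 : n w ∈ W) : InL n v w :=
  Λ.orbit_fix (fun _ he => Λ.fixed_E0 h0 h1 he) h0 h1

theorem move_aux {e : V ≃ₗ[ZMod 2] V} (he : e ∈ E0 n E) {x : V} (hx : QuadraticMap.polar q x v = 0)
    (hx' : QuadraticMap.polar q x (n v) = 0) : e x + x ∈ W ∧ n (e x + x) ∈ W := by
  refine ⟨Λ.E_perp e he.1 x hx, ?_⟩
  rw [map_add, ← he.2]
  exact Λ.E_perp e he.1 _ (Λ.perp_n hx hx').1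

/-- Isometries commuting with n move the orthogonal of the line into the line. -/
theorem move_small {e : V ≃ₗ[ZMod 2] V} (he : e ∈ E0 n E) {x : V} (hx : QuadraticMap.polar q x v = 0)
    (hx' : QuadraticMap.polar q x (n v) = 0) : InL n v (e x + x) :=
  Λ.inter (Λ.move_aux he hx hx').1 (Λ.move_aux he hx hx').2

/-- Both linear functions of the line take all values. -/
theorem exists_dual : ∃ x, QuadraticMap.polar q x v = 1 ∧ QuadraticMap.polar q x (n v) = 0 := by
  by_contra! h
  have h' : ∀ x, QuadraticMap.polar q x v = 1 → QuadraticMap.polar q x (n v) = 1 :=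
    fun x hx => (two_cases' _).resolve_left (h x hx)
  obtain ⟨x, hx⟩ : ∃ x, QuadraticMap.polar q x v = 1 := by
    by_contra! hv
    exact Λ.v_ne (Λ.nd v fun y => by rw [QuadraticMap.polar_comm]; exact (two_cases' _).resolve_right (hv y))
  have h2 : ∀ y, QuadraticMap.polar q y (v + n v) = 0 := by
    intro y
    rw [QuadraticMap.polar_add_right]
    rcases two_cases' (QuadraticMap.polar q y v) with a | a
    · rcases two_cases' (QuadraticMap.polar q y (n v)) with b | b
      · rw [a, b, add_zero]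
      · exfalso
        have := h' (y + x) (by rw [QuadraticMap.polar_add_left, a, hx, zero_add])
        rw [QuadraticMap.polar_add_left, b, h' x hx] at this
        exact absurd this (by decide)
    · rw [a, h' y a]; decide
  have h3 := Λ.nd (v + n v) fun y => by rw [QuadraticMap.polar_comm]; exact h2 y
  rw [← Λ.n_sum] at h3
  exact Λ.n2v_ne.1 h3

/-- Decomposition along the line. -/
theorem decomp {x0 : V} (h1 : QuadraticMap.polar q x0 v = 1) (h2 : QuadraticMap.polar q x0 (n v) = 0) (x : V) :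
    ∃ a b : ZMod 2, ∃ l, QuadraticMap.polar q l v = 0 ∧ QuadraticMap.polar q l (n v) = 0 ∧
      x = a • x0 + b • n x0 + l := by
  have g1 : QuadraticMap.polar q (n x0) v = 1 := by
    conv_lhs => rw [← Λ.n_three v]
    rw [Λ.polar_n, Λ.n_sum, QuadraticMap.polar_add_right, h1, h2, add_zero]
  have g2 : QuadraticMap.polar q (n x0) (n v) = 1 := by rw [Λ.polar_n, h1]
  set b := QuadraticMap.polar q x (n v) with hb
  set a := QuadraticMap.polar q x v + b with ha
  refine ⟨a, b, x + (a • x0 + b • n x0), ?_, ?_, ?_⟩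
  · rw [QuadraticMap.polar_add_left, QuadraticMap.polar_add_left, QuadraticMap.polar_smul_left,
      QuadraticMap.polar_smul_left, h1, g1, ha, smul_eq_mul, smul_eq_mul, mul_one, mul_one,
      show QuadraticMap.polar q x v + (QuadraticMap.polar q x v + b + b)
        = (QuadraticMap.polar q x v + QuadraticMap.polar q x v) + (b + b) by ring]
    rw [CharTwo.add_self_eq_zero, CharTwo.add_self_eq_zero, add_zero]
  · rw [QuadraticMap.polar_add_left, QuadraticMap.polar_add_left, QuadraticMap.polar_smul_left,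
      QuadraticMap.polar_smul_left, h2, g2, ← hb, smul_eq_mul, smul_eq_mul, mul_zero, mul_one, zero_add,
      CharTwo.add_self_eq_zero]
  · rw [add_comm x, ← add_assoc, add_self, zero_add]

/-- The line lies in W. -/
theorem nv_mem : n v ∈ W := by
  by_contra hnv
  haveI := Λ.fin
  have triv : ∀ e ∈ E0 n E, ∀ x, QuadraticMap.polar q x v = 0 → QuadraticMap.polar q x (n v) = 0 → e x = x := by
    intro e he x hx hx'
    obtain ⟨hy, hny⟩ := Λ.move_aux he hx hx'
    have hn2 : n (n v) ∉ W := fun h => hnv (by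
      rw [Λ.n_sum] at h
      simpa [add_cancel] using add_mem Λ.v_mem h)
    have h0 : e x + x = 0 := by
      rcases Λ.move_small he hx hx' with r | r | r | r
      · exact r
      · rw [r] at hny; exact absurd hny hnv
      · rw [r] at hy; exact absurd hy hnv
      · rw [r, ← Λ.n_sum] at hy; exact absurd hy hn2
    rw [← sub_eq_zero, sub_eq_add_neg, ZModModule.neg_eq_self]
    exact h0
  obtain ⟨x0, h1, h2⟩ := Λ.exists_dual
  let f : (V ≃ₗ[ZMod 2] V) → ZMod 2 × ZMod 2 := fun e =>
    (QuadraticMap.polar q (e x0 + x0) x0, QuadraticMap.polar q (e x0 + x0) (n x0))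
  have hinj : Set.InjOn f (E0 n E) := by
    intro e he e' he' hee
    have hz : e x0 = e' x0 := by
      have : e x0 + x0 = e' x0 + x0 := by
        rw [← sub_eq_zero]
        refine Λ.nd _ fun y => ?_
        obtain ⟨a, b, l, l1, l2, rfl⟩ := Λ.decomp h1 h2 y
        have hl : ∀ g ∈ E0 n E, QuadraticMap.polar q (g x0 + x0) l = 0 := fun g hg => by
          rw [QuadraticMap.polar_add_left]
          conv_lhs => arg 1; rw [← triv g hg l l1 l2]
          rw [Λ.polar_E hg.1, CharTwo.add_self_eq_zero]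
        simp only [f, Prod.mk.injEq] at hee
        rw [QuadraticMap.polar_sub_left]
        simp only [QuadraticMap.polar_add_right, QuadraticMap.polar_smul_right, hl e he, hl e' he', hee.1,
          hee.2, sub_self]
      exact add_right_cancel this
    refine LinearEquiv.ext fun y => ?_
    obtain ⟨a, b, l, l1, l2, rfl⟩ := Λ.decomp h1 h2 y
    simp only [map_add, map_smul, he.2, he'.2, hz, triv e he l l1 l2, triv e' he' l l1 l2]
  have := Set.ncard_le_ncard_of_injOn f (fun e _ => Set.mem_univ (f e)) hinj (Set.toFinite _)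
  rw [Set.ncard_univ, Nat.card_prod, Nat.card_zmod] at this
  have := Λ.E0_card
  omega

/-- Some of the isometries inverts n. -/
theorem exists_invert : ∃ e ∈ E, ∀ x, e (n x) = n (n (e x)) := by
  by_contra! h
  have hfix : ∀ e ∈ E, e (n v) = n v := fun e he => by
    rcases Λ.E_n e he with k | k
    · rw [k, Λ.E_v e he]
    · obtain ⟨x, hx⟩ := h e he
      exact absurd (k x) hx
  rcases Λ.E_fix _ Λ.nv_mem hfix with r | r
  exacts [Λ.nv_ne.1 r, Λ.nv_ne.2 r]

theorem E0_card_eq : (E0 n E).ncard = 16 := by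
  haveI := Λ.fin
  haveI : Finite (V ≃ₗ[ZMod 2] V) := Finite.of_injective _ DFunLike.coe_injective
  obtain ⟨e₁, he₁, h1⟩ := Λ.exists_invert
  have hne : ∀ e ∈ E0 n E, e * e₁ ∈ E \ E0 n E := by
    intro e he
    refine ⟨Λ.E_mul e he.1 e₁ he₁, fun h => ?_⟩
    have := h.2 v
    change e (e₁ (n v)) = n (e (e₁ v)) at this
    rw [h1, Λ.E_v e₁ he₁, he.2, he.2, Λ.E_v e he.1] at this
    exact Λ.nv_ne.2 (n.injective this)
  have hle : (E0 n E).ncard ≤ (E \ E0 n E).ncard :=
    Set.ncard_le_ncard_of_injOn (· * e₁) hne (fun a _ b _ h => mul_right_cancel h) (Set.toFinite _)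
  have := Set.ncard_sdiff_add_ncard_of_subset (show E0 n E ⊆ E from fun e he => he.1)
  rw [Λ.E_card] at this
  have := Λ.E0_card
  omega

/-- An isometry commuting with n that fixes the orthogonal of the line is trivial. -/
theorem eq_one_of_fix {e : V ≃ₗ[ZMod 2] V} (he : e ∈ E0 n E)
    (h : ∀ x, QuadraticMap.polar q x v = 0 → QuadraticMap.polar q x (n v) = 0 → e x = x) : e = 1 :=
  Λ.E_faith e he.1 fun w hw => h w (Λ.iso w hw v Λ.v_mem) (Λ.iso w hw _ Λ.nv_mem)

theorem inL_mem {x : V} (h : InL n v x) : x ∈ W := by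
  rcases h with rfl | rfl | rfl | rfl
  exacts [zero_mem _, Λ.v_mem, Λ.nv_mem, add_mem Λ.v_mem Λ.nv_mem]

theorem inL_n {x : V} (h : InL n v x) : InL n v (n x) := by
  rcases h with rfl | rfl | rfl | rfl
  · exact Or.inl (map_zero _)
  · exact Or.inr (Or.inr (Or.inl rfl))
  · exact Or.inr (Or.inr (Or.inr (Λ.n_sum _)))
  · rw [← Λ.n_sum, Λ.n_three]; exact Or.inr (Or.inl rfl)

/-- Vectors of W fixed by the isometries commuting with n lie on the line. -/
theorem inL_of_fixed {w : V} (hw : w ∈ W) (h : ∀ e ∈ E0 n E, e w = w) : InL n v w := by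
  obtain ⟨e₁, he₁, h1⟩ := Λ.exists_invert
  have inv : ∀ x, (∀ e ∈ E0 n E, e x = x) → e₁ x = x → ∀ e ∈ E, e x = x := by
    intro x hx h1x e he
    by_cases hen : e ∈ E0 n E
    · exact hx e hen
    have h2 : ∀ a, e (n a) = n (n (e a)) := (Λ.E_n e he).resolve_left fun h => hen ⟨he, h⟩
    have hm : e * e₁ ∈ E0 n E := ⟨Λ.E_mul e he e₁ he₁, fun a => by
      show e (e₁ (n a)) = n (e (e₁ a))
      rw [h1, h2, h2, Λ.n_three]⟩
    calc e x = e (e₁ x) := by rw [h1x]
      _ = x := hx _ hm
  rcases Λ.E_W e₁ he₁ w hw with a | a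
  · rcases Λ.E_fix w hw (inv w h a) with r | r
    exacts [Or.inl r, Or.inr (Or.inl r)]
  · have hn : ∀ e ∈ E0 n E, e (w + n v) = w + n v := fun e he => by
      rw [map_add, h e he, he.2, Λ.E_v e he.1]
    have h1' : e₁ (w + n v) = w + n v := by
      rw [map_add, a, h1, Λ.E_v e₁ he₁, Λ.n_sum,
        show w + v + (v + n v) = w + n v + (v + v) by abel, add_self, add_zero]
    have e0 : ∀ u, w + n v = u → w = u + n v := fun u hu => by
      rw [← hu, add_assoc, add_self, add_zero]
    rcases Λ.E_fix _ (add_mem hw Λ.nv_mem) (inv _ hn h1') with r | r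
    · right; right; left; rw [e0 _ r, zero_add]
    · exact Or.inr (Or.inr (Or.inr (e0 _ r)))

/-- The orthogonal of the orthogonal of the line is the line. -/
theorem perp_perp {y : V}
    (h : ∀ x, QuadraticMap.polar q x v = 0 → QuadraticMap.polar q x (n v) = 0 → QuadraticMap.polar q y x = 0) :
    InL n v y := by
  obtain ⟨x0, h1, h2⟩ := Λ.exists_dual
  have g1 : QuadraticMap.polar q (n x0) v = 1 := by
    conv_lhs => rw [← Λ.n_three v]
    rw [Λ.polar_n, Λ.n_sum, QuadraticMap.polar_add_right, h1, h2, add_zero]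
  have g2 : QuadraticMap.polar q (n x0) (n v) = 1 := by rw [Λ.polar_n, h1]
  have key : ∀ u : V, InL n v u → QuadraticMap.polar q y x0 = QuadraticMap.polar q u x0 →
      QuadraticMap.polar q y (n x0) = QuadraticMap.polar q u (n x0) → y = u := by
    intro u hu e1 e2
    rw [← sub_eq_zero]
    refine Λ.nd _ fun x => ?_
    obtain ⟨a, b, l, l1, l2, rfl⟩ := Λ.decomp h1 h2 x
    have hl : QuadraticMap.polar q u l = 0 := by
      rw [QuadraticMap.polar_comm]
      rcases hu with rfl | rfl | rfl | rfl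
      · exact QuadraticMap.polar_zero_right _ _
      · exact l1
      · exact l2
      · rw [QuadraticMap.polar_add_right, l1, l2, add_zero]
    rw [QuadraticMap.polar_sub_left]
    simp only [QuadraticMap.polar_add_right, QuadraticMap.polar_smul_right, h l l1 l2, hl, e1, e2, sub_self]
  have c1 : QuadraticMap.polar q v x0 = 1 := by rw [QuadraticMap.polar_comm, h1]
  have c2 : QuadraticMap.polar q (n v) x0 = 0 := by rw [QuadraticMap.polar_comm, h2]
  have c3 : QuadraticMap.polar q v (n x0) = 1 := by rw [QuadraticMap.polar_comm, g1]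
  have c4 : QuadraticMap.polar q (n v) (n x0) = 1 := by rw [QuadraticMap.polar_comm, g2]
  rcases two_cases' (QuadraticMap.polar q y x0) with a | a <;>
    rcases two_cases' (QuadraticMap.polar q y (n x0)) with b | b
  · exact Or.inl (key 0 (Or.inl rfl) (by rw [a, QuadraticMap.polar_zero_left]) (by rw [b, QuadraticMap.polar_zero_left]))
  · exact Or.inr (Or.inr (Or.inl (key _ (Or.inr (Or.inr (Or.inl rfl))) (by rw [a, c2]) (by rw [b, c4]))))
  · exact Or.inr (Or.inr (Or.inr (key _ (Or.inr (Or.inr (Or.inr rfl))) (by rw [a, QuadraticMap.polar_add_left, c1, c2, add_zero]) (by rw [b, QuadraticMap.polar_add_left, c3, c4]; rfl))))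
  · exact Or.inr (Or.inl (key _ (Or.inr (Or.inl rfl)) (by rw [a, c1]) (by rw [b, c3])))

/-- W is not invariant under n. -/
theorem exists_not_invariant : ∃ w ∈ W, n w ∉ W := by
  by_contra! h
  haveI := Λ.fin
  have hsub : (W : Set V) ⊆ {0, v, n v, v + n v} := fun w hw => by
    rcases Λ.inter hw (h w hw) with r | r | r | r <;> simp [r]
  have := (Set.ncard_le_ncard hsub (Set.toFinite _)).trans (Set.ncard_insert_le _ _)
  have h3 : ({v, n v, v + n v} : Set V).ncard ≤ 3 :=
    (Set.ncard_insert_le _ _).trans (Nat.add_le_add_right ((Set.ncard_insert_le _ _).trans (by simp)) 1)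
  have := Λ.cardW
  rw [← SetLike.coe_sort_coe, Nat.card_coe_set_eq] at this
  omega

end

end Line

end Cfsg.Agent.LargeFischer
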