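/-
Elements of Q as vectors and elements of the centraliser as maps, written on G.

* `QG`, `vec`, `act` and their rules
* `mem_of_perp` : a totally singular six-space is its own orthogonal
* `Gen`, `exists_gen` : an element of order three inducing the fixed point free map
-/
import Cfsg.Agent.Lib.LargeFischer.Central

set_option autoImplicit false
open scoped commutatorElement

namespace Cfsg.Agent.LargeFischer

open LargeExtraspecial

universe u

variable {G : Type u} [Group G] [Finite G] {z : G} {Q : Subgroup (Subgroup.centralizer ({z} : Set G))}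
  [Q.Normal] [hE : Fact (Cfsg.IsExtraspecial 2 Q)]

/-- Q inside G. -/
abbrev QG (Q : Subgroup (Subgroup.centralizer ({z} : Set G))) : Subgroup G :=
  Q.map (Subgroup.centralizer ({z} : Set G)).subtype

omit [Finite G] [Q.Normal] hE in
theorem QG_comm {a : G} (ha : a ∈ QG Q) : a * z = z * a := by
  obtain ⟨c, -, rfl⟩ := ha
  exact Subgroup.mem_centralizer_singleton_iff.1 c.2

omit [Finite G] [Q.Normal] hE in
theorem exists_coe {a : G} (ha : a ∈ QG Q) :
    ∃ q : Q, ((q : Subgroup.centralizer ({z} : Set G)) : G) = a := by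
  obtain ⟨c, hc, rfl⟩ := ha
  exact ⟨⟨c, hc⟩, rfl⟩

omit [Finite G] [Q.Normal] hE in
theorem coe_mem (q : Q) : ((q : Subgroup.centralizer ({z} : Set G)) : G) ∈ QG Q := ⟨_, q.2, rfl⟩

/-- An element of Q as a vector. -/
noncomputable def vec (Q : Subgroup (Subgroup.centralizer ({z} : Set G))) [Q.Normal]
    [Fact (Cfsg.IsExtraspecial 2 Q)] (a : G) : OutForm.Vm Q := by
  classical
  exact if h : ∃ q : Q, ((q : Subgroup.centralizer ({z} : Set G)) : G) = a then OutForm.pr h.choose else 0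

theorem vec_coe (q : Q) : vec Q ((q : Subgroup.centralizer ({z} : Set G)) : G) = OutForm.pr q := by
  classical
  have h : ∃ p : Q, ((p : Subgroup.centralizer ({z} : Set G)) : G) = (q : Subgroup.centralizer ({z} : Set G)) :=
    ⟨q, rfl⟩
  unfold vec
  rw [dif_pos h, Subtype.val_injective.comp Subtype.val_injective h.choose_spec]

theorem vec_mul {a b : G} (ha : a ∈ QG Q) (hb : b ∈ QG Q) : vec Q (a * b) = vec Q a + vec Q b := by
  obtain ⟨p, rfl⟩ := exists_coe ha
  obtain ⟨q, rfl⟩ := exists_coe hb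
  rw [← Subgroup.coe_mul, ← Subgroup.coe_mul, vec_coe, vec_coe, vec_coe, OutForm.pr_mul]

theorem vec_one : vec Q (1 : G) = 0 := by
  rw [show (1 : G) = (((1 : Q) : Subgroup.centralizer ({z} : Set G)) : G) from rfl, vec_coe]; rfl

theorem vec_inv {a : G} (ha : a ∈ QG Q) : vec Q a⁻¹ = vec Q a := by
  obtain ⟨p, rfl⟩ := exists_coe ha
  rw [← Subgroup.coe_inv, ← Subgroup.coe_inv, vec_coe, vec_coe, OutForm.pr_inv]

theorem vec_surj (v : OutForm.Vm Q) : ∃ a ∈ QG Q, vec Q a = v := by
  obtain ⟨q, rfl⟩ := OutForm.pr_surjective v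
  exact ⟨_, coe_mem q, vec_coe q⟩

theorem vec_eq_zero (D : Data (QG Q) z) {a : G} (ha : a ∈ QG Q) (h : vec Q a = 0) : a = 1 ∨ a = z := by
  obtain ⟨p, rfl⟩ := exists_coe ha
  rw [vec_coe] at h
  refine D.cent _ fun b hb => ?_
  obtain ⟨q, rfl⟩ := exists_coe hb
  exact congrArg (fun w : Q => ((w : Subgroup.centralizer ({z} : Set G)) : G))
    (Subgroup.mem_center_iff.1 (OutForm.pr_eq_zero.1 h) q)

theorem vec_z (D : Data (QG Q) z) : vec Q z = 0 := by
  obtain ⟨p, hp⟩ := exists_coe D.z_mem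
  refine (congrArg (vec Q) hp).symm.trans ((vec_coe p).trans ?_)
  refine OutForm.pr_eq_zero.2 (Subgroup.mem_center_iff.2 fun q => Subtype.ext (Subtype.ext ?_))
  show ((q : Subgroup.centralizer ({z} : Set G)) : G) * (p : Subgroup.centralizer ({z} : Set G)) =
    (p : Subgroup.centralizer ({z} : Set G)) * (q : Subgroup.centralizer ({z} : Set G))
  rw [hp]
  exact D.z_central _ (coe_mem q)

/-- Equal vectors differ by z. -/
theorem vec_eq (D : Data (QG Q) z) {a b : G} (ha : a ∈ QG Q) (hb : b ∈ QG Q) (h : vec Q a = vec Q b) :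
    a = b ∨ a = b * z := by
  rcases vec_eq_zero D (mul_mem (inv_mem hb) ha) (by rw [vec_mul (inv_mem hb) ha, vec_inv hb, h,
    ZModModule.add_self]) with e | e
  · exact Or.inl (inv_mul_eq_one.1 e).symm
  · exact Or.inr (inv_mul_eq_iff_eq_mul.1 e)

theorem polar_eq_zero {a b : G} (ha : a ∈ QG Q) (hb : b ∈ QG Q) :
    QuadraticMap.polar (OutForm.qf Q) (vec Q a) (vec Q b) = 0 ↔ a * b = b * a := by
  obtain ⟨p, rfl⟩ := exists_coe ha
  obtain ⟨q, rfl⟩ := exists_coe hb
  rw [vec_coe, vec_coe, show QuadraticMap.polar (OutForm.qf Q) (OutForm.pr p) (OutForm.pr q) =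
    QuadraticMap.polar OutForm.qfun (OutForm.pr p) (OutForm.pr q) from rfl, OutForm.polar_pr]
  constructor
  · intro h
    rw [← OutForm.eps_one (E := Q)] at h
    exact congrArg (fun w : Q => ((w : Subgroup.centralizer ({z} : Set G)) : G))
      (commutatorElement_eq_one_iff_mul_comm.1 (OutForm.eps_inj (OutForm.comm_mem p q) (one_mem _) h))
  · intro h
    rw [commutatorElement_eq_one_iff_mul_comm.2 (Subtype.ext (Subtype.ext h) : p * q = q * p), OutForm.eps_one]

theorem qf_eq_zero {a : G} (ha : a ∈ QG Q) : OutForm.qf Q (vec Q a) = 0 ↔ a * a = 1 := by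
  obtain ⟨p, rfl⟩ := exists_coe ha
  rw [vec_coe, OutForm.qf_apply]
  constructor
  · intro h
    rw [← OutForm.eps_one (E := Q)] at h
    exact congrArg (fun w : Q => ((w : Subgroup.centralizer ({z} : Set G)) : G))
      (OutForm.eps_inj (OutForm.sq_mem p) (one_mem _) h)
  · intro h
    rw [show p * p = 1 from Subtype.ext (Subtype.ext h), OutForm.eps_one]

/-- An element of the centraliser as a map. -/
noncomputable def act (Q : Subgroup (Subgroup.centralizer ({z} : Set G))) [Q.Normal]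
    [Fact (Cfsg.IsExtraspecial 2 Q)] (c : G) : OutForm.Vm Q ≃ₗ[ZMod 2] OutForm.Vm Q := by
  classical
  exact if h : c * z = z * c then toGL Q ⟨c, Subgroup.mem_centralizer_singleton_iff.2 h⟩ else 1

theorem act_coe (c : Subgroup.centralizer ({z} : Set G)) : act Q (c : G) = toGL Q c := by
  unfold act
  rw [dif_pos (Subgroup.mem_centralizer_singleton_iff.1 c.2)]

theorem exists_cent {c : G} (hc : c * z = z * c) : ∃ d : Subgroup.centralizer ({z} : Set G), (d : G) = c :=
  ⟨⟨c, Subgroup.mem_centralizer_singleton_iff.2 hc⟩, rfl⟩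

theorem act_mul {a b : G} (ha : a * z = z * a) (hb : b * z = z * b) : act Q (a * b) = act Q a * act Q b := by
  obtain ⟨c, rfl⟩ := exists_cent ha
  obtain ⟨d, rfl⟩ := exists_cent hb
  rw [← Subgroup.coe_mul, act_coe, act_coe, act_coe, map_mul]

theorem act_one : act Q (1 : G) = 1 := by
  rw [show (1 : G) = ((1 : Subgroup.centralizer ({z} : Set G)) : G) from rfl, act_coe, map_one]

theorem act_inv {a : G} (ha : a * z = z * a) : act Q a⁻¹ = (act Q a)⁻¹ := by
  obtain ⟨c, rfl⟩ := exists_cent ha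
  rw [← Subgroup.coe_inv, act_coe, act_coe, map_inv]

theorem act_vec {c a : G} (hc : c * z = z * c) (ha : a ∈ QG Q) :
    c * a * c⁻¹ ∈ QG Q ∧ act Q c (vec Q a) = vec Q (c * a * c⁻¹) := by
  obtain ⟨d, rfl⟩ := exists_cent hc
  obtain ⟨p, rfl⟩ := exists_coe ha
  have e : ((MulAut.conjNormal d p : Q) : Subgroup.centralizer ({z} : Set G)).1 =
      (d : G) * (p : Subgroup.centralizer ({z} : Set G)) * (d : G)⁻¹ := rfl
  rw [← e]
  exact ⟨coe_mem _, by rw [act_coe, vec_coe, vec_coe, toGL_pr]⟩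

theorem act_q {c : G} (hc : c * z = z * c) (x : OutForm.Vm Q) :
    OutForm.qf Q (act Q c x) = OutForm.qf Q x := by
  obtain ⟨d, rfl⟩ := exists_cent hc
  rw [act_coe, toGL_q]

theorem act_eq_one (hker : (toGL Q).ker = Q) {c : G} (hc : c * z = z * c) : act Q c = 1 ↔ c ∈ QG Q := by
  obtain ⟨d, rfl⟩ := exists_cent hc
  rw [act_coe, ← MonoidHom.mem_ker, hker]
  exact ⟨fun h => ⟨d, h, rfl⟩, fun ⟨e, he, h⟩ => Subtype.ext h ▸ he⟩

theorem act_mem {c : G} (hc : c * z = z * c) : act Q c ∈ (toGL Q).range := by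
  obtain ⟨d, rfl⟩ := exists_cent hc
  exact ⟨d, (act_coe d).symm⟩

omit [Finite G] hE in
/-- A totally singular six-space is its own orthogonal. -/
theorem mem_of_perp {V : Type*} [AddCommGroup V] [Module (ZMod 2) V] [Finite V] {q : QuadraticForm (ZMod 2) V}
    (hnd : ∀ x, (∀ y, QuadraticMap.polar q x y = 0) → x = 0) (W : Submodule (ZMod 2) V)
    (hiso : ∀ a ∈ W, ∀ b ∈ W, QuadraticMap.polar q a b = 0) (hW : Nat.card W = 64) (hV : Nat.card V = 4096)
    {x : V} (hx : ∀ w ∈ W, QuadraticMap.polar q x w = 0) : x ∈ W := by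
  haveI : Module.Finite (ZMod 2) V := Module.Finite.of_finite
  let B : LinearMap.BilinForm (ZMod 2) V := QuadraticMap.polarBilin q
  have hB : B.Nondegenerate := (Forms.nondegenerate_polarBilin_iff q).2 hnd
  have hr : B.IsRefl := fun a b h => by
    show QuadraticMap.polar q b a = 0
    rw [QuadraticMap.polar_comm]; exact h
  have hle : W ≤ B.orthogonal W := fun a ha b hb => hiso b hb a ha
  have d1 : Module.finrank (ZMod 2) W = 6 := by
    have h := Module.natCard_eq_pow_finrank (K := ZMod 2) (V := W)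
    rw [hW, Nat.card_zmod] at h
    exact (Nat.pow_right_injective le_rfl (h.symm.trans (by norm_num : (64 : ℕ) = 2 ^ 6)))
  have d2 : Module.finrank (ZMod 2) V = 12 := by
    have h := Module.natCard_eq_pow_finrank (K := ZMod 2) (V := V)
    rw [hV, Nat.card_zmod] at h
    exact (Nat.pow_right_injective le_rfl (h.symm.trans (by norm_num : (4096 : ℕ) = 2 ^ 12)))
  have h3 := LinearMap.BilinForm.finrank_orthogonal hB W
  rw [d1, d2] at h3
  rw [Submodule.eq_of_le_of_finrank_eq hle (by rw [d1, h3])]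
  intro w hw
  show QuadraticMap.polar q w x = 0
  rw [QuadraticMap.polar_comm]
  exact hx w hw

/-- An element of order three inducing a fixed point free map generating a normal subgroup. -/
structure Gen (Q : Subgroup (Subgroup.centralizer ({z} : Set G))) [Q.Normal]
    [Fact (Cfsg.IsExtraspecial 2 Q)] (x : G) : Prop where
  comm : x * z = z * x
  cube : x * x * x = 1
  ne : act Q x ≠ 1
  sum : ∀ v, act Q x (act Q x v) = v + act Q x v
  fix : ∀ v, act Q x v = v → v = 0
  normal : ∀ c : G, c * z = z * c →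
    (∀ v, act Q c (act Q x v) = act Q x (act Q c v)) ∨ ∀ v, act Q c (act Q x v) = act Q x (act Q x (act Q c v))
  frame : Nonempty (Frame (OutForm.qf Q) (toGL Q).range (act Q x))
  mem_range : act Q x ∈ (toGL Q).range
  pow_three : act Q x ^ 3 = 1
  seven : ∃ g ∈ (toGL Q).range, g ^ 7 = 1 ∧ g ≠ 1 ∧ g * act Q x = act Q x * g

theorem exists_gen (hF : Cfsg.IsOfLargeFischerTypeAt z Q) : ∃ x : G, Gen Q x := by
  obtain ⟨hker, -, n, g, ⟨F⟩, hnΓ, hn3, hgΓ, hg7, hg1, hgn, hnorm⟩ := exists_frame hF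
  obtain ⟨c, hc⟩ := id hnΓ
  have h3 : c ^ 3 ∈ Q := by rw [← hker, MonoidHom.mem_ker, map_pow, hc, hn3]
  have h12 : c ^ 12 = 1 := by
    have h := OutForm.sq_one_of_center (OutForm.sq_mem (⟨_, h3⟩ : Q))
    have h' := congrArg Subtype.val h
    simp only [Subgroup.coe_mul, Subgroup.coe_one, ← pow_add] at h'
    exact h'
  have hn1 : n ≠ 1 := fun e => by
    obtain ⟨v, hv⟩ : ∃ v : OutForm.Vm Q, v ≠ 0 := by
      haveI : Nontrivial (OutForm.Vm Q) :=
        Finite.one_lt_card_iff_nontrivial.1 (by rw [OutForm.card_Vm (n := 6) hF.1.2.2.2.1]; norm_num)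
      exact exists_ne 0
    exact hv (F.n_fix v (by rw [e]; rfl))
  have hx : act Q ((c ^ 4 : Subgroup.centralizer ({z} : Set G)) : G) = n := by
    rw [act_coe, map_pow, hc, pow_succ, hn3, one_mul]
  have n3 : ∀ v, n (n (n v)) = v := fun v => by
    have := LinearEquiv.congr_fun hn3 v
    simpa [pow_succ] using this
  refine ⟨((c ^ 4 : Subgroup.centralizer ({z} : Set G)) : G),
    Subgroup.mem_centralizer_singleton_iff.1 (c ^ 4).2, ?_, by rw [hx]; exact hn1, fun v => ?_,
    fun v h => F.n_fix v (by rwa [hx] at h), fun d hd => ?_, ⟨hx ▸ F⟩, hx ▸ hnΓ, hx ▸ hn3, g, hgΓ, hg7, hg1, hx ▸ hgn⟩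
  · rw [← Subgroup.coe_mul, ← Subgroup.coe_mul, ← pow_add, ← pow_add, h12, Subgroup.coe_one]
  · rw [hx]
    have h0 : v + n v + n (n v) = 0 := F.n_fix _ (by
      rw [map_add, map_add, n3]; abel)
    rw [← sub_eq_zero, sub_eq_add_neg, ZModModule.neg_eq_self, add_comm (n (n v))]
    exact h0
  · obtain ⟨k, hk⟩ := Subgroup.mem_zpowers_iff.1 (hnorm _ (act_mem (Q := Q) hd))
    rw [hx]
    have hcomm : ∀ (e : OutForm.Vm Q ≃ₗ[ZMod 2] OutForm.Vm Q), act Q d * n * (act Q d)⁻¹ = e →
        ∀ v, act Q d (n v) = e (act Q d v) := fun e he v =>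
      LinearEquiv.congr_fun (mul_inv_eq_iff_eq_mul.1 he) v
    rw [zpow_eq_zpow_emod k (n := 3) hn3] at hk
    have hlt := Int.emod_lt_of_pos k (show (0 : ℤ) < 3 by norm_num)
    have hnn := Int.emod_nonneg k (show (3 : ℤ) ≠ 0 by norm_num)
    rcases (by omega : k % 3 = 0 ∨ k % 3 = 1 ∨ k % 3 = 2) with r | r | r <;> rw [r] at hk
    · exfalso
      rw [zpow_zero] at hk
      exact hn1 (conj_eq_one_iff.1 hk.symm)
    · rw [zpow_one] at hk
      exact Or.inl (hcomm _ hk.symm)
    · refine Or.inr fun v => ?_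
      rw [show (2 : ℤ) = ((2 : ℕ) : ℤ) from rfl, zpow_natCast, pow_two] at hk
      exact hcomm _ hk.symm v

end Cfsg.Agent.LargeFischer
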