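/-
A second involution of the class inside Q gives the setting of a line.

* `Pt`, `Pt.W`, `Pt.E`, `Pt.line`
-/
import Cfsg.Agent.Lib.LargeFischer.Line
import Cfsg.Agent.Lib.LargeFischer.LineVec

set_option autoImplicit false
open scoped commutatorElement

namespace Cfsg.Agent.LargeFischer

open LargeExtraspecial

universe u

variable {G : Type u} [Group G] [Finite G] {z : G} {Q : Subgroup (Subgroup.centralizer ({z} : Set G))}
  [Q.Normal] [hE : Fact (Cfsg.IsExtraspecial 2 Q)] {s g x : G}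

/-- The conjugate of Q at the second involution. -/
abbrev RG (Q : Subgroup (Subgroup.centralizer ({z} : Set G))) (g : G) : Subgroup G := conjS g (QG Q)

/-- A conjugate of z in Q, with a conjugating element. -/
structure Pt (Q : Subgroup (Subgroup.centralizer ({z} : Set G))) [Q.Normal] (s g : G) : Prop where
  type : Cfsg.IsOfLargeFischerTypeAt z Q
  conj : g * z * g⁻¹ = s
  ne : s ≠ z
  mem : s ∈ QG Q

/-- The vectors of the intersection. -/
noncomputable def Wsp (Q : Subgroup (Subgroup.centralizer ({z} : Set G))) [Q.Normal]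
    [Fact (Cfsg.IsExtraspecial 2 Q)] (g : G) : Submodule (ZMod 2) (OutForm.Vm Q) :=
  AddSubgroup.toZModSubmodule 2
    { carrier := vec Q '' ((QG Q ⊓ RG Q g : Subgroup G) : Set G)
      zero_mem' := ⟨1, one_mem _, vec_one⟩
      add_mem' := by
        rintro _ _ ⟨a, ha, rfl⟩ ⟨b, hb, rfl⟩
        exact ⟨a * b, mul_mem ha hb, vec_mul ha.1 hb.1⟩
      neg_mem' := by
        rintro _ ⟨a, ha, rfl⟩
        exact ⟨a, ha, (ZModModule.neg_eq_self _).symm⟩ }

theorem mem_Wsp {w : OutForm.Vm Q} :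
    w ∈ Wsp Q g ↔ ∃ i, i ∈ QG Q ∧ i ∈ RG Q g ∧ vec Q i = w :=
  ⟨fun ⟨a, ha, e⟩ => ⟨a, ha.1, ha.2, e⟩, fun ⟨a, h1, h2, e⟩ => ⟨a, ⟨h1, h2⟩, e⟩⟩

/-- The maps induced by the second subgroup. -/
def Eset (Q : Subgroup (Subgroup.centralizer ({z} : Set G))) [Q.Normal]
    [Fact (Cfsg.IsExtraspecial 2 Q)] (g : G) : Set (OutForm.Vm Q ≃ₗ[ZMod 2] OutForm.Vm Q) :=
  act Q '' {r | r ∈ RG Q g ∧ r * z = z * r}

namespace Pt

section
variable (T : Pt Q s g)
include T

theorem data : Data (QG Q) z := data_of_type T.type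

theorem dataR : Data (RG Q g) s := by
  have h := T.data.conjugate g
  rwa [T.conj] at h

theorem ker : (toGL Q).ker = Q := (exists_frame T.type).1

omit hE in
theorem card_QG : Nat.card (QG Q) = 2 ^ 13 := by
  rw [Subgroup.card_subtype]; exact T.type.1.2.2.2.1

theorem z_mem : z ∈ RG Q g := by
  refine T.data.mem_conj (g := g) (by rw [T.conj]; exact T.mem) (by rw [T.conj]; exact T.ne) ?_
  rw [T.card_QG]; norm_num

theorem s_comm : s * z = z * s := QG_comm T.mem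

theorem facts : OutForm.qf Q (vec Q s) = 0 ∧ vec Q s ≠ 0 ∧
    Cfsg.IsElementaryAbelian 2 (QG Q ⊓ RG Q g : Subgroup G) ∧
    Nat.card (QG Q ⊓ RG Q g : Subgroup G) = 128 ∧
    (Eset Q g).ncard = 32 ∧ ∀ e ∈ Eset Q g, e * e = 1 := by
  classical
  obtain ⟨c, hc, hcs⟩ := id T.mem
  obtain ⟨hv, hqv, -, -, hI, hIc, -, -, hEel, hE32, -⟩ :=
    central_facts T.type T.conj T.ne (s := s) (hcs ▸ c.2)
      (show (⟨s, hcs ▸ c.2⟩ : Subgroup.centralizer ({z} : Set G)) ∈ Q from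
        (Subtype.ext hcs : c = ⟨s, hcs ▸ c.2⟩) ▸ hc) _ _ rfl rfl
  have hs : ∀ h, vec Q s = OutForm.pr (⟨⟨s, hcs ▸ c.2⟩, h⟩ : Q) := fun h =>
    vec_coe (⟨⟨s, hcs ▸ c.2⟩, h⟩ : Q)
  refine ⟨by rw [hs]; exact hqv, by rw [hs]; exact hv, hI, hIc.trans (by norm_num), ?_, ?_⟩
  all_goals
    let Φ : Subgroup.centralizer ({z} : Set G) ⧸ Q →* (OutForm.Vm Q ≃ₗ[ZMod 2] OutForm.Vm Q) :=
      QuotientGroup.lift Q (toGL Q) T.ker.ge
    have hΦ : Function.Injective Φ := by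
      refine (injective_iff_map_eq_one Φ).2 fun a ha => ?_
      obtain ⟨d, rfl⟩ := QuotientGroup.mk_surjective a
      rw [QuotientGroup.eq_one_iff, ← T.ker]
      exact ha
    have himg : Eset Q g = Φ '' ((((RG Q g ⊓ Subgroup.centralizer ({z} : Set G)).subgroupOf
        (Subgroup.centralizer ({z} : Set G))).map (QuotientGroup.mk' Q) : Subgroup _) : Set _) := by
      ext e
      constructor
      · rintro ⟨r, ⟨hr, hrz⟩, rfl⟩
        obtain ⟨d, rfl⟩ := exists_cent hrz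
        exact ⟨_, ⟨d, ⟨hr, d.2⟩, rfl⟩, (act_coe d).symm⟩
      · rintro ⟨_, ⟨d, hd, rfl⟩, rfl⟩
        exact ⟨d, ⟨hd.1, Subgroup.mem_centralizer_singleton_iff.1 d.2⟩, act_coe d⟩
  · rw [himg, Set.ncard_image_of_injective _ hΦ, ← Nat.card_coe_set_eq]
    exact hE32
  · rw [himg]
    rintro _ ⟨a, ha, rfl⟩
    rw [← map_mul]
    have h2 := hEel.2 a ha
    rw [pow_two] at h2
    rw [h2, map_one]

theorem vne : vec Q s ≠ 0 := T.facts.2.1

theorem inter_sq {i : G} (h1 : i ∈ QG Q) (h2 : i ∈ RG Q g) : i * i = 1 := by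
  have := T.facts.2.2.1.2 i ⟨h1, h2⟩
  rwa [pow_two] at this

theorem inter_comm {i j : G} (h1 : i ∈ QG Q) (h2 : i ∈ RG Q g) (h3 : j ∈ QG Q) (h4 : j ∈ RG Q g) :
    i * j = j * i := by
  have := T.facts.2.2.1.1
  exact congrArg Subtype.val (mul_comm' (⟨i, h1, h2⟩ : (QG Q ⊓ RG Q g : Subgroup G)) ⟨j, h3, h4⟩)

/-- An element of the second subgroup moves an element of the intersection only by s. -/
theorem move {r i : G} (hr : r ∈ RG Q g) (h1 : i ∈ QG Q) (h2 : i ∈ RG Q g) (hrz : r * z = z * r) :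
    (r * i * r⁻¹ = i ∧ act Q r (vec Q i) = vec Q i) ∨
      (r * i * r⁻¹ = s * i ∧ act Q r (vec Q i) = vec Q i + vec Q s) := by
  rcases T.dataR.comm r hr i h2 with h | h
  · have e : r * i * r⁻¹ = i := by
      rw [show r * i * r⁻¹ = ⁅r, i⁆ * i by rw [commutatorElement_def]; group, h, one_mul]
    exact Or.inl ⟨e, by rw [(act_vec hrz h1).2, e]⟩
  · have e : r * i * r⁻¹ = s * i := by
      rw [show r * i * r⁻¹ = ⁅r, i⁆ * i by rw [commutatorElement_def]; group, h]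
    exact Or.inr ⟨e, by rw [(act_vec hrz h1).2, e, vec_mul T.mem h1, add_comm]⟩

theorem s_mem_inter : s ∈ RG Q g := T.dataR.z_mem

theorem z_ne_inter : z ∈ QG Q ⊓ RG Q g := ⟨T.data.z_mem, T.z_mem⟩

theorem card_Wsp : Nat.card (Wsp Q g) = 64 := by
  classical
  let f : (QG Q ⊓ RG Q g : Subgroup G) →* Multiplicative (OutForm.Vm Q) :=
    { toFun := fun a => Multiplicative.ofAdd (vec Q a.1)
      map_one' := by show Multiplicative.ofAdd (vec Q (1 : G)) = 1; rw [vec_one]; rfl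
      map_mul' := fun a b => by
        show Multiplicative.ofAdd (vec Q (a.1 * b.1)) = _
        rw [vec_mul a.2.1 b.2.1]; rfl }
  have hk : Nat.card f.ker = 2 := by
    rw [← SetLike.coe_sort_coe, Nat.card_coe_set_eq,
      show (f.ker : Set (QG Q ⊓ RG Q g : Subgroup G)) = {1, ⟨z, T.z_ne_inter⟩} from Set.ext fun a => ?_,
      Set.ncard_pair (fun h => T.data.z_ne (congrArg Subtype.val h).symm)]
    simp only [SetLike.mem_coe, MonoidHom.mem_ker, Set.mem_insert_iff, Set.mem_singleton_iff]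
    constructor
    · intro h
      rcases vec_eq_zero T.data a.2.1 (Multiplicative.ofAdd.injective h) with e | e
      exacts [Or.inl (Subtype.ext e), Or.inr (Subtype.ext e)]
    · rintro (rfl | rfl)
      · exact map_one f
      · exact congrArg Multiplicative.ofAdd (vec_z T.data)
  have hrange : Nat.card (Wsp Q g) = Nat.card f.range := by
    refine Nat.card_congr
      { toFun := fun w => ⟨Multiplicative.ofAdd w.1, ?_⟩
        invFun := fun y => ⟨y.1.toAdd, ?_⟩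
        left_inv := fun _ => rfl
        right_inv := fun _ => rfl }
    · obtain ⟨a, ha, e⟩ := w.2
      exact ⟨⟨a, ha⟩, congrArg Multiplicative.ofAdd e⟩
    · obtain ⟨a, e⟩ := y.2
      exact ⟨a.1, a.2, congrArg Multiplicative.toAdd e⟩
  have h := f.ker.card_mul_index
  rw [Subgroup.index_ker, hk, T.facts.2.2.2.1, ← hrange] at h
  omega

/-- The symmetric pair. -/
theorem symm : Pt Q (g⁻¹ * z * g) g⁻¹ := by
  refine ⟨T.type, by group, fun h => T.ne ?_, mem_conjS.1 T.z_mem⟩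
  rw [← T.conj]
  calc g * z * g⁻¹ = g * (g⁻¹ * z * g) * g⁻¹ := by rw [h]
    _ = z := by group

/-- An element commuting with the intersection lies in it. -/
theorem cent_inter {r : G} (hr : r ∈ RG Q g) (h : ∀ i, i ∈ QG Q → i ∈ RG Q g → r * i = i * r) :
    r ∈ QG Q := by
  have hq : g⁻¹ * r * g ∈ QG Q := mem_conjS.1 hr
  have hnd := (Forms.nondegenerate_polarBilin_iff _).1 (OutForm.qf_nondegenerate (E := Q))
  haveI := T.symm
  have hmem : vec Q (g⁻¹ * r * g) ∈ Wsp Q g⁻¹ := by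
    refine mem_of_perp hnd _ (fun a ha b hb => ?_) T.symm.card_Wsp
      (by rw [OutForm.card_Vm (n := 6) T.type.1.2.2.2.1]; norm_num) fun w hw => ?_
    · obtain ⟨i, i1, i2, rfl⟩ := mem_Wsp.1 ha
      obtain ⟨j, j1, j2, rfl⟩ := mem_Wsp.1 hb
      exact (polar_eq_zero i1 j1).2 (T.symm.inter_comm i1 i2 j1 j2)
    · obtain ⟨i, i1, i2, rfl⟩ := mem_Wsp.1 hw
      refine (polar_eq_zero hq i1).2 ?_
      have i3 : g * i * g⁻¹ ∈ QG Q := by simpa using mem_conjS.1 i2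
      have := h (g * i * g⁻¹) i3 (mem_conjS.2 (by simpa [mul_assoc] using i1))
      calc g⁻¹ * r * g * i = g⁻¹ * (r * (g * i * g⁻¹)) * g := by group
        _ = g⁻¹ * (g * i * g⁻¹ * r) * g := by rw [this]
        _ = i * (g⁻¹ * r * g) := by group
  obtain ⟨i, i1, i2, e⟩ := mem_Wsp.1 hmem
  have i3 : g⁻¹ * r * g ∈ RG Q g⁻¹ := by
    rcases vec_eq T.data hq i1 e.symm with k | k <;> rw [k]
    exacts [i2, mul_mem i2 T.symm.z_mem]
  simpa [mul_assoc] using mem_conjS.1 i3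

theorem fix_all {i : G} (h1 : i ∈ QG Q) (h2 : i ∈ RG Q g)
    (h : ∀ e ∈ Eset Q g, e (vec Q i) = vec Q i) : vec Q i = 0 ∨ vec Q i = vec Q s := by
  have D := T.data
  have DR := T.dataR
  have hv := T.vne
  have hcomm : ∀ r ∈ RG Q g, r * z = z * r → r * i = i * r := by
    intro r hr hrz
    rcases T.move hr h1 h2 hrz with ⟨e, -⟩ | ⟨-, e⟩
    · exact mul_inv_eq_iff_eq_mul.1 e
    · rw [h _ ⟨r, ⟨hr, hrz⟩, rfl⟩] at e
      exact absurd (left_eq_add.1 e) hv
  obtain ⟨r₀, hr₀, hr₀z⟩ := DR.exists_conj_eq T.z_mem D.z_ne T.ne.symm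
  -- every element of R is in the centraliser of z or in its translate by r₀
  have split : ∀ r ∈ RG Q g, r * z = z * r ∨ (r₀⁻¹ * r) * z = z * (r₀⁻¹ * r) := by
    intro r hr
    rcases DR.comm r hr z T.z_mem with e | e
    · exact Or.inl (commutatorElement_eq_one_iff_mul_comm.1 e)
    · right
      have e1 : r * z * r⁻¹ = r₀ * z * r₀⁻¹ := by
        rw [hr₀z, show r * z * r⁻¹ = ⁅r, z⁆ * z by rw [commutatorElement_def]; group, e, T.s_comm]
      calc r₀⁻¹ * r * z = r₀⁻¹ * (r * z * r⁻¹) * r := by group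
        _ = z * (r₀⁻¹ * r) := by rw [e1]; group
  have central : ∀ j ∈ RG Q g, (∀ r ∈ RG Q g, r * z = z * r → r * j = j * r) → r₀ * j = j * r₀ →
      j = 1 ∨ j = s := by
    intro j _ hj hj0
    refine DR.cent j fun r hr => ?_
    rcases split r hr with k | k
    · exact hj r hr k
    · calc r * j = r₀ * ((r₀⁻¹ * r) * j) := by group
        _ = (r₀ * j) * (r₀⁻¹ * r) := by rw [hj _ (mul_mem (inv_mem hr₀) hr) k]; group
        _ = j * r := by rw [hj0]; group
  rcases DR.comm r₀ hr₀ i h2 with e | e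
  · rcases central i h2 hcomm (commutatorElement_eq_one_iff_mul_comm.1 e) with k | k
    · exact Or.inl (by rw [k, vec_one])
    · exact Or.inr (by rw [k])
  · have hzc : ∀ r ∈ RG Q g, r * z = z * r → r * (i * z) = (i * z) * r := fun r hr hrz => by
      rw [← mul_assoc, hcomm r hr hrz, mul_assoc, hrz, ← mul_assoc]
    have h0 : r₀ * (i * z) = (i * z) * r₀ := by
      refine mul_inv_eq_iff_eq_mul.1 ?_
      calc r₀ * (i * z) * r₀⁻¹ = (⁅r₀, i⁆ * i) * (r₀ * z * r₀⁻¹) := by rw [commutatorElement_def]; group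
        _ = (s * i) * (z * s) := by rw [e, hr₀z]
        _ = (i * s) * (s * z) := by rw [DR.z_central i h2, T.s_comm]
        _ = i * z := by rw [mul_assoc, ← mul_assoc s s, DR.z_sq, one_mul]
    have hiz : vec Q (i * z) = vec Q i := by rw [vec_mul h1 D.z_mem, vec_z D, add_zero]
    rcases central _ (mul_mem h2 T.z_mem) hzc h0 with k | k <;> rw [← hiz, k]
    · exact Or.inl vec_one
    · exact Or.inr rfl

/-- The setting of a line. -/
theorem line (X : Gen Q x) :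
    Line (OutForm.qf Q) (act Q x) (vec Q s) (Wsp Q g) (Eset Q g) where
  fin := inferInstance
  nd := (Forms.nondegenerate_polarBilin_iff _).1 OutForm.qf_nondegenerate
  n_q := act_q X.comm
  n_sum := X.sum
  n_fix := X.fix
  v_ne := T.vne
  v_sing := T.facts.1
  v_mem := mem_Wsp.2 ⟨s, T.mem, T.s_mem_inter, rfl⟩
  iso a ha b hb := by
    obtain ⟨i, i1, i2, rfl⟩ := mem_Wsp.1 ha
    obtain ⟨j, j1, j2, rfl⟩ := mem_Wsp.1 hb
    exact (polar_eq_zero i1 j1).2 (T.inter_comm i1 i2 j1 j2)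
  W_sing a ha := by
    obtain ⟨i, i1, i2, rfl⟩ := mem_Wsp.1 ha
    exact (qf_eq_zero i1).2 (T.inter_sq i1 i2)
  cardW := T.card_Wsp
  cardV := by rw [OutForm.card_Vm (n := 6) T.type.1.2.2.2.1]; norm_num
  E_q := by rintro _ ⟨r, ⟨-, hrz⟩, rfl⟩ y; exact act_q hrz y
  E_v := by
    rintro _ ⟨r, ⟨hr, hrz⟩, rfl⟩
    rw [(act_vec hrz T.mem).2, T.dataR.z_central r hr, mul_inv_cancel_right]
  E_W := by
    rintro _ ⟨r, ⟨hr, hrz⟩, rfl⟩ w hw
    obtain ⟨i, i1, i2, rfl⟩ := mem_Wsp.1 hw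
    exact (T.move hr i1 i2 hrz).imp And.right And.right
  E_perp := by
    rintro _ ⟨r, ⟨hr, hrz⟩, rfl⟩ y hy
    obtain ⟨q, hq, rfl⟩ := vec_surj y
    have hqs : q * s = s * q := (polar_eq_zero hq T.mem).1 hy
    obtain ⟨hq', e⟩ := act_vec (Q := Q) hrz hq
    refine mem_Wsp.2 ⟨r * q * r⁻¹ * q⁻¹, mul_mem hq' (inv_mem hq), ?_, ?_⟩
    · rw [show r * q * r⁻¹ * q⁻¹ = r * (q * r⁻¹ * q⁻¹) by group]
      exact mul_mem hr (T.dataR.norm q hqs _ (inv_mem hr))
    · rw [vec_mul hq' (inv_mem hq), e, vec_inv hq]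
  E_fix w hw h := by
    obtain ⟨i, i1, i2, rfl⟩ := mem_Wsp.1 hw
    exact T.fix_all i1 i2 h
  E_faith := by
    rintro _ ⟨r, ⟨hr, hrz⟩, rfl⟩ h
    refine (act_eq_one T.ker hrz).2 (T.cent_inter hr fun i i1 i2 => ?_)
    rcases T.move hr i1 i2 hrz with ⟨e, -⟩ | ⟨-, e⟩
    · exact mul_inv_eq_iff_eq_mul.1 e
    · rw [h _ (mem_Wsp.2 ⟨i, i1, i2, rfl⟩)] at e
      exact absurd (left_eq_add.1 e) T.vne
  E_mul := by
    rintro _ ⟨a, ⟨ha, haz⟩, rfl⟩ _ ⟨b, ⟨hb, hbz⟩, rfl⟩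
    refine ⟨a * b, ⟨mul_mem ha hb, ?_⟩, act_mul haz hbz⟩
    rw [mul_assoc, hbz, ← mul_assoc, haz, mul_assoc]
  E_sq := T.facts.2.2.2.2.2
  E_card := T.facts.2.2.2.2.1
  E_n := by rintro _ ⟨r, ⟨-, hrz⟩, rfl⟩; exact X.normal r hrz

end

end Pt

end Cfsg.Agent.LargeFischer
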