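/-
Vectors fixed by the elements of order three fixing a singular vector lie on its line.

* `fixed_inL`
-/
import Cfsg.Agent.Lib.LargeFischer.LinePair

set_option autoImplicit false

namespace Cfsg.Agent.LargeFischer

open LargeExtraspecial

theorem three_perm : ∀ i j k : Fin 6, i ≠ j → i ≠ k → j ≠ k →
    (Equiv.swap i j * Equiv.swap j k) i = j ∧
      Equiv.swap i j * Equiv.swap j k * (Equiv.swap i j * Equiv.swap j k) *
        (Equiv.swap i j * Equiv.swap j k) = 1 := by
  decide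

theorem exists_third : ∀ i j : Fin 6, ∃ k, i ≠ k ∧ j ≠ k := by decide

variable {V : Type*} [AddCommGroup V] [Module (ZMod 2) V] [Finite V] {q : QuadraticForm (ZMod 2) V}
  {Γ : Subgroup (V ≃ₗ[ZMod 2] V)} {n : V ≃ₗ[ZMod 2] V}

namespace Frame

variable (F : Frame q Γ n)
include F

omit [Finite V] in
theorem psi_shift_const (a : Code) (c : ZMod 3) :
    F.psi (mono (fun _ => c) 1 a) = F.psi a ∨ F.psi (mono (fun _ => c) 1 a) = n (F.psi a) ∨
      F.psi (mono (fun _ => c) 1 a) = n (n (F.psi a)) := by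
  rcases three_vals c with rfl | rfl | rfl
  · exact Or.inl (by rw [show (fun _ : Fin 6 => (0 : ZMod 3)) = 0 from rfl, mono_zero])
  · exact Or.inr (Or.inl (by rw [F.n_psi]; rfl))
  · refine Or.inr (Or.inr ?_)
    rw [F.n_psi, F.n_psi, mono_mono, one_mul]
    congr 2

/-- The translations attached to a code fix it. -/
theorem fix_code {a b : Code} (ha : ∀ k, a k ≠ 0) {π : Equiv.Perm (Fin 6)} {k : Fin 6}
    (h : mono (fun k => ((a k : ℕ) : ZMod 3) - ((a (π k) : ℕ) : ZMod 3)) π b = b) (hb : b (π k) ≠ 0) :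
    ((b k : ℕ) : ZMod 3) - ((a k : ℕ) : ZMod 3) = ((b (π k) : ℕ) : ZMod 3) - ((a (π k) : ℕ) : ZMod 3) := by
  conv_lhs => rw [← h]
  show ((rot _ (b (π k)) : ℕ) : ZMod 3) - _ = _
  rw [(rot_spec _ _).2 hb]
  ring

/-- Vectors fixed by the elements of order three fixing a full code lie on its line. -/
theorem fixed_code {r : Fin 3}
    (hrel : ∀ a b : Code, (cls a).isSome = true → (cls b).isSome = true →
        (F.Rel a b ↔ side r (cls a) = side r (cls b)))
    {a : Code} (ha : ∀ k, a k ≠ 0) {w : V}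
    (hfix : ∀ γ ∈ Γ, γ (F.psi a) = F.psi a → γ * γ * γ = 1 → γ w = w) :
    w = 0 ∨ w = F.psi a ∨ w = n (F.psi a) ∨ w = n (n (F.psi a)) := by
  classical
  obtain ⟨b, rfl⟩ := F.bij.2 w
  let ca : Equiv.Perm (Fin 6) → Fin 6 → ZMod 3 := fun π k => ((a k : ℕ) : ZMod 3) - ((a (π k) : ℕ) : ZMod 3)
  have key : ∀ i j : Fin 6, i ≠ j → ∃ π : Equiv.Perm (Fin 6), π i = j ∧ mono (ca π) π b = b := by
    intro i j hij
    obtain ⟨k, hik, hjk⟩ := exists_third i j
    obtain ⟨h1, h3⟩ := three_perm i j k hij hik hjk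
    generalize hπ : Equiv.swap i j * Equiv.swap j k = π at h1 h3
    have hA : π ∈ alternatingGroup (Fin 6) := by
      rw [← hπ, Equiv.Perm.mem_alternatingGroup, map_mul, Equiv.Perm.sign_swap hij,
        Equiv.Perm.sign_swap hjk]
      rfl
    obtain ⟨c, hc, hs⟩ := F.exists_mono hrel hA
    obtain ⟨δ, hδ, hd⟩ := F.shift (fun k => ca π k - c k) (by
      simp only [ca, Finset.sum_sub_distrib, hs, sub_zero]
      rw [Equiv.sum_comp π (fun k => ((a k : ℕ) : ZMod 3)), sub_self])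
    obtain ⟨γ, hγ, hg⟩ := hc
    have hm : ∀ x, (δ * γ) (F.psi x) = F.psi (mono (ca π) π x) := fun x => by
      show δ (γ (F.psi x)) = _
      rw [hg, hd, mono_mono]
      simp
    have hcube : δ * γ * (δ * γ) * (δ * γ) = 1 := by
      refine LinearEquiv.ext fun u => ?_
      obtain ⟨x, rfl⟩ := F.bij.2 u
      show (δ * γ) ((δ * γ) ((δ * γ) (F.psi x))) = F.psi x
      rw [hm, hm, hm, mono_mono, mono_mono, ← mul_assoc, h3]
      congr 1
      funext l
      have hl : π (π (π l)) = l := by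
        have := congrArg (fun σ : Equiv.Perm (Fin 6) => σ l) h3
        simpa [Equiv.Perm.mul_apply] using this
      simp only [mono, Equiv.Perm.one_apply, ca, Equiv.Perm.mul_apply, hl]
      rw [show ((a l : ℕ) : ZMod 3) - ((a (π l) : ℕ) : ZMod 3) +
        (((a (π l) : ℕ) : ZMod 3) - ((a (π (π l)) : ℕ) : ZMod 3)) +
          (((a (π (π l)) : ℕ) : ZMod 3) - ((a l : ℕ) : ZMod 3)) = 0 by ring, rot_zero]
    have hfa : (δ * γ) (F.psi a) = F.psi a := by
      rw [hm]
      exact congrArg F.psi (funext fun l => rot_eq _ _ _ (ha l) (ha _) (by simp [ca]))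
    exact ⟨π, h1, F.bij.1 ((hm b).symm.trans (hfix _ (mul_mem hδ hγ) hfa hcube))⟩
  have hzero : ∀ i j : Fin 6, b i = 0 → b j = 0 := by
    intro i j hi
    by_cases hij : j = i
    · rw [hij, hi]
    obtain ⟨π, hπ, hb⟩ := key j i hij
    rw [← hb]
    exact (mono_eq_zero _).2 (by rw [hπ, hi])
  by_cases h0 : b 0 = 0
  · exact Or.inl (by rw [show b = 0 from funext fun j => hzero 0 j h0, F.psi_zero])
  right
  have hne : ∀ j, b j ≠ 0 := fun j hj => h0 (hzero j 0 hj)
  have hconst : b = mono (fun _ => ((b 0 : ℕ) : ZMod 3) - ((a 0 : ℕ) : ZMod 3)) 1 a := by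
    funext j
    refine (rot_eq _ _ _ (hne j) (ha _) ?_).symm
    simp only [Equiv.Perm.one_apply]
    by_cases hj : j = 0
    · subst hj; ring
    · obtain ⟨π, hπ, hb⟩ := key j 0 hj
      have e := F.fix_code ha hb (k := j) (by rw [hπ]; exact h0)
      rw [hπ] at e
      rw [← e]; ring
  rw [hconst]
  exact F.psi_shift_const a _

end Frame

universe u

variable {G : Type u} [Group G] [Finite G] {z : G} {Q : Subgroup (Subgroup.centralizer ({z} : Set G))}
  [Q.Normal] [hE : Fact (Cfsg.IsExtraspecial 2 Q)]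

/-- Vectors fixed by the maps of order three fixing a singular vector lie on its line. -/
theorem fixed_inL (hF : Cfsg.IsOfLargeFischerTypeAt z Q) {x : G} (X : Gen Q x)
    {v : OutForm.Vm Q} (hv : v ≠ 0) (hqv : OutForm.qf Q v = 0) {w : OutForm.Vm Q}
    (h : ∀ c : G, c * z = z * c → act Q c v = v → act Q c * act Q c * act Q c = 1 → act Q c w = w) :
    InL (act Q x) v w := by
  have hcard := (exists_frame hF).2.1
  obtain ⟨F⟩ := X.frame
  obtain ⟨g, hgΓ, hg7, hg1, hgn⟩ := X.seven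
  obtain ⟨r, hrel, -⟩ := F.orbit_structure ((Forms.nondegenerate_polarBilin_iff _).1 OutForm.qf_nondegenerate)
    (by rintro _ ⟨c, rfl⟩ y; exact toGL_q c y) hcard X.mem_range X.pow_three hgΓ hg7 hg1 hgn
  obtain ⟨b, rfl⟩ := F.bij.2 v
  have hb := (F.singular_iff b).1 ⟨hv, hqv⟩
  obtain ⟨i, hi⟩ := Option.isSome_iff_exists.1 hb
  obtain ⟨t, ht⟩ := side_full r i
  obtain ⟨h0, htt⟩ := fullCode_spec t
  obtain ⟨γ, hγ, hγe⟩ : F.Rel b (fullCode t) := by
    refine (hrel _ _ hb (by rw [cls_full h0]; rfl)).2 ?_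
    rw [hi, ht, cls_full h0]
    simp only [htt]
  have hfix : ∀ δ ∈ (toGL Q).range, δ (F.psi (fullCode t)) = F.psi (fullCode t) → δ * δ * δ = 1 →
      δ (γ w) = γ w := by
    intro δ hδ hδa hδ3
    obtain ⟨c, hc⟩ := mul_mem (mul_mem (inv_mem hγ) hδ) hγ
    have e : act Q (c : G) = γ⁻¹ * δ * γ := by rw [act_coe, hc]
    have := h (c : G) (Subgroup.mem_centralizer_singleton_iff.1 c.2) (by
      rw [e]
      show γ⁻¹ (δ (γ (F.psi b))) = F.psi b
      rw [hγe, hδa, ← hγe]
      exact γ.symm_apply_apply _) (by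
      rw [e, show γ⁻¹ * δ * γ * (γ⁻¹ * δ * γ) * (γ⁻¹ * δ * γ) = γ⁻¹ * (δ * δ * δ) * γ by group, hδ3]
      group)
    rw [e] at this
    exact (γ.symm.injective (this.trans (γ.symm_apply_apply w).symm))
  obtain ⟨c, hc⟩ := hγ
  have hn := X.normal _ (Subgroup.mem_centralizer_singleton_iff.1 c.2)
  rw [act_coe, hc] at hn
  have n3 : ∀ y, act Q x (act Q x (act Q x y)) = y := fun y => by
    have := LinearEquiv.congr_fun X.pow_three y
    simpa [pow_succ] using this
  have inj : ∀ {u : OutForm.Vm Q}, γ w = γ u → w = u := fun h => γ.injective h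
  rcases F.fixed_code hrel h0 hfix with e | e | e | e
  · exact Or.inl (γ.map_eq_zero_iff.1 e)
  · exact Or.inr (Or.inl (inj (e.trans hγe.symm)))
  · rw [← hγe] at e
    rcases hn with k | k
    · exact Or.inr (Or.inr (Or.inl (inj (by rw [e, k]))))
    · exact Or.inr (Or.inr (Or.inr ((inj (u := act Q x (act Q x (F.psi b))) (by rw [e, k, k, n3])).trans (X.sum _))))
  · rw [← hγe] at e
    rcases hn with k | k
    · exact Or.inr (Or.inr (Or.inr ((inj (u := act Q x (act Q x (F.psi b))) (by rw [e, k, k])).trans (X.sum _))))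
    · exact Or.inr (Or.inr (Or.inl (inj (by rw [e, k]))))

end Cfsg.Agent.LargeFischer
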