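/-
Three commuting conjugates with product one in Q, permuted by the element of order three, and their group.

* `Tri`, `exists_tri`
* `Vsub`, `phi` : the group of order eight and its coordinates
* `Tri.inter3` : the three subgroups meet in it
* `Tri.symm_line` : the group looks the same from the second involution
-/
import Cfsg.Agent.Lib.LargeFischer.LineCode

set_option autoImplicit false
open scoped commutatorElement

namespace Cfsg.Agent.LargeFischer

open LargeExtraspecial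

universe u

theorem inL_add {V : Type*} [AddCommGroup V] [Module (ZMod 2) V] {n : V ≃ₗ[ZMod 2] V} {v a b : V}
    (ha : InL n v a) (hb : InL n v b) : InL n v (a + b) := by
  have e1 : ∀ p : V, p + p = 0 := Line.add_self
  have e2 : ∀ p q : V, p + (p + q) = q := Line.add_cancel
  have e3 : ∀ p q : V, p + q + p = q := fun p q => by rw [add_comm p q, add_assoc, e1, add_zero]
  have e4 : ∀ p q : V, q + (p + q) = p := fun p q => by rw [add_comm p q, e2]
  have e5 : ∀ p q : V, p + q + q = p := fun p q => by rw [add_assoc, e1, add_zero]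
  unfold InL at *
  rcases ha with h | h | h | h <;> rcases hb with h' | h' | h' | h' <;> rw [h, h'] <;>
    simp [e1, e2, e3, e4, e5, add_comm (n v) v]

variable {G : Type u} [Group G] [Finite G] {z : G} {Q : Subgroup (Subgroup.centralizer ({z} : Set G))}
  [Q.Normal] [hE : Fact (Cfsg.IsExtraspecial 2 Q)] {s g x : G}

/-- The elements of Q over the line of s. -/
noncomputable def Vsub (Q : Subgroup (Subgroup.centralizer ({z} : Set G))) [Q.Normal]
    [Fact (Cfsg.IsExtraspecial 2 Q)] (x s : G) : Subgroup G where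
  carrier := {a | a ∈ QG Q ∧ InL (act Q x) (vec Q s) (vec Q a)}
  one_mem' := ⟨one_mem _, Or.inl vec_one⟩
  mul_mem' := fun ha hb => ⟨mul_mem ha.1 hb.1, by rw [vec_mul ha.1 hb.1]; exact inL_add ha.2 hb.2⟩
  inv_mem' := fun ha => ⟨inv_mem ha.1, by rw [vec_inv ha.1]; exact ha.2⟩

theorem mem_Vsub {a : G} :
    a ∈ Vsub Q x s ↔ a ∈ QG Q ∧ InL (act Q x) (vec Q s) (vec Q a) := Iff.rfl

/-- Three conjugates with product one. -/
structure Tri (Q : Subgroup (Subgroup.centralizer ({z} : Set G))) [Q.Normal]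
    [Fact (Cfsg.IsExtraspecial 2 Q)] (s g x : G) : Prop where
  pt : Pt Q s g
  gen : Gen Q x
  prod : s * (x * s * x⁻¹) * (x * (x * s * x⁻¹) * x⁻¹) = 1

theorem exists_tri (hF : Cfsg.IsOfLargeFischerTypeAt z Q) : ∃ s g x : G, Tri Q s g x := by
  obtain ⟨g, ⟨hgC, hgQ⟩, hne⟩ := hF.1.2.2.2.2
  obtain ⟨x, X⟩ := exists_gen hF
  have hs : g * z * g⁻¹ ∈ QG Q := ⟨_, hgQ, rfl⟩
  have T : Pt Q (g * z * g⁻¹) g := ⟨hF, rfl, hne, hs⟩
  have D := T.data
  set s := g * z * g⁻¹ with hsdef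
  obtain ⟨h1, e1⟩ := act_vec (Q := Q) X.comm hs
  obtain ⟨h2, e2⟩ := act_vec (Q := Q) X.comm h1
  have hp : vec Q (s * (x * s * x⁻¹) * (x * (x * s * x⁻¹) * x⁻¹)) = 0 := by
    rw [vec_mul (mul_mem hs h1) h2, vec_mul hs h1, ← e2, ← e1, X.sum, ZModModule.add_self]
  rcases vec_eq_zero D (mul_mem (mul_mem hs h1) h2) hp with h | h
  · exact ⟨s, g, x, T, X, h⟩
  obtain ⟨u, hu, hus⟩ := D.exists_conj_eq hs T.dataR.z_ne hne
  have hsz : s * z ∈ QG Q := mul_mem hs D.z_mem
  refine ⟨s * z, u * g, x, ⟨hF, ?_, fun e => T.dataR.z_ne (mul_eq_right.1 e), hsz⟩, X, ?_⟩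
  · rw [← hus, hsdef]; group
  · have hxz : ∀ a, x * (a * z) * x⁻¹ = x * a * x⁻¹ * z := fun a => by
      calc x * (a * z) * x⁻¹ = x * a * x⁻¹ * (x * z * x⁻¹) := by group
        _ = x * a * x⁻¹ * z := by rw [X.comm, mul_inv_cancel_right]
    rw [hxz, hxz]
    generalize hA : x * s * x⁻¹ = A at h h1 h2 ⊢
    generalize hB : x * A * x⁻¹ = B at h h2 ⊢
    calc s * z * (A * z) * (B * z) = s * (z * A) * (z * B) * z := by group
      _ = s * (A * z) * (B * z) * z := by rw [D.z_central A h1, D.z_central B h2]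
      _ = s * A * (z * B) * (z * z) := by group
      _ = s * A * B * z * (z * z) := by rw [← D.z_central B h2]; group
      _ = 1 := by rw [h, D.z_sq, mul_one]

namespace Tri

section
variable (T : Tri Q s g x)
include T

theorem s1_mem : x * s * x⁻¹ ∈ QG Q := (act_vec T.gen.comm T.pt.mem).1

theorem vec_s1 : vec Q (x * s * x⁻¹) = act Q x (vec Q s) := (act_vec T.gen.comm T.pt.mem).2.symm

theorem line : Line (OutForm.qf Q) (act Q x) (vec Q s) (Wsp Q g) (Eset Q g) := T.pt.line T.gen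

theorem comm_s1 : s * (x * s * x⁻¹) = x * s * x⁻¹ * s :=
  (polar_eq_zero T.pt.mem T.s1_mem).1 (by rw [T.vec_s1]; exact T.line.polar_v_nv)

theorem s1_sq : x * s * x⁻¹ * (x * s * x⁻¹) = 1 := by
  calc x * s * x⁻¹ * (x * s * x⁻¹) = x * (s * s) * x⁻¹ := by group
    _ = 1 := by rw [T.pt.dataR.z_sq]; group

theorem s2_eq : x * (x * s * x⁻¹) * x⁻¹ = s * (x * s * x⁻¹) := by
  rw [eq_inv_of_mul_eq_one_right T.prod, mul_inv_rev, inv_eq_of_mul_eq_one_left T.s1_sq,
    inv_eq_of_mul_eq_one_left T.pt.dataR.z_sq, T.comm_s1]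

theorem s1_memR : x * s * x⁻¹ ∈ RG Q g := by
  obtain ⟨i, i1, i2, e⟩ := mem_Wsp.1 T.line.nv_mem
  rcases vec_eq T.pt.data T.s1_mem i1 (T.vec_s1.trans e.symm) with k | k <;> rw [k]
  exacts [i2, mul_mem i2 T.pt.z_mem]

/-- The coordinates of the group. -/
noncomputable def phi : Multiplicative (Fin 3 → ZMod 2) →* G :=
  MonoidHom.mk' (fun a => z ^ (a.toAdd 0).val * s ^ (a.toAdd 1).val * (x * s * x⁻¹) ^ (a.toAdd 2).val) fun a b => by
    have D := T.pt.data
    have c01 : Commute z s := T.pt.s_comm.symm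
    have c02 : Commute z (x * s * x⁻¹) := (QG_comm T.s1_mem).symm
    have c12 : Commute s (x * s * x⁻¹) := T.comm_s1
    have hpow : ∀ {y : G}, y * y = 1 → ∀ p q : ZMod 2, y ^ (p + q).val = y ^ p.val * y ^ q.val := fun hy p q => by
      rw [ZMod.val_add, ← pow_eq_pow_mod _ (by rw [pow_two]; exact hy), pow_add]
    simp only [toAdd_mul, Pi.add_apply]
    rw [hpow D.z_sq, hpow T.pt.dataR.z_sq, hpow T.s1_sq]
    generalize x * s * x⁻¹ = t at c02 c12 ⊢
    generalize (a.toAdd 0).val = a0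
    generalize (a.toAdd 1).val = a1
    generalize (a.toAdd 2).val = a2
    generalize (b.toAdd 0).val = b0
    generalize (b.toAdd 1).val = b1
    generalize (b.toAdd 2).val = b2
    calc z ^ a0 * z ^ b0 * (s ^ a1 * s ^ b1) * (t ^ a2 * t ^ b2)
        = z ^ a0 * (z ^ b0 * s ^ a1) * (s ^ b1 * t ^ a2) * t ^ b2 := by group
      _ = z ^ a0 * (s ^ a1 * z ^ b0) * (t ^ a2 * s ^ b1) * t ^ b2 := by
          rw [(c01.pow_pow b0 a1).eq, (c12.pow_pow b1 a2).eq]
      _ = z ^ a0 * s ^ a1 * (z ^ b0 * t ^ a2) * s ^ b1 * t ^ b2 := by group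
      _ = z ^ a0 * s ^ a1 * (t ^ a2 * z ^ b0) * s ^ b1 * t ^ b2 := by rw [(c02.pow_pow b0 a2).eq]
      _ = z ^ a0 * s ^ a1 * t ^ a2 * (z ^ b0 * s ^ b1 * t ^ b2) := by group

theorem phi_apply (a : Multiplicative (Fin 3 → ZMod 2)) :
    T.phi a = z ^ (a.toAdd 0).val * s ^ (a.toAdd 1).val * (x * s * x⁻¹) ^ (a.toAdd 2).val := rfl

theorem z_mem_V : z ∈ Vsub Q x s := ⟨T.pt.data.z_mem, Or.inl (vec_z T.pt.data)⟩

theorem s_mem_V : s ∈ Vsub Q x s := ⟨T.pt.mem, Or.inr (Or.inl rfl)⟩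

theorem s1_mem_V : x * s * x⁻¹ ∈ Vsub Q x s := ⟨T.s1_mem, Or.inr (Or.inr (Or.inl T.vec_s1))⟩

theorem phi_range : T.phi.range = Vsub Q x s := by
  refine le_antisymm ?_ fun a ha => ?_
  · rintro _ ⟨a, rfl⟩
    exact mul_mem (mul_mem (pow_mem T.z_mem_V _) (pow_mem T.s_mem_V _)) (pow_mem T.s1_mem_V _)
  · have hgen : ∀ i : Fin 3, ![z, s, x * s * x⁻¹] i ∈ T.phi.range := fun i =>
      ⟨Multiplicative.ofAdd (Pi.single i 1), by fin_cases i <;> simp [phi_apply, ZMod.val_one]⟩
    have hz := hgen 0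
    have hs := hgen 1
    have ht := hgen 2
    simp only [Matrix.cons_val_zero, Matrix.cons_val_one, Matrix.cons_val_two, Matrix.tail_cons,
      Matrix.head_cons] at hz hs ht
    have key : ∀ b ∈ T.phi.range, b ∈ QG Q → vec Q a = vec Q b → a ∈ T.phi.range := by
      intro b hb hbQ e
      rcases vec_eq T.pt.data ha.1 hbQ e with k | k <;> rw [k]
      exacts [hb, mul_mem hb hz]
    rcases ha.2 with e | e | e | e
    · exact key 1 (one_mem _) (one_mem _) (by rw [e, vec_one])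
    · exact key s hs T.pt.mem e
    · exact key _ ht T.s1_mem (by rw [e, T.vec_s1])
    · exact key _ (mul_mem hs ht) (mul_mem T.pt.mem T.s1_mem) (by rw [e, vec_mul T.pt.mem T.s1_mem, T.vec_s1])

theorem phi_injective : Function.Injective T.phi := by
  refine (injective_iff_map_eq_one T.phi).2 fun a ha => ?_
  have hL := T.line
  have h12 : (a.toAdd 1 = 0) ∧ a.toAdd 2 = 0 := by
    have h := congrArg (vec Q) ha
    rw [phi_apply, vec_mul (mul_mem (pow_mem T.pt.data.z_mem _) (pow_mem T.pt.mem _)) (pow_mem T.s1_mem _),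
      vec_mul (pow_mem T.pt.data.z_mem _) (pow_mem T.pt.mem _), vec_one] at h
    rcases two_cases' (a.toAdd 1) with p | p <;> rcases two_cases' (a.toAdd 2) with q | q <;>
      rcases two_cases' (a.toAdd 0) with r | r <;>
      simp only [p, q, r, ZMod.val_zero, ZMod.val_one, pow_zero, pow_one, vec_one, vec_z T.pt.data, T.vec_s1,
        zero_add, add_zero] at h <;>
      first
        | exact ⟨p, q⟩
        | exact absurd h hL.v_ne
        | exact absurd h hL.nv_ne.1
        | exact absurd ((hL.n_sum _).trans h) hL.n2v_ne.1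
  have h0 : a.toAdd 0 = 0 := by
    rcases two_cases' (a.toAdd 0) with r | r
    · exact r
    rw [phi_apply, h12.1, h12.2, r] at ha
    simp [ZMod.val_one] at ha
    exact absurd ha T.pt.data.z_ne
  refine Multiplicative.toAdd.injective (funext fun i => ?_)
  fin_cases i
  exacts [h0, h12.1, h12.2]

theorem card_Vsub : Nat.card (Vsub Q x s) = 8 := by
  rw [← T.phi_range, ← Nat.card_congr (MonoidHom.ofInjective T.phi_injective).toEquiv]
  simp [Nat.card_eq_fintype_card]

theorem elementary : Cfsg.IsElementaryAbelian 2 (Vsub Q x s) := by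
  rw [← T.phi_range]
  refine ⟨⟨⟨fun a b => ?_⟩⟩, ?_⟩
  · obtain ⟨p, hp⟩ := a.2
    obtain ⟨q, hq⟩ := b.2
    refine Subtype.ext ?_
    rw [Subgroup.coe_mul, Subgroup.coe_mul, ← hp, ← hq, ← map_mul, ← map_mul, mul_comm]
  · rintro _ ⟨p, rfl⟩
    rw [pow_two, ← map_mul, show p * p = 1 from Multiplicative.toAdd.injective (funext fun i =>
      CharTwo.add_self_eq_zero (p.toAdd i)), map_one]

omit T in
theorem centralizer_iff (T : Tri Q s g x) {c : G} :
    c ∈ Subgroup.centralizer (Vsub Q x s : Set G) ↔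
      c * z = z * c ∧ c * s = s * c ∧ c * (x * s * x⁻¹) = x * s * x⁻¹ * c := by
  rw [Subgroup.mem_centralizer_iff]
  constructor
  · exact fun h => ⟨(h _ T.z_mem_V).symm, (h _ T.s_mem_V).symm, (h _ T.s1_mem_V).symm⟩
  · rintro ⟨h0, h1, h2⟩ a ha
    rw [SetLike.mem_coe, ← T.phi_range] at ha
    obtain ⟨p, rfl⟩ := ha
    have c0 : Commute c z := h0
    have c1 : Commute c s := h1
    have c2 : Commute c (x * s * x⁻¹) := h2
    exact (((c0.pow_right _).mul_right (c1.pow_right _)).mul_right (c2.pow_right _)).eq.symm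

/-- The centraliser of the group acts inside the stabiliser of the line pointwise. -/
theorem cent_act {c : G} (hc : c ∈ Subgroup.centralizer (Vsub Q x s : Set G)) :
    act Q c (vec Q s) = vec Q s ∧ ∀ y, act Q c (act Q x y) = act Q x (act Q c y) := by
  obtain ⟨h0, h1, h2⟩ := T.centralizer_iff.1 hc
  have hv : act Q c (vec Q s) = vec Q s := by rw [(act_vec h0 T.pt.mem).2, h1, mul_inv_cancel_right]
  refine ⟨hv, (T.gen.normal c h0).resolve_right fun k => ?_⟩
  have hn : act Q c (act Q x (vec Q s)) = act Q x (vec Q s) := by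
    rw [← T.vec_s1, (act_vec h0 T.s1_mem).2, h2, mul_inv_cancel_right]
  rw [k, hv] at hn
  exact T.line.n2v_ne.2.2 hn

/-- The three conjugates of Q meet in the group. -/
theorem inter3 {a : G} (h1 : a ∈ QG Q) (h2 : a ∈ RG Q g) (h3 : x⁻¹ * a * x ∈ RG Q g) : a ∈ Vsub Q x s := by
  have hx : x⁻¹ * z = z * x⁻¹ := (Commute.inv_left (show Commute x z from T.gen.comm)).eq
  obtain ⟨hm, e⟩ := act_vec (Q := Q) hx h1
  rw [inv_inv] at hm e
  obtain ⟨-, e'⟩ := act_vec (Q := Q) T.gen.comm hm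
  rw [show x * (x⁻¹ * a * x) * x⁻¹ = a by group] at e'
  refine ⟨h1, ?_⟩
  rw [← e']
  exact T.line.inL_n (T.line.inter (mem_Wsp.2 ⟨_, hm, h3, rfl⟩) (by rw [e']; exact mem_Wsp.2 ⟨a, h1, h2, rfl⟩))

/-- From the second involution the group looks the same. -/
theorem symm_line {a : G} (ha : a ∈ Vsub Q x s) : g⁻¹ * a * g ∈ Vsub Q x (g⁻¹ * z * g) := by
  have T1 := T.pt.symm
  have L1 := T1.line T.gen
  obtain ⟨i1, hi1, hi1', e1⟩ := mem_Wsp.1 L1.nv_mem
  -- its conjugate lies in the intersection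
  set i := g * i1 * g⁻¹ with hi
  have hiQ : i ∈ QG Q := by simpa [hi] using mem_conjS.1 hi1'
  have hiR : i ∈ RG Q g := mem_conjS.2 (by simpa [hi, mul_assoc] using hi1)
  have hfix : InL (act Q x) (vec Q s) (vec Q i) := by
    refine fixed_inL T.pt.type T.gen T.line.v_ne T.line.v_sing fun c hcz hcv hc3 => ?_
    -- adjust to a lift fixing s
    obtain ⟨d, hdz, hds, hd⟩ : ∃ d, d * z = z * d ∧ d * s = s * d ∧ act Q d = act Q c := by
      obtain ⟨hm, e⟩ := act_vec (Q := Q) hcz T.pt.mem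
      rcases vec_eq T.pt.data hm T.pt.mem (by rw [← e, hcv]) with k | k
      · exact ⟨c, hcz, mul_inv_eq_iff_eq_mul.1 k, rfl⟩
      obtain ⟨u, hu, hus⟩ := T.pt.data.exists_conj_eq T.pt.mem T.pt.dataR.z_ne T.pt.ne
      refine ⟨u * c, by rw [mul_assoc, hcz, ← mul_assoc, QG_comm hu, mul_assoc], mul_inv_eq_iff_eq_mul.1 ?_, ?_⟩
      · calc u * c * s * (u * c)⁻¹ = (u * (c * s * c⁻¹) * u⁻¹) := by group
          _ = (u * s * u⁻¹) * (u * z * u⁻¹) := by rw [k]; group
          _ = s * z * z := by rw [hus, QG_comm hu, mul_inv_cancel_right]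
          _ = s := by rw [mul_assoc, T.pt.data.z_sq, mul_one]
      · rw [act_mul (QG_comm hu) hcz, (act_eq_one T.pt.ker (QG_comm hu)).2 hu, one_mul]
    rw [← hd] at hc3 hcv ⊢
    -- its image at the other point
    set d1 := g⁻¹ * d * g with hd1
    have hd1z : d1 * z = z * d1 := by
      calc d1 * z = g⁻¹ * (d * (g * z * g⁻¹)) * g := by rw [hd1]; group
        _ = g⁻¹ * (g * z * g⁻¹ * d) * g := by rw [T.pt.conj, hds]
        _ = z * d1 := by rw [hd1]; group
    have hd1s : d1 * (g⁻¹ * z * g) = g⁻¹ * z * g * d1 := by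
      calc d1 * (g⁻¹ * z * g) = g⁻¹ * (d * z) * g := by rw [hd1]; group
        _ = g⁻¹ * z * g * d1 := by rw [hdz, hd1]; group
    have hd1v : act Q d1 (vec Q (g⁻¹ * z * g)) = vec Q (g⁻¹ * z * g) := by
      rw [(act_vec hd1z T1.mem).2, hd1s, mul_inv_cancel_right]
    obtain ⟨hm1, em1⟩ := act_vec (Q := Q) hd1z hi1
    have two : vec Q (d1 * i1 * d1⁻¹) = vec Q i1 ∨
        vec Q (d1 * i1 * d1⁻¹) = vec Q (g⁻¹ * z * g * i1) := by
      rw [← em1, vec_mul T1.mem hi1, e1]
      rcases T.gen.normal d1 hd1z with k | k <;> rw [k, hd1v]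
      · exact Or.inl rfl
      · exact Or.inr (T.gen.sum _)
    have key : vec Q (d * i * d⁻¹) = vec Q i ∨ vec Q (d * i * d⁻¹) = vec Q i + vec Q s := by
      have ec : d * i * d⁻¹ = g * (d1 * i1 * d1⁻¹) * g⁻¹ := by rw [hi, hd1]; group
      have hsz : g * z * g⁻¹ = s := T.pt.conj
      rcases two with w | w
      · rcases vec_eq T.pt.data hm1 hi1 w with k | k <;> rw [ec, k]
        · exact Or.inl (by rw [hi])
        · right
          rw [show g * (i1 * z) * g⁻¹ = i * (g * z * g⁻¹) by rw [hi]; group, hsz, vec_mul hiQ T.pt.mem]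
      · rcases vec_eq T.pt.data hm1 (mul_mem T1.mem hi1) w with k | k <;> rw [ec, k]
        · left
          rw [show g * (g⁻¹ * z * g * i1) * g⁻¹ = z * i by rw [hi]; group, vec_mul T.pt.data.z_mem hiQ,
            vec_z T.pt.data, zero_add]
        · right
          rw [show g * (g⁻¹ * z * g * i1 * z) * g⁻¹ = z * i * (g * z * g⁻¹) by rw [hi]; group, hsz,
            vec_mul (mul_mem T.pt.data.z_mem hiQ) T.pt.mem, vec_mul T.pt.data.z_mem hiQ, vec_z T.pt.data,
            zero_add]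
    rw [← (act_vec hdz hiQ).2] at key
    rcases key with k | k
    · exact k
    · exfalso
      have := LinearEquiv.congr_fun hc3 (vec Q i)
      change act Q d (act Q d (act Q d (vec Q i))) = vec Q i at this
      rw [k, map_add, k, hcv, add_assoc, Line.add_self, add_zero, k] at this
      exact T.line.v_ne (add_eq_left.1 this)
  -- the group is generated by z, s and i
  have hi1V : i1 ∈ Vsub Q x (g⁻¹ * z * g) := ⟨hi1, Or.inr (Or.inr (Or.inl e1))⟩
  have hz1 : g⁻¹ * z * g ∈ Vsub Q x (g⁻¹ * z * g) := ⟨T1.mem, Or.inr (Or.inl rfl)⟩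
  have hzz : z ∈ Vsub Q x (g⁻¹ * z * g) := ⟨T.pt.data.z_mem, Or.inl (vec_z T.pt.data)⟩
  let U : Subgroup G := (Vsub Q x (g⁻¹ * z * g)).map (MulAut.conj g).toMonoidHom
  have hU : ∀ b, b ∈ U ↔ g⁻¹ * b * g ∈ Vsub Q x (g⁻¹ * z * g) := fun b => mem_conjS
  rw [← hU]
  have zU : z ∈ U := (hU _).2 hz1
  have sU : s ∈ U := (hU _).2 (by rw [← T.pt.conj]; simpa [mul_assoc] using hzz)
  have iU : i ∈ U := (hU _).2 (by simpa [hi, mul_assoc] using hi1V)
  have ne0 : vec Q i ≠ 0 ∧ vec Q i ≠ vec Q s := by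
    have bad : ∀ b, g⁻¹ * b * g = i1 → InL (act Q x) (vec Q (g⁻¹ * z * g)) (vec Q (g⁻¹ * b * g)) := fun b hb => by
      rw [hb]; exact hi1V.2
    have conv : g⁻¹ * s * g = z := by rw [← T.pt.conj]; group
    have hv1 : vec Q i1 ≠ 0 ∧ vec Q i1 ≠ vec Q (g⁻¹ * z * g) := by rw [e1]; exact L1.nv_ne
    constructor
    · intro h
      rcases vec_eq_zero T.pt.data hiQ h with k | k
      · exact hv1.1 (by rw [show i1 = g⁻¹ * i * g by rw [hi]; group, k]; simp [vec_one])
      · exact hv1.2 (by rw [show i1 = g⁻¹ * i * g by rw [hi]; group, k])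
    · intro h
      rcases vec_eq T.pt.data hiQ T.pt.mem h with k | k
      · exact hv1.1 (by rw [show i1 = g⁻¹ * i * g by rw [hi]; group, k, conv, vec_z T.pt.data])
      · refine hv1.2 ?_
        rw [show i1 = g⁻¹ * i * g by rw [hi]; group, k, show g⁻¹ * (s * z) * g = g⁻¹ * s * g * (g⁻¹ * z * g) by group,
          conv, vec_mul T.pt.data.z_mem T1.mem, vec_z T.pt.data, zero_add]
  have key : ∀ b ∈ U, b ∈ QG Q → vec Q a = vec Q b → a ∈ U := by
    intro b hb hbQ e
    rcases vec_eq T.pt.data ha.1 hbQ e with k | k <;> rw [k]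
    exacts [hb, mul_mem hb zU]
  have hsi : vec Q (s * i) = vec Q s + vec Q i := vec_mul T.pt.mem hiQ
  rcases ha.2 with e | e | e | e
  · exact key 1 (one_mem _) (one_mem _) (by rw [e, vec_one])
  · exact key s sU T.pt.mem e
  · rcases hfix with k | k | k | k
    · exact absurd k ne0.1
    · exact absurd k ne0.2
    · exact key i iU hiQ (by rw [e, k])
    · exact key _ (mul_mem sU iU) (mul_mem T.pt.mem hiQ) (by rw [e, hsi, k, Line.add_cancel])
  · rcases hfix with k | k | k | k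
    · exact absurd k ne0.1
    · exact absurd k ne0.2
    · exact key _ (mul_mem sU iU) (mul_mem T.pt.mem hiQ) (by rw [e, hsi, k])
    · exact key i iU hiQ (by rw [e, k])

end

end Tri

end Cfsg.Agent.LargeFischer
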