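/-
The centraliser of the group of order eight: its largest normal two-subgroup and the quotient of degree six.

* `Tri.CV`, `Tri.core` : the centraliser and the kernel of its map to the alternating group
* `Tri.exists_six`, `Tri.card_core`, `Tri.le_core`
* `Tri.exists_move` : the normaliser moves z to s
* `Tri.core_special`
-/
import Cfsg.Agent.Lib.LargeFischer.LineTri
import Cfsg.Agent.Lib.PGroup.Basic

set_option autoImplicit false
open scoped commutatorElement

namespace Cfsg.Agent.LargeFischer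

open LargeExtraspecial

universe u

variable {G : Type u} [Group G] [Finite G] {z : G} {Q : Subgroup (Subgroup.centralizer ({z} : Set G))}
  [Q.Normal] [hE : Fact (Cfsg.IsExtraspecial 2 Q)] {s g x : G}

namespace Tri

variable (T : Tri Q s g x)
include T

/-- The centraliser of the group of order eight. -/
noncomputable abbrev CV : Subgroup G :=
  let _ := T
  Subgroup.centralizer (Vsub Q x s : Set G)

theorem cent_z {c : G} (hc : c ∈ T.CV) : c * z = z * c := (T.centralizer_iff.1 hc).1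

theorem one_mem_E : (1 : OutForm.Vm Q ≃ₗ[ZMod 2] OutForm.Vm Q) ∈ Eset Q g :=
  ⟨1, ⟨one_mem _, by simp⟩, act_one⟩

/-- Its elements acting like the second subgroup. -/
noncomputable def core : Subgroup G where
  carrier := {c | c ∈ T.CV ∧ act Q c ∈ Eset Q g}
  one_mem' := ⟨one_mem _, by rw [act_one]; exact T.one_mem_E⟩
  mul_mem' := fun ha hb => ⟨mul_mem ha.1 hb.1, by
    rw [act_mul (T.cent_z ha.1) (T.cent_z hb.1)]; exact T.line.E_mul _ ha.2 _ hb.2⟩
  inv_mem' := fun ha => ⟨inv_mem ha.1, by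
    rw [act_inv (T.cent_z ha.1), inv_eq_of_mul_eq_one_left (T.line.E_sq _ ha.2)]; exact ha.2⟩

theorem core_le : T.core ≤ T.CV := fun _ hc => hc.1

theorem core_E0 {c : G} (hc : c ∈ T.core) : act Q c ∈ Line.E0 (act Q x) (Eset Q g) :=
  ⟨hc.2, (T.cent_act hc.1).2⟩

theorem dual_lift : ∃ u ∈ QG Q, u * s = s * u ∧ u * (x * s * x⁻¹) * u⁻¹ = x * s * x⁻¹ * z := by
  obtain ⟨x0, h1, h2⟩ := T.line.exists_dual
  obtain ⟨u, hu, e⟩ := vec_surj (x0 + act Q x x0)
  have hL := T.line
  have n3 : act Q x (act Q x (act Q x (vec Q s))) = vec Q s := hL.n_three _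
  have g1 : QuadraticMap.polar (OutForm.qf Q) (act Q x x0) (vec Q s) = 1 := by
    conv_lhs => rw [← n3]
    rw [hL.polar_n, hL.n_sum, QuadraticMap.polar_add_right, h1, h2, add_zero]
  have g2 : QuadraticMap.polar (OutForm.qf Q) (act Q x x0) (act Q x (vec Q s)) = 1 := by rw [hL.polar_n, h1]
  refine ⟨u, hu, (polar_eq_zero hu T.pt.mem).1 ?_, ?_⟩
  · rw [e, QuadraticMap.polar_add_left, h1, g1]; decide
  rcases T.pt.data.comm u hu _ T.s1_mem with k | k
  · exfalso
    have := (polar_eq_zero hu T.s1_mem).2 (commutatorElement_eq_one_iff_mul_comm.1 k)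
    rw [e, T.vec_s1, QuadraticMap.polar_add_left, h2, g2] at this
    exact absurd this (by decide)
  · rw [show u * (x * s * x⁻¹) * u⁻¹ = ⁅u, x * s * x⁻¹⁆ * (x * s * x⁻¹) by rw [commutatorElement_def]; group, k,
      T.pt.data.z_central _ T.s1_mem]

/-- The quotient is the alternating group of degree six. -/
theorem exists_six : ∃ f : T.CV →* alternatingGroup (Fin 6), Function.Surjective f ∧
    ∀ c : T.CV, f c = 1 ↔ (c : G) ∈ T.core := by
  classical
  obtain ⟨cs, hcQ, hcs⟩ := id T.pt.mem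
  obtain ⟨-, -, -, -, -, -, -, -, -, -, hn, ⟨iA⟩⟩ :=
    central_facts T.pt.type T.pt.conj T.pt.ne (s := s) (hcs ▸ cs.2)
      (show (⟨s, hcs ▸ cs.2⟩ : Subgroup.centralizer ({z} : Set G)) ∈ Q from
        (Subtype.ext hcs : cs = ⟨s, hcs ▸ cs.2⟩) ▸ hcQ) _ _ rfl rfl
  set Xs := ((Subgroup.centralizer ({z} : Set G) ⊓ Subgroup.centralizer ({s} : Set G)).subgroupOf
      (Subgroup.centralizer ({z} : Set G))).map (QuotientGroup.mk' Q) with hXs
  set Es := ((RG Q g ⊓ Subgroup.centralizer ({z} : Set G)).subgroupOf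
      (Subgroup.centralizer ({z} : Set G))).map (QuotientGroup.mk' Q) with hEs
  haveI := hn
  have hcmem : ∀ c : T.CV, (c : G) ∈ Subgroup.centralizer ({z} : Set G) := fun c =>
    Subgroup.mem_centralizer_singleton_iff.2 (T.cent_z c.2)
  let f₀ : T.CV →* Subgroup.centralizer ({z} : Set G) :=
    MonoidHom.mk' (fun c => ⟨c, hcmem c⟩) fun _ _ => rfl
  have hX : ∀ c, QuotientGroup.mk' Q (f₀ c) ∈ Xs := fun c =>
    ⟨f₀ c, ⟨hcmem c, Subgroup.mem_centralizer_singleton_iff.2 (T.centralizer_iff.1 c.2).2.1⟩, rfl⟩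
  let f₁ : T.CV →* Xs := ((QuotientGroup.mk' Q).comp f₀).codRestrict Xs hX
  have hmem : ∀ d : Subgroup.centralizer ({z} : Set G), QuotientGroup.mk' Q d ∈ Es ↔ act Q (d : G) ∈ Eset Q g := by
    intro d
    constructor
    · rintro ⟨r, hr, e⟩
      refine ⟨r, ⟨hr.1, Subgroup.mem_centralizer_singleton_iff.1 r.2⟩, ?_⟩
      rw [act_coe, act_coe, ← inv_mul_eq_one, ← map_inv, ← map_mul, ← MonoidHom.mem_ker, T.pt.ker]
      exact QuotientGroup.eq.1 e
    · rintro ⟨r, ⟨hr, hrz⟩, e⟩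
      obtain ⟨r', rfl⟩ := exists_cent hrz
      refine ⟨r', ⟨hr, r'.2⟩, QuotientGroup.eq.2 ?_⟩
      rw [← T.pt.ker, MonoidHom.mem_ker, map_mul, map_inv, inv_mul_eq_one, ← act_coe, ← act_coe, e]
  refine ⟨iA.toMonoidHom.comp ((QuotientGroup.mk' _).comp f₁), ?_, fun c => ?_⟩
  · refine iA.surjective.comp fun y => ?_
    obtain ⟨⟨_, d, hd, rfl⟩, rfl⟩ := QuotientGroup.mk_surjective y
    have hdz : (d : G) * z = z * d := Subgroup.mem_centralizer_singleton_iff.1 d.2
    have hds : (d : G) * s = s * d := Subgroup.mem_centralizer_singleton_iff.1 hd.2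
    have hdv : act Q (d : G) (vec Q s) = vec Q s := by rw [(act_vec hdz T.pt.mem).2, hds, mul_inv_cancel_right]
    -- make it commute with n
    obtain ⟨a, ha, haz, has, hamem⟩ : ∃ a : G, act Q a ∈ Eset Q g ∧ a * z = z * a ∧ a * s = s * a ∧
        ∀ y, act Q (a * d) (act Q x y) = act Q x (act Q (a * d) y) := by
      rcases T.gen.normal (d : G) hdz with k | k
      · exact ⟨1, by rw [act_one]; exact T.one_mem_E, by simp, by simp, fun y => by rw [one_mul]; exact k y⟩
      obtain ⟨e₁, ⟨r, ⟨hr, hrz⟩, rfl⟩, h1⟩ := T.line.exists_invert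
      refine ⟨r, ⟨r, ⟨hr, hrz⟩, rfl⟩, hrz, T.pt.dataR.z_central r hr, fun y => ?_⟩
      rw [act_mul hrz hdz]
      show act Q r (act Q (d : G) (act Q x y)) = act Q x (act Q r (act Q (d : G) y))
      rw [k, h1, h1, T.line.n_three]
    have h1z : a * (d : G) * z = z * (a * d) := by rw [mul_assoc, hdz, ← mul_assoc, haz, mul_assoc]
    have h1s : a * (d : G) * s = s * (a * d) := by rw [mul_assoc, hds, ← mul_assoc, has, mul_assoc]
    obtain ⟨hm, e⟩ := act_vec (Q := Q) h1z T.s1_mem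
    obtain ⟨b, hb, hbz, hbs, hb1⟩ : ∃ b : G, act Q b = 1 ∧ b * z = z * b ∧ b * s = s * b ∧
        b * (a * d) * (x * s * x⁻¹) = x * s * x⁻¹ * (b * (a * d)) := by
      rcases vec_eq T.pt.data hm T.s1_mem (by
        rw [← e, T.vec_s1, hamem, act_mul haz hdz]
        show act Q x (act Q a (act Q (d : G) (vec Q s))) = _
        rw [hdv, (act_vec haz T.pt.mem).2, has, mul_inv_cancel_right]) with k | k
      · exact ⟨1, act_one, by simp, by simp, by rw [one_mul]; exact mul_inv_eq_iff_eq_mul.1 k⟩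
      obtain ⟨u, hu, hus, hu1⟩ := T.dual_lift
      refine ⟨u, (act_eq_one T.pt.ker (QG_comm hu)).2 hu, QG_comm hu, hus, mul_inv_eq_iff_eq_mul.1 ?_⟩
      calc u * (a * ↑d) * (x * s * x⁻¹) * (u * (a * ↑d))⁻¹
          = u * (a * ↑d * (x * s * x⁻¹) * (a * ↑d)⁻¹) * u⁻¹ := by group
        _ = (u * (x * s * x⁻¹) * u⁻¹) * (u * z * u⁻¹) := by rw [k]; group
        _ = x * s * x⁻¹ * z * z := by rw [hu1, QG_comm hu, mul_inv_cancel_right]
        _ = x * s * x⁻¹ := by rw [mul_assoc _ z z, T.pt.data.z_sq, mul_one]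
    have hc : b * (a * d) ∈ T.CV := T.centralizer_iff.2
      ⟨by rw [mul_assoc, h1z, ← mul_assoc, hbz, mul_assoc],
        by rw [mul_assoc, h1s, ← mul_assoc, hbs, mul_assoc], hb1⟩
    refine ⟨⟨_, hc⟩, QuotientGroup.eq.2 (Subgroup.mem_subgroupOf.2 ?_)⟩
    show (QuotientGroup.mk' Q (f₀ ⟨_, hc⟩))⁻¹ * QuotientGroup.mk' Q d ∈ Es
    rw [← map_inv, ← map_mul, hmem]
    show act Q ((b * (a * (d : G)))⁻¹ * d) ∈ _
    have hinv : (b * (a * (d : G)))⁻¹ * z = z * (b * (a * (d : G)))⁻¹ :=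
      (Commute.inv_left (show Commute (b * (a * (d : G))) z from T.cent_z hc)).eq
    rw [act_mul hinv hdz, act_inv (T.cent_z hc), act_mul hbz h1z, hb, one_mul, act_mul haz hdz, mul_inv_rev,
      inv_eq_of_mul_eq_one_left (T.line.E_sq _ ha)]
    -- a conjugate of an element of the second subgroup
    obtain ⟨r, ⟨hr, hrz⟩, er⟩ := ha
    refine ⟨(d : G)⁻¹ * r * d, ⟨?_, ?_⟩, ?_⟩
    · have := T.pt.dataR.norm (d : G)⁻¹ (Commute.inv_left (show Commute (d : G) s from hds)).eq r hr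
      rwa [inv_inv] at this
    · exact (((Commute.inv_left (show Commute (d : G) z from hdz)).mul_left (show Commute r z from hrz)).mul_left
        (show Commute (d : G) z from hdz)).eq
    · have hdi : (d : G)⁻¹ * z = z * (d : G)⁻¹ := (Commute.inv_left (show Commute (d : G) z from hdz)).eq
      rw [act_mul ((Commute.mul_left (show Commute (d : G)⁻¹ z from hdi) (show Commute r z from hrz)).eq) hdz,
        act_mul hdi hrz, act_inv hdz, er]
  · show iA (QuotientGroup.mk' _ (f₁ c)) = 1 ↔ _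
    rw [EmbeddingLike.map_eq_one_iff, QuotientGroup.mk'_apply, QuotientGroup.eq_one_iff, Subgroup.mem_subgroupOf]
    show QuotientGroup.mk' Q (f₀ c) ∈ Es ↔ _
    rw [hmem]
    exact ⟨fun h => ⟨c.2, h⟩, fun h => h.2⟩

theorem QV_mem {q : G} (hq : q ∈ QG Q) :
    q ∈ T.CV ↔ QuadraticMap.polar (OutForm.qf Q) (vec Q q) (vec Q s) = 0 ∧
      QuadraticMap.polar (OutForm.qf Q) (vec Q q) (act Q x (vec Q s)) = 0 := by
  rw [T.centralizer_iff, polar_eq_zero hq T.pt.mem, ← T.vec_s1, polar_eq_zero hq T.s1_mem]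
  exact ⟨fun h => h.2, fun h => ⟨QG_comm hq, h⟩⟩

theorem QV_core {q : G} (hq : q ∈ QG Q) (hc : q ∈ T.CV) : q ∈ T.core :=
  ⟨hc, by rw [(act_eq_one T.pt.ker (QG_comm hq)).2 hq]; exact T.one_mem_E⟩

theorem card_QV : Nat.card (QG Q ⊓ T.CV : Subgroup G) = 2 ^ 11 := by
  classical
  let f : QG Q →* Multiplicative (ZMod 2 × ZMod 2) :=
    { toFun := fun a => Multiplicative.ofAdd (QuadraticMap.polar (OutForm.qf Q) (vec Q a.1) (vec Q s),
        QuadraticMap.polar (OutForm.qf Q) (vec Q a.1) (act Q x (vec Q s)))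
      map_one' := by
        show Multiplicative.ofAdd _ = 1
        rw [show ((1 : QG Q) : G) = 1 from rfl, vec_one]
        simp
      map_mul' := fun a b => by
        show Multiplicative.ofAdd _ = Multiplicative.ofAdd _
        rw [show ((a * b : QG Q) : G) = a.1 * b.1 from rfl, vec_mul a.2 b.2, QuadraticMap.polar_add_left,
          QuadraticMap.polar_add_left]
        rfl }
  have hk : f.ker = (T.CV).subgroupOf (QG Q) := by
    ext a
    rw [MonoidHom.mem_ker, Subgroup.mem_subgroupOf, T.QV_mem a.2]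
    show Multiplicative.ofAdd _ = Multiplicative.ofAdd (0 : ZMod 2 × ZMod 2) ↔ _
    rw [Multiplicative.ofAdd.apply_eq_iff_eq, Prod.ext_iff]
    rfl
  have hsurj : Function.Surjective f := by
    obtain ⟨x0, h1, h2⟩ := T.line.exists_dual
    have n3 : act Q x (act Q x (act Q x (vec Q s))) = vec Q s := T.line.n_three _
    have g1 : QuadraticMap.polar (OutForm.qf Q) (act Q x x0) (vec Q s) = 1 := by
      conv_lhs => rw [← n3]
      rw [T.line.polar_n, T.line.n_sum, QuadraticMap.polar_add_right, h1, h2, add_zero]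
    have g2 : QuadraticMap.polar (OutForm.qf Q) (act Q x x0) (act Q x (vec Q s)) = 1 := by
      rw [T.line.polar_n, h1]
    intro y
    obtain ⟨u, hu, e⟩ := vec_surj (Q := Q) ((y.toAdd.1 + y.toAdd.2) • x0 + y.toAdd.2 • act Q x x0)
    refine ⟨⟨u, hu⟩, Multiplicative.toAdd.injective ?_⟩
    show (QuadraticMap.polar _ (vec Q u) _, QuadraticMap.polar _ (vec Q u) _) = y.toAdd
    rw [e]
    simp only [QuadraticMap.polar_add_left, QuadraticMap.polar_smul_left, h1, h2, g1, g2, smul_eq_mul,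
      mul_one, mul_zero, zero_add]
    rw [add_assoc, CharTwo.add_self_eq_zero, add_zero]
  have h := f.ker.card_mul_index
  rw [Subgroup.index_ker, MonoidHom.range_eq_top.2 hsurj, Subgroup.card_top, hk, T.pt.card_QG] at h
  have hc : Nat.card ((T.CV).subgroupOf (QG Q)) = Nat.card (QG Q ⊓ T.CV : Subgroup G) := by
    rw [← Subgroup.inf_subgroupOf_left, Nat.card_congr (Subgroup.subgroupOfEquivOfLe inf_le_left).toEquiv]
  rw [hc, show Nat.card (Multiplicative (ZMod 2 × ZMod 2)) = 4 by simp [Nat.card_eq_fintype_card]] at h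
  omega

theorem E0_lift {e : OutForm.Vm Q ≃ₗ[ZMod 2] OutForm.Vm Q} (he : e ∈ Line.E0 (act Q x) (Eset Q g)) :
    ∃ c ∈ T.core, c ∈ RG Q g ∧ act Q c = e := by
  obtain ⟨⟨r, ⟨hr, hrz⟩, rfl⟩, hcomm⟩ := he
  refine ⟨r, ⟨T.centralizer_iff.2 ⟨hrz, T.pt.dataR.z_central r hr, ?_⟩, r, ⟨hr, hrz⟩, rfl⟩, hr, rfl⟩
  rcases T.pt.move hr T.s1_mem T.s1_memR hrz with ⟨k, -⟩ | ⟨-, k⟩
  · exact mul_inv_eq_iff_eq_mul.1 k
  · exfalso
    rw [T.vec_s1, hcomm, T.line.E_v _ ⟨r, ⟨hr, hrz⟩, rfl⟩] at k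
    exact T.line.v_ne (left_eq_add.1 k)

theorem card_core : Nat.card T.core = 2 ^ 15 := by
  classical
  let f : T.core →* (OutForm.Vm Q ≃ₗ[ZMod 2] OutForm.Vm Q) :=
    MonoidHom.mk' (fun c => act Q c.1) fun a b => act_mul (T.cent_z a.2.1) (T.cent_z b.2.1)
  have hk : f.ker = (QG Q ⊓ T.CV).subgroupOf T.core := by
    ext a
    rw [MonoidHom.mem_ker, Subgroup.mem_subgroupOf, Subgroup.mem_inf]
    show act Q a.1 = 1 ↔ _
    rw [act_eq_one T.pt.ker (T.cent_z a.2.1)]
    exact ⟨fun h => ⟨h, a.2.1⟩, fun h => h.1⟩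
  have hr : (f.range : Set _) = Line.E0 (act Q x) (Eset Q g) := by
    ext e
    constructor
    · rintro ⟨a, rfl⟩; exact T.core_E0 a.2
    · intro he
      obtain ⟨c, hc, -, rfl⟩ := T.E0_lift he
      exact ⟨⟨c, hc⟩, rfl⟩
  have hr16 : Nat.card f.range = 16 := by
    rw [← SetLike.coe_sort_coe, Nat.card_coe_set_eq, hr, T.line.E0_card_eq]
  have h := f.ker.card_mul_index
  rw [Subgroup.index_ker, hk, hr16, Nat.card_congr (Subgroup.subgroupOfEquivOfLe
    (fun q hq => T.QV_core hq.1 hq.2 : QG Q ⊓ T.CV ≤ T.core)).toEquiv, T.card_QV] at h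
  rw [← h]; norm_num

theorem core_pGroup : IsPGroup 2 T.core := IsPGroup.of_card T.card_core

/-- A two-subgroup of the centraliser normalised by it lies in the kernel. -/
theorem le_core {P : Subgroup G} (hP : IsPGroup 2 P) (hle : P ≤ T.CV)
    (hn : ∀ c ∈ T.CV, ∀ p ∈ P, c * p * c⁻¹ ∈ P) : P ≤ T.core := by
  obtain ⟨f, hf, hker⟩ := T.exists_six
  haveI : IsSimpleGroup (alternatingGroup (Fin 6)) := alternatingGroup.isSimpleGroup (by simp)
  haveI : (P.subgroupOf T.CV).Normal := ⟨fun p hp c => hn c c.2 p hp⟩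
  haveI : ((P.subgroupOf T.CV).map f).Normal := Subgroup.Normal.map inferInstance f hf
  rcases IsSimpleGroup.eq_bot_or_eq_top_of_normal ((P.subgroupOf T.CV).map f) inferInstance with h | h
  · intro p hp
    exact (hker ⟨p, hle hp⟩).1 ((Subgroup.mem_bot).1 (h ▸ ⟨⟨p, hle hp⟩, hp, rfl⟩))
  · exfalso
    have h2 : IsPGroup 2 ((P.subgroupOf T.CV).map f) :=
      (hP.comap_of_injective T.CV.subtype Subtype.val_injective).map f
    haveI : Fact (Nat.Prime 2) := ⟨Nat.prime_two⟩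
    obtain ⟨k, hk⟩ := IsPGroup.iff_card.1 h2
    rw [h, Subgroup.card_top, nat_card_alternatingGroup, Nat.card_eq_fintype_card, Fintype.card_fin] at hk
    have h3 : 3 ∣ 2 ^ k := ⟨120, by rw [← hk]; rfl⟩
    have := Nat.prime_three.dvd_of_dvd_pow h3
    omega

theorem normalizer_cent {l : G} (hl : l ∈ Subgroup.normalizer (Vsub Q x s : Set G)) {c : G} (hc : c ∈ T.CV) :
    l * c * l⁻¹ ∈ T.CV := by
  refine Subgroup.mem_centralizer_iff.2 fun a ha => ?_
  have ha' : l⁻¹ * a * l ∈ Vsub Q x s := (Subgroup.mem_normalizer_iff''.1 hl a).1 ha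
  have h := Subgroup.mem_centralizer_iff.1 hc _ ha'
  calc a * (l * c * l⁻¹) = l * (l⁻¹ * a * l * c) * l⁻¹ := by group
    _ = l * c * l⁻¹ * a := by rw [h]; group

theorem normalizer_core {l : G} (hl : l ∈ Subgroup.normalizer (Vsub Q x s : Set G)) {c : G} (hc : c ∈ T.core) :
    l * c * l⁻¹ ∈ T.core := by
  refine T.le_core (P := T.core.map (MulAut.conj l).toMonoidHom) (T.core_pGroup.map _) ?_ ?_ ⟨c, hc, rfl⟩
  · rintro _ ⟨a, ha, rfl⟩; exact T.normalizer_cent hl ha.1
  · rintro a ha _ ⟨b, hb, rfl⟩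
    obtain ⟨f, -, hker⟩ := T.exists_six
    have ha' : l⁻¹ * a * l ∈ T.CV := by
      have := T.normalizer_cent (inv_mem hl) ha
      rwa [inv_inv] at this
    have hn : l⁻¹ * a * l * b * (l⁻¹ * a * l)⁻¹ ∈ T.core := by
      refine (hker ⟨_, mul_mem (mul_mem ha' hb.1) (inv_mem ha')⟩).1 ?_
      show f (⟨_, ha'⟩ * ⟨b, hb.1⟩ * ⟨_, ha'⟩⁻¹) = 1
      rw [map_mul, map_mul, (hker ⟨b, hb.1⟩).2 hb, mul_one, map_inv, mul_inv_cancel]
    exact ⟨_, hn, by simp [mul_assoc]⟩

theorem x_normalizes : x ∈ Subgroup.normalizer (Vsub Q x s : Set G) := by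
  refine Subgroup.mem_normalizer_fintype fun a ha => ?_
  obtain ⟨hm, e⟩ := act_vec (Q := Q) T.gen.comm ha.1
  exact ⟨hm, by rw [← e]; exact T.line.inL_n ha.2⟩

theorem Q_normalizes {u : G} (hu : u ∈ QG Q) : u ∈ Subgroup.normalizer (Vsub Q x s : Set G) := by
  refine Subgroup.mem_normalizer_fintype fun a ha => ?_
  refine ⟨mul_mem (mul_mem hu ha.1) (inv_mem hu), ?_⟩
  rw [vec_mul (mul_mem hu ha.1) (inv_mem hu), vec_mul hu ha.1, vec_inv hu, add_comm (vec Q u), add_assoc,
    Line.add_self, add_zero]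
  exact ha.2

omit T in
theorem card_Vsub_le (D : Data (QG Q) z) (x t : G) : Nat.card (Vsub Q x t) ≤ 8 := by
  classical
  let f : Vsub Q x t →* Multiplicative (OutForm.Vm Q) :=
    { toFun := fun a => Multiplicative.ofAdd (vec Q a.1)
      map_one' := by show Multiplicative.ofAdd (vec Q (1 : G)) = 1; rw [vec_one]; rfl
      map_mul' := fun a b => by
        show Multiplicative.ofAdd (vec Q (a.1 * b.1)) = _
        rw [vec_mul a.2.1 b.2.1]; rfl }
  have hk : Nat.card f.ker ≤ 2 := by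
    refine le_trans (Nat.card_le_card_of_injective (fun a => decide ((a.1.1 : G) = 1)) ?_) (by simp)
    intro a b h
    have key : ∀ c : f.ker, (c.1.1 : G) = 1 ∨ (c.1.1 : G) = z := fun c =>
      vec_eq_zero D c.1.2.1 (Multiplicative.ofAdd.injective c.2)
    rcases key a with ka | ka <;> rcases key b with kb | kb <;> simp only [ka, kb] at h
    · exact Subtype.ext (Subtype.ext (ka.trans kb.symm))
    · simp [D.z_ne] at h
    · simp [D.z_ne] at h
    · exact Subtype.ext (Subtype.ext (ka.trans kb.symm))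
  have hr : Nat.card f.range ≤ 4 := by
    let S : Finset (OutForm.Vm Q) :=
      {0, vec Q t, act Q x (vec Q t), vec Q t + act Q x (vec Q t)}
    refine le_trans (Nat.card_le_card_of_injective (fun y : f.range => (⟨y.1.toAdd, ?_⟩ : S))
      fun a b h => Subtype.ext (Multiplicative.toAdd.injective (congrArg Subtype.val h :))) ?_
    · obtain ⟨a, e⟩ := y.2
      rw [← e]
      show vec Q a.1 ∈ S
      rcases a.2.2 with r | r | r | r <;> simp [S, r]
    · rw [Nat.card_eq_fintype_card, Fintype.card_coe]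
      exact Finset.card_le_four
  rw [← f.ker.card_mul_index, Subgroup.index_ker]
  exact le_trans (Nat.mul_le_mul hk hr) (by norm_num)

theorem y_normalizes : g * x * g⁻¹ ∈ Subgroup.normalizer (Vsub Q x s : Set G) := by
  -- the image at the second involution
  have hfull : ∀ b, b ∈ Vsub Q x (g⁻¹ * z * g) → g * b * g⁻¹ ∈ Vsub Q x s := by
    have T1 := T.pt.symm
    have hle : (Vsub Q x s).map (MulAut.conj g⁻¹).toMonoidHom ≤ Vsub Q x (g⁻¹ * z * g) := by
      rintro _ ⟨a, ha, rfl⟩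
      simpa [mul_assoc] using T.symm_line ha
    have hcard : Nat.card (Vsub Q x (g⁻¹ * z * g)) ≤ 8 := card_Vsub_le T.pt.data _ _
    have heq := Subgroup.eq_of_le_of_card_ge hle (by
      rw [Subgroup.card_map_of_injective (MulAut.conj g⁻¹).injective, T.card_Vsub]; exact hcard)
    intro b hb
    rw [← heq] at hb
    obtain ⟨a, ha, rfl⟩ := hb
    simpa [mul_assoc] using ha
  refine Subgroup.mem_normalizer_fintype fun a ha => ?_
  have hb := T.symm_line ha
  obtain ⟨hm, e⟩ := act_vec (Q := Q) T.gen.comm hb.1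
  have h2 : x * (g⁻¹ * a * g) * x⁻¹ ∈ Vsub Q x (g⁻¹ * z * g) :=
    ⟨hm, by rw [← e]; exact (T.pt.symm.line T.gen).inL_n hb.2⟩
  have := hfull _ h2
  rwa [show g * (x * (g⁻¹ * a * g) * x⁻¹) * g⁻¹ = g * x * g⁻¹ * a * (g * x * g⁻¹)⁻¹ by group] at this

/-- The normaliser moves z to s. -/
theorem exists_move : ∃ l ∈ Subgroup.normalizer (Vsub Q x s : Set G), l * z * l⁻¹ = s := by
  have hy := T.y_normalizes
  set y := g * x * g⁻¹ with hydef
  set t := y * z * y⁻¹ with ht
  have htV : t ∈ Vsub Q x s := (Subgroup.mem_normalizer_iff.1 hy z).1 T.z_mem_V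
  have hne : vec Q t ≠ 0 := by
    intro h
    rcases vec_eq_zero T.pt.data htV.1 h with k | k
    · exact T.pt.data.z_ne (by
        have := congrArg (fun w => y⁻¹ * w * y) k
        simpa [ht, mul_assoc] using this)
    · -- y fixes z only if the line of the second involution is a point
      have h1 : (g⁻¹ * z * g) = x * (g⁻¹ * z * g) * x⁻¹ := by
        have := congrArg (fun w => g⁻¹ * w * g) k
        simp only [ht, hydef] at this
        refine this.symm.trans ?_
        group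
      have T1 := T.pt.symm
      have e := (act_vec (Q := Q) T.gen.comm T1.mem).2
      rw [← h1] at e
      exact (T1.line T.gen).nv_ne.2 e
  -- bring its vector to that of s
  obtain ⟨w, hw, hwz, hwv⟩ : ∃ w, w ∈ Subgroup.normalizer (Vsub Q x s : Set G) ∧ w * z = z * w ∧
      vec Q (w * t * w⁻¹) = vec Q s := by
    have hx2 : x * x * z = z * (x * x) := by rw [mul_assoc, T.gen.comm, ← mul_assoc, T.gen.comm, mul_assoc]
    obtain ⟨-, e1⟩ := act_vec (Q := Q) T.gen.comm htV.1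
    obtain ⟨-, e2⟩ := act_vec (Q := Q) hx2 htV.1
    rw [act_mul T.gen.comm T.gen.comm] at e2
    rcases htV.2 with r | r | r | r
    · exact absurd r hne
    · exact ⟨1, one_mem _, by simp, by simpa using r⟩
    · refine ⟨x * x, mul_mem T.x_normalizes T.x_normalizes, hx2, ?_⟩
      rw [← e2, r]
      exact T.line.n_three _
    · refine ⟨x, T.x_normalizes, T.gen.comm, ?_⟩
      rw [← e1, r, ← T.line.n_sum]
      exact T.line.n_three _
  have hl : w * y ∈ Subgroup.normalizer (Vsub Q x s : Set G) := mul_mem hw hy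
  have hlz : w * y * z * (w * y)⁻¹ = w * t * w⁻¹ := by rw [ht]; group
  rcases vec_eq T.pt.data ((Subgroup.mem_normalizer_iff.1 hw t).1 htV).1 T.pt.mem hwv with k | k
  · exact ⟨w * y, hl, hlz.trans k⟩
  obtain ⟨u, hu, hus⟩ := T.pt.data.exists_conj_eq T.pt.mem T.pt.dataR.z_ne T.pt.ne
  refine ⟨u * (w * y), mul_mem (T.Q_normalizes hu) hl, ?_⟩
  calc u * (w * y) * z * (u * (w * y))⁻¹ = u * (w * y * z * (w * y)⁻¹) * u⁻¹ := by group
    _ = (u * s * u⁻¹) * (u * z * u⁻¹) := by rw [hlz, k]; group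
    _ = s * z * z := by rw [hus, QG_comm hu, mul_inv_cancel_right]
    _ = s := by rw [mul_assoc, T.pt.data.z_sq, mul_one]

/-- Products of the kernel falling into Q fall into R and its translate. -/
theorem comm_core {a b : G} (ha : a ∈ T.core) (hb : b ∈ T.core) : ⁅a, b⁆ ∈ Vsub Q x s ∧ a * a ∈ Vsub Q x s := by
  have hQ : ∀ p q : G, p ∈ T.core → q ∈ T.core → ⁅p, q⁆ ∈ QG Q ∧ p * p ∈ QG Q := by
    intro p q hp hq
    have hps := T.line.E_sq _ hp.2
    have hqs := T.line.E_sq _ hq.2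
    refine ⟨(act_eq_one T.pt.ker (T.cent_z (mul_mem (mul_mem (mul_mem hp.1 hq.1) (inv_mem hp.1))
      (inv_mem hq.1)))).1 ?_, (act_eq_one T.pt.ker (T.cent_z (mul_mem hp.1 hp.1))).1 ?_⟩
    · rw [act_mul (T.cent_z (mul_mem (mul_mem hp.1 hq.1) (inv_mem hp.1))) (T.cent_z (inv_mem hq.1)),
        act_mul (T.cent_z (mul_mem hp.1 hq.1)) (T.cent_z (inv_mem hp.1)), act_mul (T.cent_z hp.1) (T.cent_z hq.1),
        act_inv (T.cent_z hp.1), act_inv (T.cent_z hq.1), inv_eq_of_mul_eq_one_left hps,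
        inv_eq_of_mul_eq_one_left hqs]
      have h3 := T.line.E_sq _ (T.line.E_mul _ hp.2 _ hq.2)
      rw [← mul_assoc] at h3
      exact h3
    · rw [act_mul (T.cent_z hp.1) (T.cent_z hp.1)]; exact hps
  obtain ⟨l, hl, hlz⟩ := T.exists_move
  have hlc : Commute (g⁻¹ * l) z := by
    have : l * z * l⁻¹ = g * z * g⁻¹ := hlz.trans T.pt.conj.symm
    calc g⁻¹ * l * z = g⁻¹ * (l * z * l⁻¹) * l := by group
      _ = z * (g⁻¹ * l) := by rw [this]; group
  have toR : ∀ w, l⁻¹ * w * l ∈ QG Q → w ∈ RG Q g := by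
    intro w hw
    have := T.pt.data.norm _ hlc.eq _ hw
    exact mem_conjS.2 (by simpa [mul_assoc] using this)
  have hin : ∀ p q : G, p ∈ T.core → q ∈ T.core → ⁅p, q⁆ ∈ RG Q g ∧ p * p ∈ RG Q g := by
    intro p q hp hq
    have h := hQ _ _ (T.normalizer_core (inv_mem hl) hp) (T.normalizer_core (inv_mem hl) hq)
    simp only [inv_inv] at h
    refine ⟨toR _ ?_, toR _ ?_⟩
    · convert h.1 using 1; simp only [commutatorElement_def]; group
    · convert h.2 using 1; group
  have hx := T.x_normalizes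
  have hax := T.normalizer_core (inv_mem hx) ha
  have hbx := T.normalizer_core (inv_mem hx) hb
  rw [inv_inv] at hax hbx
  obtain ⟨c1, c2⟩ := hQ a b ha hb
  obtain ⟨d1, d2⟩ := hin a b ha hb
  obtain ⟨e1, e2⟩ := hin _ _ hax hbx
  refine ⟨T.inter3 c1 d1 ?_, T.inter3 c2 d2 ?_⟩
  · convert e1 using 1; simp only [commutatorElement_def]; group
  · convert e2 using 1; group

theorem central_core {a : G} (ha : a ∈ T.core) (h : ∀ b ∈ T.core, b * a = a * b) : a ∈ Vsub Q x s := by
  have hperp : ∀ y, QuadraticMap.polar (OutForm.qf Q) y (vec Q s) = 0 →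
      QuadraticMap.polar (OutForm.qf Q) y (act Q x (vec Q s)) = 0 →
      ∃ q ∈ QG Q, q * a = a * q ∧ vec Q q = y := by
    intro y h1 h2
    obtain ⟨q, hq, rfl⟩ := vec_surj y
    exact ⟨q, hq, h q (T.QV_core hq ((T.QV_mem hq).2 ⟨h1, h2⟩)), rfl⟩
  have h1 : act Q a = 1 := T.line.eq_one_of_fix (T.core_E0 ha) fun y y1 y2 => by
    obtain ⟨q, hq, hc, rfl⟩ := hperp y y1 y2
    rw [(act_vec (T.cent_z ha.1) hq).2, ← hc, mul_inv_cancel_right]
  have haQ : a ∈ QG Q := (act_eq_one T.pt.ker (T.cent_z ha.1)).1 h1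
  refine ⟨haQ, T.line.perp_perp fun y y1 y2 => ?_⟩
  obtain ⟨q, hq, hc, rfl⟩ := hperp y y1 y2
  exact (polar_eq_zero haQ hq).2 hc.symm

theorem V_le_core : Vsub Q x s ≤ T.core := by
  intro a ha
  refine T.QV_core ha.1 (Subgroup.mem_centralizer_iff.2 fun b hb => ?_)
  have := T.elementary.1
  exact congrArg Subtype.val (mul_comm' (⟨b, hb⟩ : Vsub Q x s) ⟨a, ha⟩)

/-- z is a commutator in the kernel. -/
theorem exists_comm_z : ∃ a ∈ T.core, ∃ b ∈ T.core, ⁅a, b⁆ = z := by
  obtain ⟨w, hw, hnw⟩ := T.line.exists_not_invariant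
  obtain ⟨w', hw', hne⟩ : ∃ w' ∈ Wsp Q g,
      QuadraticMap.polar (OutForm.qf Q) (act Q x w) w' ≠ 0 := by
    by_contra! h
    exact hnw (mem_of_perp T.line.nd _ T.line.iso T.line.cardW T.line.cardV h)
  have hv := T.line.v_mem
  have hnv := T.line.nv_mem
  obtain ⟨a, ha, ea⟩ := vec_surj (Q := Q) (act Q x w)
  obtain ⟨b, hb, eb⟩ := vec_surj (Q := Q) w'
  have haV : a ∈ T.CV := (T.QV_mem ha).2 (by
    rw [ea]
    exact T.line.perp_n (T.line.iso w hw _ hv) (T.line.iso w hw _ hnv))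
  have hbV : b ∈ T.CV := (T.QV_mem hb).2 (by
    rw [eb]; exact ⟨T.line.iso w' hw' _ hv, T.line.iso w' hw' _ hnv⟩)
  refine ⟨a, T.QV_core ha haV, b, T.QV_core hb hbV, (T.pt.data.comm a ha b hb).resolve_left fun h => hne ?_⟩
  rw [← ea, ← eb]
  exact (polar_eq_zero ha hb).2 (commutatorElement_eq_one_iff_mul_comm.1 h)

theorem core_special : Cfsg.IsSpecial 2 T.core ∧ (Subgroup.center T.core).map T.core.subtype = Vsub Q x s := by
  haveI : Fact (Nat.Prime 2) := ⟨Nat.prime_two⟩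
  have hp := T.core_pGroup
  have hVc : ∀ a : T.core, (a : G) ∈ Vsub Q x s → a ∈ Subgroup.center T.core := fun a ha =>
    Subgroup.mem_center_iff.2 fun b => Subtype.ext ((Subgroup.mem_centralizer_iff.1 b.2.1 _ ha).symm)
  have hcV : ∀ a : T.core, a ∈ Subgroup.center T.core → (a : G) ∈ Vsub Q x s := fun a ha =>
    T.central_core a.2 fun b hb => congrArg Subtype.val (Subgroup.mem_center_iff.1 ha ⟨b, hb⟩)
  have hcomm : commutator T.core ≤ Subgroup.center T.core := by
    rw [commutator_def, Subgroup.commutator_le]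
    intro a _ b _
    refine hVc _ ?_
    exact (T.comm_core a.2 b.2).1
  -- the derived group in G
  set D : Subgroup G := (commutator T.core).map T.core.subtype with hD
  have hDn : ∀ l ∈ Subgroup.normalizer (Vsub Q x s : Set G), ∀ d ∈ D, l * d * l⁻¹ ∈ D := by
    intro l hl d hd
    rw [hD, commutator_def, Subgroup.map_commutator, ← MonoidHom.range_eq_map, Subgroup.range_subtype] at hd ⊢
    have h : (MulAut.conj l).toMonoidHom d ∈ (⁅T.core, T.core⁆).map (MulAut.conj l).toMonoidHom := ⟨d, hd, rfl⟩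
    rw [Subgroup.map_commutator] at h
    have hle : T.core.map (MulAut.conj l).toMonoidHom ≤ T.core := by
      rintro _ ⟨p, hp, rfl⟩; exact T.normalizer_core hl hp
    exact Subgroup.commutator_mono hle hle h
  have hVD : Vsub Q x s ≤ D := by
    obtain ⟨a, ha, b, hb, e⟩ := T.exists_comm_z
    have hz : z ∈ D := ⟨⁅(⟨a, ha⟩ : T.core), ⟨b, hb⟩⁆,
      Subgroup.commutator_mem_commutator (Subgroup.mem_top _) (Subgroup.mem_top _), e⟩
    obtain ⟨l, hl, hlz⟩ := T.exists_move
    have hs : s ∈ D := hlz ▸ hDn l hl z hz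
    have ht : x * s * x⁻¹ ∈ D := hDn x T.x_normalizes s hs
    rw [← T.phi_range]
    rintro _ ⟨p, rfl⟩
    exact mul_mem (mul_mem (pow_mem hz _) (pow_mem hs _)) (pow_mem ht _)
  have heq : commutator T.core = Subgroup.center T.core := by
    refine le_antisymm hcomm fun a ha => ?_
    obtain ⟨b, hb, e⟩ := hVD (hcV a ha)
    exact Subtype.val_injective e ▸ hb
  refine ⟨⟨hp, le_antisymm ?_ (heq ▸ PGroup.commutator_le_frattini hp), heq⟩, ?_⟩
  · refine PGroup.frattini_le_of_quotient_elementary (p := 2) ?_ ?_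
    · exact hcomm
    · intro a; rw [pow_two]; exact hVc _ (T.comm_core a.2 a.2).2
  · ext a
    constructor
    · rintro ⟨b, hb, rfl⟩; exact hcV b hb
    · intro ha; exact ⟨⟨a, T.V_le_core ha⟩, hVc _ ha, rfl⟩

end Tri

end Cfsg.Agent.LargeFischer
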