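/-
The normaliser of the group of order eight modulo the kernel: SL(3, 2) times the alternating group of degree six.

* `Tri.theta`, `Tri.theta_surjective`
* `Tri.core_eq_pCore`
* `Tri.exists_quotient_iso`
-/
import Cfsg.Agent.Lib.LargeFischer.LineCore
import Cfsg.Agent.Lib.Linear.SLn
import Cfsg.Agent.Lib.GLOrder.Basic
import Cfsg.Agent.Lib.PReduced.Basic

set_option autoImplicit false
open scoped commutatorElement

namespace Cfsg.Agent.LargeFischer

open LargeExtraspecial

universe u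

theorem card_sl_three : Nat.card (Matrix.SpecialLinearGroup (Fin 3) (ZMod 2)) = 168 := by
  rw [Cfsg.Agent.GLOrder.card_SL, Nat.card_zmod]; decide

theorem isSimple_sl_three : IsSimpleGroup (Matrix.SpecialLinearGroup (Fin 3) (ZMod 2)) := by
  have hP : Nat.card (Matrix.ProjectiveSpecialLinearGroup (Fin 3) (ZMod 2)) = 168 := by
    rw [Cfsg.Agent.GLOrder.card_PSL, card_sl_three, Nat.card_zmod, Fintype.card_fin]; decide
  have e : Matrix.SpecialLinearGroup (Fin 3) (ZMod 2) ≃*
      Matrix.ProjectiveSpecialLinearGroup (Fin 3) (ZMod 2) :=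
    MulEquiv.ofBijective (QuotientGroup.mk' _) ((Nat.bijective_iff_surjective_and_card _).2
      ⟨QuotientGroup.mk'_surjective _, by rw [card_sl_three]; exact hP.symm⟩)
  haveI : IsSimpleGroup (Matrix.ProjectiveSpecialLinearGroup (Fin 3) (ZMod 2)) :=
    Cfsg.Agent.Linear.isSimpleGroup_psl (by simp)
  exact e.isSimpleGroup

/-- A subgroup of a simple group of order 168 with at least 42 elements is everything. -/
theorem eq_top_of_large {S : Type*} [Group S] [IsSimpleGroup S] [Finite S] (hS : Nat.card S = 168)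
    {P : Subgroup S} (hP : 42 ≤ Nat.card P) : P = ⊤ := by
  have hi : P.index ≤ 4 := by
    have h := P.card_mul_index
    rw [hS] at h
    by_contra hc
    have : 42 * 5 ≤ Nat.card P * P.index := Nat.mul_le_mul hP (by omega)
    omega
  rcases IsSimpleGroup.eq_bot_or_eq_top_of_normal P.normalCore inferInstance with h | h
  · exfalso
    rw [Subgroup.normalCore_eq_ker, MonoidHom.ker_eq_bot_iff] at h
    have := Nat.card_le_card_of_injective _ h
    rw [hS, Nat.card_perm, ← Subgroup.index] at this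
    have h2 : P.index.factorial ≤ (4).factorial := Nat.factorial_le hi
    exact absurd (this.trans h2) (by decide)
  · exact top_le_iff.1 (h ▸ P.normalCore_le)

theorem altSix_centre {a : alternatingGroup (Fin 6)} (h : ∀ b, b * a = a * b) : a = 1 := by
  haveI : IsSimpleGroup (alternatingGroup (Fin 6)) := alternatingGroup.isSimpleGroup (by simp)
  rcases IsSimpleGroup.eq_bot_or_eq_top_of_normal (Subgroup.center (alternatingGroup (Fin 6))) inferInstance
    with k | k
  · exact (Subgroup.eq_bot_iff_forall _).1 k a (Subgroup.mem_center_iff.2 h)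
  · exfalso
    let p : alternatingGroup (Fin 6) :=
      ⟨Equiv.swap 0 1 * Equiv.swap 1 2, Equiv.Perm.mem_alternatingGroup.2 (by decide)⟩
    let q : alternatingGroup (Fin 6) :=
      ⟨Equiv.swap 1 2 * Equiv.swap 2 3, Equiv.Perm.mem_alternatingGroup.2 (by decide)⟩
    have hp : p ∈ Subgroup.center (alternatingGroup (Fin 6)) := k ▸ Subgroup.mem_top p
    have := congrArg Subtype.val (Subgroup.mem_center_iff.1 hp q)
    exact absurd this (by decide)

variable {G : Type u} [Group G] [Finite G] {z : G} {Q : Subgroup (Subgroup.centralizer ({z} : Set G))}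
  [Q.Normal] [hE : Fact (Cfsg.IsExtraspecial 2 Q)] {s g x : G}

namespace Tri

variable (T : Tri Q s g x)
include T

/-- The normaliser of the group of order eight. -/
noncomputable abbrev NV : Subgroup G :=
  let _ := T
  Subgroup.normalizer (Vsub Q x s : Set G)

theorem CV_le : T.CV ≤ T.NV := Subgroup.centralizer_le_normalizer _

theorem core_le_NV : T.core ≤ T.NV := fun _ h => T.CV_le (T.core_le h)

/-- Coordinates of the group. -/
noncomputable def coord : Multiplicative (Fin 3 → ZMod 2) ≃* Vsub Q x s :=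
  (MonoidHom.ofInjective T.phi_injective).trans (MulEquiv.subgroupCongr T.phi_range)

/-- Conjugation in coordinates. -/
noncomputable def lin (l : T.NV) : (Fin 3 → ZMod 2) →ₗ[ZMod 2] (Fin 3 → ZMod 2) :=
  AddMonoidHom.toZModLinearMap 2
    (AddMonoidHom.mk' (fun v => (T.coord.symm ((Vsub Q x s).normalizerMonoidHom l
      (T.coord (Multiplicative.ofAdd v)))).toAdd)
      fun a b => by rw [ofAdd_add, map_mul, map_mul, map_mul, toAdd_mul])

theorem lin_apply (l : T.NV) (v : Fin 3 → ZMod 2) :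
    T.lin l v = (T.coord.symm ((Vsub Q x s).normalizerMonoidHom l (T.coord (Multiplicative.ofAdd v)))).toAdd :=
  rfl

theorem lin_mul (a b : T.NV) : T.lin (a * b) = T.lin a ∘ₗ T.lin b := by
  refine LinearMap.ext fun v => ?_
  rw [LinearMap.comp_apply, lin_apply, lin_apply, lin_apply, ofAdd_toAdd, MulEquiv.apply_symm_apply, map_mul]
  rfl

theorem lin_one : T.lin 1 = LinearMap.id := by
  refine LinearMap.ext fun v => ?_
  rw [lin_apply, map_one]
  simp

/-- The action on the group of order eight. -/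
noncomputable def theta : T.NV →* Matrix.SpecialLinearGroup (Fin 3) (ZMod 2) :=
  MonoidHom.mk' (fun l => ⟨LinearMap.toMatrix' (T.lin l), by
      have h : LinearMap.toMatrix' (T.lin l) * LinearMap.toMatrix' (T.lin l⁻¹) = 1 := by
        rw [← LinearMap.toMatrix'_comp, ← T.lin_mul, mul_inv_cancel, T.lin_one, LinearMap.toMatrix'_id]
      have h2 := congrArg Matrix.det h
      rw [Matrix.det_mul, Matrix.det_one] at h2
      rcases two_cases' (Matrix.det (LinearMap.toMatrix' (T.lin l))) with k | k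
      · rw [k, zero_mul] at h2; exact absurd h2 zero_ne_one
      · exact k⟩) fun a b => Subtype.ext (by
    show LinearMap.toMatrix' (T.lin (a * b)) = _
    rw [T.lin_mul, LinearMap.toMatrix'_comp]
    rfl)

theorem theta_ker {l : T.NV} : T.theta l = 1 ↔ (l : G) ∈ T.CV := by
  have h0 : T.theta l = 1 ↔ T.lin l = LinearMap.id := by
    constructor
    · intro h
      have h' : LinearMap.toMatrix' (T.lin l) = 1 := congrArg Subtype.val h
      rwa [← LinearMap.toMatrix'_id, EmbeddingLike.apply_eq_iff_eq] at h'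
    · intro h
      refine Subtype.ext ?_
      show LinearMap.toMatrix' (T.lin l) = 1
      rw [h, LinearMap.toMatrix'_id]
  rw [h0]
  have hk : (l : G) ∈ T.CV ↔ (Vsub Q x s).normalizerMonoidHom l = 1 := by
    rw [← MonoidHom.mem_ker, Subgroup.normalizerMonoidHom_ker, Subgroup.mem_subgroupOf]
  rw [hk]
  constructor
  · intro h
    refine MulEquiv.ext fun a => ?_
    obtain ⟨p, rfl⟩ := T.coord.surjective a
    have := LinearMap.congr_fun h p.toAdd
    rw [lin_apply, ofAdd_toAdd, LinearMap.id_apply] at this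
    exact T.coord.symm.injective (by rw [MulAut.one_apply, MulEquiv.symm_apply_apply]; exact Multiplicative.toAdd.injective this)
  · intro h
    refine LinearMap.ext fun v => ?_
    rw [lin_apply, h]
    simp

theorem theta_eq_iff {l m : T.NV} : T.theta l = T.theta m ↔ (l : G)⁻¹ * m ∈ T.CV := by
  rw [← inv_mul_eq_one, ← map_inv, ← map_mul, T.theta_ker]
  rfl

/-- Elements outside the centre of Q are reached from s inside the centraliser of z. -/
theorem move_s {a : G} (ha : a ∈ Vsub Q x s) (h0 : vec Q a ≠ 0) :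
    ∃ w ∈ T.NV, w * z = z * w ∧ w * s * w⁻¹ = a := by
  have hx2 : x * x * z = z * (x * x) := by rw [mul_assoc, T.gen.comm, ← mul_assoc, T.gen.comm, mul_assoc]
  obtain ⟨w, hw, hwz, hwm, hwv⟩ : ∃ w ∈ T.NV, w * z = z * w ∧ w * s * w⁻¹ ∈ QG Q ∧
      vec Q a = vec Q (w * s * w⁻¹) := by
    rcases ha.2 with r | r | r | r
    · exact absurd r h0
    · exact ⟨1, one_mem _, by simp, by simpa using T.pt.mem, by simpa using r⟩
    · exact ⟨x, T.x_normalizes, T.gen.comm, T.s1_mem, by rw [r, T.vec_s1]⟩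
    · have e : x * x * s * (x * x)⁻¹ = s * (x * s * x⁻¹) := by rw [← T.s2_eq]; group
      exact ⟨x * x, mul_mem T.x_normalizes T.x_normalizes, hx2, by rw [e]; exact mul_mem T.pt.mem T.s1_mem,
        by rw [r, e, vec_mul T.pt.mem T.s1_mem, T.vec_s1]⟩
  rcases vec_eq T.pt.data ha.1 hwm hwv with k | k
  · exact ⟨w, hw, hwz, k.symm⟩
  obtain ⟨u, hu, hus⟩ := T.pt.data.exists_conj_eq T.pt.mem T.pt.dataR.z_ne T.pt.ne
  refine ⟨w * u, mul_mem hw (T.Q_normalizes hu), by rw [mul_assoc, QG_comm hu, ← mul_assoc, hwz, mul_assoc], ?_⟩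
  calc w * u * s * (w * u)⁻¹ = w * (u * s * u⁻¹) * w⁻¹ := by group
    _ = w * s * w⁻¹ * (w * z * w⁻¹) := by rw [hus]; group
    _ = a := by rw [hwz, mul_inv_cancel_right, k]

theorem move_z {a : G} (ha : a ∈ Vsub Q x s) (h1 : a ≠ 1) : ∃ l ∈ T.NV, l * z * l⁻¹ = a := by
  by_cases h0 : vec Q a = 0
  · exact ⟨1, one_mem _, by simpa using ((vec_eq_zero T.pt.data ha.1 h0).resolve_left h1).symm⟩
  obtain ⟨w, hw, -, hws⟩ := T.move_s ha h0
  obtain ⟨l, hl, hlz⟩ := T.exists_move
  exact ⟨w * l, mul_mem hw hl, by rw [← hws, ← hlz]; group⟩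

theorem move_pair {a b : G} (ha : a ∈ Vsub Q x s) (hb : b ∈ Vsub Q x s) (h1 : a ≠ 1) (h2 : b ≠ 1) (h3 : b ≠ a) :
    ∃ l ∈ T.NV, l * z * l⁻¹ = a ∧ l * s * l⁻¹ = b := by
  obtain ⟨l, hl, rfl⟩ := T.move_z ha h1
  have hb' : l⁻¹ * b * l ∈ Vsub Q x s := (Subgroup.mem_normalizer_iff''.1 hl b).1 hb
  have h0 : vec Q (l⁻¹ * b * l) ≠ 0 := by
    intro h
    rcases vec_eq_zero T.pt.data hb'.1 h with k | k
    · exact h2 (by rw [show b = l * (l⁻¹ * b * l) * l⁻¹ by group, k]; simp)
    · exact h3 (by rw [show b = l * (l⁻¹ * b * l) * l⁻¹ by group, k])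
  obtain ⟨w, hw, hwz, hws⟩ := T.move_s hb' h0
  refine ⟨l * w, mul_mem hl hw, ?_, ?_⟩
  · calc l * w * z * (l * w)⁻¹ = l * (w * z * w⁻¹) * l⁻¹ := by group
      _ = l * z * l⁻¹ := by rw [hwz, mul_inv_cancel_right]
  · calc l * w * s * (l * w)⁻¹ = l * (w * s * w⁻¹) * l⁻¹ := by group
      _ = b := by rw [hws]; group

theorem theta_range_card : 42 ≤ Nat.card T.theta.range := by
  classical
  let M := Multiplicative (Fin 3 → ZMod 2)
  let Pairs := {p : M × M // p.1 ≠ 1 ∧ p.2 ≠ 1 ∧ p.2 ≠ p.1}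
  have hc : Nat.card Pairs = 42 := by
    rw [Nat.card_eq_fintype_card]
    decide
  have hex : ∀ p : Pairs, ∃ l : T.NV, (l : G) * z * (l : G)⁻¹ = T.coord p.1.1 ∧
      (l : G) * s * (l : G)⁻¹ = T.coord p.1.2 := by
    intro p
    have ne : ∀ q : M, q ≠ 1 → (T.coord q : G) ≠ 1 := fun q hq e =>
      hq (T.coord.injective (Subtype.ext (by rw [map_one]; exact e)))
    obtain ⟨l, hl, e1, e2⟩ := T.move_pair (T.coord p.1.1).2 (T.coord p.1.2).2 (ne _ p.2.1) (ne _ p.2.2.1)
      fun e => p.2.2.2 (T.coord.injective (Subtype.ext e))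
    exact ⟨⟨l, hl⟩, e1, e2⟩
  choose f hf1 hf2 using hex
  rw [← hc]
  refine Nat.card_le_card_of_injective (fun p => (⟨T.theta (f p), _, rfl⟩ : T.theta.range)) fun p q h => ?_
  have h' := T.centralizer_iff.1 (T.theta_eq_iff.1 (congrArg Subtype.val h))
  have key : ∀ a : G, (f p : G)⁻¹ * f q * a = a * ((f p : G)⁻¹ * f q) →
      (f q : G) * a * (f q : G)⁻¹ = f p * a * (f p : G)⁻¹ := fun a ha => by
    calc (f q : G) * a * (f q : G)⁻¹ = f p * ((f p : G)⁻¹ * f q * a) * (f q : G)⁻¹ := by group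
      _ = _ := by rw [ha]; group
  have k1 := key z h'.1
  have k2 := key s h'.2.1
  rw [hf1, hf1] at k1
  rw [hf2, hf2] at k2
  exact Subtype.ext (Prod.ext (T.coord.injective (Subtype.ext k1.symm)) (T.coord.injective (Subtype.ext k2.symm)))

theorem theta_surjective : Function.Surjective T.theta := by
  haveI := isSimple_sl_three
  exact MonoidHom.range_eq_top.1 (eq_top_of_large card_sl_three T.theta_range_card)

theorem core_normal : (T.core.subgroupOf T.NV).Normal :=
  ⟨fun _ ha l => T.normalizer_core l.2 ha⟩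

/-- The kernel is the largest normal two-subgroup of the normaliser. -/
theorem core_eq_pCore : T.core = (Cfsg.pCore 2 T.NV).map T.NV.subtype := by
  haveI := isSimple_sl_three
  haveI : Fact (Nat.Prime 2) := ⟨Nat.prime_two⟩
  haveI := PReduced.pCore_normal 2 T.NV
  have hP : IsPGroup 2 (Cfsg.pCore 2 T.NV) := PReduced.isPGroup_pCore 2
  refine le_antisymm (fun c hc => ⟨⟨c, T.core_le_NV hc⟩,
    PReduced.le_pCore T.core_normal (T.core_pGroup.comap_of_injective T.NV.subtype Subtype.val_injective) hc,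
    rfl⟩) ?_
  have htriv : (Cfsg.pCore 2 T.NV).map T.theta = ⊥ := by
    rcases IsSimpleGroup.eq_bot_or_eq_top_of_normal _
      (Subgroup.Normal.map (PReduced.pCore_normal 2 T.NV) T.theta T.theta_surjective) with h | h
    · exact h
    · exfalso
      obtain ⟨k, hk⟩ := IsPGroup.iff_card.1 (hP.map T.theta)
      rw [h, Subgroup.card_top, card_sl_three] at hk
      have := Nat.prime_three.dvd_of_dvd_pow (show 3 ∣ 2 ^ k from ⟨56, by rw [← hk]⟩)
      omega
  refine T.le_core (hP.map _) ?_ ?_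
  · rintro _ ⟨l, hl, rfl⟩
    exact T.theta_ker.1 ((Subgroup.mem_bot).1 (htriv ▸ ⟨l, hl, rfl⟩))
  · rintro c hc _ ⟨l, hl, rfl⟩
    exact ⟨⟨c, T.CV_le hc⟩ * l * ⟨c, T.CV_le hc⟩⁻¹,
      Subgroup.Normal.conj_mem (PReduced.pCore_normal 2 T.NV) l hl _, rfl⟩

/-- The quotient is the product. -/
theorem exists_quotient_iso [hn : (T.core.subgroupOf T.NV).Normal] :
    Nonempty (T.NV ⧸ T.core.subgroupOf T.NV ≃*
      Matrix.SpecialLinearGroup (Fin 3) (ZMod 2) × alternatingGroup (Fin 6)) := by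
  classical
  haveI := isSimple_sl_three
  obtain ⟨f, hf, hker⟩ := T.exists_six
  set π := QuotientGroup.mk' (T.core.subgroupOf T.NV) with hπ
  let Bh : T.CV →* T.NV ⧸ T.core.subgroupOf T.NV := π.comp (Subgroup.inclusion T.CV_le)
  have hBh : ∀ c, Bh c = 1 ↔ (c : G) ∈ T.core := fun c => QuotientGroup.eq_one_iff _
  let iB : alternatingGroup (Fin 6) →* T.NV ⧸ T.core.subgroupOf T.NV :=
    f.liftOfSurjective hf ⟨Bh, fun c hc => (hBh c).2 ((hker c).1 hc)⟩
  have hiB : ∀ c, iB (f c) = Bh c := fun c => MonoidHom.liftOfRightInverse_comp_apply _ _ _ _ c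
  have hiBinj : Function.Injective iB := by
    refine (injective_iff_map_eq_one iB).2 fun a ha => ?_
    obtain ⟨c, rfl⟩ := hf a
    rw [hiB, hBh] at ha
    exact (hker c).2 ha
  let θ := QuotientGroup.lift (T.core.subgroupOf T.NV) T.theta fun l hl => T.theta_ker.2 (T.core_le hl)
  have hθsurj : Function.Surjective θ := fun y => by
    obtain ⟨l, rfl⟩ := T.theta_surjective y
    exact ⟨π l, rfl⟩
  have hθB : ∀ a, θ (iB a) = 1 := fun a => by
    obtain ⟨c, rfl⟩ := hf a
    rw [hiB]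
    exact T.theta_ker.2 c.2
  have hkerθ : ∀ y, θ y = 1 → y ∈ iB.range := fun y hy => by
    obtain ⟨l, rfl⟩ := QuotientGroup.mk'_surjective _ y
    exact ⟨f ⟨l, T.theta_ker.1 hy⟩, by rw [hiB]; rfl⟩
  have hrange : iB.range = θ.ker := le_antisymm (by rintro _ ⟨a, rfl⟩; exact hθB a) hkerθ
  haveI : iB.range.Normal := hrange ▸ inferInstance
  set C := Subgroup.centralizer (iB.range : Set (T.NV ⧸ T.core.subgroupOf T.NV)) with hC
  haveI : C.Normal := Subgroup.normal_centralizer
  -- Q moves s and centralises the alternating part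
  obtain ⟨u, hu, hus⟩ := T.pt.data.exists_conj_eq T.pt.mem T.pt.dataR.z_ne T.pt.ne
  set u' : T.NV := ⟨u, T.Q_normalizes hu⟩ with hu'
  have huC : π u' ∈ C := by
    refine Subgroup.mem_centralizer_iff.2 ?_
    rintro _ ⟨a, rfl⟩
    obtain ⟨c, rfl⟩ := hf a
    rw [hiB]
    refine QuotientGroup.eq.2 (Subgroup.mem_subgroupOf.2 ?_)
    show ((c : G) * u)⁻¹ * (u * c) ∈ T.core
    have h1 : ((c : G) * u)⁻¹ * (u * c) ∈ QG Q := by
      have := T.pt.data.norm (c : G)⁻¹ (Commute.inv_left (show Commute (c : G) z from T.cent_z c.2)).eq u hu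
      rw [inv_inv] at this
      rw [show ((c : G) * u)⁻¹ * (u * c) = u⁻¹ * ((c : G)⁻¹ * u * c) by group]
      exact mul_mem (inv_mem hu) this
    refine T.QV_core h1 ?_
    rw [show ((c : G) * u)⁻¹ * (u * c) = u⁻¹ * (c : G)⁻¹ * u⁻¹⁻¹ * c by group]
    exact mul_mem (T.normalizer_cent (inv_mem u'.2) (inv_mem c.2)) c.2
  have hune : θ (π u') ≠ 1 := fun h => by
    have h2 := (T.centralizer_iff.1 (T.theta_ker.1 (show T.theta u' = 1 from h))).2.1
    rw [show (u' : G) = u from rfl] at h2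
    rw [h2, mul_inv_cancel_right] at hus
    exact T.pt.data.z_ne (left_eq_mul.1 hus)
  have hCtop : C.map θ = ⊤ := by
    rcases IsSimpleGroup.eq_bot_or_eq_top_of_normal _ (Subgroup.Normal.map ‹C.Normal› θ hθsurj) with h | h
    · exact absurd ((Subgroup.mem_bot).1 (h ▸ ⟨_, huC, rfl⟩)) hune
    · exact h
  have hinf : ∀ c ∈ C, θ c = 1 → c = 1 := by
    intro c hc h
    obtain ⟨a, rfl⟩ := hkerθ c h
    rw [altSix_centre (a := a) fun b => hiBinj (by
      rw [map_mul, map_mul]; exact Subgroup.mem_centralizer_iff.1 hc _ ⟨b, rfl⟩), map_one]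
  let eC : C ≃* Matrix.SpecialLinearGroup (Fin 3) (ZMod 2) := MulEquiv.ofBijective (θ.comp C.subtype)
    ⟨(injective_iff_map_eq_one _).2 fun c h => Subtype.ext (hinf c.1 c.2 h), fun y => by
      obtain ⟨c, hc, e⟩ := (hCtop.symm ▸ Subgroup.mem_top y : y ∈ C.map θ)
      exact ⟨⟨c, hc⟩, e⟩⟩
  have hcomm : ∀ (a : Matrix.SpecialLinearGroup (Fin 3) (ZMod 2)) (b : alternatingGroup (Fin 6)),
      Commute ((C.subtype.comp eC.symm.toMonoidHom) a) (iB b) := fun a b =>
    (Subgroup.mem_centralizer_iff.1 (eC.symm a).2 _ ⟨b, rfl⟩).symm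
  have hθC : ∀ a, θ ((C.subtype.comp eC.symm.toMonoidHom) a) = a := fun a => eC.apply_symm_apply a
  refine ⟨(MulEquiv.ofBijective (MonoidHom.noncommCoprod (C.subtype.comp eC.symm.toMonoidHom) iB hcomm)
    ⟨(injective_iff_map_eq_one _).2 ?_, ?_⟩).symm⟩
  · rintro ⟨a, b⟩ h
    rw [MonoidHom.noncommCoprod_apply] at h
    have ha : a = 1 := by
      have := congrArg θ h
      rwa [map_mul, hθC, hθB, mul_one, map_one] at this
    subst ha
    rw [map_one, one_mul] at h
    rw [(injective_iff_map_eq_one iB).1 hiBinj b h]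
    rfl
  · intro y
    obtain ⟨b, hb⟩ := hkerθ (((C.subtype.comp eC.symm.toMonoidHom) (θ y))⁻¹ * y) (by
      rw [map_mul, map_inv, hθC, inv_mul_cancel])
    exact ⟨(θ y, b), by rw [MonoidHom.noncommCoprod_apply, hb, mul_inv_cancel_left]⟩

end Tri

end Cfsg.Agent.LargeFischer
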