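/-
Preparations for the centraliser of the element of order three.

* `exists_three`, `exists_stable_triple`, `eq_bot_of_lifts`
-/
import Cfsg.Agent.Lib.LargeFischer.SixBasic

set_option autoImplicit false
open Cfsg
open scoped commutatorElement

namespace Cfsg.Agent.LargeFischer

open LargeExtraspecial

universe u

theorem card_comap_ker {A B : Type*} [Group A] [Group B] (f : A →* B) {S : Subgroup B} (h : S ≤ f.range) :
    Nat.card (S.comap f) = Nat.card f.ker * Nat.card S := by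
  let r : S.comap f →* S := (f.comp (S.comap f).subtype).codRestrict S fun a => a.2
  have hr : Function.Surjective r := fun b => by
    obtain ⟨a, ha⟩ := h b.2
    exact ⟨⟨a, by rw [Subgroup.mem_comap, ha]; exact b.2⟩, Subtype.ext ha⟩
  have hk : Nat.card r.ker = Nat.card f.ker := Nat.card_congr
    { toFun := fun x => ⟨x.1.1, congrArg Subtype.val x.2⟩
      invFun := fun x => ⟨⟨x.1, by rw [Subgroup.mem_comap, MonoidHom.mem_ker.1 x.2]; exact one_mem S⟩,
        Subtype.ext (MonoidHom.mem_ker.1 x.2)⟩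
      left_inv := fun _ => rfl
      right_inv := fun _ => rfl }
  rw [← hk, ← r.ker.card_mul_index, Subgroup.index_ker, MonoidHom.range_eq_top.2 hr, Subgroup.card_top]

theorem zpowers_three {A : Type*} [Group A] {n : A} (hn : orderOf n = 3) {a : A} (ha : a ∈ Subgroup.zpowers n) :
    a = 1 ∨ a = n ∨ a = n⁻¹ := by
  obtain ⟨k, rfl⟩ := Subgroup.mem_zpowers_iff.1 ha
  have h3 : n ^ 3 = 1 := hn ▸ pow_orderOf_eq_one n
  rw [zpow_eq_zpow_emod k (show n ^ ((3 : ℕ) : ℤ) = 1 by rw [zpow_natCast]; exact h3)]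
  have : k % ((3 : ℕ) : ℤ) = 0 ∨ k % ((3 : ℕ) : ℤ) = 1 ∨ k % ((3 : ℕ) : ℤ) = 2 := by omega
  rcases this with e | e | e <;> rw [e]
  · exact Or.inl (zpow_zero n)
  · exact Or.inr (Or.inl (zpow_one n))
  · refine Or.inr (Or.inr (eq_inv_of_mul_eq_one_left ?_))
    rw [show (2 : ℤ) = ((2 : ℕ) : ℤ) from rfl, zpow_natCast, ← pow_succ, h3]

/-- Commutators centralise an element that every conjugation fixes or inverts. -/
theorem comm_commute {A : Type*} [Group A] {n a b : A} (ha : a * n * a⁻¹ = n ∨ a * n * a⁻¹ = n⁻¹)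
    (hb : b * n * b⁻¹ = n ∨ b * n * b⁻¹ = n⁻¹) : ⁅a, b⁆ * n = n * ⁅a, b⁆ := by
  have inv' : ∀ c : A, (c * n * c⁻¹ = n ∨ c * n * c⁻¹ = n⁻¹) →
      (MulAut.conj c⁻¹) n = (MulAut.conj c) n := by
    intro c hc
    apply (MulAut.conj c).injective
    show c * (c⁻¹ * n * c⁻¹⁻¹) * c⁻¹ = c * (c * n * c⁻¹) * c⁻¹
    rw [show c * (c⁻¹ * n * c⁻¹⁻¹) * c⁻¹ = n by group]
    rcases hc with h | h <;> rw [h]
    · exact h.symm
    · rw [show c * n⁻¹ * c⁻¹ = (c * n * c⁻¹)⁻¹ by group, h, inv_inv]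
  have e : MulAut.conj ⁅a, b⁆ n = n := by
    rw [commutatorElement_def, map_mul, map_mul, map_mul, MulAut.mul_apply, MulAut.mul_apply, MulAut.mul_apply,
      inv' b hb]
    rcases hb with hb | hb <;> rcases ha with ha | ha <;>
      simp [MulAut.conj_apply, hb, ha, show ∀ c : A, c * n⁻¹ * c⁻¹ = (c * n * c⁻¹)⁻¹ from fun c => by group,
        show a⁻¹ * n * a = (MulAut.conj a) n from by
          have := inv' a (by first | exact Or.inl ha | exact Or.inr ha)
          simpa [MulAut.conj_apply] using this,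
        show a⁻¹ * n⁻¹ * a = ((MulAut.conj a) n)⁻¹ from by
          have := inv' a (by first | exact Or.inl ha | exact Or.inr ha)
          rw [← this]; simp [MulAut.conj_apply, mul_assoc]]
  rw [MulAut.conj_apply] at e
  exact mul_inv_eq_iff_eq_mul.1 e

/-- Commutators fix an element that every conjugation moves only by a fixed central involution. -/
theorem comm_fix {A : Type*} [Group A] {s z a b : A} (hz : z * z = 1) (haz : a * z = z * a) (hbz : b * z = z * b)
    (ha : a * s * a⁻¹ = s ∨ a * s * a⁻¹ = s * z) (hb : b * s * b⁻¹ = s ∨ b * s * b⁻¹ = s * z) :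
    ⁅a, b⁆ * s = s * ⁅a, b⁆ := by
  have conjz : ∀ c : A, c * z = z * c → (MulAut.conj c) z = z ∧ (MulAut.conj c⁻¹) z = z := fun c hc =>
    ⟨by rw [MulAut.conj_apply, hc, mul_inv_cancel_right],
      by rw [MulAut.conj_apply, inv_inv, mul_assoc, ← hc, inv_mul_cancel_left]⟩
  have step : ∀ c : A, c * z = z * c → (c * s * c⁻¹ = s ∨ c * s * c⁻¹ = s * z) →
      (MulAut.conj c⁻¹) s = (MulAut.conj c) s := by
    intro c hc h
    apply (MulAut.conj c).injective
    rw [← MulAut.mul_apply, ← map_mul, mul_inv_cancel, map_one, MulAut.one_apply]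
    show s = (MulAut.conj c) (c * s * c⁻¹)
    rcases h with h | h <;> rw [h]
    · rw [MulAut.conj_apply, h]
    · rw [map_mul, (conjz c hc).1, MulAut.conj_apply, h, mul_assoc, hz, mul_one]
  have e : MulAut.conj ⁅a, b⁆ s = s := by
    rw [commutatorElement_def, map_mul, map_mul, map_mul, MulAut.mul_apply, MulAut.mul_apply, MulAut.mul_apply,
      step b hbz hb]
    have za := conjz a haz
    have zb := conjz b hbz
    have sa := step a haz ha
    have ha' : (MulAut.conj a) s = s ∨ (MulAut.conj a) s = s * z := ha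
    have hb' : (MulAut.conj b) s = s ∨ (MulAut.conj b) s = s * z := hb
    rcases ha' with ha' | ha' <;> rcases hb' with hb' | hb' <;>
      simp only [sa, ha', hb', map_mul, za.1, za.2, zb.1, zb.2, mul_assoc, hz, mul_one]
  rw [MulAut.conj_apply] at e
  exact mul_inv_eq_iff_eq_mul.1 e

theorem alt_six_perfect : commutator (alternatingGroup (Fin 6)) = ⊤ := by
  haveI : IsSimpleGroup (alternatingGroup (Fin 6)) := alternatingGroup.isSimpleGroup (by simp)
  rcases (inferInstance : (commutator (alternatingGroup (Fin 6))).Normal).eq_bot_or_eq_top with h | h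
  · exfalso
    let a : alternatingGroup (Fin 6) := ⟨Equiv.swap 0 1 * Equiv.swap 1 2, by rw [Equiv.Perm.mem_alternatingGroup]; decide⟩
    let b : alternatingGroup (Fin 6) := ⟨Equiv.swap 0 1 * Equiv.swap 2 3, by rw [Equiv.Perm.mem_alternatingGroup]; decide⟩
    have := Subgroup.commutator_mem_commutator (H₁ := (⊤ : Subgroup (alternatingGroup (Fin 6)))) (H₂ := ⊤)
      (Subgroup.mem_top a) (Subgroup.mem_top b)
    rw [show (⁅(⊤ : Subgroup (alternatingGroup (Fin 6))), (⊤ : Subgroup (alternatingGroup (Fin 6)))⁆ : Subgroup (alternatingGroup (Fin 6))) = ⊥ from h, Subgroup.mem_bot, commutatorElement_eq_one_iff_mul_comm] at this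
    exact absurd (congrArg Subtype.val this) (by decide)
  · exact h

variable {G : Type u} [Group G] [Finite G] {z : G} {Q : Subgroup (Subgroup.centralizer ({z} : Set G))}
  [Q.Normal] [Fact (Cfsg.IsExtraspecial 2 Q)]
variable (hF : Cfsg.IsOfLargeFischerTypeAt z Q)
include hF

/-- What a generator of the subgroup of order three satisfies. -/
theorem exists_three (X : Subgroup (Subgroup.centralizer ({z} : Set G))) (hX : Nat.card X = 3) (hXQ : (X ⊔ Q).Normal) :
    ∃ x : Subgroup.centralizer ({z} : Set G), orderOf x = 3 ∧ Subgroup.zpowers x = X ∧ orderOf (toGL Q x) = 3 ∧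
      (∀ γ ∈ (toGL Q).range, γ * toGL Q x * γ⁻¹ = toGL Q x ∨ γ * toGL Q x * γ⁻¹ = (toGL Q x)⁻¹) ∧
      (∀ N : Subgroup (Subgroup.centralizer ({z} : Set G)),
        (∀ P : Subgroup (Subgroup.centralizer ({z} : Set G)), P.Normal → Q ≤ P → Nat.card P = 3 * Nat.card Q → P = N) →
        (Subgroup.zpowers (toGL Q x)).comap (toGL Q) = N) := by
  classical
  have hker := (exists_frame hF).1
  haveI : Fact (Nat.Prime 3) := ⟨Nat.prime_three⟩
  obtain ⟨⟨x, hxX⟩, hx⟩ := exists_prime_orderOf_dvd_card' (G := X) 3 (by rw [hX])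
  have hxo : orderOf x = 3 := (Subgroup.orderOf_mk x hxX).symm.trans hx
  have hzp : Subgroup.zpowers x = X :=
    Subgroup.eq_of_le_of_card_ge (Subgroup.zpowers_le.2 hxX) (by rw [Nat.card_zpowers, hxo, hX])
  have hn1 : toGL Q x ≠ 1 := by
    intro e
    have hxQ : x ∈ Q := by rw [← hker]; exact e
    obtain ⟨k, hk⟩ := (Fact.out : Cfsg.IsExtraspecial 2 Q).1.1 ⟨x, hxQ⟩
    have h1 := orderOf_dvd_of_pow_eq_one (congrArg Subtype.val hk)
    rw [hxo] at h1
    exact absurd (Nat.prime_three.dvd_of_dvd_pow h1) (by norm_num)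
  have hno : orderOf (toGL Q x) = 3 := orderOf_eq_prime (by rw [← map_pow, ← hxo, pow_orderOf_eq_one, map_one]) hn1
  have hmap : (X ⊔ Q).map (toGL Q) = Subgroup.zpowers (toGL Q x) := by
    rw [Subgroup.map_sup, ← hzp, MonoidHom.map_zpowers, (Subgroup.map_eq_bot_iff Q).2 hker.ge, sup_bot_eq]
  have hconj : ∀ γ ∈ (toGL Q).range, γ * toGL Q x * γ⁻¹ ∈ Subgroup.zpowers (toGL Q x) := by
    rintro _ ⟨c, rfl⟩
    rw [← hmap, ← map_inv, ← map_mul, ← map_mul]
    exact Subgroup.mem_map_of_mem _ (hXQ.conj_mem x (Subgroup.mem_sup_left hxX) c)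
  refine ⟨x, hxo, hzp, hno, fun γ hγ => ?_, fun N huni => ?_⟩
  · exact (zpowers_three hno (hconj γ hγ)).resolve_left fun e => hn1 (conj_eq_one_iff.1 e)
  · have e : X ⊔ Q = (Subgroup.zpowers (toGL Q x)).comap (toGL Q) := by
      rw [← hmap, Subgroup.comap_map_eq, hker, sup_assoc, sup_idem]
    rw [← e]
    refine huni _ hXQ le_sup_right ?_
    rw [e, card_comap_ker _ (Subgroup.zpowers_le.2 ⟨x, rfl⟩), Nat.card_zpowers, hno, hker, mul_comm]

/-- A conjugate in Q whose three translates multiply to one. -/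
theorem exists_stable_triple {x : Subgroup.centralizer ({z} : Set G)} (hx3 : x ^ 3 = 1)
    (hno : orderOf (toGL Q x) = 3)
    (hnorm : ∀ γ ∈ (toGL Q).range, γ * toGL Q x * γ⁻¹ ∈ Subgroup.zpowers (toGL Q x))
    (hfpf : ∀ v, toGL Q x v = v → v = 0) :
    ∃ (g : G) (s : Q) (y : Subgroup.centralizer ({z} : Set G)),
      (y = x ∨ y = x⁻¹) ∧ ((s : Subgroup.centralizer ({z} : Set G)) : G) = g * z * g⁻¹ ∧ g * z * g⁻¹ ≠ z ∧
      z ∈ conjS g (Q.map (Subgroup.centralizer ({z} : Set G)).subtype) ∧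
      (y : G) * (g * z * g⁻¹) * (y : G)⁻¹ ∈ conjS g (Q.map (Subgroup.centralizer ({z} : Set G)).subtype) ∧
      (g * z * g⁻¹) * ((y : G) * (g * z * g⁻¹) * (y : G)⁻¹) * ((y : G) * (y : G) * (g * z * g⁻¹) * ((y : G) * (y : G))⁻¹) = 1 := by
  classical
  have D := data_of_type hF
  have hQc : Nat.card (Q.map (Subgroup.centralizer ({z} : Set G)).subtype) = 2 ^ 13 := by
    rw [Subgroup.card_subtype]; exact hF.1.2.2.2.1
  obtain ⟨g₀, ⟨hq, hqQ⟩, hsz₀⟩ := hF.1.2.2.2.2
  let s₀ : Q := ⟨_, hqQ⟩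
  have hs₀Q : g₀ * z * g₀⁻¹ ∈ Q.map (Subgroup.centralizer ({z} : Set G)).subtype := ⟨_, hqQ, rfl⟩
  have hzR : z ∈ conjS g₀ (Q.map (Subgroup.centralizer ({z} : Set G)).subtype) :=
    D.mem_conj hs₀Q hsz₀ (by rw [hQc]; norm_num)
  obtain ⟨m, P, hm, hA, -⟩ := exists_point_at hF (n := toGL Q x) ⟨x, rfl⟩ hno hnorm (g := g₀) (s := s₀) rfl hsz₀
  -- the generator moving the vector into the subgroup
  obtain ⟨y, hy, hym⟩ : ∃ y : Subgroup.centralizer ({z} : Set G), (y = x ∨ y = x⁻¹) ∧ toGL Q y = m ^ 2 := by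
    have hm' : m ^ 2 ∈ Subgroup.zpowers (toGL Q x) := by rw [← hm]; exact pow_mem (Subgroup.mem_zpowers m) 2
    have hm1 : m ^ 2 ≠ 1 := by
      intro e
      have h1 := orderOf_dvd_of_pow_eq_one e
      rw [← Nat.card_zpowers, hm, Nat.card_zpowers, hno] at h1
      norm_num at h1
    rcases (zpowers_three hno hm').resolve_left hm1 with e | e
    · exact ⟨x, Or.inl rfl, e.symm⟩
    · exact ⟨x⁻¹, Or.inr rfl, by rw [map_inv, e]⟩
  have hy3 : (y : G) * (y : G) * (y : G) = 1 := by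
    have h : y ^ 3 = 1 := by
      rcases hy with rfl | rfl
      · exact hx3
      · rw [inv_pow, hx3, inv_one]
    have := congrArg Subtype.val h
    rw [pow_succ, pow_two] at this
    exact this
  have hyfix : ∀ v, toGL Q y v = v → v = 0 := by
    intro v hv
    rcases hy with e | e <;> rw [e] at hv
    · exact hfpf v hv
    · refine hfpf v ?_
      rw [map_inv] at hv
      conv_lhs => rw [← hv]
      exact (toGL Q x).apply_symm_apply v
  have hmv : (toGL Q y) (OutForm.pr s₀) = P.φ (cst 3) := by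
    rw [hym]
    have e := P.mpow 2 (cst 1)
    rw [P.φ_one, mono_cst] at e
    exact e
  let s₁ : Q := MulAut.conjNormal y s₀
  have hs₁R : ((s₁ : Subgroup.centralizer ({z} : Set G)) : G) ∈
      conjS g₀ (Q.map (Subgroup.centralizer ({z} : Set G)).subtype) := by
    obtain ⟨a, ha, hae⟩ := mem_secA.1 (P.cst_mem hA 3)
    rw [← hmv, toGL_pr] at hae
    obtain ⟨c, hc, hce⟩ := OutForm.eq_mul_center hae.symm
    show ((MulAut.conjNormal y s₀ : Q) : Subgroup.centralizer ({z} : Set G)).1 ∈ _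
    rw [hce]
    refine mul_mem ha ?_
    have hcz : ((c : Subgroup.centralizer ({z} : Set G)) : G) = 1 ∨ ((c : Subgroup.centralizer ({z} : Set G)) : G) = z :=
      D.cent _ (by
        rintro _ ⟨b, hb, rfl⟩
        exact congrArg (fun w : Q => ((w : Subgroup.centralizer ({z} : Set G)) : G)) (Subgroup.mem_center_iff.1 hc ⟨b, hb⟩))
    rcases hcz with e | e <;> rw [e]
    exacts [one_mem _, hzR]
  let s₂ : Q := MulAut.conjNormal (y * y) s₀
  -- the product is central
  have hprod : ((s₀ * s₁ * s₂ : Q) : Subgroup.centralizer ({z} : Set G)).1 = 1 ∨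
      ((s₀ * s₁ * s₂ : Q) : Subgroup.centralizer ({z} : Set G)).1 = z := by
    have hsum : OutForm.pr (s₀ * s₁ * s₂) = 0 := by
      refine hyfix _ ?_
      rw [OutForm.pr_mul, OutForm.pr_mul, ← toGL_pr y s₀, ← toGL_pr (y * y) s₀, map_mul, map_add, map_add]
      show toGL Q y (OutForm.pr s₀) + toGL Q y (toGL Q y (OutForm.pr s₀)) +
        toGL Q y (toGL Q y (toGL Q y (OutForm.pr s₀))) = OutForm.pr s₀ + toGL Q y (OutForm.pr s₀) +
          toGL Q y (toGL Q y (OutForm.pr s₀))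
      have h3 : toGL Q y * toGL Q y * toGL Q y = 1 := by
        rw [← map_mul, ← map_mul, show y * y * y = 1 from Subtype.ext hy3, map_one]
      rw [show toGL Q y (toGL Q y (toGL Q y (OutForm.pr s₀))) = OutForm.pr s₀ from LinearEquiv.congr_fun h3 _]
      abel
    have hc := Subgroup.mem_center_iff.1 (OutForm.pr_eq_zero.1 hsum)
    refine D.cent _ ?_
    rintro _ ⟨b, hb, rfl⟩
    exact congrArg (fun w : Q => ((w : Subgroup.centralizer ({z} : Set G)) : G)) (hc ⟨b, hb⟩)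
  have hyz : (y : G) * z = z * (y : G) := Subgroup.mem_centralizer_singleton_iff.1 y.2
  rcases hprod with e | e
  · exact ⟨g₀, s₀, y, hy, rfl, hsz₀, hzR, hs₁R, e⟩
  · -- replace the conjugate by its product with z
    obtain ⟨q, hq, hqs⟩ := D.exists_conj_eq hs₀Q (fun h => by
      rw [conj_eq_one_iff] at h; exact D.z_ne h) hsz₀
    have hsc : (q * g₀) * z * (q * g₀)⁻¹ = (g₀ * z * g₀⁻¹) * z := by rw [← hqs]; group
    have hqz : q * z * q⁻¹ = z := by rw [D.z_central q hq, mul_inv_cancel_right]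
    have hzR' : z ∈ conjS (q * g₀) (Q.map (Subgroup.centralizer ({z} : Set G)).subtype) := by
      rw [mem_conjS] at hzR ⊢
      rwa [show (q * g₀)⁻¹ * z * (q * g₀) = g₀⁻¹ * (q⁻¹ * (q * z * q⁻¹) * q) * g₀ by rw [hqz]; group,
        show g₀⁻¹ * (q⁻¹ * (q * z * q⁻¹) * q) * g₀ = g₀⁻¹ * z * g₀ by group]
    have hzc : ∀ w : G, w ∈ Q.map (Subgroup.centralizer ({z} : Set G)).subtype → w * z = z * w := D.z_central
    let sn : Q := s₀ * ⟨⟨z, Subgroup.mem_centralizer_singleton_iff.2 rfl⟩, by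
      obtain ⟨w, hw, hwe⟩ := D.z_mem
      rwa [show (⟨z, _⟩ : Subgroup.centralizer ({z} : Set G)) = w from Subtype.ext hwe.symm]⟩
    have hsne : (q * g₀) * z * (q * g₀)⁻¹ ≠ z := by
      rw [hsc]
      intro h
      have h' := mul_right_cancel (h.trans (one_mul z).symm)
      rw [conj_eq_one_iff] at h'
      exact D.z_ne h'
    have hys : (y : G) * ((q * g₀) * z * (q * g₀)⁻¹) * (y : G)⁻¹ = (y : G) * (g₀ * z * g₀⁻¹) * (y : G)⁻¹ * z := by
      rw [hsc]
      calc (y : G) * (g₀ * z * g₀⁻¹ * z) * (y : G)⁻¹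
          = (y : G) * (g₀ * z * g₀⁻¹) * (y : G)⁻¹ * ((y : G) * z * (y : G)⁻¹) := by group
        _ = _ := by rw [hyz, mul_inv_cancel_right]
    refine ⟨q * g₀, sn, y, hy, hsc.symm, hsne, hzR', ?_, ?_⟩
    · rw [hys]
      refine mul_mem ?_ hzR'
      have hs₁' : (y : G) * (g₀ * z * g₀⁻¹) * (y : G)⁻¹ ∈
          conjS g₀ (Q.map (Subgroup.centralizer ({z} : Set G)).subtype) := hs₁R
      have hq' : ⁅q⁻¹, (y : G) * (g₀ * z * g₀⁻¹) * (y : G)⁻¹⁆ = 1 ∨
          ⁅q⁻¹, (y : G) * (g₀ * z * g₀⁻¹) * (y : G)⁻¹⁆ = z :=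
        D.comm _ (inv_mem hq) _ ⟨_, s₁.2, rfl⟩
      rw [mem_conjS] at hs₁' ⊢
      rw [show (q * g₀)⁻¹ * ((y : G) * (g₀ * z * g₀⁻¹) * (y : G)⁻¹) * (q * g₀) =
        (g₀⁻¹ * ⁅q⁻¹, (y : G) * (g₀ * z * g₀⁻¹) * (y : G)⁻¹⁆ * g₀) * (g₀⁻¹ * ((y : G) * (g₀ * z * g₀⁻¹) * (y : G)⁻¹) * g₀)
        by rw [commutatorElement_def]; group]
      refine mul_mem ?_ hs₁'
      rcases hq' with h | h <;> rw [h]
      · simp
      · rw [mem_conjS] at hzR; exact hzR
    · have hyy : ((y : G) * (y : G)) * z = z * ((y : G) * (y : G)) := by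
        rw [mul_assoc, hyz, ← mul_assoc, hyz, mul_assoc]
      have hys2 : (y : G) * (y : G) * ((q * g₀) * z * (q * g₀)⁻¹) * ((y : G) * (y : G))⁻¹ =
          (y : G) * (y : G) * (g₀ * z * g₀⁻¹) * ((y : G) * (y : G))⁻¹ * z := by
        rw [hsc]
        calc (y : G) * (y : G) * (g₀ * z * g₀⁻¹ * z) * ((y : G) * (y : G))⁻¹
            = (y : G) * (y : G) * (g₀ * z * g₀⁻¹) * ((y : G) * (y : G))⁻¹ *
              (((y : G) * (y : G)) * z * ((y : G) * (y : G))⁻¹) := by group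
          _ = _ := by rw [hyy, mul_inv_cancel_right]
      have e1 : (g₀ * z * g₀⁻¹) * ((y : G) * (g₀ * z * g₀⁻¹) * (y : G)⁻¹) *
          ((y : G) * (y : G) * (g₀ * z * g₀⁻¹) * ((y : G) * (y : G))⁻¹) = z := e
      have c1 : (y : G) * (g₀ * z * g₀⁻¹) * (y : G)⁻¹ * z = z * ((y : G) * (g₀ * z * g₀⁻¹) * (y : G)⁻¹) :=
        hzc _ ⟨_, s₁.2, rfl⟩
      have c2 : (y : G) * (y : G) * (g₀ * z * g₀⁻¹) * ((y : G) * (y : G))⁻¹ * z =
          z * ((y : G) * (y : G) * (g₀ * z * g₀⁻¹) * ((y : G) * (y : G))⁻¹) := hzc _ ⟨_, s₂.2, rfl⟩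
      rw [hys, hys2, hsc]
      generalize g₀ * z * g₀⁻¹ = a at *
      generalize (y : G) * a * (y : G)⁻¹ = b at *
      generalize (y : G) * (y : G) * a * ((y : G) * (y : G))⁻¹ = c at *
      calc a * z * (b * z) * (c * z) = a * z * (b * z) * (z * c) := by rw [c2]
        _ = a * z * b * (z * z) * c := by group
        _ = a * (z * b) * c := by rw [D.z_sq]; group
        _ = a * b * (z * c) := by rw [← c1]; group
        _ = a * b * c * z := by rw [← c2]; group
        _ = 1 := by rw [e1, D.z_sq]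

end Cfsg.Agent.LargeFischer
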