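/-
The centraliser of the element of order three: M = C Q, and C is perfect.

* `six_cover`
-/
import Cfsg.Agent.Lib.LargeFischer.SixGroup

set_option autoImplicit false
open Cfsg
open scoped commutatorElement

namespace Cfsg.Agent.LargeFischer

open LargeExtraspecial

universe u

variable {G : Type u} [Group G] [Finite G] {z : G} {Q : Subgroup (Subgroup.centralizer ({z} : Set G))}
  [Q.Normal] [Fact (Cfsg.IsExtraspecial 2 Q)]

theorem not_comm_two {S : Type*} [Group S] [Finite S] [IsSimpleGroup S] (h5 : 5 ∣ Nat.card S)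
    (hc : Nat.card S ≠ 5) : ∃ a b : S, a * b ≠ b * a := by
  by_contra! h
  haveI : Fact (Nat.Prime 5) := ⟨by norm_num⟩
  obtain ⟨a, ha⟩ := exists_prime_orderOf_dvd_card' (G := S) 5 h5
  have hn : (Subgroup.zpowers a).Normal := ⟨fun y hy g => by rw [h g y, mul_inv_cancel_right]; exact hy⟩
  rcases hn.eq_bot_or_eq_top with e | e
  · rw [Subgroup.zpowers_eq_bot] at e
    rw [e, orderOf_one] at ha
    norm_num at ha
  · have := congrArg (fun K : Subgroup S => Nat.card K) e
    simp only [Nat.card_zpowers, ha, Subgroup.card_top] at this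
    exact hc this.symm

variable (hF : Cfsg.IsOfLargeFischerTypeAt z Q)
include hF

/-- The subgroup M centralises exactly the image of the element of order three. -/
theorem centralizer_image {x : (Subgroup.centralizer ({z} : Set G))} (hxo : orderOf x = 3) (hno : orderOf (toGL Q x) = 3)
    (hinv : ∀ γ ∈ (toGL Q).range, γ * toGL Q x * γ⁻¹ = toGL Q x ∨ γ * toGL Q x * γ⁻¹ = (toGL Q x)⁻¹)
    {N M : Subgroup (Subgroup.centralizer ({z} : Set G))} (hMn : M.Normal) (hQN : Q ≤ N) (hidx : M.index = 2) (hNc : Nat.card N = 3 * Nat.card Q)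
    (hN : (Subgroup.zpowers (toGL Q x)).comap (toGL Q) = N) {K : Type} [Field K] [Fintype K]
    (ψ : M →* PSU 4 K 3) (hψ : Function.Surjective ψ) (hψk : ∀ m : M, ψ m = 1 ↔ (m : (Subgroup.centralizer ({z} : Set G))) ∈ N)
    (hsimp : IsSimpleGroup (PSU 4 K 3)) (hcard : Nat.card (PSU 4 K 3) = 3265920) :
    (∀ h : (Subgroup.centralizer ({z} : Set G)), h ∈ M ↔ toGL Q h * toGL Q x = toGL Q x * toGL Q h) ∧
    ∀ γ ∈ (toGL Q).range, γ * toGL Q x = toGL Q x * γ → ∃ c : (Subgroup.centralizer ({z} : Set G)), c * x = x * c ∧ toGL Q c = γ := by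
  classical
  have hker := (exists_frame hF).1
  haveI : Finite (OutForm.Vm Q ≃ₗ[ZMod 2] OutForm.Vm Q) := Finite.of_injective _ DFunLike.coe_injective
  set n := toGL Q x with hn
  have hnorm : ∀ γ ∈ (toGL Q).range, γ * n * γ⁻¹ ∈ Subgroup.zpowers n := fun γ hγ => by
    rcases hinv γ hγ with e | e <;> rw [e]
    exacts [Subgroup.mem_zpowers n, inv_mem (Subgroup.mem_zpowers n)]
  -- some element inverts n
  obtain ⟨g, ⟨hq, hqQ⟩, hsz⟩ := hF.1.2.2.2.2
  obtain ⟨-, -, -, -, -, hEc, -⟩ := sec_facts hF (g := g) (s := ⟨_, hqQ⟩) rfl hsz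
  obtain ⟨m, P, hm, hA, hT⟩ := exists_point_at hF (n := n) ⟨x, rfl⟩ hno hnorm (g := g) (s := ⟨_, hqQ⟩) rfl hsz
  obtain ⟨γ₀, hγ₀, hγ₀m⟩ := P.exists_not_commute hA (by rintro _ ⟨c, rfl⟩ v; exact toGL_q c v) _ hT (by rw [hEc]; norm_num)
  obtain ⟨h₀, hh₀⟩ := (hT γ₀ hγ₀).1
  have hh₀n : ¬ toGL Q h₀ * n = n * toGL Q h₀ := by
    rw [hh₀]; exact fun e => hγ₀m ((zpowers_commute hm).2 e)
  let H₀ : Subgroup (Subgroup.centralizer ({z} : Set G)) := (Subgroup.centralizer ({n} : Set (OutForm.Vm Q ≃ₗ[ZMod 2] OutForm.Vm Q))).comap (toGL Q)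
  have hH₀ : ∀ h, h ∈ H₀ ↔ toGL Q h * n = n * toGL Q h := fun h => Subgroup.mem_centralizer_singleton_iff
  have hinv' : ∀ h, h ∉ H₀ → toGL Q h * n * (toGL Q h)⁻¹ = n⁻¹ := fun h hh =>
    (hinv _ ⟨h, rfl⟩).resolve_left fun e => hh ((hH₀ h).2 (mul_inv_eq_iff_eq_mul.1 e))
  have hidx₀ : H₀.index = 2 := by
    refine Subgroup.index_eq_two_iff.2 ⟨h₀, fun b => ?_⟩
    by_cases hb : b ∈ H₀
    · refine Or.inr ⟨hb, fun e => hh₀n ((hH₀ _).1 ?_)⟩
      have := mul_mem (inv_mem hb) e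
      rwa [inv_mul_cancel_left] at this
    · refine Or.inl ⟨(hH₀ _).2 (mul_inv_eq_iff_eq_mul.1 ?_), hb⟩
      rw [map_mul]
      calc toGL Q b * toGL Q h₀ * n * (toGL Q b * toGL Q h₀)⁻¹
          = toGL Q b * (toGL Q h₀ * n * (toGL Q h₀)⁻¹) * (toGL Q b)⁻¹ := by group
        _ = (toGL Q b * n * (toGL Q b)⁻¹)⁻¹ := by rw [hinv' h₀ (fun e => hh₀n ((hH₀ _).1 e))]; group
        _ = n := by rw [hinv' b hb, inv_inv]
  have hNH : N ≤ H₀ := by
    intro h hh
    rw [← hN, Subgroup.mem_comap] at hh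
    obtain ⟨k, hk⟩ := Subgroup.mem_zpowers_iff.1 hh
    rw [hH₀, ← hk]
    exact ((Commute.refl n).zpow_left k).eq
  have hMle : M ≤ H₀ := by
    have hH₀n : H₀.Normal := Subgroup.normal_of_index_eq_two hidx₀
    have hRn : ((H₀.subgroupOf M).map ψ).Normal := Subgroup.Normal.map (hH₀n.subgroupOf M) ψ hψ
    rcases hRn.eq_bot_or_eq_top with e | e
    · exfalso
      have hexp : ∀ a : PSU 4 K 3, a * a = 1 := by
        intro a
        obtain ⟨m, rfl⟩ := hψ a
        rw [← map_mul, ← Subgroup.mem_bot, ← e]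
        refine ⟨m * m, ?_, rfl⟩
        have := Subgroup.sq_mem_of_index_two hidx₀ (m : (Subgroup.centralizer ({z} : Set G)))
        rw [pow_two] at this
        exact this
      haveI : Fact (Nat.Prime 5) := ⟨by norm_num⟩
      obtain ⟨a, ha⟩ := exists_prime_orderOf_dvd_card' (G := PSU 4 K 3) 5 (by rw [hcard]; norm_num)
      have := orderOf_dvd_of_pow_eq_one (show a ^ 2 = 1 by rw [pow_two]; exact hexp a)
      rw [ha] at this
      norm_num at this
    · intro m hm'
      have : ψ ⟨m, hm'⟩ ∈ (H₀.subgroupOf M).map ψ := by rw [e]; exact Subgroup.mem_top _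
      obtain ⟨m', hm'', hme⟩ := this
      have h2 : ψ (m'⁻¹ * ⟨m, hm'⟩) = 1 := by rw [map_mul, map_inv, hme, inv_mul_cancel]
      have h3 := mul_mem (Subgroup.mem_subgroupOf.1 hm'') (hNH ((hψk _).1 h2))
      simpa using h3
  have hMeq : M = H₀ := by
    refine Subgroup.eq_of_le_of_card_ge hMle (le_of_eq ?_)
    have a := M.card_mul_index
    have b := H₀.card_mul_index
    rw [hidx] at a; rw [hidx₀] at b
    omega
  refine ⟨fun h => by rw [hMeq]; exact hH₀ h, ?_⟩
  -- lifting by Sylow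
  rintro _ ⟨h, rfl⟩ hγ
  haveI : Fact (Nat.Prime 3) := ⟨Nat.prime_three⟩
  have hfac : (Nat.card N).factorization 3 = 1 := by
    obtain ⟨k, hk⟩ := (IsPGroup.iff_card (p := 2)).1 (Fact.out : Cfsg.IsExtraspecial 2 Q).1.1
    rw [hNc, hk, Nat.factorization_mul (by norm_num) (pow_ne_zero _ (by norm_num)), Nat.factorization_pow,
      Finsupp.add_apply, Nat.Prime.factorization_self Nat.prime_three, Finsupp.smul_apply,
      Nat.factorization_eq_zero_of_not_dvd (by norm_num : ¬ 3 ∣ 2), smul_zero, add_zero]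
  have hxN : x ∈ N := by rw [← hN]; exact Subgroup.mem_comap.2 (Subgroup.mem_zpowers n)
  have hxN' : h * x * h⁻¹ ∈ N := by
    rw [← hN, Subgroup.mem_comap, map_mul, map_mul, map_inv, ← hn, hγ, mul_inv_cancel_right]
    exact Subgroup.mem_zpowers n
  have hsyl : ∀ a : N, orderOf a = 3 → ∃ S : Sylow 3 N, (S : Subgroup N) = Subgroup.zpowers a := fun a ha =>
    ⟨Sylow.ofCard (Subgroup.zpowers a) (by rw [Nat.card_zpowers, ha, hfac, pow_one]), rfl⟩
  obtain ⟨S₁, hS₁⟩ := hsyl ⟨x, hxN⟩ (by rw [Subgroup.orderOf_mk]; exact hxo)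
  obtain ⟨S₂, hS₂⟩ := hsyl ⟨h * x * h⁻¹, hxN'⟩ (by
    rw [Subgroup.orderOf_mk, ← MulAut.conj_apply, (MulAut.conj h).orderOf_eq]; exact hxo)
  obtain ⟨y, hy⟩ := MulAction.exists_smul_eq N S₂ S₁
  have hmem : (y : (Subgroup.centralizer ({z} : Set G))) * (h * x * h⁻¹) * (y : (Subgroup.centralizer ({z} : Set G)))⁻¹ ∈ Subgroup.zpowers x := by
    have h1 : y * (⟨h * x * h⁻¹, hxN'⟩ : N) * y⁻¹ ∈ ((y • S₂ : Sylow 3 N) : Subgroup N) := by
      rw [Sylow.coe_subgroup_smul]
      exact ⟨⟨h * x * h⁻¹, hxN'⟩, by rw [hS₂]; exact Subgroup.mem_zpowers _, rfl⟩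
    rw [hy, hS₁] at h1
    obtain ⟨k, hk⟩ := Subgroup.mem_zpowers_iff.1 h1
    exact Subgroup.mem_zpowers_iff.2 ⟨k, by simpa using congrArg Subtype.val hk⟩
  have hyz : toGL Q (y : (Subgroup.centralizer ({z} : Set G))) ∈ Subgroup.zpowers n := Subgroup.mem_comap.1
    (show (y : (Subgroup.centralizer ({z} : Set G))) ∈ (Subgroup.zpowers n).comap (toGL Q) by rw [hN]; exact y.2)
  obtain ⟨k, hk⟩ := Subgroup.mem_zpowers_iff.1 hyz
  refine ⟨x ^ (-k) * ((y : (Subgroup.centralizer ({z} : Set G))) * h), ?_, ?_⟩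
  · obtain ⟨j, hj⟩ := Subgroup.mem_zpowers_iff.1 hmem
    have hjn : n ^ j = n := by
      have e := congrArg (toGL Q) hj
      rw [map_zpow, map_mul, map_mul, map_mul, map_mul, map_inv, map_inv, ← hn, hγ, mul_inv_cancel_right, ← hk] at e
      rw [e, ((Commute.refl n).zpow_left k).eq, mul_inv_cancel_right]
    have hjx : x ^ j = x := by
      have h3 : n ^ (j - 1) = 1 := by rw [zpow_sub, zpow_one, hjn, mul_inv_cancel]
      have hd := orderOf_dvd_iff_zpow_eq_one.2 h3
      rw [hno, ← hxo] at hd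
      have := orderOf_dvd_iff_zpow_eq_one.1 hd
      rw [zpow_sub, zpow_one, mul_inv_eq_one] at this
      exact this
    rw [hjx] at hj
    calc x ^ (-k) * ((y : (Subgroup.centralizer ({z} : Set G))) * h) * x
        = x ^ (-k) * ((y : (Subgroup.centralizer ({z} : Set G))) * (h * x * h⁻¹) * (y : (Subgroup.centralizer ({z} : Set G)))⁻¹) * ((y : (Subgroup.centralizer ({z} : Set G))) * h) := by group
      _ = x * (x ^ (-k) * ((y : (Subgroup.centralizer ({z} : Set G))) * h)) := by rw [← hj]; group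
  · rw [map_mul, map_mul, map_zpow, ← hk, ← hn]; group

set_option maxHeartbeats 1600000 in
/-- The centraliser is perfect, with cyclic centre of order six and quotient the unitary group. -/
theorem six_cover (X : Subgroup (Subgroup.centralizer ({z} : Set G))) (hX : Nat.card X = 3) (hXQ : (X ⊔ Q).Normal) :
    ∃ (K : Type) (_ : Field K) (_ : Fintype K) (ψ : Subgroup.centralizer (X : Set (Subgroup.centralizer ({z} : Set G))) →* PSU 4 K 3),
      Fintype.card K = 9 ∧ IsSimpleGroup (PSU 4 K 3) ∧ Function.Surjective ψ ∧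
      ψ.ker = Subgroup.center (Subgroup.centralizer (X : Set (Subgroup.centralizer ({z} : Set G)))) ∧ IsCyclic ψ.ker ∧ Nat.card ψ.ker = 6 ∧
      commutator (Subgroup.centralizer (X : Set (Subgroup.centralizer ({z} : Set G)))) = ⊤ := by
  classical
  have hker := (exists_frame hF).1
  haveI : Finite (OutForm.Vm Q ≃ₗ[ZMod 2] OutForm.Vm Q) := Finite.of_injective _ DFunLike.coe_injective
  have hΓ : ∀ γ ∈ (toGL Q).range, ∀ v, OutForm.qf Q (γ v) = OutForm.qf Q v := by
    rintro _ ⟨c, rfl⟩ v; exact toGL_q c v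
  have D := data_of_type hF
  obtain ⟨x, hxo, hzp, hno, hinv, hcomap⟩ := exists_three hF X hX hXQ
  obtain ⟨N, M, K, _, _, ψM, hNn, hMn, hQN, hNM, hNc, hidx, hK, hψs, hψk, hsimp, hcard, huni⟩ := exists_chain hF
  have hN := hcomap N huni
  obtain ⟨hM, hlift⟩ := centralizer_image hF hxo hno hinv hMn hQN hidx hNc hN ψM hψs hψk hsimp hcard
  set n := toGL Q x with hn
  have hn3 : n ^ 3 = 1 := hno ▸ pow_orderOf_eq_one n
  have hn1 : n ≠ 1 := fun e => by rw [e, orderOf_one] at hno; norm_num at hno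
  have hnorm : ∀ γ ∈ (toGL Q).range, γ * n * γ⁻¹ ∈ Subgroup.zpowers n := fun γ hγ => by
    rcases hinv γ hγ with e | e <;> rw [e]
    exacts [Subgroup.mem_zpowers n, inv_mem (Subgroup.mem_zpowers n)]
  have hfpf : ∀ v, n v = v → v = 0 := by
    intro v hv
    obtain ⟨g, ⟨hq, hqQ⟩, hsz⟩ := hF.1.2.2.2.2
    obtain ⟨m, P, hm, -, -⟩ := exists_point_at hF (n := n) ⟨x, rfl⟩ hno hnorm (g := g) (s := ⟨_, hqQ⟩) rfl hsz
    obtain ⟨k, hk⟩ := Subgroup.mem_zpowers_iff.1 (show m ∈ Subgroup.zpowers n by rw [← hm]; exact Subgroup.mem_zpowers m)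
    have hmv : m v = v := by
      have hs : n ∈ MulAction.stabilizer (OutForm.Vm Q ≃ₗ[ZMod 2] OutForm.Vm Q) v := hv
      have := zpow_mem hs k
      rw [hk] at this
      exact this
    obtain ⟨a, rfl⟩ := P.bij.2 v
    rw [P.m_φ] at hmv
    have e := P.bij.1 hmv
    rw [show a = 0 from funext fun i => by
      have h : ∀ y : Fin 4, rot 1 y = y → y = 0 := by decide
      exact h _ (congrFun e i), P.φ_zero]
  let C := Subgroup.centralizer (X : Set (Subgroup.centralizer ({z} : Set G)))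
  have hC : ∀ c : (Subgroup.centralizer ({z} : Set G)), c ∈ C ↔ c * x = x * c := by
    intro c
    show c ∈ Subgroup.centralizer (X : Set (Subgroup.centralizer ({z} : Set G))) ↔ _
    rw [← hzp, Subgroup.zpowers_eq_closure, Subgroup.centralizer_closure, Subgroup.mem_centralizer_singleton_iff]
  let zH : (Subgroup.centralizer ({z} : Set G)) := ⟨z, Subgroup.mem_centralizer_singleton_iff.2 rfl⟩
  have hzc : ∀ c : (Subgroup.centralizer ({z} : Set G)), c * zH = zH * c := fun c => Subtype.ext (Subgroup.mem_centralizer_singleton_iff.1 c.2)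
  have hzQ : zH ∈ Q := by
    obtain ⟨w, hw, hwe⟩ := D.z_mem
    rwa [show zH = w from Subtype.ext hwe.symm]
  have hzC : zH ∈ C := (hC _).2 (hzc x).symm
  have hxC : x ∈ C := (hC _).2 rfl
  have hCQ : ∀ c ∈ C, c ∈ Q → c = 1 ∨ c = zH := by
    intro c hc hcQ
    have h1 : OutForm.pr (⟨c, hcQ⟩ : Q) = 0 := by
      refine hfpf _ ?_
      rw [hn, toGL_pr]
      congr 1
      refine Subtype.ext ?_
      show x * c * x⁻¹ = c
      rw [← (hC c).1 hc, mul_inv_cancel_right]
    have h2 := Subgroup.mem_center_iff.1 (OutForm.pr_eq_zero.1 h1)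
    rcases D.cent (c : G) (by
      rintro _ ⟨b, hb, rfl⟩
      exact congrArg (fun w : Q => ((w : (Subgroup.centralizer ({z} : Set G))) : G)) (h2 ⟨b, hb⟩)) with e | e
    · exact Or.inl (Subtype.ext e)
    · exact Or.inr (Subtype.ext e)
  have hCM : C ≤ M := fun c hc => (hM c).2 (by rw [hn, ← map_mul, (hC c).1 hc, map_mul])
  let ψ : C →* PSU 4 K 3 := ψM.comp (Subgroup.inclusion hCM)
  have hψC : Function.Surjective ψ := by
    intro a
    obtain ⟨w, rfl⟩ := hψs a
    obtain ⟨c, hc, hce⟩ := hlift _ ⟨_, rfl⟩ ((hM w).1 w.2)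
    refine ⟨⟨c, (hC c).2 hc⟩, ?_⟩
    have h1 : (w : (Subgroup.centralizer ({z} : Set G)))⁻¹ * c ∈ N := hQN (by
      rw [← hker, MonoidHom.mem_ker, map_mul, map_inv, hce, inv_mul_cancel])
    have h2 := (hψk (w⁻¹ * ⟨c, hCM ((hC c).2 hc)⟩)).2 h1
    rw [map_mul, map_inv, inv_mul_eq_one] at h2
    exact h2.symm
  -- the kernel
  let xC : C := ⟨x, hxC⟩
  let zC : C := ⟨zH, hzC⟩
  have hxc : ∀ c : C, c * xC = xC * c := fun c => Subtype.ext ((hC c).1 c.2)
  have hzcC : ∀ c : C, c * zC = zC * c := fun c => Subtype.ext (hzc c)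
  have hkerC : ∀ c : C, ψ c = 1 ↔ ∃ k : ℤ, c = xC ^ k ∨ c = xC ^ k * zC := by
    intro c
    refine (hψk _).trans ⟨fun hc => ?_, ?_⟩
    · rw [← hN, Subgroup.mem_comap] at hc
      obtain ⟨k, hk⟩ := Subgroup.mem_zpowers_iff.1 hc
      refine ⟨k, ?_⟩
      have h1 : x ^ (-k) * (c : (Subgroup.centralizer ({z} : Set G))) ∈ Q := by
        rw [← hker, MonoidHom.mem_ker, map_mul, map_zpow, ← hn]
        show n ^ (-k) * toGL Q (Subgroup.inclusion hCM c : (Subgroup.centralizer ({z} : Set G))) = 1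
        rw [← hk]; group
      rcases hCQ _ (mul_mem (zpow_mem hxC _) c.2) h1 with e | e
      · left; refine Subtype.ext ?_
        show (c : (Subgroup.centralizer ({z} : Set G))) = x ^ k
        rw [zpow_neg, inv_mul_eq_one] at e; exact e.symm
      · right; refine Subtype.ext ?_
        show (c : (Subgroup.centralizer ({z} : Set G))) = x ^ k * zH
        rw [← e]; group
    · rintro ⟨k, rfl | rfl⟩
      · show x ^ k ∈ N
        rw [← hN, Subgroup.mem_comap, map_zpow]; exact zpow_mem (Subgroup.mem_zpowers n) k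
      · show x ^ k * zH ∈ N
        refine mul_mem ?_ (hQN hzQ)
        rw [← hN, Subgroup.mem_comap, map_zpow]; exact zpow_mem (Subgroup.mem_zpowers n) k
  have hxC3 : orderOf xC = 3 := by rw [Subgroup.orderOf_mk]; exact hxo
  have hzC2 : orderOf zC = 2 := by
    rw [Subgroup.orderOf_mk, Subgroup.orderOf_mk]; exact hF.1.1
  have hzz : zC * zC = 1 := by
    have := pow_orderOf_eq_one zC
    rwa [hzC2, pow_two] at this
  let w : C := xC * zC
  have hw6 : orderOf w = 6 := by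
    rw [Commute.orderOf_mul_eq_mul_orderOf_of_coprime (hzcC xC) (by rw [hxC3, hzC2]; norm_num), hxC3, hzC2]
  have hkw : ψ.ker = Subgroup.zpowers w := by
    ext c
    rw [MonoidHom.mem_ker, hkerC]
    have hx3' : xC ^ 3 = 1 := hxC3 ▸ pow_orderOf_eq_one xC
    have hx4 : xC = w ^ 4 := by
      rw [show w ^ 4 = (xC * zC) ^ 4 from rfl, (show Commute xC zC from hzcC xC).mul_pow,
        show zC ^ 4 = (zC * zC) * (zC * zC) from (pow_add zC 2 2).trans (by rw [pow_two]), hzz, mul_one, mul_one, pow_succ, hx3', one_mul]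
    have hz3 : zC = w ^ 3 := by
      rw [show w ^ 3 = (xC * zC) ^ 3 from rfl, (show Commute xC zC from hzcC xC).mul_pow, hx3', one_mul,
        show zC ^ 3 = (zC * zC) * zC by rw [pow_succ, pow_two], hzz, one_mul]
    constructor
    · rintro ⟨k, rfl | rfl⟩
      · rw [hx4]; exact zpow_mem (pow_mem (Subgroup.mem_zpowers w) 4) k
      · refine mul_mem ?_ ?_
        · rw [hx4]; exact zpow_mem (pow_mem (Subgroup.mem_zpowers w) 4) k
        · rw [hz3]; exact pow_mem (Subgroup.mem_zpowers w) 3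
    · intro hc
      obtain ⟨k, rfl⟩ := Subgroup.mem_zpowers_iff.1 hc
      rcases Int.even_or_odd k with ⟨j, rfl⟩ | ⟨j, rfl⟩
      · refine ⟨j + j, Or.inl ?_⟩
        rw [(show Commute xC zC from hzcC xC).mul_zpow, ← two_mul, zpow_mul zC,
          show zC ^ (2 : ℤ) = 1 by rw [zpow_two]; exact hzz, one_zpow, mul_one]
      · refine ⟨2 * j + 1, Or.inr ?_⟩
        rw [(show Commute xC zC from hzcC xC).mul_zpow]
        congr 1
        rw [zpow_add, zpow_mul, show zC ^ (2 : ℤ) = 1 by rw [zpow_two]; exact hzz, one_zpow, one_mul, zpow_one]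
  have hnc := not_comm_two (S := PSU 4 K 3) (by rw [hcard]; norm_num) (by rw [hcard]; norm_num)
  have hcentre : ψ.ker = Subgroup.center C := by
    refine le_antisymm (fun c hc => Subgroup.mem_center_iff.2 fun d => ?_) (fun c hc => ?_)
    · obtain ⟨k, rfl | rfl⟩ := (hkerC c).1 hc
      · exact ((show Commute d xC from hxc d).zpow_right k).eq
      · exact (((show Commute d xC from hxc d).zpow_right k).mul_right (hzcC d)).eq
    · have h1 : ψ c ∈ Subgroup.center (PSU 4 K 3) := Subgroup.mem_center_iff.2 fun a => by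
        obtain ⟨d, rfl⟩ := hψC a
        rw [← map_mul, ← map_mul, Subgroup.mem_center_iff.1 hc d]
      rcases (inferInstance : (Subgroup.center (PSU 4 K 3)).Normal).eq_bot_or_eq_top with e | e
      · rw [e, Subgroup.mem_bot] at h1
        exact h1
      · exfalso
        obtain ⟨a, b, hab⟩ := hnc
        have ha : a ∈ Subgroup.center (PSU 4 K 3) := by rw [e]; exact Subgroup.mem_top a
        exact hab (Subgroup.mem_center_iff.1 ha b).symm
  refine ⟨K, inferInstance, inferInstance, ψ, hK, hsimp, hψC, hcentre, by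
    rw [hkw]; infer_instance, by rw [hkw, Nat.card_zpowers, hw6], ?_⟩
  -- perfection
  let Dd : Subgroup C := commutator C
  let T : C →* (OutForm.Vm Q ≃ₗ[ZMod 2] OutForm.Vm Q) := (toGL Q).comp C.subtype
  have hTlift : ∀ γ ∈ (toGL Q).range, γ * n = n * γ → ∃ c : C, T c = γ := fun γ hγ h => by
    obtain ⟨c, hc, hce⟩ := hlift γ hγ h
    exact ⟨⟨c, (hC c).2 hc⟩, hce⟩
  have hTn : ∀ c : C, T c * n = n * T c := fun c => (hM c).1 (hCM c.2)
  have hTker : ∀ c : C, T c = 1 → c = 1 ∨ c = zC := fun c hc => by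
    have hcQ : (c : (Subgroup.centralizer ({z} : Set G))) ∈ Q := by rw [← hker]; exact hc
    rcases hCQ c c.2 hcQ with e | e
    · exact Or.inl (Subtype.ext e)
    · exact Or.inr (Subtype.ext e)
  obtain ⟨g, s, y, hy, hs, hsz, hzR, hs1R, hprod⟩ := exists_stable_triple hF (x := x)
    (hxo ▸ pow_orderOf_eq_one x) hno hnorm hfpf
  -- x is in the commutator subgroup
  have hxD : xC ∈ Dd := by
    obtain ⟨m, P, hm, -, -⟩ := exists_point_at hF (n := n) ⟨x, rfl⟩ hno hnorm hs hsz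
    obtain ⟨π₁, π₂, s₁, hs₁, s₂, hs₂, hs₁m, hs₂m, he⟩ := P.exists_commutators
    obtain ⟨p₁, hp₁⟩ := hTlift _ (P.perm π₁).2 ((zpowers_commute hm).1 (P.perm_commute π₁))
    obtain ⟨p₂, hp₂⟩ := hTlift _ (P.perm π₂).2 ((zpowers_commute hm).1 (P.perm_commute π₂))
    obtain ⟨c₁, hc₁⟩ := hTlift _ hs₁ ((zpowers_commute hm).1 hs₁m)
    obtain ⟨c₂, hc₂⟩ := hTlift _ hs₂ ((zpowers_commute hm).1 hs₂m)
    obtain ⟨k, hk⟩ := Subgroup.mem_zpowers_iff.1 (show n ∈ Subgroup.zpowers m by rw [hm]; exact Subgroup.mem_zpowers n)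
    let d : C := (⁅p₁, c₁⁆ * ⁅p₂, c₂⁆) ^ k
    have hd : d ∈ Dd := zpow_mem (mul_mem (Subgroup.commutator_mem_commutator (Subgroup.mem_top _) (Subgroup.mem_top _))
      (Subgroup.commutator_mem_commutator (Subgroup.mem_top _) (Subgroup.mem_top _))) k
    have hTd : T d = n := by
      rw [map_zpow, map_mul, map_commutatorElement, map_commutatorElement, hp₁, hp₂, hc₁, hc₂, commutatorElement_def,
        commutatorElement_def, he, hk]
    rcases hTker (xC⁻¹ * d) (by rw [map_mul, map_inv, hTd]; exact inv_mul_cancel n) with e | e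
    · rw [inv_mul_eq_one] at e; rwa [e]
    · have e' : d = xC * zC := by rw [← e]; group
      have h4 := pow_mem hd 4
      rw [e', (show Commute xC zC from hzcC xC).mul_pow, show zC ^ 4 = (zC * zC) * (zC * zC) from (pow_add zC 2 2).trans (by rw [pow_two]), hzz, mul_one,
        mul_one, pow_succ, show xC ^ 3 = 1 from hxC3 ▸ pow_orderOf_eq_one xC, one_mul] at h4
      exact h4
  have hsplit : ∀ c : C, c ∈ Dd ∨ c * zC ∈ Dd := by
    have htop : Dd.map ψ = ⊤ := by
      have hn' : (Dd.map ψ).Normal := Subgroup.Normal.map inferInstance ψ hψC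
      rcases hn'.eq_bot_or_eq_top with e | e
      · exfalso
        obtain ⟨a, b, hab⟩ := hnc
        obtain ⟨a, rfl⟩ := hψC a
        obtain ⟨b, rfl⟩ := hψC b
        have : ψ ⁅a, b⁆ ∈ Dd.map ψ :=
          Subgroup.mem_map_of_mem _ (Subgroup.commutator_mem_commutator (Subgroup.mem_top _) (Subgroup.mem_top _))
        rw [e, Subgroup.mem_bot, map_commutatorElement, commutatorElement_eq_one_iff_mul_comm] at this
        exact hab this
      · exact e
    intro c
    have h1 : ψ c ∈ Dd.map ψ := by rw [htop]; exact Subgroup.mem_top _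
    obtain ⟨d, hd, hde⟩ := h1
    obtain ⟨k, e | e⟩ := (hkerC (d⁻¹ * c)).1 (by rw [map_mul, map_inv, hde, inv_mul_cancel])
    · left
      rw [show c = d * (d⁻¹ * c) by group, e]; exact mul_mem hd (zpow_mem hxD k)
    · right
      rw [show c * zC = d * ((d⁻¹ * c) * zC) by group, e, mul_assoc, hzz, mul_one]
      exact mul_mem hd (zpow_mem hxD k)
  suffices hzD : zC ∈ Dd by
    refine eq_top_iff.2 fun c _ => ?_
    rcases hsplit c with h | h
    · exact h
    · have := mul_mem h hzD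
      rwa [mul_assoc, hzz, mul_one] at this
  by_contra hzD
  -- the three conjugates of Q
  set R := conjS g (Q.map (Subgroup.centralizer ({z} : Set G)).subtype) with hR
  have DR := D.conjugate g
  have hyC : y ∈ C := by rcases hy with e | e <;> rw [e]; exacts [hxC, inv_mem hxC]
  have hcommy : ∀ c : (Subgroup.centralizer ({z} : Set G)), c ∈ C ↔ c * y = y * c := by
    intro c
    rw [hC]
    rcases hy with e | e <;> rw [e]
    exact ⟨fun h => (Commute.inv_right h).eq, fun h => by simpa using (Commute.inv_right (show Commute c x⁻¹ from h)).eq⟩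
  have hy3 : (y : G) * (y : G) * (y : G) = 1 := by
    have h : y ^ 3 = 1 := by
      rcases hy with e | e <;> rw [e]
      · exact hxo ▸ pow_orderOf_eq_one x
      · rw [inv_pow, show x ^ 3 = 1 from hxo ▸ pow_orderOf_eq_one x, inv_one]
    have := congrArg Subtype.val h
    rw [pow_succ, pow_two] at this
    exact this
  have hny : ∀ γ : OutForm.Vm Q ≃ₗ[ZMod 2] OutForm.Vm Q, γ * toGL Q y = toGL Q y * γ ↔ γ * n = n * γ := by
    intro γ
    rcases hy with e | e <;> rw [e]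
    exact zpowers_commute (by rw [map_inv, Subgroup.zpowers_inv, ← hn])
  have hny1 : toGL Q y ≠ 1 := by
    rcases hy with e | e <;> rw [e]
    · exact hn1
    · rw [map_inv, inv_ne_one]; exact hn1
  set sv := g * z * g⁻¹ with hsv
  set s₁ := (y : G) * sv * (y : G)⁻¹ with hs₁
  have hyz : (y : G) * z = z * (y : G) := Subgroup.mem_centralizer_singleton_iff.1 y.2
  have hyfix : ∀ v, toGL Q y v = v → v = 0 := by
    intro v hv
    rcases hy with e | e <;> rw [e] at hv
    · exact hfpf v hv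
    · refine hfpf v ?_
      rw [map_inv] at hv
      conv_lhs => rw [← hv]
      exact (toGL Q x).apply_symm_apply v
  obtain ⟨hv0, -, -, -, hI, hEc, hEp⟩ := sec_facts hF hs hsz
  have hs₁s : s₁ ≠ sv := by
    intro e
    refine hv0 (hyfix _ ?_)
    rw [toGL_pr]
    congr 1
    refine Subtype.ext (Subtype.ext ?_)
    show (y : G) * ((s : (Subgroup.centralizer ({z} : Set G))) : G) * (y : G)⁻¹ = ((s : (Subgroup.centralizer ({z} : Set G))) : G)
    rw [hs]; exact e
  set R₁ := conjS ((y : G) * g) (Q.map (Subgroup.centralizer ({z} : Set G)).subtype) with hR₁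
  have DR₁ := D.conjugate ((y : G) * g)
  have hs₁g : ((y : G) * g) * z * ((y : G) * g)⁻¹ = s₁ := by rw [hs₁, hsv]; group
  rw [hs₁g] at DR₁
  have hmem₁ : ∀ a : G, a ∈ R₁ ↔ (y : G)⁻¹ * a * (y : G) ∈ R := by
    intro a
    rw [hR₁, hR, mem_conjS, mem_conjS]
    rw [show ((y : G) * g)⁻¹ * a * ((y : G) * g) = g⁻¹ * ((y : G)⁻¹ * a * (y : G)) * g by group]
  have hzR₁ : z ∈ R₁ := by
    rw [hmem₁, show (y : G)⁻¹ * z * (y : G) = z by rw [mul_assoc, ← hyz, inv_mul_cancel_left]]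
    exact hzR
  have hsR : sv ∈ R := ⟨z, D.z_mem, rfl⟩
  -- the position of the pair, seen from g
  have hk0 : ((g⁻¹ * (y : G) * g) * z * (g⁻¹ * (y : G) * g)⁻¹) = g⁻¹ * s₁ * g := by rw [hs₁, hsv]; group
  have hk0Q : g⁻¹ * s₁ * g ∈ (Q.map (Subgroup.centralizer ({z} : Set G)).subtype) := mem_conjS.1 hs1R
  have hk0z : g⁻¹ * s₁ * g ≠ z := fun e => hs₁s (by rw [hsv, ← e]; group)
  have hsR₁ : sv ∈ R₁ := by
    have hQc : Nat.card (Q.map (Subgroup.centralizer ({z} : Set G)).subtype) = 2 ^ 13 := by rw [Subgroup.card_subtype]; exact hF.1.2.2.2.1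
    have := D.mem_conj (g := g⁻¹ * (y : G) * g) (by rw [hk0]; exact hk0Q) (by rw [hk0]; exact hk0z) (by rw [hQc]; norm_num)
    rw [mem_conjS] at this
    rw [hR₁, mem_conjS]
    rwa [show ((y : G) * g)⁻¹ * sv * ((y : G) * g) = (g⁻¹ * (y : G) * g)⁻¹ * z * (g⁻¹ * (y : G) * g) by
      rw [hsv]; group]
  have hcardA : Nat.card (R ⊓ R₁ : Subgroup G) = 2 ^ 7 := by
    obtain ⟨w, hw, hwe⟩ := hk0Q
    obtain ⟨-, -, -, -, h128, -, -⟩ := sec_facts hF (g := g⁻¹ * (y : G) * g) (s := ⟨w, hw⟩)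
      (by rw [hk0]; exact hwe) (by rw [hk0]; exact hk0z)
    have e : (R ⊓ R₁ : Subgroup G) = conjS g ((Q.map (Subgroup.centralizer ({z} : Set G)).subtype) ⊓ conjS (g⁻¹ * (y : G) * g) (Q.map (Subgroup.centralizer ({z} : Set G)).subtype)) := by
      ext a
      simp only [Subgroup.mem_inf, hR, hR₁, mem_conjS]
      rw [show (g⁻¹ * (y : G) * g)⁻¹ * (g⁻¹ * a * g) * (g⁻¹ * (y : G) * g) = ((y : G) * g)⁻¹ * a * ((y : G) * g) by group]
    rw [e, ← h128]
    exact (Nat.card_congr (Subgroup.equivMapOfInjective _ _ (MulAut.conj g).injective).toEquiv).symm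
  have hsq : ∀ a ∈ (R ⊓ R₁ : Subgroup G), a * a = 1 := fun a ha => by
    rcases DR.sq ha.1 with h | h
    · exact h
    · rcases DR₁.sq ha.2 with h' | h'
      · exact h'
      · exact absurd (h'.symm.trans h) hs₁s
  have hab : ∀ a ∈ (R ⊓ R₁ : Subgroup G), ∀ b ∈ (R ⊓ R₁ : Subgroup G), a * b = b * a := fun a ha b hb => by
    rw [← commutatorElement_eq_one_iff_mul_comm]
    rcases DR.comm _ ha.1 _ hb.1 with h | h
    · exact h
    · rcases DR₁.comm _ ha.2 _ hb.2 with h' | h'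
      · exact h'
      · exact absurd (h'.symm.trans h) hs₁s
  have hAH : ∀ a ∈ (R ⊓ R₁ : Subgroup G), a ∈ (Subgroup.centralizer ({z} : Set G)) := fun a ha => by
    rw [Subgroup.mem_centralizer_singleton_iff]
    exact hab a ha z ⟨hzR, hzR₁⟩
  -- an element outside Q
  obtain ⟨a, ha, haQ⟩ : ∃ a ∈ (R ⊓ R₁ : Subgroup G), a ∉ (Q.map (Subgroup.centralizer ({z} : Set G)).subtype) := by
    by_contra! hall
    have heq : (R ⊓ R₁ : Subgroup G) = (Q.map (Subgroup.centralizer ({z} : Set G)).subtype) ⊓ R :=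
      Subgroup.eq_of_le_of_card_ge (fun a ha => ⟨hall a ha, ha.1⟩) (by rw [hcardA, hI])
    obtain ⟨m, P, hm, hA, -⟩ := exists_point_at hF (n := n) ⟨x, rfl⟩ hno hnorm hs hsz
    obtain ⟨v, hv, hvk⟩ := P.exists_not_mem hA
    obtain ⟨b, hb, rfl⟩ := mem_secA.1 hv
    have hb' : ((b : (Subgroup.centralizer ({z} : Set G))) : G) ∈ R₁ := by
      have h2 : ((b : (Subgroup.centralizer ({z} : Set G))) : G) ∈ ((Q.map (Subgroup.centralizer ({z} : Set G)).subtype) ⊓ R : Subgroup G) := ⟨⟨_, b.2, rfl⟩, hb⟩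
      rw [← heq] at h2
      exact h2.2
    have hmem : toGL Q y⁻¹ (OutForm.pr b) ∈ secA Q g := by
      rw [toGL_pr]
      refine mem_secA.2 ⟨_, ?_, rfl⟩
      show ((y⁻¹ * (b : (Subgroup.centralizer ({z} : Set G))) * y⁻¹⁻¹ : (Subgroup.centralizer ({z} : Set G))) : G) ∈ R
      rw [inv_inv, Subgroup.coe_mul, Subgroup.coe_mul, Subgroup.coe_inv]
      exact (hmem₁ _).1 hb'
    have hy' : toGL Q y⁻¹ ∈ Subgroup.zpowers m := by
      rw [hm]
      rcases hy with e | e <;> rw [e]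
      · rw [map_inv]; exact inv_mem (Subgroup.mem_zpowers n)
      · rw [inv_inv]; exact Subgroup.mem_zpowers n
    obtain ⟨k, hk⟩ := Submonoid.mem_powers_iff _ _ |>.1 (mem_powers_iff_mem_zpowers.2 hy')
    refine hvk k (fun e => hny1 ?_) (by rw [hk]; exact hmem)
    have hm3 : orderOf m = 3 := by rw [← Nat.card_zpowers, hm, Nat.card_zpowers, hno]
    have h1 : m ^ k = 1 := orderOf_dvd_iff_pow_eq_one.1 (by rw [hm3]; exact Nat.dvd_of_mod_eq_zero e)
    rw [h1, map_inv] at hk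
    exact inv_eq_one.1 hk.symm
  let aH : (Subgroup.centralizer ({z} : Set G)) := ⟨a, hAH a ha⟩
  set e := toGL Q aH with he
  have heE : e ∈ secE Q g := ⟨aH, Subgroup.mem_subgroupOf.2 ha.1, rfl⟩
  have hey : e * toGL Q y = toGL Q y * e := by
    by_contra hne
    have hinvy : e * toGL Q y * e⁻¹ = (toGL Q y)⁻¹ := by
      have h1 : e * n * e⁻¹ = n⁻¹ := (hinv e ⟨aH, rfl⟩).resolve_left fun h =>
        hne ((hny e).2 (mul_inv_eq_iff_eq_mul.1 h))
      rcases hy with h | h <;> rw [h]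
      · exact h1
      · rw [map_inv, inv_inv, show e * (toGL Q x)⁻¹ * e⁻¹ = (e * toGL Q x * e⁻¹)⁻¹ by group, ← hn, h1, inv_inv]
    have heE' : (toGL Q y)⁻¹ * e * toGL Q y ∈ secE Q g := by
      refine ⟨y⁻¹ * aH * y, Subgroup.mem_subgroupOf.2 ?_, by rw [map_mul, map_mul, map_inv]⟩
      rw [Subgroup.coe_mul, Subgroup.coe_mul, Subgroup.coe_inv]
      exact (hmem₁ _).1 ha.2
    have hmul := mul_mem (inv_mem heE) heE'
    rw [show e⁻¹ * ((toGL Q y)⁻¹ * e * toGL Q y) = (e⁻¹ * (toGL Q y)⁻¹ * e) * toGL Q y by group] at hmul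
    have he1 : e⁻¹ * (toGL Q y)⁻¹ * e = toGL Q y := by rw [← hinvy]; group
    rw [he1] at hmul
    obtain ⟨j, hj⟩ := hEp ⟨_, hmul⟩
    have h3 := orderOf_dvd_of_pow_eq_one (congrArg Subtype.val hj)
    have ho : orderOf (toGL Q y * toGL Q y) = 3 := by
      haveI : Fact (Nat.Prime 3) := ⟨Nat.prime_three⟩
      have hy3' : (toGL Q y) ^ 3 = 1 := by
        rw [← map_pow, show y ^ 3 = 1 from Subtype.ext (by rw [pow_succ, pow_two]; exact hy3), map_one]
      refine orderOf_eq_prime ?_ fun h => hny1 ?_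
      · rw [← pow_two, ← pow_mul, mul_comm, pow_mul, hy3', one_pow]
      · calc toGL Q y = (toGL Q y) ^ 3 * (toGL Q y * toGL Q y)⁻¹ := by group
          _ = 1 := by rw [hy3', h, inv_one, one_mul]
    rw [ho] at h3
    exact absurd (Nat.prime_three.dvd_of_dvd_pow h3) (by norm_num)
  -- the pair of conjugates is invariant under y
  have hinvA : ∀ b ∈ (R ⊓ R₁ : Subgroup G), (y : G) * b * (y : G)⁻¹ ∈ (R ⊓ R₁ : Subgroup G) := by
    intro b hb
    have hyb₁ : (y : G) * b * (y : G)⁻¹ ∈ R₁ := by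
      rw [hmem₁, show (y : G)⁻¹ * ((y : G) * b * (y : G)⁻¹) * (y : G) = b by group]; exact hb.1
    refine ⟨?_, hyb₁⟩
    have hs₂ : (y : G) * (y : G) * sv * ((y : G) * (y : G))⁻¹ = s₁ * sv := by
      have h1 : sv * s₁ * ((y : G) * (y : G) * sv * ((y : G) * (y : G))⁻¹) = 1 := hprod
      rw [eq_inv_of_mul_eq_one_right h1, mul_inv_rev, inv_eq_of_mul_eq_one_right DR.z_sq,
        inv_eq_of_mul_eq_one_right DR₁.z_sq]
    obtain ⟨r, hr, hrs⟩ := DR.exists_conj_eq hs1R (fun h => DR₁.z_ne h) hs₁s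
    have hconjS : conjS (r * ((y : G) * g)) (Q.map (Subgroup.centralizer ({z} : Set G)).subtype) = conjS ((y : G) * (y : G) * g) (Q.map (Subgroup.centralizer ({z} : Set G)).subtype) := D.conjS_eq_of_conj_eq (by
      rw [show r * ((y : G) * g) * z * (r * ((y : G) * g))⁻¹ = r * (((y : G) * g) * z * ((y : G) * g)⁻¹) * r⁻¹ by group,
        hs₁g, hrs, ← hs₂, hsv]
      group)
    -- R ∩ R₁ lies in the third conjugate
    have hthird : ∀ c ∈ (R ⊓ R₁ : Subgroup G), c ∈ conjS ((y : G) * (y : G) * g) (Q.map (Subgroup.centralizer ({z} : Set G)).subtype) := by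
      intro c hc
      rw [← hconjS]
      have h1 : r⁻¹ * c * r ∈ R₁ := by
        rcases DR.comm _ (inv_mem hr) _ hc.1 with h | h
        · rw [commutatorElement_def, inv_inv] at h
          rw [mul_inv_eq_one.1 h]; exact hc.2
        · rw [commutatorElement_def, inv_inv] at h
          rw [mul_inv_eq_iff_eq_mul.1 h]
          exact mul_mem hsR₁ hc.2
      rw [mem_conjS]
      rw [hR₁, mem_conjS] at h1
      rwa [show (r * ((y : G) * g))⁻¹ * c * (r * ((y : G) * g)) = ((y : G) * g)⁻¹ * (r⁻¹ * c * r) * ((y : G) * g) by group]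
    have h2 := hthird b hb
    rw [mem_conjS] at h2
    refine mem_conjS.2 ?_
    have hinv2 : (y : G)⁻¹ = (y : G) * (y : G) := inv_eq_of_mul_eq_one_right (by rw [← mul_assoc]; exact hy3)
    rwa [show ((y : G) * (y : G) * g)⁻¹ * b * ((y : G) * (y : G) * g) = g⁻¹ * ((y : G) * b * (y : G)⁻¹) * g by
      rw [← hinv2]; group] at h2
  -- the fixed lift
  let t : G := a * ((y : G) * a * (y : G)⁻¹) * ((y : G) * ((y : G) * a * (y : G)⁻¹) * (y : G)⁻¹)
  have hta : t ∈ (R ⊓ R₁ : Subgroup G) := mul_mem (mul_mem ha (hinvA _ ha)) (hinvA _ (hinvA _ ha))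
  let tH : (Subgroup.centralizer ({z} : Set G)) := aH * (y * aH * y⁻¹) * (y * (y * aH * y⁻¹) * y⁻¹)
  have htH : (tH : G) = t := rfl
  have htC : tH ∈ C := by
    rw [hcommy]
    refine Subtype.ext ?_
    show t * (y : G) = (y : G) * t
    have h1 : (y : G) * t * (y : G)⁻¹ = t := by
      have p1 := hinvA _ ha
      have p2 := hinvA _ p1
      have hlast : (y : G) * ((y : G) * ((y : G) * a * (y : G)⁻¹) * (y : G)⁻¹) * (y : G)⁻¹ = a := by
        calc (y : G) * ((y : G) * ((y : G) * a * (y : G)⁻¹) * (y : G)⁻¹) * (y : G)⁻¹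
            = ((y : G) * (y : G) * (y : G)) * a * ((y : G) * (y : G) * (y : G))⁻¹ := by group
          _ = a := by rw [hy3]; group
      calc (y : G) * t * (y : G)⁻¹ = ((y : G) * a * (y : G)⁻¹) * ((y : G) * ((y : G) * a * (y : G)⁻¹) * (y : G)⁻¹) *
            ((y : G) * ((y : G) * ((y : G) * a * (y : G)⁻¹) * (y : G)⁻¹) * (y : G)⁻¹) := by simp only [t]; group
        _ = ((y : G) * a * (y : G)⁻¹) * ((y : G) * ((y : G) * a * (y : G)⁻¹) * (y : G)⁻¹) * a := by rw [hlast]
        _ = t := by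
          rw [hab _ (mul_mem p1 p2) _ ha]
          simp only [t]
          group
    exact (mul_inv_eq_iff_eq_mul.1 h1).symm
  have htimg : toGL Q tH = e := by
    have hconj : toGL Q y * e * (toGL Q y)⁻¹ = e := by rw [← hey, mul_inv_cancel_right]
    have he2 : e * e = 1 := by
      rw [he, ← map_mul, show aH * aH = 1 from Subtype.ext (hsq a ha), map_one]
    show toGL Q (aH * (y * aH * y⁻¹) * (y * (y * aH * y⁻¹) * y⁻¹)) = e
    simp only [map_mul, map_inv, ← he, hconj, he2, one_mul]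
  have he1 : e ≠ 1 := fun h => haQ ⟨aH, by rw [← hker]; exact h, rfl⟩
  -- an element of R in the commutator subgroup
  obtain ⟨p₀, hp₀D, hp₀R, hp₀T⟩ : ∃ p : C, p ∈ Dd ∧ ((p : (Subgroup.centralizer ({z} : Set G))) : G) ∈ R ∧ T p = e := by
    rcases hsplit ⟨tH, htC⟩ with h | h
    · exact ⟨_, h, hta.1, htimg⟩
    · refine ⟨_, h, mul_mem hta.1 hzR, ?_⟩
      show toGL Q (tH * zH) = e
      rw [map_mul, htimg, show toGL Q zH = 1 from (show zH ∈ (toGL Q).ker by rw [hker]; exact hzQ), mul_one]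
  -- the point at s and the perfect subgroup above the permutations
  obtain ⟨m, P, hm, hA, hT⟩ := exists_point_at hF (n := n) ⟨x, rfl⟩ hno hnorm hs hsz
  let Cv : Subgroup C := (MulAction.stabilizer (OutForm.Vm Q ≃ₗ[ZMod 2] OutForm.Vm Q) (OutForm.pr s)).comap T
  let K₁ : Subgroup C := ⁅Cv, Cv⁆
  let K₂ : Subgroup C := ⁅K₁, K₁⁆
  let Cs : Subgroup C := (Subgroup.centralizer ({sv} : Set G)).comap ((Subgroup.subtype (Subgroup.centralizer ({z} : Set G))).comp C.subtype)
  have hK₁s : K₁ ≤ Cs := by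
    have key : ∀ c ∈ Cv, ((c : (Subgroup.centralizer ({z} : Set G))) : G) * sv * ((c : (Subgroup.centralizer ({z} : Set G))) : G)⁻¹ = sv ∨
        ((c : (Subgroup.centralizer ({z} : Set G))) : G) * sv * ((c : (Subgroup.centralizer ({z} : Set G))) : G)⁻¹ = sv * z := by
      intro c hc
      have hc' : toGL Q (c : (Subgroup.centralizer ({z} : Set G))) (OutForm.pr s) = OutForm.pr s := hc
      rw [toGL_pr] at hc'
      obtain ⟨u, hu, hue⟩ := OutForm.eq_mul_center hc'
      have h1 : ((c : (Subgroup.centralizer ({z} : Set G))) : G) * sv * ((c : (Subgroup.centralizer ({z} : Set G))) : G)⁻¹ = sv * ((u : (Subgroup.centralizer ({z} : Set G))) : G) := by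
        rw [← hs]; exact congrArg (fun w : Q => ((w : (Subgroup.centralizer ({z} : Set G))) : G)) hue
      rcases D.cent ((u : (Subgroup.centralizer ({z} : Set G))) : G) (by
        rintro _ ⟨b, hb, rfl⟩
        exact congrArg (fun w : Q => ((w : (Subgroup.centralizer ({z} : Set G))) : G)) (Subgroup.mem_center_iff.1 hu ⟨b, hb⟩)) with h | h
      · left; rw [h1, h, mul_one]
      · right; rw [h1, h]
    refine Subgroup.commutator_le.2 fun c hc d hd => ?_
    refine Subgroup.mem_centralizer_singleton_iff.2 ?_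
    show ((⁅c, d⁆ : C) : (Subgroup.centralizer ({z} : Set G))).1 * sv = sv * ((⁅c, d⁆ : C) : (Subgroup.centralizer ({z} : Set G))).1
    have := comm_fix (A := G) D.z_sq (Subgroup.mem_centralizer_singleton_iff.1 (c : (Subgroup.centralizer ({z} : Set G))).2)
      (Subgroup.mem_centralizer_singleton_iff.1 (d : (Subgroup.centralizer ({z} : Set G))).2) (key c hc) (key d hd)
    rw [commutatorElement_def] at this ⊢
    exact this
  have hK₁Cv : K₁ ≤ Cv := Subgroup.commutator_le.2 fun c hc d hd =>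
    mul_mem (mul_mem (mul_mem hc hd) (inv_mem hc)) (inv_mem hd)
  have hK₂s : K₂ ≤ Cs := (Subgroup.commutator_le.2 fun c hc d hd =>
    mul_mem (mul_mem (mul_mem (hK₁s hc) (hK₁s hd)) (inv_mem (hK₁s hc))) (inv_mem (hK₁s hd)))
  have hK₂D : K₂ ≤ Dd := Subgroup.commutator_mono le_top le_top
  have hkperm : ∀ π, ∃ k ∈ K₂, T k = (P.perm π).1 := by
    intro π
    let pf : alternatingGroup (Fin 6) →* (OutForm.Vm Q ≃ₗ[ZMod 2] OutForm.Vm Q) :=
      (Subgroup.subtype _).comp P.perm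
    have h0 : pf.range ≤ Cv.map T := by
      rintro _ ⟨π, rfl⟩
      obtain ⟨c, hc⟩ := hTlift _ (P.perm π).2 ((zpowers_commute hm).1 (P.perm_commute π))
      exact ⟨c, by show T c (OutForm.pr s) = OutForm.pr s; rw [hc]; exact P.perm_v π, hc⟩
    have hperf : ⁅pf.range, pf.range⁆ = pf.range := by
      rw [MonoidHom.range_eq_map, ← Subgroup.map_commutator, show ⁅(⊤ : Subgroup (alternatingGroup (Fin 6))), (⊤ : Subgroup (alternatingGroup (Fin 6)))⁆ = (⊤ : Subgroup (alternatingGroup (Fin 6))) from alt_six_perfect]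
    have h1 : pf.range ≤ K₁.map T := by
      rw [← hperf, Subgroup.map_commutator]; exact Subgroup.commutator_mono h0 h0
    have h2 : pf.range ≤ K₂.map T := by
      rw [← hperf, Subgroup.map_commutator]; exact Subgroup.commutator_mono h1 h1
    exact h2 ⟨π, rfl⟩
  -- moving to the conjugate below
  obtain ⟨w₀, hw₀, hw₀e⟩ : g⁻¹ * z * g ∈ (Q.map (Subgroup.centralizer ({z} : Set G)).subtype) := mem_conjS.1 hzR
  let s' : Q := ⟨w₀, hw₀⟩
  have hs' : ((s' : (Subgroup.centralizer ({z} : Set G))) : G) = g⁻¹ * z * g⁻¹⁻¹ := by rw [inv_inv]; exact hw₀e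
  have hs'z : g⁻¹ * z * g⁻¹⁻¹ ≠ z := by
    rw [inv_inv]
    intro h
    refine hsz ?_
    calc g * z * g⁻¹ = g * (g⁻¹ * z * g) * g⁻¹ := by rw [h]
      _ = z := by group
  obtain ⟨m', P', hm', hA', hT'⟩ := exists_point_at hF (n := n) ⟨x, rfl⟩ hno hnorm hs' hs'z
  obtain ⟨-, -, hst', -, -, hEc', -⟩ := sec_facts hF hs' hs'z
  obtain ⟨hE'st, hE'n⟩ := secE_normal hF hs' hs'z
  have hθmem : ∀ c : Cs, g⁻¹ * ((c : C) : (Subgroup.centralizer ({z} : Set G))).1 * g ∈ (Subgroup.centralizer ({z} : Set G)) := fun c => by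
    rw [Subgroup.mem_centralizer_singleton_iff]
    have hc : ((c : C) : (Subgroup.centralizer ({z} : Set G))).1 * sv = sv * ((c : C) : (Subgroup.centralizer ({z} : Set G))).1 := Subgroup.mem_centralizer_singleton_iff.1 c.2
    calc g⁻¹ * ((c : C) : (Subgroup.centralizer ({z} : Set G))).1 * g * z = g⁻¹ * (((c : C) : (Subgroup.centralizer ({z} : Set G))).1 * sv) * g := by rw [hsv]; group
      _ = g⁻¹ * (sv * ((c : C) : (Subgroup.centralizer ({z} : Set G))).1) * g := by rw [hc]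
      _ = z * (g⁻¹ * ((c : C) : (Subgroup.centralizer ({z} : Set G))).1 * g) := by rw [hsv]; group
  let θ : Cs →* (Subgroup.centralizer ({z} : Set G)) := MonoidHom.mk' (fun c => ⟨g⁻¹ * ((c : C) : (Subgroup.centralizer ({z} : Set G))).1 * g, hθmem c⟩) fun c d => Subtype.ext (by
    show g⁻¹ * (((c : C) : (Subgroup.centralizer ({z} : Set G))).1 * ((d : C) : (Subgroup.centralizer ({z} : Set G))).1) * g = _ * _
    group)
  let U : Cs →* (OutForm.Vm Q ≃ₗ[ZMod 2] OutForm.Vm Q) := (toGL Q).comp θ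
  have hUv : ∀ c, U c (OutForm.pr s') = OutForm.pr s' := fun c => by
    show toGL Q (θ c) (OutForm.pr s') = OutForm.pr s'
    rw [toGL_pr]
    congr 1
    refine Subtype.ext (Subtype.ext ?_)
    show (g⁻¹ * ((c : C) : (Subgroup.centralizer ({z} : Set G))).1 * g) * ((s' : (Subgroup.centralizer ({z} : Set G))) : G) * (g⁻¹ * ((c : C) : (Subgroup.centralizer ({z} : Set G))).1 * g)⁻¹ = ((s' : (Subgroup.centralizer ({z} : Set G))) : G)
    rw [hs', inv_inv]
    calc g⁻¹ * ((c : C) : (Subgroup.centralizer ({z} : Set G))).1 * g * (g⁻¹ * z * g) * (g⁻¹ * ((c : C) : (Subgroup.centralizer ({z} : Set G))).1 * g)⁻¹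
        = g⁻¹ * (((c : C) : (Subgroup.centralizer ({z} : Set G))).1 * z * (((c : C) : (Subgroup.centralizer ({z} : Set G))).1)⁻¹) * g := by group
      _ = g⁻¹ * z * g := by
        rw [Subgroup.mem_centralizer_singleton_iff.1 ((c : C) : (Subgroup.centralizer ({z} : Set G))).2, mul_inv_cancel_right]
  have hUn : ∀ c : Cs, (c : C) ∈ K₂ → U c * n = n * U c := by
    have hH₀ : (Subgroup.centralizer ({n} : Set (OutForm.Vm Q ≃ₗ[ZMod 2] OutForm.Vm Q))).comap U ≥
        K₂.subgroupOf Cs := by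
      intro c hc
      have h1 : (c : C) ∈ (⁅K₁.subgroupOf Cs, K₁.subgroupOf Cs⁆).map Cs.subtype := by
        rw [Subgroup.map_commutator, Subgroup.subgroupOf_map_subtype, inf_eq_left.2 hK₁s]
        exact hc
      obtain ⟨d, hd, hde⟩ := h1
      rw [← show d = c from Subtype.ext hde]
      refine (Subgroup.commutator_le.2 fun a _ b _ => ?_) hd
      rw [Subgroup.mem_comap, Subgroup.mem_centralizer_singleton_iff, map_commutatorElement]
      exact comm_commute (hinv _ ⟨θ a, rfl⟩) (hinv _ ⟨θ b, rfl⟩)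
    intro c hc
    exact Subgroup.mem_centralizer_singleton_iff.1 (hH₀ hc)
  -- elements falling into the elementary group come from it
  have hback : ∀ c : Cs, U c ∈ secE Q g⁻¹ → T (c : C) ∈ secE Q g := by
    rintro c ⟨r, hr, hre⟩
    have hq : r⁻¹ * θ c ∈ Q := by
      rw [← hker, MonoidHom.mem_ker, map_mul, map_inv, hre]; exact inv_mul_cancel _
    have hr' : g * (r : G) * g⁻¹ ∈ (Q.map (Subgroup.centralizer ({z} : Set G)).subtype) := by
      have := Subgroup.mem_subgroupOf.1 hr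
      rw [mem_conjS, inv_inv] at this
      exact this
    obtain ⟨w, hw, hwe⟩ := hr'
    have hdR : ((w⁻¹ * ((c : C) : (Subgroup.centralizer ({z} : Set G))) : (Subgroup.centralizer ({z} : Set G))) : G) ∈ R := by
      rw [Subgroup.coe_mul, Subgroup.coe_inv, hR, mem_conjS]
      rw [show (w : G) = g * (r : G) * g⁻¹ from hwe]
      rw [show g⁻¹ * ((g * (r : G) * g⁻¹)⁻¹ * ((c : C) : (Subgroup.centralizer ({z} : Set G))).1) * g = (r : G)⁻¹ * (g⁻¹ * ((c : C) : (Subgroup.centralizer ({z} : Set G))).1 * g) by group]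
      exact ⟨_, hq, rfl⟩
    refine ⟨w⁻¹ * ((c : C) : (Subgroup.centralizer ({z} : Set G))), Subgroup.mem_subgroupOf.2 hdR, ?_⟩
    rw [map_mul, show toGL Q w⁻¹ = 1 from (show w⁻¹ ∈ (toGL Q).ker by rw [hker]; exact inv_mem hw), one_mul]
    rfl
  -- decomposition of the stabiliser
  let St := MulAction.stabilizer (toGL Q).range (OutForm.pr s')
  have hdec : ∀ γ ∈ (toGL Q).range, γ (OutForm.pr s') = OutForm.pr s' →
      ∃ π, ∃ ε ∈ secE Q g⁻¹, γ = ε * (P'.perm π).1 := by
    intro γ hγ hγv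
    let f : secE Q g⁻¹ × alternatingGroup (Fin 6) → St := fun p =>
      ⟨⟨p.1.1 * (P'.perm p.2).1, mul_mem (hE'st _ p.1.2).1 (P'.perm p.2).2⟩, by
        show p.1.1 ((P'.perm p.2).1 (OutForm.pr s')) = OutForm.pr s'
        rw [P'.perm_v, (hE'st _ p.1.2).2]⟩
    have hf : Function.Injective f := by
      rintro ⟨ε, π⟩ ⟨ε', π'⟩ h
      have h' : ε.1 * (P'.perm π).1 = ε'.1 * (P'.perm π').1 := congrArg (fun w : St => w.1.1) h
      have hm1 : (P'.perm (π' * π⁻¹)).1 ∈ secE Q g⁻¹ := by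
        rw [map_mul, map_inv, Subgroup.coe_mul, Subgroup.coe_inv]
        rw [show (P'.perm π').1 * (P'.perm π).1⁻¹ = ε'.1⁻¹ * ε.1 by
          rw [eq_inv_mul_iff_mul_eq, ← mul_assoc, ← h', mul_inv_cancel_right]]
        exact mul_mem (inv_mem ε'.2) ε.2
      have e1 := mul_inv_eq_one.1 (P'.perm_eq_one hA' (hT' _ hm1))
      subst e1
      exact Prod.ext (Subtype.ext (mul_right_cancel h')) rfl
    have hbij := (Nat.bijective_iff_injective_and_card f).2 ⟨hf, by
      rw [Nat.card_prod, hEc', hst', nat_card_alternatingGroup, Nat.card_eq_fintype_card, Fintype.card_fin]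
      rfl⟩
    obtain ⟨⟨ε, π⟩, h⟩ := hbij.2 ⟨⟨γ, hγ⟩, hγv⟩
    exact ⟨π, ε.1, ε.2, (congrArg (fun w : St => w.1.1) h).symm⟩
  choose k hkK hkT using hkperm
  let kc : alternatingGroup (Fin 6) → Cs := fun π => ⟨k π, hK₂s (hkK π)⟩
  have hkdec : ∀ π, ∃ π', ∃ ε ∈ secE Q g⁻¹, U (kc π) = ε * (P'.perm π').1 := fun π =>
    hdec _ ⟨_, rfl⟩ (hUv _)
  choose ρ ε hεE hUε using hkdec
  have hρ : Function.Bijective ρ := by
    refine Finite.injective_iff_bijective.1 fun π π' h => ?_
    have h1 : U ((kc π')⁻¹ * kc π) ∈ secE Q g⁻¹ := by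
      rw [map_mul, map_inv, hUε, hUε, h]
      have := hE'n _ (inv_mem (P'.perm (ρ π')).2) (by
        have := P'.perm_v (ρ π')⁻¹
        rw [map_inv] at this; exact this) _ (mul_mem (inv_mem (hεE π')) (hεE π))
      rw [inv_inv] at this
      rwa [show (ε π' * (P'.perm (ρ π')).1)⁻¹ * (ε π * (P'.perm (ρ π')).1) =
        (P'.perm (ρ π')).1⁻¹ * ((ε π')⁻¹ * ε π) * (P'.perm (ρ π')).1 by group]
    have h2 := hback _ h1
    rw [Subgroup.coe_mul, Subgroup.coe_inv, map_mul, map_inv] at h2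
    change (T (k π'))⁻¹ * T (k π) ∈ _ at h2
    rw [hkT, hkT, ← Subgroup.coe_inv, ← Subgroup.coe_mul, ← map_inv, ← map_mul] at h2
    exact (inv_mul_eq_one.1 (P.perm_eq_one hA (hT _ h2))).symm
  let L : Set (OutForm.Vm Q ≃ₗ[ZMod 2] OutForm.Vm Q) := {l | ∃ c : Cs, (c : C) ∈ K₂ ∧ U c = l}
  have hL : P'.Covers (secA Q g⁻¹) L := by
    refine ⟨?_, fun τ hτ => ?_⟩
    · rintro l ⟨c, hc, rfl⟩
      exact ⟨⟨_, rfl⟩, hUv c, (zpowers_commute hm').2 (hUn c hc)⟩
    · obtain ⟨π, hπ⟩ := hρ.2 ⟨τ, isDT_sign hτ⟩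
      refine ⟨_, ⟨kc π, hkK π, rfl⟩, ε π, hT' _ (hεE π), ?_, fun a => ?_⟩
      · rw [show ε π = U (kc π) * (P'.perm (ρ π)).1⁻¹ by rw [hUε, mul_inv_cancel_right]]
        exact ((show Commute (U (kc π)) m' from (zpowers_commute hm').2 (hUn _ (hkK π))).mul_left
          (show Commute (P'.perm (ρ π)).1 m' from P'.perm_commute _).inv_left).eq
      · rw [hUε]
        show ε π ((P'.perm (ρ π)).1 (P'.φ a)) = _
        rw [P'.perm_φ, hπ, dt_inv hτ]
  -- the invariant subgroup
  let DG : Subgroup G := Dd.map ((Subgroup.subtype (Subgroup.centralizer ({z} : Set G))).comp C.subtype)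
  let S : Subgroup Q := (DG.comap (MulAut.conj g).toMonoidHom).comap ((Subgroup.subtype (Subgroup.centralizer ({z} : Set G))).comp Q.subtype)
  let B : AddSubgroup (OutForm.Vm Q) := (S.map (QuotientGroup.mk' (Subgroup.center Q))).toAddSubgroup
  have hmemB : ∀ v, v ∈ B ↔ ∃ b : Q, g * ((b : (Subgroup.centralizer ({z} : Set G))) : G) * g⁻¹ ∈ DG ∧ OutForm.pr b = v := by
    intro v
    constructor
    · rintro ⟨b, hb, e⟩; exact ⟨b, hb, e⟩
    · rintro ⟨b, hb, rfl⟩; exact ⟨b, hb, rfl⟩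
  have hDn : Dd.Normal := inferInstance
  have hmove : ∀ (c : Cs) (b : Q) (p : C), g * ((b : (Subgroup.centralizer ({z} : Set G))) : G) * g⁻¹ = ((p : (Subgroup.centralizer ({z} : Set G))) : G) →
      g * ((MulAut.conjNormal (θ c) b : Q) : (Subgroup.centralizer ({z} : Set G))).1 * g⁻¹ = (((c : C) * p * (c : C)⁻¹ : C) : (Subgroup.centralizer ({z} : Set G))).1 := by
    intro c b p hp
    show g * ((θ c : G) * ((b : (Subgroup.centralizer ({z} : Set G))) : G) * (θ c : G)⁻¹) * g⁻¹ = ((c : C) : (Subgroup.centralizer ({z} : Set G))).1 * ((p : (Subgroup.centralizer ({z} : Set G))) : G) * (((c : C) : (Subgroup.centralizer ({z} : Set G))).1)⁻¹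
    rw [← hp]
    show g * (g⁻¹ * ((c : C) : (Subgroup.centralizer ({z} : Set G))).1 * g * ((b : (Subgroup.centralizer ({z} : Set G))) : G) * (g⁻¹ * ((c : C) : (Subgroup.centralizer ({z} : Set G))).1 * g)⁻¹) * g⁻¹ = _
    group
  have hzero := P'.eq_zero_of_invariant hA' hΓ hL (B := B) ?_ ?_
  · have hb0 : g⁻¹ * ((p₀ : (Subgroup.centralizer ({z} : Set G))) : G) * g ∈ (Q.map (Subgroup.centralizer ({z} : Set G)).subtype) := mem_conjS.1 hp₀R
    obtain ⟨b, hb, hbe⟩ := hb0
    have h0 := hzero (OutForm.pr (⟨b, hb⟩ : Q)) ((hmemB _).2 ⟨⟨b, hb⟩, by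
      show g * (b : G) * g⁻¹ ∈ DG
      rw [show (b : G) = g⁻¹ * ((p₀ : (Subgroup.centralizer ({z} : Set G))) : G) * g from hbe,
        show g * (g⁻¹ * ((p₀ : (Subgroup.centralizer ({z} : Set G))) : G) * g) * g⁻¹ = ((p₀ : (Subgroup.centralizer ({z} : Set G))) : G) by group]
      exact ⟨p₀, hp₀D, rfl⟩, rfl⟩)
    have h2 := Subgroup.mem_center_iff.1 (OutForm.pr_eq_zero.1 h0)
    rcases D.cent (b : G) (by
      rintro _ ⟨u, hu, rfl⟩
      exact congrArg (fun w : Q => ((w : (Subgroup.centralizer ({z} : Set G))) : G)) (h2 ⟨u, hu⟩)) with h | h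
    · refine he1 ?_
      rw [← hp₀T, show p₀ = 1 from Subtype.ext (Subtype.ext ?_), map_one]
      calc ((p₀ : (Subgroup.centralizer ({z} : Set G))) : G) = g * (g⁻¹ * ((p₀ : (Subgroup.centralizer ({z} : Set G))) : G) * g) * g⁻¹ := by group
        _ = 1 := by rw [show g⁻¹ * ((p₀ : (Subgroup.centralizer ({z} : Set G))) : G) * g = 1 from hbe.symm.trans h]; group
    · refine he1 ?_
      rw [← hp₀T]
      show (p₀ : (Subgroup.centralizer ({z} : Set G))) ∈ (toGL Q).ker
      rw [hker, show (p₀ : (Subgroup.centralizer ({z} : Set G))) = (s : (Subgroup.centralizer ({z} : Set G))) from Subtype.ext ?_]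
      · exact s.2
      rw [hs]
      calc ((p₀ : (Subgroup.centralizer ({z} : Set G))) : G) = g * (g⁻¹ * ((p₀ : (Subgroup.centralizer ({z} : Set G))) : G) * g) * g⁻¹ := by group
        _ = g * z * g⁻¹ := by rw [show g⁻¹ * ((p₀ : (Subgroup.centralizer ({z} : Set G))) : G) * g = z from hbe.symm.trans h]
  · rintro l ⟨c, -, rfl⟩ v hv
    obtain ⟨b, ⟨p, hp, hpe⟩, rfl⟩ := (hmemB v).1 hv
    show toGL Q (θ c) (OutForm.pr b) ∈ B
    rw [toGL_pr]
    refine (hmemB _).2 ⟨_, ?_, rfl⟩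
    rw [hmove c b p hpe.symm]
    exact ⟨_, hDn.conj_mem p hp _, rfl⟩
  · intro v hv hfix
    obtain ⟨b, ⟨p, hp, hpe⟩, rfl⟩ := (hmemB v).1 hv
    have hpR : ((p : (Subgroup.centralizer ({z} : Set G))) : G) ∈ R := by
      rw [show ((p : (Subgroup.centralizer ({z} : Set G))) : G) = g * ((b : (Subgroup.centralizer ({z} : Set G))) : G) * g⁻¹ from hpe]
      exact ⟨_, ⟨_, b.2, rfl⟩, rfl⟩
    have hpE : T p ∈ secE Q g := ⟨p, Subgroup.mem_subgroupOf.2 hpR, rfl⟩
    -- p commutes with the lifts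
    have hcomm : ∀ c : Cs, (c : C) ∈ K₂ → (c : C) * p = p * (c : C) := by
      intro c hc
      have h1 := hfix _ ⟨c, hc, rfl⟩
      change toGL Q (θ c) (OutForm.pr b) = OutForm.pr b at h1
      rw [toGL_pr] at h1
      obtain ⟨u, hu, hue⟩ := OutForm.eq_mul_center h1
      have h2 : (((c : C) * p * (c : C)⁻¹ : C) : (Subgroup.centralizer ({z} : Set G))).1 = ((p : (Subgroup.centralizer ({z} : Set G))) : G) * (g * ((u : (Subgroup.centralizer ({z} : Set G))) : G) * g⁻¹) := by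
        rw [← hmove c b p hpe.symm, hue, show ((p : (Subgroup.centralizer ({z} : Set G))) : G) = g * ((b : (Subgroup.centralizer ({z} : Set G))) : G) * g⁻¹ from hpe]
        show g * (((b : (Subgroup.centralizer ({z} : Set G))) : G) * ((u : (Subgroup.centralizer ({z} : Set G))) : G)) * g⁻¹ = _
        group
      rcases D.cent ((u : (Subgroup.centralizer ({z} : Set G))) : G) (by
        rintro _ ⟨a, ha, rfl⟩
        exact congrArg (fun w : Q => ((w : (Subgroup.centralizer ({z} : Set G))) : G)) (Subgroup.mem_center_iff.1 hu ⟨a, ha⟩)) with h | h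
      · rw [h, mul_one, mul_inv_cancel, mul_one] at h2
        exact mul_inv_eq_iff_eq_mul.1 (Subtype.ext (Subtype.ext h2))
      · exfalso
        rw [h, ← hsv] at h2
        let d : C := p⁻¹ * ((c : C) * p * (c : C)⁻¹)
        have hd : ((d : (Subgroup.centralizer ({z} : Set G))) : G) = sv := by
          show ((p : (Subgroup.centralizer ({z} : Set G))) : G)⁻¹ * (((c : C) * p * (c : C)⁻¹ : C) : (Subgroup.centralizer ({z} : Set G))).1 = sv
          rw [h2]; group
        have hdy := congrArg Subtype.val ((hcommy _).1 d.2)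
        refine hs₁s ?_
        rw [hs₁, ← hd]
        show (y : G) * ((d : (Subgroup.centralizer ({z} : Set G))) : G) * (y : G)⁻¹ = ((d : (Subgroup.centralizer ({z} : Set G))) : G)
        rw [← show ((d : (Subgroup.centralizer ({z} : Set G))) : G) * (y : G) = (y : G) * ((d : (Subgroup.centralizer ({z} : Set G))) : G) from hdy, mul_inv_cancel_right]
    have hTp : T p = 1 := P.eq_one_of_commute_perm hA hΓ (hT _ hpE) ((zpowers_commute hm).2 (hTn p)) fun π => by
      rw [← hkT π, ← map_mul, ← map_mul, hcomm (kc π) (hkK π)]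
    rcases hTker p hTp with h | h
    · subst h
      rw [show b = 1 from Subtype.ext (Subtype.ext ?_)]
      · rfl
      show ((b : (Subgroup.centralizer ({z} : Set G))) : G) = 1
      have h4 : g * ((b : (Subgroup.centralizer ({z} : Set G))) : G) * g⁻¹ = 1 := hpe.symm
      exact conj_eq_one_iff.1 h4
    · exact absurd (h ▸ hp) hzD

end Cfsg.Agent.LargeFischer
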