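/-
The Thompson subgroup of a Sylow 2-subgroup.

* `thompson_adata`
-/
import Cfsg.Agent.Lib.LargeFischer.Points

set_option autoImplicit false
open Cfsg

namespace Cfsg.Agent.LargeFischer

universe u

variable {G : Type u} [Group G] [Finite G] {z : G}

/-- An overgroup of order 2^21 with a unique largest elementary abelian subgroup is a Sylow 2-subgroup. -/
theorem sylow_eq {A T : Subgroup G} (D : AData z A) (hT : Nat.card T = 2 ^ 21) (hAT : A ≤ T)
    (huniq : ∀ E ≤ T, (∀ a ∈ E, a * a = 1) → 2 ^ 11 ≤ Nat.card E → E = A) :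
    ∃ P : Sylow 2 G, (P : Subgroup G) = T := by
  classical
  haveI : Fintype G := Fintype.ofFinite G
  obtain ⟨P, hP⟩ := (IsPGroup.of_card (p := 2) (n := 21) hT).exists_le_sylow
  refine ⟨P, ?_⟩
  by_contra hne
  have hlt : T.subgroupOf (P : Subgroup G) < ⊤ := lt_top_iff_ne_top.2 fun h =>
    hne (le_antisymm (Subgroup.subgroupOf_eq_top.1 h) hP)
  haveI : Group.IsNilpotent (P : Subgroup G) := P.2.isNilpotent
  obtain ⟨g, hgN, hgT⟩ := SetLike.exists_of_lt (normalizerCondition_of_isNilpotent _ hlt)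
  have hgT' : (g : G) ∉ T := fun h => hgT (Subgroup.mem_subgroupOf.2 h)
  have hnorm : ∀ t ∈ T, (g : G) * t * (g : G)⁻¹ ∈ T := fun t ht =>
    Subgroup.mem_subgroupOf.1 ((Subgroup.mem_normalizer_iff.1 hgN ⟨t, hP ht⟩).1 (Subgroup.mem_subgroupOf.2 ht))
  have hfixA : ∀ k : G, (∀ t ∈ T, k * t * k⁻¹ ∈ T) → k ∈ Subgroup.normalizer (A : Set G) := by
    intro k hk
    have e := huniq (A.map (MulAut.conj k).toMonoidHom)
      (by rintro _ ⟨a, ha, rfl⟩; exact hk a (hAT ha))
      (by rintro _ ⟨a, ha, rfl⟩; rw [← map_mul, D.sq_one ha, map_one])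
      (by rw [← Nat.card_congr (Subgroup.equivMapOfInjective _ _ (MulAut.conj k).injective).toEquiv, D.card_A])
    refine Subgroup.mem_normalizer_fintype fun n hn => ?_
    exact e ▸ Subgroup.mem_map_of_mem (MulAut.conj k).toMonoidHom hn
  set J := T ⊔ Subgroup.zpowers (g : G)
  have hJN : J ≤ Subgroup.normalizer (A : Set G) :=
    sup_le (fun t ht => hfixA t fun x hx => mul_mem (mul_mem ht hx) (inv_mem ht))
      (Subgroup.zpowers_le.2 (hfixA _ hnorm))
  have hJP : J ≤ (P : Subgroup G) := sup_le hP (Subgroup.zpowers_le.2 g.2)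
  obtain ⟨k, hk⟩ := (P.2.to_le hJP).exists_card_eq
  have hd := Subgroup.card_dvd_of_le hJN
  rw [Subgroup.card_eq_card_quotient_mul_card_subgroup D.mathieuHom.ker,
    Nat.card_congr (QuotientGroup.quotientKerEquivOfSurjective _ D.mathieuHom_surjective).toEquiv, D.mathieuHom_ker,
    Nat.card_congr (Subgroup.subgroupOfEquivOfLe (Subgroup.le_normalizer : A ≤ _)).toEquiv, D.card_A,
    Golay.natCard_M24, hk, show 244823040 * 2 ^ 11 = 2 ^ 21 * 239085 by norm_num] at hd
  have hk21 : k ≤ 21 := (Nat.pow_dvd_pow_iff_le_right one_lt_two).1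
    (((Nat.Coprime.pow_left k (by norm_num : Nat.Coprime 2 239085))).dvd_of_dvd_mul_right hd)
  have hJT : T = J := Subgroup.eq_of_le_of_card_ge le_sup_left
    (by rw [hk, hT]; exact Nat.pow_le_pow_right (by norm_num) hk21)
  exact hgT' (hJT ▸ (le_sup_right : Subgroup.zpowers (g : G) ≤ J) (Subgroup.mem_zpowers _))

/-- The Thompson subgroup carries the data. -/
theorem thompson_adata {Q : Subgroup (Subgroup.centralizer ({z} : Set G))} [Q.Normal]
    (hF : Cfsg.IsOfLargeFischerTypeAt z Q) (T : Sylow 2 G) :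
    Nonempty (AData z (Cfsg.thompsonSubgroupOf 2 (T : Subgroup G))) := by
  classical
  haveI : Fact (Cfsg.IsExtraspecial 2 Q) := ⟨hF.1.2.2.1⟩
  obtain ⟨A, T₀, ⟨D⟩, hT₀, hAT₀, hA, hsq, huniq⟩ := exists_adata hF
  obtain ⟨P, hP⟩ := sylow_eq D hT₀ hAT₀ huniq
  obtain ⟨k, hk⟩ := MulAction.exists_smul_eq G P T
  have hT : (T : Subgroup G) = T₀.map (MulAut.conj k).toMonoidHom := by rw [← hk, ← hP]; rfl
  obtain ⟨D'⟩ := D.conj k
  suffices h : Cfsg.thompsonSubgroupOf 2 (T : Subgroup G) = A.map (MulAut.conj k).toMonoidHom from h ▸ ⟨D'⟩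
  set A' := A.map (MulAut.conj k).toMonoidHom
  have hA'T : A' ≤ (T : Subgroup G) := hT ▸ Subgroup.map_mono hAT₀
  have hmax : ∀ E : Subgroup G, E ≤ (T : Subgroup G) → (∀ a ∈ E, a * a = 1) → 2 ^ 11 ≤ Nat.card E → E = A' := by
    intro E hE hEsq hEcard
    have hE' := huniq (E.map (MulAut.conj k⁻¹).toMonoidHom)
      (by
        rintro _ ⟨a, ha, rfl⟩
        obtain ⟨b, hb, rfl⟩ : a ∈ T₀.map (MulAut.conj k).toMonoidHom := hT ▸ hE ha
        simpa [mul_assoc] using hb)
      (by rintro _ ⟨a, ha, rfl⟩; rw [← map_mul, hEsq a ha, map_one])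
      (by rwa [← Nat.card_congr (Subgroup.equivMapOfInjective _ _ (MulAut.conj k⁻¹).injective).toEquiv])
    show E = A.map (MulAut.conj k).toMonoidHom
    rw [← hE', Subgroup.map_map]
    conv_lhs => rw [← Subgroup.map_id E]
    congr 1
    exact MonoidHom.ext fun a => by simp [mul_assoc]
  have hA'el : IsElementaryAbelian 2 (A'.subgroupOf (T : Subgroup G)) :=
    ⟨⟨⟨fun a b => Subtype.ext (Subtype.ext (D'.comm (Subgroup.mem_subgroupOf.1 a.2) (Subgroup.mem_subgroupOf.1 b.2)))⟩⟩,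
      fun a ha => Subtype.ext (by rw [pow_two]; exact D'.sq_one (Subgroup.mem_subgroupOf.1 ha))⟩
  have hA'card : Nat.card (A'.subgroupOf (T : Subgroup G)) = 2 ^ 11 := by
    rw [Nat.card_congr (Subgroup.subgroupOfEquivOfLe hA'T).toEquiv, D'.card_A]
  have hsame : ∀ B : Subgroup (T : Subgroup G), IsElementaryAbelian 2 B → 2 ^ 11 ≤ Nat.card B →
      B = A'.subgroupOf (T : Subgroup G) := by
    intro B hB hBc
    have h := hmax (B.map (T : Subgroup G).subtype) (Subgroup.map_subtype_le B)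
      (by rintro _ ⟨b, hb, rfl⟩; rw [← map_mul, ← pow_two, hB.2 b hb, map_one])
      (by rwa [Subgroup.card_subtype])
    rw [← h, Subgroup.subgroupOf, Subgroup.comap_map_eq_self_of_injective (Subgroup.subtype_injective _)]
  have hset : maxElementaryAbelianSubgroups 2 (T : Subgroup G) = {A'.subgroupOf (T : Subgroup G)} := by
    ext B
    constructor
    · rintro ⟨hB, hmaxB⟩
      exact hsame B hB (hA'card ▸ hmaxB _ hA'el)
    · rintro rfl
      refine ⟨hA'el, fun B hB => ?_⟩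
      by_cases hc : 2 ^ 11 ≤ Nat.card B
      · rw [hsame B hB hc]
      · omega
  rw [thompsonSubgroupOf, thompsonSubgroup, hset, sSup_singleton, Subgroup.map_subgroupOf_eq_of_le hA'T]

end Cfsg.Agent.LargeFischer
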